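import Mathlib

/-! Generated file: forces on-demand equation and congruence lemmas to be created once. -/

set_option linter.all false

namespace Cfsg.Rz

theorem m00_0 : True := by
  have := @_root_.Bool.and.eq_def
  have := @_root_.Bool.and.eq_1
  have := @_root_.Nat.brecOn.go.eq_def.{0}
  have := @_root_.Nat.brecOn.go.eq_1.{0}
  have := @_root_.DecidableLE.eq_def.{0}
  have := @_root_.DecidableLE.eq_1.{0}
  have := @_root_.getThe.eq_def.{0, 0}
  have := @_root_.Option.getD.eq_def.{0}
  have := @_root_.cond.eq_def.{0}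
  have := @_root_.Nat.le.step.congr_simp
  have := @_root_.Nat.div.eq_def
  have := @_root_.Nat.div.eq_1
  have := @_root_.Or.inr.congr_simp
  have := @_root_.Classical.ofNonempty.eq_def.{0}
  have := @_root_.Classical.ofNonempty.eq_1.{0}
  have := @_root_.Unit.eq_def
  have := @_root_.Unit.eq_1
  have := @_root_.liftM.eq_def.{0, 0, 0}
  have := @_root_.Function.comp.eq_def.{0, 0, 0}
  have := @_root_.GE.ge.eq_def.{0}
  have := @_root_.GE.ge.eq_1.{0}
  have := @_root_.Nat.modCore.eq_def
  have := @_root_.Function.const.eq_def.{0, 0}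
  have := @_root_.minOfLe.eq_def.{0}
  have := @_root_.minOfLe.eq_1.{0}
  have := @_root_.Nat.sub.eq_def
  have := @_root_.Nat.sub.eq_1
  have := @_root_.dite.eq_def.{0}
  have := @_root_.dite.eq_1.{0}
  have := @_root_.Nat.lt.eq_def
  trivial

theorem m00_1 : True := by
  have := @_root_.NonemptyType.type.eq_def.{0}
  have := @_root_.NonemptyType.type.eq_1.{0}
  have := @_root_.Nat.decEq.eq_def
  have := @_root_.Nat.decEq.eq_1
  have := @_root_.instInhabitedBool.default.eq_def
  have := @_root_.instInhabitedBool.default.eq_1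
  have := @_root_.decEq.eq_def.{0}
  have := @_root_.decEq.eq_1.{0}
  have := @_root_.Bool.dcond.eq_def.{0}
  have := @_root_.Bool.dcond.eq_1.{0}
  have := @_root_.withTheReader.eq_def.{0, 0}
  have := @_root_.getModify.eq_def.{0, 0}
  have := @_root_.ite.eq_def.{0}
  have := @_root_.ite.eq_1.{0}
  have := @_root_.GT.gt.eq_def.{0}
  have := @_root_.GT.gt.eq_1.{0}
  have := @_root_.Decidable.decide.eq_def
  have := @_root_.Decidable.decide.eq_1
  have := @_root_.DecidablePred.eq_def.{0}
  have := @_root_.DecidablePred.eq_1.{0}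
  have := @_root_.Nat.isValidChar.eq_def
  have := @_root_.Nat.isValidChar.eq_1
  have := @_root_.maxOfLe.eq_def.{0}
  have := @_root_.maxOfLe.eq_1.{0}
  have := @_root_.Bool.not.eq_def
  have := @_root_.Bool.not.eq_1
  have := @_root_.inferInstance.eq_def.{0}
  have := @_root_.inferInstance.eq_1.{0}
  have := @_root_.DecidableLT.eq_def.{0}
  have := @_root_.DecidableLT.eq_1.{0}
  trivial

theorem m00_2 : True := by
  have := @_root_.Nat.ble.eq_def
  have := @_root_.Nat.ble.eq_1
  have := @_root_.Nat.add.eq_def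
  have := @_root_.Nat.add.eq_1
  have := @_root_.Or.inl.congr_simp
  have := @_root_.Nat.le.below.step.congr_simp
  have := @_root_.cast.eq_def.{0}
  have := @_root_.Nat.mod.eq_def
  have := @_root_.readThe.eq_def.{0, 0}
  have := @_root_.DecidableEq.eq_def.{0}
  have := @_root_.DecidableEq.eq_1.{0}
  have := @_root_.Nat.pred.eq_def
  have := @_root_.Nat.pred.eq_1
  have := @_root_.Quot.ind.congr_simp.{0}
  have := @_root_.NonemptyType.eq_def.{0}
  have := @_root_.NonemptyType.eq_1.{0}
  have := @_root_.Unit.unit.eq_def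
  have := @_root_.Unit.unit.eq_1
  have := @_root_.Bool.decEq.eq_def
  have := @_root_.Bool.decEq.eq_1
  have := @_root_.inferInstanceAs.eq_def.{0}
  have := @_root_.inferInstanceAs.eq_1.{0}
  have := @_root_.modifyGetThe.eq_def.{0, 0}
  have := @_root_.Not.eq_def
  have := @_root_.Not.eq_1
  have := @_root_.And.intro.congr_simp
  have := @_root_.Fin.Internal.ofNat.eq_def
  have := @_root_.Fin.Internal.ofNat.eq_1
  have := @_root_.Bool.or.eq_def
  have := @_root_.Bool.or.eq_1
  trivial

theorem m00_3 : True := by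
  have := @_root_.Nat.pow.eq_def
  have := @_root_.Nat.pow.eq_1
  have := @_root_.modifyThe.eq_def.{0, 0}
  have := @_root_.Nat.mul.eq_def
  have := @_root_.Nat.mul.eq_1
  have := @_root_.modify.eq_def.{0, 0}
  have := @_root_.absurd.eq_def.{0}
  have := @_root_.absurd.eq_1.{0}
  have := @_root_.DecidableRel.eq_def.{0, 0}
  have := @_root_.DecidableRel.eq_1.{0, 0}
  have := @_root_.Quotient.liftOn.eq_def.{0, 0}
  have := @_root_.Quotient.liftOn.eq_1.{0, 0}
  have := @_root_.ReflBEq.mk.congr_simp.{0}
  have := @_root_.Quot.recOnSubsingleton.congr_simp.{0, 0}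
  have := @_root_.Quot.recOnSubsingleton.eq_def.{0, 0}
  have := @_root_.Quot.recOnSubsingleton.eq_1.{0, 0}
  have := @_root_.Relation.TransGen.below.tail.congr_simp.{0}
  have := @_root_.Quotient.pliftOn.congr_simp.{0, 0}
  have := @_root_.Quotient.pliftOn.eq_def.{0, 0}
  have := @_root_.Quotient.pliftOn.eq_1.{0, 0}
  have := @_root_.PSum.inhabitedLeft.eq_def.{0, 0}
  have := @_root_.PSum.inhabitedLeft.eq_1.{0, 0}
  have := @_root_.noConfusionTypeEnum.congr_simp.{0, 0, 0}
  have := @_root_.noConfusionTypeEnum.eq_def.{0, 0, 0}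
  have := @_root_.noConfusionTypeEnum.eq_1.{0, 0, 0}
  have := @_root_.Sum.inhabitedLeft.eq_def.{0, 0}
  have := @_root_.Sum.inhabitedLeft.eq_1.{0, 0}
  have := @_root_.instDecidableEqOfLawfulBEq.congr_simp.{0}
  have := @_root_.instDecidableEqOfLawfulBEq.eq_def.{0}
  have := @_root_.instDecidableEqOfLawfulBEq.eq_1.{0}
  trivial

theorem m00_4 : True := by
  have := @_root_.Quotient.recOn.eq_def.{0, 0}
  have := @_root_.Quotient.recOn.eq_1.{0, 0}
  have := @_root_.Quotient.liftOn₂.eq_def.{0, 0, 0}
  have := @_root_.Quotient.liftOn₂.eq_1.{0, 0, 0}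
  have := @_root_.Subsingleton.intro.congr_simp.{0}
  have := @_root_.flip.eq_def.{0, 0, 0}
  have := @_root_.LawfulSingleton.mk.congr_simp.{0, 0}
  have := @_root_.Prod.lexLt.eq_def.{0, 0}
  have := @_root_.Prod.lexLt.eq_1.{0, 0}
  have := @_root_.instInhabitedPNonScalar.default.eq_def.{0}
  have := @_root_.instInhabitedPNonScalar.default.eq_1.{0}
  have := @_root_.HEq.ndrecOn.congr_simp.{0, 0}
  have := @_root_.HEq.ndrecOn.eq_def.{0, 0}
  have := @_root_.HEq.ndrecOn.eq_1.{0, 0}
  have := @_root_.Squash.eq_def.{0}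
  have := @_root_.Squash.eq_1.{0}
  have := @_root_.HEq.ndrec.congr_simp.{0, 0}
  have := @_root_.HEq.ndrec.eq_def.{0, 0}
  have := @_root_.HEq.ndrec.eq_1.{0, 0}
  have := @_root_.bne.eq_def.{0}
  have := @_root_.Exists.intro.congr_simp.{0}
  have := @_root_.strictOr.eq_def
  have := @_root_.strictOr.eq_1
  have := @_root_.Quotient.eq_def.{0}
  have := @_root_.Quotient.eq_1.{0}
  have := @_root_.Squash.mk.eq_def.{0}
  have := @_root_.Squash.mk.eq_1.{0}
  have := @_root_.Quotient.lift.eq_def.{0, 0}
  have := @_root_.Quotient.lift.eq_1.{0, 0}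
  have := @_root_.InvImage.eq_def.{0, 0}
  trivial

theorem m00_5 : True := by
  have := @_root_.instInhabitedForInStep.default.eq_def.{0}
  have := @_root_.instInhabitedForInStep.default.eq_1.{0}
  have := @_root_.eagerReduce.eq_def.{0}
  have := @_root_.eagerReduce.eq_1.{0}
  have := @_root_.Quot.indep.eq_def.{0, 0}
  have := @_root_.Quot.indep.eq_1.{0, 0}
  have := @_root_.Quotient.mk.eq_def.{0}
  have := @_root_.Quotient.mk'.eq_def.{0}
  have := @_root_.Quot.hrecOn.eq_def.{0, 0}
  have := @_root_.Quot.hrecOn.eq_1.{0, 0}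
  have := @_root_.emptyRelation.eq_def.{0}
  have := @_root_.emptyRelation.eq_1.{0}
  have := @_root_.Squash.lift.congr_simp.{0, 0}
  have := @_root_.Squash.lift.eq_def.{0, 0}
  have := @_root_.Squash.lift.eq_1.{0, 0}
  have := @_root_.Quot.liftOn.eq_def.{0, 0}
  have := @_root_.Quot.liftOn.eq_1.{0, 0}
  have := @_root_.Quotient.recOnSubsingleton.eq_def.{0, 0}
  have := @_root_.Quotient.recOnSubsingleton.eq_1.{0, 0}
  have := @_root_.HEq.homo_ndrec.congr_simp.{0, 0}
  have := @_root_.HEq.homo_ndrec.eq_def.{0, 0}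
  have := @_root_.HEq.homo_ndrec.eq_1.{0, 0}
  have := @_root_.Iff.intro.congr_simp
  have := @_root_.SSuperset.eq_def.{0}
  have := @_root_.SSuperset.eq_1.{0}
  have := @_root_.Quot.pliftOn.congr_simp.{0, 0}
  have := @_root_.Quot.pliftOn.eq_def.{0, 0}
  have := @_root_.Quot.pliftOn.eq_1.{0, 0}
  have := @_root_.Equivalence.mk.congr_simp.{0}
  have := @_root_.HEq.homo_ndrec_symm.congr_simp.{0, 0}
  trivial

theorem m00_6 : True := by
  have := @_root_.HEq.homo_ndrec_symm.eq_def.{0, 0}
  have := @_root_.HEq.homo_ndrec_symm.eq_1.{0, 0}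
  have := @_root_.Eq.mpr.eq_def.{0}
  have := @_root_.Eq.mpr.eq_1.{0}
  have := @_root_.instDecidableEqSum.decEq.eq_def.{0, 0}
  have := @_root_.instDecidableEqSum.decEq.eq_1.{0, 0}
  have := @_root_.Quot.recOn.congr_simp.{0, 0}
  have := @_root_.Quot.recOn.eq_def.{0, 0}
  have := @_root_.Quot.recOn.eq_1.{0, 0}
  have := @_root_.toBoolUsing.eq_def
  have := @_root_.toBoolUsing.eq_1
  have := @_root_.Superset.eq_def.{0}
  have := @_root_.Superset.eq_1.{0}
  have := @_root_.noConfusionEnum.congr_simp.{0, 0, 0}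
  have := @_root_.noConfusionEnum.eq_def.{0, 0, 0}
  have := @_root_.noConfusionEnum.eq_1.{0, 0, 0}
  have := @_root_.Subrelation.eq_def.{0}
  have := @_root_.Subrelation.eq_1.{0}
  have := @_root_.propext.congr_simp
  have := @_root_.LawfulBEq.mk.congr_simp.{0}
  have := @_root_.Prod.map.eq_def.{0, 0, 0, 0}
  have := @_root_.Eq.mp.eq_def.{0}
  have := @_root_.Eq.mp.eq_1.{0}
  have := @_root_.Setoid.trivial.eq_def.{0}
  have := @_root_.Setoid.trivial.eq_1.{0}
  have := @_root_.Quotient.lift₂.congr_simp.{0, 0, 0}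
  have := @_root_.Quotient.lift₂.eq_def.{0, 0, 0}
  have := @_root_.Quotient.lift₂.eq_1.{0, 0, 0}
  have := @_root_.instInhabitedTask.default.eq_def.{0}
  have := @_root_.instInhabitedTask.default.eq_1.{0}
  trivial

theorem m00_7 : True := by
  have := @_root_.Relation.TransGen.tail.congr_simp.{0}
  have := @_root_.iteInduction.eq_def.{0, 0}
  have := @_root_.iteInduction.eq_1.{0, 0}
  have := @_root_.Quotient.recOnSubsingleton₂.eq_def.{0, 0, 0}
  have := @_root_.Quotient.recOnSubsingleton₂.eq_1.{0, 0, 0}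
  have := @_root_.strictAnd.eq_def
  have := @_root_.strictAnd.eq_1
  have := @_root_.Decidable.byCases.congr_simp.{0}
  have := @_root_.Decidable.byCases.eq_def.{0}
  have := @_root_.Decidable.byCases.eq_1.{0}
  have := @_root_.decidable_of_decidable_of_eq.congr_simp
  have := @_root_.decidable_of_decidable_of_eq.eq_def
  have := @_root_.decidable_of_decidable_of_eq.eq_1
  have := @_root_.inline.eq_def.{0}
  have := @_root_.instBEqOption.beq.eq_def.{0}
  have := @_root_.instBEqOption.beq.eq_1.{0}
  have := @_root_.Sum.inhabitedRight.eq_def.{0, 0}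
  have := @_root_.Sum.inhabitedRight.eq_1.{0, 0}
  have := @_root_.Relation.TransGen.single.congr_simp.{0}
  have := @_root_.instInhabitedNonScalar.default.eq_def
  have := @_root_.instInhabitedNonScalar.default.eq_1
  have := @_root_.PSum.inhabitedRight.eq_def.{0, 0}
  have := @_root_.PSum.inhabitedRight.eq_1.{0, 0}
  have := @_root_.decidable_of_decidable_of_iff.congr_simp
  have := @_root_.decidable_of_decidable_of_iff.eq_def
  have := @_root_.decidable_of_decidable_of_iff.eq_1
  have := @_root_.Quotient.hrecOn.eq_def.{0, 0}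
  have := @_root_.Quotient.hrecOn.eq_1.{0, 0}
  have := @_root_.Quot.sound.congr_simp.{0}
  have := @_root_.Option.getM.eq_def.{0, 0}
  trivial

theorem m00_8 : True := by
  have := @_root_.Option.getM.eq_1.{0, 0}
  have := @_root_.Option.isEqSome.eq_def.{0}
  have := @_root_.Option.toArray.eq_def.{0}
  have := @_root_.Option.toArray.eq_1.{0}
  have := @_root_.Option.or.eq_def.{0}
  have := @_root_.Option.or.eq_1.{0}
  have := @_root_.Option.getDM.eq_def.{0, 0}
  have := @_root_.Option.getDM.eq_1.{0, 0}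
  have := @_root_.Option.bind.eq_def.{0, 0}
  have := @_root_.Option.bindM.eq_def.{0, 0, 0}
  have := @_root_.Option.mapA.eq_def.{0, 0, 0}
  have := @_root_.Option.mapA.eq_1.{0, 0, 0}
  have := @_root_.Option.get.eq_def.{0}
  have := @_root_.Option.get.eq_1.{0}
  have := @_root_.Option.merge.eq_def.{0}
  have := @_root_.Option.isNone.eq_def.{0}
  have := @_root_.Option.instBEq.beq.eq_def.{0}
  have := @_root_.Option.instBEq.beq.eq_1.{0}
  have := @_root_.Option.sequence.eq_def.{0, 0}
  have := @_root_.Option.sequence.eq_1.{0, 0}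
  have := @_root_.Option.SomeLtNone.lt.eq_def.{0, 0}
  have := @_root_.Option.join.eq_def.{0}
  have := @_root_.Option.tryCatch.eq_def.{0}
  have := @_root_.Option.mapM.eq_def.{0, 0, 0}
  have := @_root_.Option.elimM.eq_def.{0, 0}
  have := @_root_.Option.filter.eq_def.{0}
  have := @_root_.Option.Rel.some.congr_simp.{0, 0}
  have := @_root_.Option.filterM.eq_def.{0}
  have := @_root_.Option.filterM.eq_1.{0}
  have := @_root_.Option.max.eq_def.{0}
  trivial

theorem m00_9 : True := by
  have := @_root_.Option.max.eq_1.{0}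
  have := @_root_.liftOption.eq_def.{0, 0}
  have := @_root_.liftOption.eq_1.{0, 0}
  have := @_root_.Option.orElse.eq_def.{0}
  have := @_root_.Option.SomeLtNone.le.eq_def.{0, 0}
  have := @_root_.Option.SomeLtNone.le.eq_1.{0, 0}
  have := @_root_.Option.le.eq_def.{0, 0}
  have := @_root_.Option.min.eq_def.{0}
  have := @_root_.Option.min.eq_1.{0}
  have := @_root_.Option.toList.eq_def.{0}
  have := @_root_.Option.all.eq_def.{0}
  have := @_root_.Option.all.eq_1.{0}
  have := @_root_.Option.isSome.eq_def.{0}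
  have := @_root_.Option.lt.eq_def.{0, 0}
  have := @_root_.Option.any.eq_def.{0}
  have := @_root_.Option.any.eq_1.{0}
  have := @_root_.Option.guard.eq_def.{0}
  have := @_root_.Nat.repeatTR.eq_def.{0}
  have := @_root_.Nat.repeatTR.eq_1.{0}
  have := @_root_.Nat.casesAuxOn.eq_def.{0}
  have := @_root_.Nat.casesAuxOn.eq_1.{0}
  have := @_root_.Nat.blt.eq_def
  have := @_root_.Nat.blt.eq_1
  have := @_root_.Nat.not_lt_of_gt.congr_simp
  have := @_root_.Nat.min.eq_def
  have := @_root_.Nat.min.eq_1
  have := @_root_.Nat.recAux.eq_def.{0}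
  have := @_root_.Nat.recAux.eq_1.{0}
  have := @_root_.Nat.recCompiled.eq_def.{0}
  have := @_root_.Nat.recCompiled.eq_1.{0}
  trivial

theorem m00_10 : True := by
  have := @_root_.Nat.not_lt_of_lt.congr_simp
  have := @_root_.Nat.max.eq_def
  have := @_root_.Nat.max.eq_1
  have := @_root_.Int.negOfNat.eq_def
  have := @_root_.Int.negOfNat.eq_1
  have := @_root_.Int.sign.eq_def
  have := @_root_.Int.decEq.eq_def
  have := @_root_.Int.decEq.eq_1
  have := @_root_.Int.le.eq_def
  have := @_root_.Int.le.eq_1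
  have := @_root_.Int.blt'.eq_def
  have := @_root_.Int.mul.eq_def
  have := @_root_.Int.ble'.eq_def
  have := @_root_.Int.toNat.eq_def
  have := @_root_.Int.lt.eq_def
  have := @_root_.Int.decNonneg.eq_def
  have := @_root_.Int.decNonneg.eq_1
  have := @_root_.Int.cast.eq_def.{0}
  have := @_root_.Int.cast.eq_1.{0}
  have := @_root_.Int.toNat?.eq_def
  have := @_root_.Int.beq'.eq_def
  have := @_root_.Int.add.eq_def
  have := @_root_.Int.add.eq_1
  have := @_root_.Int.pow.eq_def
  have := @_root_.Int.pow.eq_1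
  have := @_root_.Int.neg.eq_def
  have := @_root_.Int.neg.eq_1
  have := @_root_.Int.subNatNat.eq_def
  have := @_root_.Int.sub.eq_def
  have := @_root_.Int.sub.eq_1
  trivial

theorem m00_11 : True := by
  have := @_root_.Nat.divExact.eq_def
  have := @_root_.Nat.divExact.eq_1
  have := @_root_.Nat.mod.inductionOn.eq_def.{0}
  have := @_root_.Nat.mod.inductionOn.eq_1.{0}
  have := @_root_.Nat.div.inductionOn.eq_1.{0}
  have := @_root_.Nat.testBit.eq_def
  have := @_root_.Nat.xor.eq_def
  have := @_root_.Nat.xor.eq_1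
  have := @_root_.Nat.bitwise.eq_def
  have := @_root_.Nat.bitwise.eq_1
  have := @_root_.Nat.shiftLeft.eq_def
  have := @_root_.Nat.shiftLeft.eq_1
  have := @_root_.Nat.hasNotBit.eq_def
  have := @_root_.Nat.hasNotBit.eq_1
  have := @_root_.Nat.shiftRight.eq_def
  have := @_root_.Nat.shiftRight.eq_1
  have := @_root_.Nat.land.eq_def
  have := @_root_.Nat.land.eq_1
  have := @_root_.Nat.lor.eq_def
  have := @_root_.Nat.lor.eq_1
  have := @_root_.Fin.sub.eq_def
  have := @_root_.Fin.sub.eq_1
  have := @_root_.Fin.castAdd.eq_def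
  have := @_root_.Fin.castAdd.eq_1
  have := @_root_.Fin.natAdd.eq_def
  have := @_root_.Fin.subNat.eq_def
  have := @_root_.Fin.last.eq_def
  have := @_root_.Fin.cast.eq_def
  have := @_root_.Fin.castSucc.eq_def
  have := @_root_.Fin.castLT.eq_def
  trivial

theorem m00_12 : True := by
  have := @_root_.Fin.elim0.eq_def.{0}
  have := @_root_.Fin.elim0.eq_1.{0}
  have := @_root_.Fin.modn.eq_def
  have := @_root_.Fin.xor.eq_def
  have := @_root_.Fin.xor.eq_1
  have := @_root_.Fin.addNat.eq_def
  have := @_root_.Fin.addNat.eq_1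
  have := @_root_.Fin.shiftLeft.eq_def
  have := @_root_.Fin.shiftLeft.eq_1
  have := @_root_.Fin.toNat.eq_def
  have := @_root_.Fin.toNat.eq_1
  have := @_root_.Fin.pred.eq_def
  have := @_root_.Fin.pred.eq_1
  have := @_root_.Fin.mod.eq_def
  have := @_root_.Fin.mod.eq_1
  have := @_root_.Fin.rev.eq_def
  have := @_root_.Fin.shiftRight.eq_def
  have := @_root_.Fin.shiftRight.eq_1
  have := @_root_.Fin.div.eq_def
  have := @_root_.Fin.div.eq_1
  have := @_root_.Fin.add.eq_def
  have := @_root_.Fin.add.eq_1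
  have := @_root_.Fin.succ.eq_def
  have := @_root_.Fin.lor.eq_def
  have := @_root_.Fin.lor.eq_1
  have := @_root_.Fin.land.eq_def
  have := @_root_.Fin.land.eq_1
  have := @_root_.Fin.mul.eq_def
  have := @_root_.Fin.mul.eq_1
  have := @_root_.Fin.ofNat.eq_def
  trivial

theorem m00_13 : True := by
  have := @_root_.Fin.castLE.eq_def
  have := @_root_.Or.by_cases.eq_def.{0}
  have := @_root_.decidable_of_iff'.eq_def
  have := @_root_.decidable_of_iff'.eq_1
  have := @_root_.decidable_of_iff.congr_simp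
  have := @_root_.decidable_of_iff.eq_def
  have := @_root_.decidable_of_iff.eq_1
  have := @_root_.decidable_of_bool.congr_simp
  have := @_root_.decidable_of_bool.eq_def
  have := @_root_.decidable_of_bool.eq_1
  have := @_root_.Or.by_cases'.congr_simp.{0}
  have := @_root_.Or.by_cases'.eq_def.{0}
  have := @_root_.Or.by_cases'.eq_1.{0}
  have := @_root_.Classical.typeDecidable.eq_def.{0}
  have := @_root_.Classical.typeDecidable.eq_1.{0}
  have := @_root_.Classical.choose.eq_def.{0}
  have := @_root_.Classical.choose.eq_1.{0}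
  have := @_root_.Classical.typeDecidableEq.eq_def.{0}
  have := @_root_.Classical.typeDecidableEq.eq_1.{0}
  have := @_root_.Classical.propDecidable.eq_def
  have := @_root_.Classical.propDecidable.eq_1
  have := @_root_.Classical.epsilon.eq_def.{0}
  have := @_root_.Classical.decidableInhabited.eq_def
  have := @_root_.Classical.decidableInhabited.eq_1
  have := @_root_.Classical.inhabited_of_nonempty.congr_simp.{0}
  have := @_root_.Classical.inhabited_of_nonempty.eq_def.{0}
  have := @_root_.Classical.inhabited_of_nonempty.eq_1.{0}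
  have := @_root_.Classical.decidable_of_decidable_not.eq_def
  have := @_root_.Classical.decidable_of_decidable_not.eq_1
  have := @_root_.Classical.indefiniteDescription.eq_def.{0}
  trivial

theorem m00_14 : True := by
  have := @_root_.Classical.indefiniteDescription.eq_1.{0}
  have := @_root_.Exists.choose.eq_def.{0}
  have := @_root_.Exists.choose.eq_1.{0}
  have := @_root_.Classical.inhabited_of_exists.congr_simp.{0}
  have := @_root_.Classical.inhabited_of_exists.eq_def.{0}
  have := @_root_.Classical.inhabited_of_exists.eq_1.{0}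
  have := @_root_.Classical.strongIndefiniteDescription.eq_def.{0}
  have := @_root_.Nat.log2.eq_def
  have := @_root_.Prod.swap.eq_def.{0, 0}
  have := @_root_.Nat.Internal.Linear.Expr.toNormPoly.eq_def
  have := @_root_.Nat.Internal.Linear.Poly.isNum?.eq_def
  have := @_root_.Nat.Internal.Linear.Poly.isNum?.eq_1
  have := @_root_.Nat.Internal.Linear.Poly.cancel.eq_def
  have := @_root_.Nat.Internal.Linear.Poly.cancel.eq_1
  have := @_root_.Nat.Internal.Linear.ExprCnstr.toNormPoly.eq_def
  have := @_root_.Nat.Internal.Linear.Expr.toPoly.eq_def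
  have := @_root_.Nat.Internal.Linear.Expr.denote.eq_def
  have := @_root_.Nat.Internal.Linear.Expr.denote.eq_1
  have := @_root_.Nat.Internal.Linear.Poly.denote_le.eq_def
  have := @_root_.Nat.Internal.Linear.PolyCnstr.isUnsat.eq_def
  have := @_root_.Nat.Internal.Linear.PolyCnstr.toExpr.eq_def
  have := @_root_.Nat.Internal.Linear.PolyCnstr.toExpr.eq_1
  have := @_root_.Nat.Internal.Linear.Poly.eq_def
  have := @_root_.Nat.Internal.Linear.Poly.eq_1
  have := @_root_.Nat.Internal.Linear.Var.denote.eq_def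
  have := @_root_.Nat.Internal.Linear.Var.denote.eq_1
  have := @_root_.Nat.Internal.Linear.monomialToExpr.eq_def
  have := @_root_.Nat.Internal.Linear.monomialToExpr.eq_1
  have := @_root_.Nat.Internal.Linear.PolyCnstr.isValid.eq_def
  have := @_root_.Nat.Internal.Linear.instBEqExpr.beq.eq_def
  trivial

end Cfsg.Rz
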