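import Cfsg.Agent.Rz.M00

/-! Generated file: forces on-demand equation and congruence lemmas to be created once. -/

set_option linter.all false

namespace Cfsg.Rz

theorem m01_0 : True := by
  have := @_root_.Nat.Internal.Linear.instBEqExpr.beq.eq_1
  have := @_root_.Nat.Internal.Linear.Poly.toExpr.go.eq_def
  have := @_root_.Nat.Internal.Linear.Poly.toExpr.go.eq_1
  have := @_root_.Nat.Internal.Linear.Poly.denote_eq.eq_def
  have := @_root_.Nat.Internal.Linear.Poly.denote.eq_def
  have := @_root_.Nat.Internal.Linear.Poly.denote.eq_1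
  have := @_root_.Nat.Internal.Linear.PolyCnstr.norm.eq_def
  have := @_root_.Nat.Internal.Linear.PolyCnstr.norm.eq_1
  have := @_root_.Nat.Internal.Linear.hugeFuel.eq_def
  have := @_root_.Nat.Internal.Linear.hugeFuel.eq_1
  have := @_root_.Nat.Internal.Linear.Var.eq_def
  have := @_root_.Nat.Internal.Linear.Var.eq_1
  have := @_root_.Nat.Internal.Linear.Expr.brecOn.go.eq_def.{0}
  have := @_root_.Nat.Internal.Linear.Expr.brecOn.go.eq_1.{0}
  have := @_root_.Nat.Internal.Linear.ExprCnstr.denote.eq_def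
  have := @_root_.Nat.Internal.Linear.ExprCnstr.denote.eq_1
  have := @_root_.Nat.Internal.Linear.fixedVar.eq_def
  have := @_root_.Nat.Internal.Linear.fixedVar.eq_1
  have := @_root_.Nat.Internal.Linear.ExprCnstr.toPoly.eq_def
  have := @_root_.Nat.Internal.Linear.Expr.inc.eq_def
  have := @_root_.Nat.Internal.Linear.Expr.inc.eq_1
  have := @_root_.Nat.Internal.Linear.PolyCnstr.denote.eq_def
  have := @_root_.Nat.Internal.Linear.PolyCnstr.denote.eq_1
  have := @_root_.Nat.Internal.Linear.Poly.norm.eq_def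
  have := @_root_.Nat.Internal.Linear.instInhabitedExpr.default.eq_def
  have := @_root_.Nat.Internal.Linear.instInhabitedExpr.default.eq_1
  have := @_root_.Nat.Internal.Linear.Context.eq_def
  have := @_root_.Nat.Internal.Linear.Context.eq_1
  have := @_root_.Nat.Internal.Linear.Poly.toExpr.eq_def
  have := @_root_.Nat.Internal.Linear.Poly.toExpr.eq_1
  trivial

theorem m01_1 : True := by
  have := @_root_.Nat.Internal.elimOffset.congr_simp.{0}
  have := @_root_.Nat.Internal.elimOffset.eq_def.{0}
  have := @_root_.Nat.Internal.elimOffset.eq_1.{0}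
  have := @_root_.Nat.Internal.Linear.Poly.isZero.eq_def
  have := @_root_.Nat.gcd.eq_def
  have := @_root_.Nat.gcd.eq_1
  have := @_root_.Nat.dvdProdDvdOfDvdProd.congr_simp
  have := @_root_.Nat.dvdProdDvdOfDvdProd.eq_def
  have := @_root_.Nat.dvdProdDvdOfDvdProd.eq_1
  have := @_root_.Nat.sub_lt_self.congr_simp
  have := @_root_.Nat.decidableExistsLTTR.eq_def
  have := @_root_.Nat.decidableExistsLTTR.eq_1
  have := @_root_.Nat.decidableBallLTTR.eq_def
  have := @_root_.Nat.decidableBallLTTR.eq_1
  have := @_root_.Nat.decidableExistsLT'TR.eq_def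
  have := @_root_.Nat.decidableExistsLT'TR.eq_1
  have := @_root_.Nat.allLTTR.eq_def
  have := @_root_.Nat.allLTTR.eq_1
  have := @_root_.Nat.anyLTTR.eq_def
  have := @_root_.Nat.anyLTTR.eq_1
  have := @_root_.Nat.Coprime.eq_def
  have := @_root_.Nat.div2Induction.eq_def.{0}
  have := @_root_.Nat.div2Induction.eq_1.{0}
  have := @_root_.Nat.foldRevM.eq_def.{0, 0}
  have := @_root_.Nat.foldRevM.eq_1.{0, 0}
  have := @_root_.Nat.anyM.eq_def.{0}
  have := @_root_.Nat.anyM.eq_1.{0}
  have := @_root_.Nat.forM.eq_def.{0}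
  have := @_root_.Nat.forM.eq_1.{0}
  have := @_root_.Nat.allM.eq_def.{0}
  trivial

theorem m01_2 : True := by
  have := @_root_.Nat.allM.eq_1.{0}
  have := @_root_.Nat.foldM.eq_def.{0, 0}
  have := @_root_.Nat.foldM.eq_1.{0, 0}
  have := @_root_.Nat.forRevM.eq_def.{0}
  have := @_root_.Nat.forRevM.eq_1.{0}
  have := @_root_.Nat.nextPowerOfTwo.eq_def
  have := @_root_.Nat.nextPowerOfTwo.eq_1
  have := @_root_.Nat.isPowerOfTwo.eq_def
  have := @_root_.Nat.isPowerOfTwo.eq_1
  have := @_root_.Nat.Internal.SOM.Poly.eq_def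
  have := @_root_.Nat.Internal.SOM.Poly.eq_1
  have := @_root_.Nat.Internal.SOM.Poly.mul.eq_def
  have := @_root_.Nat.Internal.SOM.Poly.mul.eq_1
  have := @_root_.Nat.Internal.SOM.Expr.toPoly.eq_def
  have := @_root_.Nat.Internal.SOM.Expr.toPoly.eq_1
  have := @_root_.Nat.Internal.SOM.Expr.denote.eq_def
  have := @_root_.Nat.Internal.SOM.Expr.denote.eq_1
  have := @_root_.Nat.Internal.SOM.Poly.insertSorted.eq_def
  have := @_root_.Nat.Internal.SOM.Poly.insertSorted.eq_1
  have := @_root_.Nat.Internal.SOM.Poly.mulMon.eq_def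
  have := @_root_.Nat.Internal.SOM.Poly.mulMon.eq_1
  have := @_root_.Nat.Internal.SOM.Poly.add.eq_def
  have := @_root_.Nat.Internal.SOM.Poly.add.eq_1
  have := @_root_.Nat.Internal.SOM.Expr.brecOn.go.eq_def.{0}
  have := @_root_.Nat.Internal.SOM.Expr.brecOn.go.eq_1.{0}
  have := @_root_.Nat.Internal.SOM.Mon.denote.eq_def
  have := @_root_.Nat.Internal.SOM.Mon.denote.eq_1
  have := @_root_.Nat.Internal.SOM.Poly.denote.eq_def
  have := @_root_.Nat.Internal.SOM.Poly.denote.eq_1
  have := @_root_.Nat.Internal.SOM.Mon.mul.eq_def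
  trivial

theorem m01_3 : True := by
  have := @_root_.Nat.Internal.SOM.Mon.mul.eq_1
  have := @_root_.Nat.Internal.SOM.Mon.eq_def
  have := @_root_.Nat.Internal.SOM.Mon.eq_1
  have := @_root_.Nat.Internal.SOM.instInhabitedExpr.default.eq_def
  have := @_root_.Nat.Internal.SOM.instInhabitedExpr.default.eq_1
  have := @_root_.Nat.lcm.eq_def
  have := @_root_.Fin.lastCases.eq_def.{0}
  have := @_root_.Fin.lastCases.eq_1.{0}
  have := @_root_.Fin.addCases.eq_def.{0}
  have := @_root_.Fin.inductionOn.eq_def.{0}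
  have := @_root_.Fin.inductionOn.eq_1.{0}
  have := @_root_.Fin.IntCast.instIntCast.congr_simp
  have := @_root_.Fin.IntCast.instIntCast.eq_def
  have := @_root_.Fin.IntCast.instIntCast.eq_1
  have := @_root_.Fin.reverseInduction.eq_def.{0}
  have := @_root_.Fin.induction.eq_def.{0}
  have := @_root_.Fin.induction.eq_1.{0}
  have := @_root_.Fin.induction.go.eq_def.{0}
  have := @_root_.Fin.induction.go.eq_1.{0}
  have := @_root_.Fin.intCast.congr_simp
  have := @_root_.Fin.intCast.eq_def
  have := @_root_.Fin.succRec.eq_def.{0}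
  have := @_root_.Fin.succRec.eq_1.{0}
  have := @_root_.Fin.NatCast.instNatCast.congr_simp
  have := @_root_.Fin.NatCast.instNatCast.eq_def
  have := @_root_.Fin.NatCast.instNatCast.eq_1
  have := @_root_.Fin.succRecOn.eq_def.{0}
  have := @_root_.Fin.succRecOn.eq_1.{0}
  have := @_root_.Fin.cases.eq_def.{0}
  have := @_root_.Fin.cases.eq_1.{0}
  trivial

theorem m01_4 : True := by
  have := @_root_.Fin.foldrM.eq_def.{0, 0}
  have := @_root_.Fin.foldrM.eq_1.{0, 0}
  have := @_root_.Fin.foldr.eq_def.{0}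
  have := @_root_.Fin.foldr.eq_1.{0}
  have := @_root_.Fin.foldlM.eq_def.{0, 0}
  have := @_root_.Fin.foldlM.eq_1.{0, 0}
  have := @_root_.Fin.foldl.eq_def.{0}
  have := @_root_.Fin.foldl.eq_1.{0}
  have := @_root_.Option.get!.eq_def.{0}
  have := @_root_.Option.get!.eq_1.{0}
  have := @_root_.Nat.allTR.eq_def
  have := @_root_.Nat.allTR.eq_1
  have := @_root_.Prod.foldI.eq_def.{0}
  have := @_root_.Prod.foldI.eq_1.{0}
  have := @_root_.Nat.fold.eq_def.{0}
  have := @_root_.Nat.fold.eq_1.{0}
  have := @_root_.Nat.all.eq_def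
  have := @_root_.Nat.all.eq_1
  have := @_root_.Nat.foldRev.eq_def.{0}
  have := @_root_.Nat.foldRev.eq_1.{0}
  have := @_root_.Nat.dfoldRev.eq_def.{0}
  have := @_root_.Nat.dfoldRev.eq_1.{0}
  have := @_root_.Nat.anyTR.eq_def
  have := @_root_.Nat.anyTR.eq_1
  have := @_root_.Prod.allI.eq_def
  have := @_root_.Prod.allI.eq_1
  have := @_root_.Nat.dfold.eq_def.{0}
  have := @_root_.Nat.dfold.eq_1.{0}
  have := @_root_.Prod.anyI.eq_def
  have := @_root_.Prod.anyI.eq_1
  trivial

theorem m01_5 : True := by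
  have := @_root_.Nat.any.eq_def
  have := @_root_.Nat.any.eq_1
  have := @_root_.Nat.foldTR.eq_def.{0}
  have := @_root_.Nat.foldTR.eq_1.{0}
  have := @_root_.Function.curry.eq_def.{0, 0, 0}
  have := @_root_.Function.curry.eq_1.{0, 0, 0}
  have := @_root_.Function.HasRightInverse.eq_def.{0, 0}
  have := @_root_.Function.HasRightInverse.eq_1.{0, 0}
  have := @_root_.Function.RightInverse.eq_def.{0, 0}
  have := @_root_.Function.Surjective.eq_def.{0, 0}
  have := @_root_.Function.LeftInverse.eq_def.{0, 0}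
  have := @_root_.Function.Injective.eq_def.{0, 0}
  have := @_root_.Function.uncurry.eq_def.{0, 0, 0}
  have := @_root_.Function.HasLeftInverse.eq_def.{0, 0}
  have := @_root_.Function.HasLeftInverse.eq_1.{0, 0}
  have := @_root_.Nat.ofDigitChars.eq_def
  have := @_root_.Nat.ofDigitChars.eq_1
  have := @_root_.Nat.sqrt.iter.eq_1
  have := @_root_.Nat.sqrt.eq_def
  have := @_root_.Fin.hIterateFrom.eq_def.{0}
  have := @_root_.Fin.hIterateFrom.eq_1.{0}
  have := @_root_.Fin.hIterate.eq_def.{0}
  have := @_root_.Fin.hIterate.eq_1.{0}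
  have := @_root_.Fin.addNat?.eq_def
  have := @_root_.Fin.addNat?.eq_1
  have := @_root_.Fin.log2.eq_def
  have := @_root_.Fin.log2.eq_1
  have := @_root_.Sum.LiftRel.inl.congr_simp.{0, 0, 0, 0}
  have := @_root_.Sum.Lex.inl.congr_simp.{0, 0}
  have := @_root_.Sum.instBEq.beq.eq_def.{0, 0}
  trivial

theorem m01_6 : True := by
  have := @_root_.Sum.instBEq.beq.eq_1.{0, 0}
  have := @_root_.Sum.getRight?.eq_def.{0, 0}
  have := @_root_.Sum.getLeft?.eq_def.{0, 0}
  have := @_root_.Sum.getRight.eq_def.{0, 0}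
  have := @_root_.Sum.getRight.eq_1.{0, 0}
  have := @_root_.Sum.LiftRel.inr.congr_simp.{0, 0, 0, 0}
  have := @_root_.Sum.Lex.inr.congr_simp.{0, 0}
  have := @_root_.Sum.getLeft.eq_def.{0, 0}
  have := @_root_.Sum.getLeft.eq_1.{0, 0}
  have := @_root_.Sum.map.eq_def.{0, 0, 0, 0}
  have := @_root_.Sum.isRight.eq_def.{0, 0}
  have := @_root_.Sum.swap.eq_def.{0, 0}
  have := @_root_.Sum.isLeft.eq_def.{0, 0}
  have := @_root_.Nat.bit.eq_def
  have := @_root_.Nat.binaryRec'.eq_def.{0}
  have := @_root_.Nat.bitCasesOn.eq_def.{0}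
  have := @_root_.Nat.bitCasesOn.eq_1.{0}
  have := @_root_.Nat.binaryRecFromOne.eq_def.{0}
  have := @_root_.InvOneClass.mk.congr_simp.{0}
  have := @_root_.CancelMonoid.mk.congr_simp.{0}
  have := @_root_.DivisionCommMonoid.mk.congr_simp.{0}
  have := @_root_.CommGroup.mk.congr_simp.{0}
  have := @_root_.zpowRec.eq_def.{0}
  have := @_root_.zpowRec.eq_1.{0}
  have := @_root_.DivInvOneMonoid.mk.congr_simp.{0}
  have := @_root_.nsmulBinRec.go.eq_def.{0}
  have := @_root_.CommMagma.mk.congr_simp.{0}
  have := @_root_.IsAddCommutative.mk.congr_simp.{0}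
  have := @_root_.IsMulCommutative.instDivisionCommMonoid.congr_simp.{0}
  have := @_root_.IsMulCommutative.instDivisionCommMonoid.eq_def.{0}
  trivial

theorem m01_7 : True := by
  have := @_root_.IsMulTorsionFree.mk.congr_simp.{0}
  have := @_root_.CommSemigroup.mk.congr_simp.{0}
  have := @_root_.AddSemigroup.mk.congr_simp.{0}
  have := @_root_.LibraryNote.forgetful_inheritance.eq_def
  have := @_root_.LibraryNote.forgetful_inheritance.eq_1
  have := @_root_.AddGroup.mk.congr_simp.{0}
  have := @_root_.npowRecAuto.eq_def.{0}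
  have := @_root_.IsCyclic.mk.congr_simp.{0}
  have := @_root_.DivisionMonoid.mk.congr_simp.{0}
  have := @_root_.RightCancelMonoid.mk.congr_simp.{0}
  have := @_root_.IsLeftCancelMul.mk.congr_simp.{0}
  have := @_root_.AddCancelCommMonoid.mk.congr_simp.{0}
  have := @_root_.LibraryNote.lower_cancel_priority.eq_def
  have := @_root_.LibraryNote.lower_cancel_priority.eq_1
  have := @_root_.IsCancelMul.mk.congr_simp.{0}
  have := @_root_.AddZeroClass.mk.congr_simp.{0}
  have := @_root_.DivInvMonoid.mk.congr_simp.{0}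
  have := @_root_.SubNegZeroMonoid.mk.congr_simp.{0}
  have := @_root_.npowBinRecAuto.eq_def.{0}
  have := @_root_.DivInvMonoid.div'.eq_def.{0}
  have := @_root_.DivInvMonoid.div'.eq_1.{0}
  have := @_root_.MulOneClass.mk.congr_simp.{0}
  have := @_root_.SubtractionCommMonoid.mk.congr_simp.{0}
  have := @_root_.RightCancelSemigroup.mk.congr_simp.{0}
  have := @_root_.SubNegMonoid.mk.congr_simp.{0}
  have := @_root_.AddLeftCancelSemigroup.mk.congr_simp.{0}
  have := @_root_.AddCommMagma.mk.congr_simp.{0}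
  have := @_root_.AddRightCancelMonoid.mk.congr_simp.{0}
  have := @_root_.IsMulCommutative.instCommSemigroup.congr_simp.{0}
  have := @_root_.IsMulCommutative.instCommSemigroup.eq_def.{0}
  trivial

theorem m01_8 : True := by
  have := @_root_.IsDedekindFiniteAddMonoid.mk.congr_simp.{0}
  have := @_root_.AddMonoid.mk.congr_simp.{0}
  have := @_root_.IsAddCommutative.instAddCommMagma.congr_simp.{0}
  have := @_root_.IsAddCommutative.instAddCommMagma.eq_def.{0}
  have := @_root_.SubtractionMonoid.mk.congr_simp.{0}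
  have := @_root_.LeftCancelMonoid.mk.congr_simp.{0}
  have := @_root_.IsDedekindFiniteMonoid.mk.congr_simp.{0}
  have := @_root_.IsMulCommutative.instCommMonoid.congr_simp.{0}
  have := @_root_.IsMulCommutative.instCommMonoid.eq_def.{0}
  have := @_root_.zsmulRec.eq_def.{0}
  have := @_root_.AddRightCancelSemigroup.mk.congr_simp.{0}
  have := @_root_.IsAddTorsionFree.mk.congr_simp.{0}
  have := @_root_.IsMulCommutative.mk.congr_simp.{0}
  have := @_root_.AddCommMonoid.mk.congr_simp.{0}
  have := @_root_.IsAddCommutative.instAddCommMonoid.congr_simp.{0}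
  have := @_root_.IsAddCommutative.instAddCommMonoid.eq_def.{0}
  have := @_root_.IsMulCommutative.instCommMagma.congr_simp.{0}
  have := @_root_.IsMulCommutative.instCommMagma.eq_def.{0}
  have := @_root_.IsAddCommutative.instAddCommSemigroup.congr_simp.{0}
  have := @_root_.IsAddCommutative.instAddCommSemigroup.eq_def.{0}
  have := @_root_.NegZeroClass.mk.congr_simp.{0}
  have := @_root_.Group.mk.congr_simp.{0}
  have := @_root_.IsAddCommutative.instDivisionAddCommMonoid.congr_simp.{0}
  have := @_root_.IsAddCommutative.instDivisionAddCommMonoid.eq_def.{0}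
  have := @_root_.npowBinRec.go.eq_def.{0}
  have := @_root_.SubNegMonoid.sub'.eq_def.{0}
  have := @_root_.SubNegMonoid.sub'.eq_1.{0}
  have := @_root_.IsAddCyclic.mk.congr_simp.{0}
  have := @_root_.nsmulBinRecAuto.eq_def.{0}
  have := @_root_.nsmulBinRec.eq_def.{0}
  trivial

theorem m01_9 : True := by
  have := @_root_.LeftCancelSemigroup.mk.congr_simp.{0}
  have := @_root_.AddLeftCancelMonoid.mk.congr_simp.{0}
  have := @_root_.IsCancelAdd.mk.congr_simp.{0}
  have := @_root_.IsMulCommutative.instCommGroup.congr_simp.{0}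
  have := @_root_.IsMulCommutative.instCommGroup.eq_def.{0}
  have := @_root_.IsRightCancelAdd.mk.congr_simp.{0}
  have := @_root_.AddCommSemigroup.mk.congr_simp.{0}
  have := @_root_.AddCancelMonoid.mk.congr_simp.{0}
  have := @_root_.nsmulRecAuto.eq_def.{0}
  have := @_root_.npowBinRec.eq_def.{0}
  have := @_root_.IsAddCommutative.instAddCommGroup.congr_simp.{0}
  have := @_root_.IsAddCommutative.instAddCommGroup.eq_def.{0}
  have := @_root_.IsRightCancelMul.mk.congr_simp.{0}
  have := @_root_.InvolutiveNeg.mk.congr_simp.{0}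
  have := @_root_.Semigroup.mk.congr_simp.{0}
  have := @_root_.IsLeftCancelAdd.mk.congr_simp.{0}
  have := @_root_.AddCommGroup.mk.congr_simp.{0}
  have := @_root_.InvolutiveInv.mk.congr_simp.{0}
  have := @_root_.Set.union.eq_def.{0}
  have := @_root_.Set.union.eq_1.{0}
  have := @_root_.setOf.eq_def.{0}
  have := @_root_.setOf.eq_1.{0}
  have := @_root_.Set.eq_def.{0}
  have := @_root_.Set.eq_1.{0}
  have := @_root_.Set.Nonempty.eq_def.{0}
  have := @_root_.Set.diff.eq_def.{0}
  have := @_root_.Set.diff.eq_1.{0}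
  have := @_root_.Set.powerset.eq_def.{0}
  have := @_root_.Set.univ.eq_def.{0}
  have := @_root_.Set.univ.eq_1.{0}
  trivial

theorem m01_10 : True := by
  have := @_root_.Set.inter.eq_def.{0}
  have := @_root_.Set.inter.eq_1.{0}
  have := @_root_.Set.singleton.eq_def.{0}
  have := @_root_.Set.singleton.eq_1.{0}
  have := @_root_.Set.compl.eq_def.{0}
  have := @_root_.Set.compl.eq_1.{0}
  have := @_root_.Set.Subset.eq_def.{0}
  have := @_root_.Set.Subset.eq_1.{0}
  have := @_root_.Set.insert.eq_def.{0}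
  have := @_root_.Set.Mem.eq_def.{0}
  have := @_root_.Set.image.eq_def.{0, 0}
  have := @_root_.Set.ofPred.eq_def.{0}
  have := @_root_.MinimalFor.eq_def.{0, 0}
  have := @_root_.IsLinearOrder.mk.congr_simp.{0}
  have := @_root_.MaximalFor.eq_def.{0, 0}
  have := @_root_.IsAntisymm.eq_def.{0}
  have := @_root_.IsAntisymm.eq_1.{0}
  have := @_root_.IsLowerSet.eq_def.{0}
  have := @_root_.IsPreorder.mk.congr_simp.{0}
  have := @_root_.RelLowerSet.mk.congr_simp.{0}
  have := @_root_.IsRelUpperSet.eq_def.{0}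
  have := @_root_.IsRefl.eq_def.{0}
  have := @_root_.IsRefl.eq_1.{0}
  have := @_root_.IsTrans.mk.congr_simp.{0}
  have := @_root_.IsUpperSet.eq_def.{0}
  have := @_root_.Total.eq_def.{0}
  have := @_root_.Total.eq_1.{0}
  have := @_root_.AntiSymmetric.eq_def.{0}
  have := @_root_.AntiSymmetric.eq_1.{0}
  have := @_root_.Symmetric.eq_def.{0}
  trivial

theorem m01_11 : True := by
  have := @_root_.Symmetric.eq_1.{0}
  have := @_root_.IsStrictTotalOrder.mk.congr_simp.{0}
  have := @_root_.IsPartialOrder.mk.congr_simp.{0}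
  have := @_root_.Transitive.eq_def.{0}
  have := @_root_.Transitive.eq_1.{0}
  have := @_root_.IsStrictOrder.mk.congr_simp.{0}
  have := @_root_.RelUpperSet.mk.congr_simp.{0}
  have := @_root_.IsAsymm.eq_def.{0}
  have := @_root_.IsAsymm.eq_1.{0}
  have := @_root_.IsEquiv.mk.congr_simp.{0}
  have := @_root_.IsTrichotomous.eq_def.{0}
  have := @_root_.IsTrichotomous.eq_1.{0}
  have := @_root_.Reflexive.eq_def.{0}
  have := @_root_.Reflexive.eq_1.{0}
  have := @_root_.IsTotal.eq_def.{0}
  have := @_root_.IsTotal.eq_1.{0}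
  have := @_root_.IsRelLowerSet.eq_def.{0}
  have := @_root_.Irreflexive.eq_def.{0}
  have := @_root_.Irreflexive.eq_1.{0}
  have := @_root_.IsStrictWeakOrder.mk.congr_simp.{0}
  have := @_root_.Minimal.eq_def.{0}
  have := @_root_.IsIrrefl.eq_def.{0}
  have := @_root_.IsIrrefl.eq_1.{0}
  have := @_root_.Maximal.eq_def.{0}
  have := @_root_.SemiconjBy.eq_def.{0}
  have := @_root_.AddSemiconjBy.eq_def.{0}
  have := @_root_.AddCommute.eq_def.{0}
  have := @_root_.Commute.eq_def.{0}
  have := @_root_.Classical.byContradiction'.congr_simp.{0}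
  have := @_root_.Classical.byContradiction'.eq_def.{0}
  trivial

theorem m01_12 : True := by
  have := @_root_.Classical.byContradiction'.eq_1.{0}
  have := @_root_.Classical.existsCases.eq_def.{0, 0}
  have := @_root_.Classical.existsCases.eq_1.{0, 0}
  have := @_root_.Classical.decRel.eq_def.{0}
  have := @_root_.Classical.decRel.eq_1.{0}
  have := @_root_.Iff.eq.congr_simp
  have := @_root_.Exists.classicalRecOn.congr_simp.{0, 0}
  have := @_root_.Exists.classicalRecOn.eq_def.{0, 0}
  have := @_root_.Exists.classicalRecOn.eq_1.{0, 0}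
  have := @_root_.Xor'.eq_def
  have := @_root_.Xor'.eq_1
  have := @_root_.eqComm.eq_def
  have := @_root_.eqComm.eq_1
  have := @_root_.Classical.decPred.eq_def.{0}
  have := @_root_.Classical.decPred.eq_1.{0}
  have := @_root_.Classical.dec.eq_def
  have := @_root_.Classical.dec.eq_1
  have := @_root_.Function.swap₂.eq_def.{0, 0, 0, 0, 0}
  have := @_root_.Function.swap₂.eq_1.{0, 0, 0, 0, 0}
  have := @_root_.LibraryNote.decidable_namespace.eq_def
  have := @_root_.LibraryNote.decidable_namespace.eq_1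
  have := @_root_.hidden.eq_def.{0}
  have := @_root_.hidden.eq_1.{0}
  have := @_root_.Classical.decEq.eq_def.{0}
  have := @_root_.Classical.decEq.eq_1.{0}
  have := @_root_.Fact.mk.congr_simp
  have := @_root_.iffComm.eq_def
  have := @_root_.iffComm.eq_1
  have := @_root_.Classical.choice_of_byContradiction'.congr_simp.{0}
  have := @_root_.Classical.choice_of_byContradiction'.eq_def.{0}
  trivial

theorem m01_13 : True := by
  have := @_root_.Classical.choice_of_byContradiction'.eq_1.{0}
  have := @_root_.Xor.eq_def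
  have := @_root_.LibraryNote.decidable_arguments.eq_def
  have := @_root_.LibraryNote.decidable_arguments.eq_1
  have := @_root_.Function.IsFixedPt.eq_def.{0}
  have := @_root_.Function.diag.eq_def.{0}
  have := @_root_.Function.diag.eq_1.{0}
  have := @_root_.Function.Bijective.eq_def.{0, 0}
  have := @_root_.Function.bicompl.eq_def.{0, 0, 0, 0, 0}
  have := @_root_.Function.bicompl.eq_1.{0, 0, 0, 0, 0}
  have := @_root_.Pi.map.eq_def.{0, 0, 0}
  have := @_root_.Pi.map.eq_1.{0, 0, 0}
  have := @_root_.Function.dcomp.eq_def.{0, 0, 0}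
  have := @_root_.Function.dcomp.eq_1.{0, 0, 0}
  have := @_root_.Function.bicompr.eq_def.{0, 0, 0, 0}
  have := @_root_.Function.bicompr.eq_1.{0, 0, 0, 0}
  have := @_root_.Function.prod.eq_def.{0, 0, 0}
  have := @_root_.Function.prod.eq_1.{0, 0, 0}
  have := @_root_.Function.swap.eq_def.{0, 0, 0}
  have := @_root_.Function.onFun.eq_def.{0, 0, 0}
  have := @_root_.ExistsUnique.eq_def.{0}
  have := @_root_.Classical.arbitrary.eq_def.{0}
  have := @_root_.Classical.arbitrary.eq_1.{0}
  have := @_root_.Classical.inhabited_of_nonempty'.congr_simp.{0}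
  have := @_root_.Classical.inhabited_of_nonempty'.eq_def.{0}
  have := @_root_.Classical.inhabited_of_nonempty'.eq_1.{0}
  have := @_root_.Nonempty.some.eq_def.{0}
  have := @_root_.Nonempty.some.eq_1.{0}
  have := @_root_.Nontrivial.mk.congr_simp.{0}
  have := @_root_.Set.piecewise.eq_def.{0, 0}
  trivial

theorem m01_14 : True := by
  have := @_root_.Function.sometimes.congr_simp.{0, 0}
  have := @_root_.Function.sometimes.eq_def.{0, 0}
  have := @_root_.Function.sometimes.eq_1.{0, 0}
  have := @_root_.Set.SeparatesPoints.eq_def.{0, 0}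
  have := @_root_.Set.SeparatesPoints.eq_1.{0, 0}
  have := @_root_.Function.Injective2.eq_def.{0, 0, 0}
  have := @_root_.Function.Injective2.eq_1.{0, 0, 0}
  have := @_root_.Function.partialInv.eq_def.{0, 0}
  have := @_root_.Function.partialInv.eq_1.{0, 0}
  have := @_root_.Function.update.eq_def.{0, 0}
  have := @_root_.Function.FactorsThrough.eq_def.{0, 0, 0}
  have := @_root_.Function.Injective.decidableEq.congr_simp.{0, 0}
  have := @_root_.Function.Injective.decidableEq.eq_def.{0, 0}
  have := @_root_.Function.Injective.decidableEq.eq_1.{0, 0}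
  have := @_root_.Function.extend.eq_def.{0, 0, 0}
  have := @_root_.Function.surjInv.eq_def.{0, 0}
  have := @_root_.Function.IsPartialInv.eq_def.{0, 0}
  have := @_root_.Function.IsPartialInv.eq_1.{0, 0}
  have := @_root_.Function.Involutive.eq_def.{0}
  have := @_root_.Function.eval.eq_def.{0, 0}
  have := @_root_.Function.eval.eq_1.{0, 0}
  have := @_root_.Function.invFun.eq_def.{0, 0}
  have := @_root_.IsEmpty.mk.congr_simp.{0}
  have := @_root_.IsEmpty.elim'.eq_def.{0, 0}
  have := @_root_.IsEmpty.elim'.eq_1.{0, 0}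
  have := @_root_.isEmptyElim.eq_def.{0, 0}
  have := @_root_.isEmptyElim.eq_1.{0, 0}
  have := @_root_.Function.Surjective.unique.congr_simp.{0, 0}
  have := @_root_.Function.Surjective.unique.eq_def.{0, 0}
  have := @_root_.Function.Surjective.unique.eq_1.{0, 0}
  trivial

end Cfsg.Rz
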