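import Cfsg.Agent.Rz.M01

/-! Generated file: forces on-demand equation and congruence lemmas to be created once. -/

set_option linter.all false

namespace Cfsg.Rz

theorem m02_0 : True := by
  have := @_root_.Unique.mk'.congr_simp.{0}
  have := @_root_.Unique.mk'.eq_def.{0}
  have := @_root_.Unique.mk'.eq_1.{0}
  have := @_root_.uniqueProp.congr_simp
  have := @_root_.uniqueProp.eq_def
  have := @_root_.uniqueProp.eq_1
  have := @_root_.Function.Injective.unique.congr_simp.{0, 0}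
  have := @_root_.Function.Injective.unique.eq_def.{0, 0}
  have := @_root_.Function.Injective.unique.eq_1.{0, 0}
  have := @_root_.uniqueOfSubsingleton.congr_simp.{0}
  have := @_root_.uniqueOfSubsingleton.eq_def.{0}
  have := @_root_.uniqueOfSubsingleton.eq_1.{0}
  have := @_root_.uniqueElim.eq_def.{0, 0}
  have := @_root_.uniqueElim.eq_1.{0, 0}
  have := @_root_.Function.Surjective.uniqueOfSurjectiveConst.congr_simp.{0, 0}
  have := @_root_.Function.Surjective.uniqueOfSurjectiveConst.eq_def.{0, 0}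
  have := @_root_.Function.Surjective.uniqueOfSurjectiveConst.eq_1.{0, 0}
  have := @_root_.Relator.LeftUnique.eq_def.{0, 0}
  have := @_root_.Relator.LeftUnique.eq_1.{0, 0}
  have := @_root_.Relator.RightUnique.eq_def.{0, 0}
  have := @_root_.Relator.RightUnique.eq_1.{0, 0}
  have := @_root_.Relator.LeftTotal.eq_def.{0, 0}
  have := @_root_.Relator.LiftFun.eq_def.{0, 0, 0, 0}
  have := @_root_.Relator.RightTotal.eq_def.{0, 0}
  have := @_root_.Relator.BiTotal.eq_def.{0, 0}
  have := @_root_.Relator.BiUnique.eq_def.{0, 0}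
  have := @_root_.Relator.BiUnique.eq_1.{0, 0}
  have := @_root_.Relation.Map.eq_def.{0, 0, 0, 0}
  have := @_root_.Relation.Join.eq_def.{0}
  have := @_root_.Relation.Join.eq_1.{0}
  trivial

theorem m02_1 : True := by
  have := @_root_.Relation.SymmGen.eq_def.{0}
  have := @_root_.Relation.ReflGen.single.congr_simp.{0}
  have := @_root_.Relation.EqvGen.trans.congr_simp.{0}
  have := @_root_.Relation.EqvGen.setoid.eq_def.{0}
  have := @_root_.Relation.EqvGen.setoid.eq_1.{0}
  have := @_root_.Relation.Comp.eq_def.{0, 0, 0}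
  have := @_root_.Relation.EqvGen.below.symm.congr_simp.{0}
  have := @_root_.Relation.EqvGen.symm.congr_simp.{0}
  have := @_root_.Relation.ReflTransGen.below.tail.congr_simp.{0}
  have := @_root_.Relation.EqvGen.rel.congr_simp.{0}
  have := @_root_.Relation.Fibration.eq_def.{0, 0}
  have := @_root_.Relation.EqvGen.below.trans.congr_simp.{0}
  have := @_root_.Relation.ReflTransGen.tail.congr_simp.{0}
  have := @_root_.Quotient.map'.eq_def.{0, 0}
  have := @_root_.Quotient.map'.eq_1.{0, 0}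
  have := @_root_.Quotient.map₂.eq_def.{0, 0, 0}
  have := @_root_.Quotient.map₂.eq_1.{0, 0, 0}
  have := @_root_.trueSetoid.eq_def.{0}
  have := @_root_.trueSetoid.eq_1.{0}
  have := @_root_.Quotient.hrecOn₂'.congr_simp.{0, 0, 0}
  have := @_root_.Quotient.hrecOn₂'.eq_def.{0, 0, 0}
  have := @_root_.Quotient.hrecOn₂'.eq_1.{0, 0, 0}
  have := @_root_.Quot.hrecOn₂.congr_simp.{0, 0, 0}
  have := @_root_.Quot.hrecOn₂.eq_def.{0, 0, 0}
  have := @_root_.Quot.hrecOn₂.eq_1.{0, 0, 0}
  have := @_root_.Quotient.hrecOn'.congr_simp.{0, 0}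
  have := @_root_.Quotient.hrecOn'.eq_def.{0, 0}
  have := @_root_.Quotient.hrecOn'.eq_1.{0, 0}
  have := @_root_.Quot.factor.congr_simp.{0}
  have := @_root_.Quot.factor.eq_def.{0}
  trivial

theorem m02_2 : True := by
  have := @_root_.Quot.factor.eq_1.{0}
  have := @_root_.Quot.mapRight.congr_simp.{0}
  have := @_root_.Quot.mapRight.eq_def.{0}
  have := @_root_.Quot.mapRight.eq_1.{0}
  have := @_root_.Trunc.bind.eq_def.{0, 0}
  have := @_root_.Trunc.bind.eq_1.{0, 0}
  have := @_root_.Quot.lift₂.congr_simp.{0, 0, 0}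
  have := @_root_.Quot.lift₂.eq_def.{0, 0, 0}
  have := @_root_.Quot.lift₂.eq_1.{0, 0, 0}
  have := @_root_.Trunc.recOn.congr_simp.{0, 0}
  have := @_root_.Trunc.recOn.eq_def.{0, 0}
  have := @_root_.Trunc.recOn.eq_1.{0, 0}
  have := @_root_.Trunc.recOnSubsingleton.congr_simp.{0, 0}
  have := @_root_.Trunc.recOnSubsingleton.eq_def.{0, 0}
  have := @_root_.Trunc.recOnSubsingleton.eq_1.{0, 0}
  have := @_root_.Quotient.choice.eq_def.{0, 0}
  have := @_root_.Quotient.choice.eq_1.{0, 0}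
  have := @_root_.Quotient.recOnSubsingleton₂'.congr_simp.{0, 0, 0}
  have := @_root_.Quotient.recOnSubsingleton₂'.eq_def.{0, 0, 0}
  have := @_root_.Quotient.recOnSubsingleton₂'.eq_1.{0, 0, 0}
  have := @_root_.Quotient.out.eq_def.{0}
  have := @_root_.Quotient.out.eq_1.{0}
  have := @_root_.Quot.recOnSubsingleton₂.congr_simp.{0, 0, 0}
  have := @_root_.Quot.recOnSubsingleton₂.eq_def.{0, 0, 0}
  have := @_root_.Quot.recOnSubsingleton₂.eq_1.{0, 0, 0}
  have := @_root_.Quot.map.eq_def.{0, 0}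
  have := @_root_.Quotient.liftOn'.eq_def.{0, 0}
  have := @_root_.Quotient.liftOn'.eq_1.{0, 0}
  have := @_root_.Quot.map₂.eq_def.{0, 0, 0}
  have := @_root_.Quot.map₂.eq_1.{0, 0, 0}
  trivial

theorem m02_3 : True := by
  have := @_root_.Trunc.lift.eq_def.{0, 0}
  have := @_root_.Trunc.out.eq_def.{0}
  have := @_root_.Trunc.out.eq_1.{0}
  have := @_root_.Quotient.hrecOn₂.congr_simp.{0, 0, 0}
  have := @_root_.Quotient.hrecOn₂.eq_def.{0, 0, 0}
  have := @_root_.Quotient.hrecOn₂.eq_1.{0, 0, 0}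
  have := @_root_.Quot.liftOn₂.congr_simp.{0, 0, 0}
  have := @_root_.Quot.liftOn₂.eq_def.{0, 0, 0}
  have := @_root_.Quot.liftOn₂.eq_1.{0, 0, 0}
  have := @_root_.Quotient.mk''.eq_def.{0}
  have := @_root_.Quotient.mk''.eq_1.{0}
  have := @_root_.Trunc.mk.eq_def.{0}
  have := @_root_.Trunc.mk.eq_1.{0}
  have := @_root_.Trunc.map.eq_def.{0, 0}
  have := @_root_.Trunc.map.eq_1.{0, 0}
  have := @_root_.Trunc.eq_def.{0}
  have := @_root_.Trunc.eq_1.{0}
  have := @_root_.Quotient.map₂'.congr_simp.{0, 0, 0}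
  have := @_root_.Quotient.map₂'.eq_def.{0, 0, 0}
  have := @_root_.Quotient.map₂'.eq_1.{0, 0, 0}
  have := @_root_.Trunc.liftOn.congr_simp.{0, 0}
  have := @_root_.Trunc.liftOn.eq_def.{0, 0}
  have := @_root_.Trunc.liftOn.eq_1.{0, 0}
  have := @_root_.Quot.out.eq_def.{0}
  have := @_root_.Quot.out.eq_1.{0}
  have := @_root_.Quotient.map.eq_def.{0, 0}
  have := @_root_.Quotient.map.eq_1.{0, 0}
  have := @_root_.Quotient.eval.eq_def.{0, 0}
  have := @_root_.Quotient.eval.eq_1.{0, 0}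
  have := @_root_.Quotient.liftOn₂'.eq_def.{0, 0, 0}
  trivial

theorem m02_4 : True := by
  have := @_root_.Quotient.liftOn₂'.eq_1.{0, 0, 0}
  have := @_root_.Quotient.recOnSubsingleton'.congr_simp.{0, 0}
  have := @_root_.Quotient.recOnSubsingleton'.eq_def.{0, 0}
  have := @_root_.Quotient.recOnSubsingleton'.eq_1.{0, 0}
  have := @_root_.Subtype.coind.eq_def.{0, 0}
  have := @_root_.Subtype.coind.eq_1.{0, 0}
  have := @_root_.Subtype.restrict.eq_def.{0, 0}
  have := @_root_.Subtype.restrict.eq_1.{0, 0}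
  have := @_root_.Subtype.map.eq_def.{0, 0}
  have := @_root_.Equiv.sigmaPLiftEquivSubtype.eq_def.{0}
  have := @_root_.Equiv.sigmaPLiftEquivSubtype.eq_1.{0}
  have := @_root_.Equiv.equivEmptyEquiv.eq_def.{0}
  have := @_root_.Equiv.equivEmptyEquiv.eq_1.{0}
  have := @_root_.finOneEquiv.eq_def
  have := @_root_.finOneEquiv.eq_1
  have := @_root_.finZeroEquiv.eq_def
  have := @_root_.finZeroEquiv.eq_1
  have := @_root_.Equiv.psigmaEquivSigmaPLift.eq_def.{0, 0}
  have := @_root_.Equiv.psigmaEquivSigmaPLift.eq_1.{0, 0}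
  have := @_root_.Equiv.equivEmpty.eq_def.{0}
  have := @_root_.Equiv.equivEmpty.eq_1.{0}
  have := @_root_.Equiv.sigmaEquivProd.eq_def.{0, 0}
  have := @_root_.Equiv.sigmaEquivProd.eq_1.{0, 0}
  have := @_root_.Equiv.arrowPUnitOfIsEmpty.congr_simp.{0, 0, 0}
  have := @_root_.Equiv.arrowPUnitOfIsEmpty.eq_def.{0, 0, 0}
  have := @_root_.Equiv.arrowPUnitOfIsEmpty.eq_1.{0, 0, 0}
  have := @_root_.Equiv.piUnique.eq_def.{0, 0}
  have := @_root_.Equiv.piUnique.eq_1.{0, 0}
  have := @_root_.Equiv.sigmaCongr.eq_def.{0, 0, 0, 0}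
  have := @_root_.Equiv.ord.eq_def.{0, 0}
  trivial

theorem m02_5 : True := by
  have := @_root_.Equiv.ord.eq_1.{0, 0}
  have := @_root_.finZeroEquiv'.eq_def.{0}
  have := @_root_.finZeroEquiv'.eq_1.{0}
  have := @_root_.Equiv.sigmaEquivProdOfEquiv.eq_def.{0, 0, 0}
  have := @_root_.Equiv.sigmaEquivProdOfEquiv.eq_1.{0, 0, 0}
  have := @_root_.Equiv.plift.eq_def.{0}
  have := @_root_.Equiv.plift.eq_1.{0}
  have := @_root_.Equiv.equivPUnit.eq_def.{0, 0}
  have := @_root_.Equiv.equivPUnit.eq_1.{0, 0}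
  have := @_root_.Quotient.congr.congr_simp.{0, 0}
  have := @_root_.Quotient.congr.eq_def.{0, 0}
  have := @_root_.Quotient.congr.eq_1.{0, 0}
  have := @_root_.Equiv.propEquivBool.eq_def
  have := @_root_.Equiv.propEquivBool.eq_1
  have := @_root_.Quot.congrLeft.eq_def.{0, 0}
  have := @_root_.Quot.congrLeft.eq_1.{0, 0}
  have := @_root_.Equiv.ulift.eq_def.{0, 0}
  have := @_root_.Equiv.equivOfIsEmpty.eq_def.{0, 0}
  have := @_root_.Equiv.equivOfIsEmpty.eq_1.{0, 0}
  have := @_root_.Equiv.Perm.sigmaCongrRight.eq_def.{0, 0}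
  have := @_root_.Equiv.Perm.sigmaCongrRight.eq_1.{0, 0}
  have := @_root_.Equiv.sumIsRight.eq_def.{0, 0}
  have := @_root_.Equiv.sumIsRight.eq_1.{0, 0}
  have := @_root_.Equiv.ofBijective.eq_def.{0, 0}
  have := @_root_.Equiv.trueArrowEquiv.eq_def.{0}
  have := @_root_.Equiv.trueArrowEquiv.eq_1.{0}
  have := @_root_.Equiv.cast.eq_def.{0}
  have := @_root_.Equiv.cast.eq_1.{0}
  have := @_root_.Equiv.lt.eq_def.{0, 0}
  have := @_root_.Equiv.lt.eq_1.{0, 0}
  trivial

theorem m02_6 : True := by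
  have := @_root_.Equiv.psigmaCongrRight.eq_def.{0, 0, 0}
  have := @_root_.Equiv.psigmaCongrRight.eq_1.{0, 0, 0}
  have := @_root_.Equiv.sigmaCongrLeft'.eq_def.{0, 0, 0}
  have := @_root_.Equiv.sigmaCongrLeft'.eq_1.{0, 0, 0}
  have := @_root_.Equiv.equivCongr.eq_def.{0, 0, 0, 0}
  have := @_root_.Equiv.equivCongr.eq_1.{0, 0, 0, 0}
  have := @_root_.Equiv.sigmaCongrLeft.eq_def.{0, 0, 0}
  have := @_root_.Equiv.decidableEq.congr_simp.{0, 0}
  have := @_root_.Equiv.decidableEq.eq_def.{0, 0}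
  have := @_root_.Equiv.decidableEq.eq_1.{0, 0}
  have := @_root_.Quot.congrRight.congr_simp.{0}
  have := @_root_.Quot.congrRight.eq_def.{0}
  have := @_root_.Quot.congrRight.eq_1.{0}
  have := @_root_.Equiv.pemptyArrowEquivPUnit.eq_def.{0, 0, 0}
  have := @_root_.Equiv.pemptyArrowEquivPUnit.eq_1.{0, 0, 0}
  have := @_root_.Equiv.psigmaEquivSigma.eq_def.{0, 0}
  have := @_root_.Equiv.psigmaEquivSigma.eq_1.{0, 0}
  have := @_root_.Equiv.emptyArrowEquivPUnit.eq_def.{0, 0}
  have := @_root_.Equiv.emptyArrowEquivPUnit.eq_1.{0, 0}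
  have := @_root_.Equiv.conj.eq_def.{0, 0}
  have := @_root_.Equiv.conj.eq_1.{0, 0}
  have := @_root_.Equiv.functionSwap.eq_def.{0, 0, 0}
  have := @_root_.Equiv.functionSwap.eq_1.{0, 0, 0}
  have := @_root_.Equiv.ofUnique.eq_def.{0, 0}
  have := @_root_.Equiv.ofUnique.eq_1.{0, 0}
  have := @_root_.Equiv.sumIsLeft.eq_def.{0, 0}
  have := @_root_.Equiv.sumIsLeft.eq_1.{0, 0}
  have := @_root_.Equiv.refl.eq_def.{0}
  have := @_root_.Equiv.min.eq_def.{0, 0}
  have := @_root_.Equiv.min.eq_1.{0, 0}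
  trivial

theorem m02_7 : True := by
  have := @_root_.Equiv.symmEquiv.eq_def.{0, 0}
  have := @_root_.Equiv.symmEquiv.eq_1.{0, 0}
  have := @_root_.EquivLike.toEquiv.eq_def.{0, 0, 0}
  have := @_root_.EquivLike.toEquiv.eq_1.{0, 0, 0}
  have := @_root_.Equiv.bijectiveEquiv.eq_def.{0, 0}
  have := @_root_.Equiv.bijectiveEquiv.eq_1.{0, 0}
  have := @_root_.Equiv.le.eq_def.{0, 0}
  have := @_root_.Equiv.le.eq_1.{0, 0}
  have := @_root_.Equiv.psigmaEquivSubtype.eq_def.{0}
  have := @_root_.Equiv.psigmaEquivSubtype.eq_1.{0}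
  have := @_root_.Equiv.arrowPUnitEquivPUnit.eq_def.{0, 0, 0}
  have := @_root_.Equiv.arrowPUnitEquivPUnit.eq_1.{0, 0, 0}
  have := @_root_.Equiv.punitArrowEquiv.eq_def.{0, 0}
  have := @_root_.Equiv.punitArrowEquiv.eq_1.{0, 0}
  have := @_root_.Equiv.unique.eq_def.{0, 0}
  have := @_root_.Equiv.unique.eq_1.{0, 0}
  have := @_root_.Quot.congr.congr_simp.{0, 0}
  have := @_root_.Quot.congr.eq_def.{0, 0}
  have := @_root_.Quot.congr.eq_1.{0, 0}
  have := @_root_.Equiv.sigmaCongrRight.eq_def.{0, 0, 0}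
  have := @_root_.Equiv.sigmaCongrRight.eq_1.{0, 0, 0}
  have := @_root_.Equiv.propEquivPEmpty.congr_simp.{0}
  have := @_root_.Equiv.propEquivPEmpty.eq_def.{0}
  have := @_root_.Equiv.propEquivPEmpty.eq_1.{0}
  have := @_root_.Equiv.equivPEmpty.congr_simp.{0, 0}
  have := @_root_.Equiv.equivPEmpty.eq_def.{0, 0}
  have := @_root_.Equiv.equivPEmpty.eq_1.{0, 0}
  have := @_root_.Equiv.max.eq_def.{0, 0}
  have := @_root_.Equiv.max.eq_1.{0, 0}
  have := @_root_.Equiv.Perm.eq_def.{0}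
  trivial

theorem m02_8 : True := by
  have := @_root_.Equiv.Perm.eq_1.{0}
  have := @_root_.Equiv.inhabited.eq_def.{0, 0}
  have := @_root_.Equiv.inhabited.eq_1.{0, 0}
  have := @_root_.Equiv.propEquivPUnit.congr_simp
  have := @_root_.Equiv.propEquivPUnit.eq_def
  have := @_root_.Equiv.propEquivPUnit.eq_1
  have := @_root_.Equiv.falseArrowEquivPUnit.eq_def.{0, 0}
  have := @_root_.Equiv.falseArrowEquivPUnit.eq_1.{0, 0}
  have := @_root_.Equiv.pSigmaAssoc.eq_def.{0, 0, 0}
  have := @_root_.Equiv.pSigmaAssoc.eq_1.{0, 0, 0}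
  have := @_root_.Equiv.arrowCongr'.eq_def.{0, 0, 0, 0}
  have := @_root_.Equiv.arrowCongr.eq_def.{0, 0, 0, 0}
  have := @_root_.Equiv.funUnique.eq_def.{0, 0}
  have := @_root_.Equiv.sigmaULiftPLiftEquivSubtype.eq_def.{0, 0}
  have := @_root_.Equiv.sigmaULiftPLiftEquivSubtype.eq_1.{0, 0}
  have := @_root_.Quotient.congrRight.congr_simp.{0}
  have := @_root_.Quotient.congrRight.eq_def.{0}
  have := @_root_.Quotient.congrRight.eq_1.{0}
  have := @_root_.Equiv.ofIff.congr_simp
  have := @_root_.Equiv.ofIff.eq_def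
  have := @_root_.Equiv.ofIff.eq_1
  have := @_root_.Equiv.sigmaAssoc.eq_def.{0, 0, 0}
  have := @_root_.Equiv.trans.eq_def.{0, 0, 0}
  have := @_root_.Equiv.trans.eq_1.{0, 0, 0}
  have := @_root_.finTwoEquiv.eq_def
  have := @_root_.finTwoEquiv.eq_1
  have := @_root_.Equiv.punitEquivPUnit.eq_def.{0, 0}
  have := @_root_.Equiv.punitEquivPUnit.eq_1.{0, 0}
  have := @_root_.Equiv.permCongr.eq_def.{0, 0}
  have := @_root_.Equiv.permCongr.eq_1.{0, 0}
  trivial

theorem m02_9 : True := by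
  have := @_root_.Equiv.symm.eq_def.{0, 0}
  have := @_root_.Equiv.symm.eq_1.{0, 0}
  have := @_root_.Function.Semiconj₂.eq_def.{0, 0}
  have := @_root_.Function.Semiconj₂.eq_1.{0, 0}
  have := @_root_.Function.Semiconj.eq_def.{0, 0}
  have := @_root_.Function.Commute.eq_def.{0}
  have := @_root_.Function.Injective.addAction.congr_simp.{0, 0, 0}
  have := @_root_.Function.Injective.addAction.eq_def.{0, 0, 0}
  have := @_root_.MulDistribMulAction.mk.congr_simp.{0, 0}
  have := @_root_.SemigroupAction.mk.congr_simp.{0, 0}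
  have := @_root_.VAdd.comp.vadd.eq_def.{0, 0, 0}
  have := @_root_.VAdd.comp.eq_def.{0, 0, 0}
  have := @_root_.IsScalarTower.mk.congr_simp.{0, 0, 0}
  have := @_root_.IsCancelVAdd.mk.congr_simp.{0, 0}
  have := @_root_.SMulCommClass.mk.congr_simp.{0, 0, 0}
  have := @_root_.VAddCommClass.mk.congr_simp.{0, 0, 0}
  have := @_root_.Function.Surjective.mulAction.congr_simp.{0, 0, 0}
  have := @_root_.Function.Surjective.mulAction.eq_def.{0, 0, 0}
  have := @_root_.IsCancelSMul.mk.congr_simp.{0, 0}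
  have := @_root_.VAddAssocClass.mk.congr_simp.{0, 0, 0}
  have := @_root_.IsLeftCancelSMul.mk.congr_simp.{0, 0}
  have := @_root_.SMul.comp.eq_def.{0, 0, 0}
  have := @_root_.Function.Surjective.addAction.congr_simp.{0, 0, 0}
  have := @_root_.Function.Surjective.addAction.eq_def.{0, 0, 0}
  have := @_root_.IsLeftCancelVAdd.mk.congr_simp.{0, 0}
  have := @_root_.MulAction.mk.congr_simp.{0, 0}
  have := @_root_.SMulDistribClass.mk.congr_simp.{0, 0, 0}
  have := @_root_.LibraryNote.bundled_maps_over_different_rings.eq_def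
  have := @_root_.LibraryNote.bundled_maps_over_different_rings.eq_1
  have := @_root_.AddAction.mk.congr_simp.{0, 0}
  trivial

theorem m02_10 : True := by
  have := @_root_.AddSemigroupAction.mk.congr_simp.{0, 0}
  have := @_root_.AddDistribAddAction.mk.congr_simp.{0, 0}
  have := @_root_.IsCentralVAdd.mk.congr_simp.{0, 0}
  have := @_root_.Function.Injective.mulAction.congr_simp.{0, 0, 0}
  have := @_root_.Function.Injective.mulAction.eq_def.{0, 0, 0}
  have := @_root_.SMul.comp.smul.eq_def.{0, 0, 0}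
  have := @_root_.IsCentralScalar.mk.congr_simp.{0, 0}
  have := @_root_.FaithfulVAdd.mk.congr_simp.{0, 0}
  have := @_root_.FaithfulSMul.mk.congr_simp.{0, 0}
  have := @_root_.Pi.prod.eq_def.{0, 0, 0}
  have := @_root_.Pi.prod.eq_1.{0, 0, 0}
  have := @_root_.Pi.single.eq_def.{0, 0}
  have := @_root_.Pi.mulSingle.eq_def.{0, 0}
  have := @_root_.Sum3.in₀.eq_def.{0, 0, 0}
  have := @_root_.Sum3.in₀.eq_1.{0, 0, 0}
  have := @_root_.Sum3.in₂.eq_def.{0, 0, 0}
  have := @_root_.Sum3.in₂.eq_1.{0, 0, 0}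
  have := @_root_.Sum3.in₁.eq_def.{0, 0, 0}
  have := @_root_.Sum3.in₁.eq_1.{0, 0, 0}
  have := @_root_.uniqueOfSurjectiveZero.congr_simp.{0, 0}
  have := @_root_.uniqueOfSurjectiveZero.eq_def.{0, 0}
  have := @_root_.uniqueOfSurjectiveOne.congr_simp.{0, 0}
  have := @_root_.uniqueOfSurjectiveOne.eq_def.{0, 0}
  have := @_root_.Prod.PrettyPrinting.getPPNumericProjProd.eq_def
  have := @_root_.Prod.PrettyPrinting.getPPNumericProjProd.eq_1
  have := @_root_.Prod.mk.injArrow.congr_simp.{0, 0, 0}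
  have := @_root_.Prod.mk.injArrow.eq_def.{0, 0, 0}
  have := @_root_.Prod.mk.injArrow.eq_1.{0, 0, 0}
  have := @_root_.decidableEqOfDecidableLE.eq_def.{0}
  have := @_root_.decidableEqOfDecidableLE.eq_1.{0}
  trivial

theorem m02_11 : True := by
  have := @_root_.CovBy.eq_def.{0}
  have := @_root_.WCovBy.eq_def.{0}
  have := @_root_.decidableLTOfDecidableLE.eq_def.{0}
  have := @_root_.decidableLTOfDecidableLE.eq_1.{0}
  have := @_root_.minDefault.eq_def.{0}
  have := @_root_.minDefault.eq_1.{0}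
  have := @_root_.maxDefault.eq_def.{0}
  have := @_root_.LinearOrder.mk.congr_simp.{0}
  have := @_root_.StrongLT.eq_def.{0, 0}
  have := @_root_.StrongLT.eq_1.{0, 0}
  have := @_root_.LinearOrder.lift.congr_simp.{0, 0}
  have := @_root_.LinearOrder.lift.eq_def.{0, 0}
  have := @_root_.LinearOrder.lift.eq_1.{0, 0}
  have := @_root_.LinearOrder.liftWithOrd.congr_simp.{0, 0}
  have := @_root_.LinearOrder.liftWithOrd.eq_def.{0, 0}
  have := @_root_.LinearOrder.liftWithOrd.eq_1.{0, 0}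
  have := @_root_.LinearOrder.lift'.congr_simp.{0, 0}
  have := @_root_.LinearOrder.lift'.eq_def.{0, 0}
  have := @_root_.LinearOrder.lift'.eq_1.{0, 0}
  have := @_root_.Function.Injective.linearOrder.congr_simp.{0, 0}
  have := @_root_.Function.Injective.linearOrder.eq_def.{0, 0}
  have := @_root_.Function.Injective.linearOrder.eq_1.{0, 0}
  have := @_root_.LinearOrder.ofSubsingleton.congr_simp.{0}
  have := @_root_.LinearOrder.ofSubsingleton.eq_def.{0}
  have := @_root_.LinearOrder.ofSubsingleton.eq_1.{0}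
  have := @_root_.Preorder.lift.eq_def.{0, 0}
  have := @_root_.Preorder.lift.eq_1.{0, 0}
  have := @_root_.DenselyOrdered.mk.congr_simp.{0}
  have := @_root_.Order.Preimage.eq_def.{0, 0}
  have := @_root_.LinearOrder.liftWithOrd'.congr_simp.{0, 0}
  trivial

theorem m02_12 : True := by
  have := @_root_.LinearOrder.liftWithOrd'.eq_def.{0, 0}
  have := @_root_.LinearOrder.liftWithOrd'.eq_1.{0, 0}
  have := @_root_.PartialOrder.lift.congr_simp.{0, 0}
  have := @_root_.PartialOrder.lift.eq_def.{0, 0}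
  have := @_root_.PartialOrder.lift.eq_1.{0, 0}
  have := @_root_.Function.Injective.preorder.congr_simp.{0, 0}
  have := @_root_.Function.Injective.preorder.eq_def.{0, 0}
  have := @_root_.Function.Injective.preorder.eq_1.{0, 0}
  have := @_root_.Function.Injective.partialOrder.congr_simp.{0, 0}
  have := @_root_.Function.Injective.partialOrder.eq_def.{0, 0}
  have := @_root_.Function.Injective.partialOrder.eq_1.{0, 0}
  have := @_root_.Pairwise.eq_def.{0}
  have := @_root_.Set.Pairwise.eq_def.{0}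
  have := @_root_.Nat.decreasingInduction.eq_def.{0}
  have := @_root_.Nat.decreasingInduction.eq_1.{0}
  have := @_root_.Nat.decreasingInduction'.congr_simp.{0}
  have := @_root_.Nat.decreasingInduction'.eq_def.{0}
  have := @_root_.Nat.decreasingInduction'.eq_1.{0}
  have := @_root_.Nat.AtLeastTwo.mk.congr_simp
  have := @_root_.Nat.strongSubRecursion.eq_1.{0}
  have := @_root_.Nat.strongRec'.eq_def.{0}
  have := @_root_.Nat.strongRec'.eq_1.{0}
  have := @_root_.Nat.strongRecOn'.eq_def.{0}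
  have := @_root_.Nat.strongRecOn'.eq_1.{0}
  have := @_root_.LibraryNote.foundational_algebra_order_theory.eq_def
  have := @_root_.LibraryNote.foundational_algebra_order_theory.eq_1
  have := @_root_.Nat.pincerRecursion.eq_1.{0}
  have := @_root_.Nat.stepInduction.eq_1.{0}
  have := @_root_.Nat.leRecOn.eq_def.{0}
  have := @_root_.Nat.leRecOn.eq_1.{0}
  trivial

theorem m02_13 : True := by
  have := @_root_.Nat.twoStepInduction.eq_def.{0}
  have := @_root_.Nat.twoStepInduction.eq_1.{0}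
  have := @_root_.Set.Elem.eq_def.{0}
  have := @_root_.Set.Elem.eq_1.{0}
  have := @_root_.Set.offDiag.eq_def.{0}
  have := @_root_.Set.image2.eq_def.{0, 0, 0}
  have := @_root_.Set.MapsTo.eq_def.{0, 0}
  have := @_root_.Set.preimage.eq_def.{0, 0}
  have := @_root_.Set.graphOn.eq_def.{0, 0}
  have := @_root_.Set.InvOn.eq_def.{0, 0}
  have := @_root_.Set.InvOn.eq_1.{0, 0}
  have := @_root_.Set.BijOn.eq_def.{0, 0}
  have := @_root_.Set.SurjOn.eq_def.{0, 0}
  have := @_root_.Set.restrictPreimage.eq_def.{0, 0}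
  have := @_root_.Set.diagonal.eq_def.{0}
  have := @_root_.Set.pi.eq_def.{0, 0}
  have := @_root_.Set.InjOn.eq_def.{0, 0}
  have := @_root_.Set.rangeSplitting.eq_def.{0, 0}
  have := @_root_.Set.seq.eq_def.{0, 0}
  have := @_root_.Set.MapsTo.restrict.eq_def.{0, 0}
  have := @_root_.Set.MapsTo.restrict.eq_1.{0, 0}
  have := @_root_.Set.range.eq_def.{0, 0}
  have := @_root_.Set.RightInvOn.eq_def.{0, 0}
  have := @_root_.Set.RightInvOn.eq_1.{0, 0}
  have := @_root_.Set.prod.eq_def.{0, 0}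
  have := @_root_.Set.imageFactorization.eq_def.{0, 0}
  have := @_root_.Set.LeftInvOn.eq_def.{0, 0}
  have := @_root_.Set.kernImage.eq_def.{0, 0}
  have := @_root_.Set.kernImage.eq_1.{0, 0}
  have := @_root_.Set.rangeFactorization.eq_def.{0, 0}
  trivial

theorem m02_14 : True := by
  have := @_root_.Set.EqOn.eq_def.{0, 0}
  have := @_root_.ComplementedLattice.mk.congr_simp.{0}
  have := @_root_.Disjoint.eq_def.{0}
  have := @_root_.Codisjoint.eq_def.{0}
  have := @_root_.IsComplemented.eq_def.{0}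
  have := @_root_.IsComplemented.eq_1.{0}
  have := @_root_.IsCompl.mk.congr_simp.{0}
  have := @_root_.Complementeds.eq_def.{0}
  have := @_root_.Complementeds.eq_1.{0}
  have := @_root_.Set.Nonempty.some.eq_def.{0}
  have := @_root_.Set.Nonempty.some.eq_1.{0}
  have := @_root_.Equiv.setSubtypeComm.eq_def.{0}
  have := @_root_.Equiv.setSubtypeComm.eq_1.{0}
  have := @_root_.Set.subtypeInsertEquivOption.eq_def.{0}
  have := @_root_.Set.Nontrivial.choose.congr_simp.{0}
  have := @_root_.Set.Nontrivial.choose.eq_def.{0}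
  have := @_root_.Set.Nontrivial.choose.eq_1.{0}
  have := @_root_.Set.Nontrivial.eq_def.{0}
  have := @_root_.Set.Subsingleton.eq_def.{0}
  have := @_root_.Equiv.subtypeNeSumPUnit.eq_def.{0, 0}
  have := @_root_.Equiv.subtypeNeSumPUnit.eq_1.{0, 0}
  have := @_root_.Equiv.optionIsSomeEquiv.eq_def.{0}
  have := @_root_.Equiv.optionIsSomeEquiv.eq_1.{0}
  have := @_root_.Equiv.removeNone.eq_def.{0, 0}
  have := @_root_.Equiv.removeNone.eq_1.{0, 0}
  have := @_root_.Equiv.optionSubtypeNe.eq_def.{0}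
  have := @_root_.Equiv.removeNone_aux.eq_def.{0, 0}
  have := @_root_.Equiv.removeNone_aux.eq_1.{0, 0}
  have := @_root_.Equiv.removeNoneAux.eq_def.{0, 0}
  have := @_root_.Equiv.optionCongr.eq_def.{0, 0}
  trivial

end Cfsg.Rz
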