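import Cfsg.Agent.Rz.M02

/-! Generated file: forces on-demand equation and congruence lemmas to be created once. -/

set_option linter.all false

namespace Cfsg.Rz

theorem m03_0 : True := by
  have := @_root_.Equiv.optionCongr.eq_1.{0, 0}
  have := @_root_.Equiv.optionEquivSumPUnit.eq_def.{0, 0}
  have := @_root_.Equiv.optionSubtype.eq_def.{0, 0}
  have := @_root_.Sigma.curry.eq_def.{0, 0, 0}
  have := @_root_.PSigma.map.eq_def.{0, 0, 0, 0}
  have := @_root_.PSigma.map.eq_1.{0, 0, 0, 0}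
  have := @_root_.Sigma.map.eq_def.{0, 0, 0, 0}
  have := @_root_.Prod.toSigma.eq_def.{0, 0}
  have := @_root_.Sigma.uncurry.eq_def.{0, 0, 0}
  have := @_root_.Equiv.subtypeProdEquivProd.eq_def.{0, 0}
  have := @_root_.Equiv.subtypeProdEquivProd.eq_1.{0, 0}
  have := @_root_.Equiv.prodEmpty.eq_def.{0}
  have := @_root_.Equiv.prodEmpty.eq_1.{0}
  have := @_root_.Equiv.prodCongr.eq_def.{0, 0, 0, 0}
  have := @_root_.Equiv.prodCongr.eq_1.{0, 0, 0, 0}
  have := @_root_.Equiv.punitProd.eq_def.{0, 0}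
  have := @_root_.Equiv.punitProd.eq_1.{0, 0}
  have := @_root_.Equiv.prodPEmpty.eq_def.{0, 0, 0}
  have := @_root_.Equiv.prodPEmpty.eq_1.{0, 0, 0}
  have := @_root_.Equiv.emptyProd.eq_def.{0}
  have := @_root_.Equiv.emptyProd.eq_1.{0}
  have := @_root_.Equiv.prodShear.eq_def.{0, 0, 0, 0}
  have := @_root_.Equiv.prodShear.eq_1.{0, 0, 0, 0}
  have := @_root_.Equiv.prodCongrRight.eq_def.{0, 0, 0}
  have := @_root_.Equiv.prodCongrRight.eq_1.{0, 0, 0}
  have := @_root_.Equiv.pprodEquivProd.eq_def.{0, 0}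
  have := @_root_.Equiv.pprodEquivProd.eq_1.{0, 0}
  have := @_root_.Equiv.sumArrowEquivProdArrow.eq_def.{0, 0, 0}
  have := @_root_.Equiv.pprodProd.eq_def.{0, 0, 0, 0}
  have := @_root_.Equiv.pprodProd.eq_1.{0, 0, 0, 0}
  trivial

theorem m03_1 : True := by
  have := @_root_.Equiv.boolProdEquivSum.eq_def.{0}
  have := @_root_.Equiv.boolProdEquivSum.eq_1.{0}
  have := @_root_.Equiv.arrowProdEquivProdArrow.eq_def.{0, 0, 0}
  have := @_root_.Equiv.arrowProdEquivProdArrow.eq_1.{0, 0, 0}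
  have := @_root_.Equiv.boolArrowEquivProd.eq_def.{0}
  have := @_root_.Equiv.boolArrowEquivProd.eq_1.{0}
  have := @_root_.Equiv.sigmaPUnit.eq_def.{0, 0}
  have := @_root_.subsingletonProdSelfEquiv.congr_simp.{0}
  have := @_root_.subsingletonProdSelfEquiv.eq_def.{0}
  have := @_root_.subsingletonProdSelfEquiv.eq_1.{0}
  have := @_root_.Equiv.prodPUnit.eq_def.{0, 0}
  have := @_root_.Equiv.prodPUnit.eq_1.{0, 0}
  have := @_root_.Equiv.prodSubtypeFstEquivSubtypeProd.eq_def.{0, 0}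
  have := @_root_.Equiv.prodComm.eq_def.{0, 0}
  have := @_root_.Equiv.prodComm.eq_1.{0, 0}
  have := @_root_.Equiv.prodPiEquivSumPi.eq_def.{0, 0, 0}
  have := @_root_.Equiv.prodPiEquivSumPi.eq_1.{0, 0, 0}
  have := @_root_.optionProdEquiv.eq_def.{0, 0}
  have := @_root_.optionProdEquiv.eq_1.{0, 0}
  have := @_root_.Equiv.piEquivPiSubtypeProd.eq_def.{0, 0}
  have := @_root_.Equiv.piEquivPiSubtypeProd.eq_1.{0, 0}
  have := @_root_.Equiv.Perm.prodExtendRight.eq_def.{0, 0}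
  have := @_root_.Equiv.prodAssoc.eq_def.{0, 0, 0}
  have := @_root_.Equiv.sigmaProdDistrib.eq_def.{0, 0, 0}
  have := @_root_.Equiv.sigmaProdDistrib.eq_1.{0, 0, 0}
  have := @_root_.Equiv.uniqueSigma.eq_def.{0, 0}
  have := @_root_.Equiv.subtypeProdEquivSigmaSubtype.eq_def.{0, 0}
  have := @_root_.Equiv.subtypeProdEquivSigmaSubtype.eq_1.{0, 0}
  have := @_root_.Equiv.pprodEquivProdPLift.eq_def.{0, 0}
  have := @_root_.Equiv.pprodEquivProdPLift.eq_1.{0, 0}
  trivial

theorem m03_2 : True := by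
  have := @_root_.Equiv.prodCongrLeft.eq_def.{0, 0, 0}
  have := @_root_.Equiv.prodUnique.eq_def.{0, 0}
  have := @_root_.Equiv.prodUnique.eq_1.{0, 0}
  have := @_root_.Equiv.sumProdDistrib.eq_def.{0, 0, 0}
  have := @_root_.Equiv.sumProdDistrib.eq_1.{0, 0, 0}
  have := @_root_.Equiv.curry.eq_def.{0, 0, 0}
  have := @_root_.Equiv.curry.eq_1.{0, 0, 0}
  have := @_root_.Equiv.piSplitAt.eq_def.{0, 0}
  have := @_root_.Equiv.piSplitAt.eq_1.{0, 0}
  have := @_root_.Equiv.pprodCongr.eq_def.{0, 0, 0, 0}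
  have := @_root_.Equiv.pprodCongr.eq_1.{0, 0, 0, 0}
  have := @_root_.Equiv.uniqueProd.eq_def.{0, 0}
  have := @_root_.Equiv.uniqueProd.eq_1.{0, 0}
  have := @_root_.Equiv.pemptyProd.eq_def.{0, 0, 0}
  have := @_root_.Equiv.pemptyProd.eq_1.{0, 0, 0}
  have := @_root_.Equiv.sigmaUnique.eq_def.{0, 0}
  have := @_root_.Equiv.sigmaUnique.eq_1.{0, 0}
  have := @_root_.Equiv.prodPProd.eq_def.{0, 0, 0, 0}
  have := @_root_.Equiv.prodPProd.eq_1.{0, 0, 0, 0}
  have := @_root_.Equiv.prodProdProdComm.eq_def.{0, 0, 0, 0}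
  have := @_root_.Equiv.prodProdProdComm.eq_1.{0, 0, 0, 0}
  have := @_root_.Equiv.funSplitAt.eq_def.{0, 0}
  have := @_root_.Equiv.funSplitAt.eq_1.{0, 0}
  have := @_root_.Equiv.sumPiEquivProdPi.eq_def.{0, 0, 0}
  have := @_root_.Equiv.sigmaEquivOptionOfInhabited.eq_def.{0}
  have := @_root_.Equiv.sigmaEquivOptionOfInhabited.eq_1.{0}
  have := @_root_.Equiv.sumCongr.eq_def.{0, 0, 0, 0}
  have := @_root_.Equiv.sumCongr.eq_1.{0, 0, 0, 0}
  have := @_root_.Equiv.sumPSum.eq_def.{0, 0, 0, 0}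
  have := @_root_.Equiv.sumPSum.eq_1.{0, 0, 0, 0}
  trivial

theorem m03_3 : True := by
  have := @_root_.Equiv.psumSum.eq_def.{0, 0, 0, 0}
  have := @_root_.Equiv.psumSum.eq_1.{0, 0, 0, 0}
  have := @_root_.Equiv.sigmaSumDistrib.eq_def.{0, 0, 0}
  have := @_root_.Equiv.sigmaSumDistrib.eq_1.{0, 0, 0}
  have := @_root_.Equiv.sumComm.eq_def.{0, 0}
  have := @_root_.Equiv.sumComm.eq_1.{0, 0}
  have := @_root_.Equiv.boolEquivPUnitSumPUnit.eq_def.{0, 0}
  have := @_root_.Equiv.boolEquivPUnitSumPUnit.eq_1.{0, 0}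
  have := @_root_.Equiv.sumEmpty.eq_def.{0, 0}
  have := @_root_.Equiv.sumEmpty.eq_1.{0, 0}
  have := @_root_.Equiv.sumSigmaDistrib.eq_def.{0, 0, 0}
  have := @_root_.Equiv.sumSigmaDistrib.eq_1.{0, 0, 0}
  have := @_root_.Equiv.psumCongr.eq_def.{0, 0, 0, 0}
  have := @_root_.Equiv.psumCongr.eq_1.{0, 0, 0, 0}
  have := @_root_.Equiv.sumCompl.eq_def.{0}
  have := @_root_.Equiv.sumCompl.eq_1.{0}
  have := @_root_.Equiv.subtypeSum.eq_def.{0, 0}
  have := @_root_.Equiv.subtypeSum.eq_1.{0, 0}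
  have := @_root_.Equiv.sigmaFiberEquiv.eq_def.{0, 0}
  have := @_root_.Equiv.sigmaFiberEquiv.eq_1.{0, 0}
  have := @_root_.Equiv.psumEquivSum.eq_def.{0, 0}
  have := @_root_.Equiv.psumEquivSum.eq_1.{0, 0}
  have := @_root_.Equiv.emptySum.eq_def.{0, 0}
  have := @_root_.Equiv.emptySum.eq_1.{0, 0}
  have := @_root_.Equiv.Perm.sumCongr.eq_def.{0, 0}
  have := @_root_.Equiv.Perm.sumCongr.eq_1.{0, 0}
  have := @_root_.Equiv.sumSumSumComm.eq_def.{0, 0, 0, 0}
  have := @_root_.Equiv.sumSumSumComm.eq_1.{0, 0, 0, 0}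
  have := @_root_.Equiv.prodSumDistrib.eq_def.{0, 0, 0}
  have := @_root_.Equiv.prodSumDistrib.eq_1.{0, 0, 0}
  trivial

theorem m03_4 : True := by
  have := @_root_.Equiv.sumAssoc.eq_def.{0, 0, 0}
  have := @_root_.Equiv.sumEquivSigmaBool.eq_def.{0}
  have := @_root_.equivOfSubsingletonOfSubsingleton.congr_simp.{0, 0}
  have := @_root_.equivOfSubsingletonOfSubsingleton.eq_def.{0, 0}
  have := @_root_.equivOfSubsingletonOfSubsingleton.eq_1.{0, 0}
  have := @_root_.Equiv.natSumPUnitEquivNat.eq_def.{0}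
  have := @_root_.Equiv.natSumPUnitEquivNat.eq_1.{0}
  have := @_root_.Equiv.subtypeEquivProp.eq_def.{0}
  have := @_root_.Equiv.ofFiberEquiv.eq_def.{0, 0, 0}
  have := @_root_.Equiv.ofFiberEquiv.eq_1.{0, 0, 0}
  have := @_root_.Equiv.piCongrSet.eq_def.{0, 0}
  have := @_root_.Equiv.piCongrSet.eq_1.{0, 0}
  have := @_root_.Equiv.sigmaOptionEquivOfSome.congr_simp.{0, 0}
  have := @_root_.Equiv.sigmaOptionEquivOfSome.eq_def.{0, 0}
  have := @_root_.Equiv.sigmaOptionEquivOfSome.eq_1.{0, 0}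
  have := @_root_.Equiv.piComm.eq_def.{0, 0, 0}
  have := @_root_.Equiv.piComm.eq_1.{0, 0, 0}
  have := @_root_.Equiv.intEquivNatSumNat.eq_def
  have := @_root_.Equiv.intEquivNatSumNat.eq_1
  have := @_root_.Equiv.sigmaAssocProd.eq_def.{0, 0, 0}
  have := @_root_.Equiv.sigmaAssocProd.eq_1.{0, 0, 0}
  have := @_root_.Equiv.sigmaNatSucc.eq_def.{0}
  have := @_root_.Equiv.sigmaNatSucc.eq_1.{0}
  have := @_root_.Equiv.subtypeEquivOfSubtype.eq_def.{0, 0}
  have := @_root_.Equiv.subtypeEquivOfSubtype.eq_1.{0, 0}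
  have := @_root_.Equiv.sigmaSubtypeEquivOfSubset.congr_simp.{0, 0}
  have := @_root_.Equiv.sigmaSubtypeEquivOfSubset.eq_def.{0, 0}
  have := @_root_.Equiv.sigmaSubtypeEquivOfSubset.eq_1.{0, 0}
  have := @_root_.Equiv.sigmaSubtypeFiberEquivSubtype.congr_simp.{0, 0}
  have := @_root_.Equiv.sigmaSubtypeFiberEquivSubtype.eq_def.{0, 0}
  trivial

theorem m03_5 : True := by
  have := @_root_.Equiv.sigmaSubtypeFiberEquivSubtype.eq_1.{0, 0}
  have := @_root_.Equiv.subtypePreimage.eq_def.{0, 0}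
  have := @_root_.Equiv.subtypePreimage.eq_1.{0, 0}
  have := @_root_.Equiv.subtypeSubtypeEquivSubtypeExists.eq_def.{0}
  have := @_root_.Equiv.subtypeSubtypeEquivSubtypeExists.eq_1.{0}
  have := @_root_.Equiv.swapCore.eq_def.{0}
  have := @_root_.Equiv.subtypeEquiv.eq_def.{0, 0}
  have := @_root_.Equiv.subtypeEquiv.eq_1.{0, 0}
  have := @_root_.Equiv.subtypeUnivEquiv.eq_def.{0}
  have := @_root_.Equiv.subtypeUnivEquiv.eq_1.{0}
  have := @_root_.Equiv.setValue.eq_def.{0, 0}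
  have := @_root_.Equiv.piCongr.eq_def.{0, 0, 0, 0}
  have := @_root_.Equiv.subtypeSubtypeEquivSubtypeInter.eq_def.{0}
  have := @_root_.Equiv.subtypeSubtypeEquivSubtypeInter.eq_1.{0}
  have := @_root_.Equiv.subtypeCongr.congr_simp.{0}
  have := @_root_.Equiv.subtypeCongr.eq_def.{0}
  have := @_root_.Equiv.piCongrRight.eq_def.{0, 0, 0}
  have := @_root_.Equiv.piCongrRight.eq_1.{0, 0, 0}
  have := @_root_.Equiv.subtypeQuotientEquivQuotientSubtype.eq_def.{0}
  have := @_root_.Equiv.piCongrSigmaFiber.eq_def.{0, 0, 0, 0}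
  have := @_root_.Equiv.piCongrSigmaFiber.eq_1.{0, 0, 0, 0}
  have := @_root_.Equiv.Perm.extendDomain.eq_def.{0, 0}
  have := @_root_.Equiv.subtypeEquivOfSubtype'.eq_def.{0, 0}
  have := @_root_.Equiv.subtypeEquivOfSubtype'.eq_1.{0, 0}
  have := @_root_.Equiv.piOptionEquivProd.eq_def.{0, 0}
  have := @_root_.Equiv.piOptionEquivProd.eq_1.{0, 0}
  have := @_root_.Equiv.piCongr'.eq_def.{0, 0, 0, 0}
  have := @_root_.Equiv.subtypeEquivCodomain.eq_def.{0, 0}
  have := @_root_.Equiv.subtypeEquivCodomain.eq_1.{0, 0}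
  have := @_root_.Equiv.sigmaSigmaSubtype.eq_def.{0, 0, 0}
  trivial

theorem m03_6 : True := by
  have := @_root_.Equiv.sigmaSigmaSubtype.eq_1.{0, 0, 0}
  have := @_root_.Equiv.natEquivNatSumPUnit.eq_def.{0}
  have := @_root_.Equiv.natEquivNatSumPUnit.eq_1.{0}
  have := @_root_.Equiv.piCongrLeft.eq_def.{0, 0, 0}
  have := @_root_.Equiv.subtypePiEquivPi.eq_def.{0, 0}
  have := @_root_.Equiv.subtypePiEquivPi.eq_1.{0, 0}
  have := @_root_.Equiv.subtypeSigmaEquiv.eq_def.{0, 0}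
  have := @_root_.Equiv.subtypeEquivRight.eq_def.{0}
  have := @_root_.Equiv.subtypeEquivRight.eq_1.{0}
  have := @_root_.Equiv.subtypeSubtypeEquivSubtype.congr_simp.{0}
  have := @_root_.Equiv.subtypeSubtypeEquivSubtype.eq_def.{0}
  have := @_root_.Equiv.subtypeSubtypeEquivSubtype.eq_1.{0}
  have := @_root_.Equiv.piCongrFiberwise.eq_def.{0, 0, 0, 0}
  have := @_root_.Equiv.piCongrFiberwise.eq_1.{0, 0, 0, 0}
  have := @_root_.uniqueEquivEquivUnique.eq_def.{0, 0}
  have := @_root_.uniqueEquivEquivUnique.eq_1.{0, 0}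
  have := @_root_.Equiv.piCongrLeft'.eq_def.{0, 0, 0}
  have := @_root_.Equiv.punitOfNonemptyOfSubsingleton.congr_simp.{0, 0}
  have := @_root_.Equiv.punitOfNonemptyOfSubsingleton.eq_def.{0, 0}
  have := @_root_.Equiv.punitOfNonemptyOfSubsingleton.eq_1.{0, 0}
  have := @_root_.uniqueUniqueEquiv.eq_def.{0}
  have := @_root_.uniqueUniqueEquiv.eq_1.{0}
  have := @_root_.Equiv.sigmaSigmaSubtypeEq.eq_def.{0, 0, 0}
  have := @_root_.Equiv.sigmaSubtypeFiberEquiv.congr_simp.{0, 0}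
  have := @_root_.Equiv.sigmaSubtypeFiberEquiv.eq_def.{0, 0}
  have := @_root_.Equiv.sigmaSubtypeFiberEquiv.eq_1.{0, 0}
  have := @_root_.Equiv.sigmaSubtype.eq_def.{0, 0}
  have := @_root_.Equiv.sigmaSubtype.eq_1.{0, 0}
  have := @_root_.Equiv.piCurry.eq_def.{0, 0, 0}
  have := @_root_.Equiv.piCurry.eq_1.{0, 0, 0}
  trivial

theorem m03_7 : True := by
  have := @_root_.Equiv.swap.eq_def.{0}
  have := @_root_.Equiv.piEquivSubtypeSigma.eq_def.{0, 0}
  have := @_root_.Equiv.piEquivSubtypeSigma.eq_1.{0, 0}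
  have := @_root_.Equiv.uniqueCongr.eq_def.{0, 0}
  have := @_root_.Equiv.uniqueCongr.eq_1.{0, 0}
  have := @_root_.Function.Involutive.toPerm.eq_def.{0}
  have := @_root_.Function.Involutive.toPerm.eq_1.{0}
  have := @_root_.Set.inclusion.eq_def.{0}
  have := @_root_.Set.inclusion.eq_1.{0}
  have := @_root_.Function.PullbackSelf.map_fst.eq_def.{0, 0, 0}
  have := @_root_.Function.PullbackSelf.map_fst.eq_1.{0, 0, 0}
  have := @_root_.Function.pullbackDiagonal.eq_def.{0, 0}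
  have := @_root_.Function.PullbackSelf.map_snd.eq_def.{0, 0, 0}
  have := @_root_.Function.PullbackSelf.map_snd.eq_1.{0, 0, 0}
  have := @_root_.Function.mapPullback.congr_simp.{0, 0, 0, 0, 0, 0}
  have := @_root_.Function.mapPullback.eq_def.{0, 0, 0, 0, 0, 0}
  have := @_root_.Function.mapPullback.eq_1.{0, 0, 0, 0, 0, 0}
  have := @_root_.Function.Pullback.snd.eq_def.{0, 0, 0}
  have := @_root_.Function.Pullback.snd.eq_1.{0, 0, 0}
  have := @_root_.Function.PullbackSelf.eq_def.{0, 0}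
  have := @_root_.Function.PullbackSelf.eq_1.{0, 0}
  have := @_root_.toPullbackDiag.eq_def.{0, 0}
  have := @_root_.toPullbackDiag.eq_1.{0, 0}
  have := @_root_.Function.Pullback.eq_def.{0, 0, 0}
  have := @_root_.Function.Pullback.eq_1.{0, 0, 0}
  have := @_root_.Function.Pullback.fst.eq_def.{0, 0, 0}
  have := @_root_.Function.Pullback.fst.eq_1.{0, 0, 0}
  have := @_root_.Set.restrict₂.congr_simp.{0, 0}
  have := @_root_.Set.restrict₂.eq_def.{0, 0}
  have := @_root_.Set.restrict₂.eq_1.{0, 0}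
  trivial

theorem m03_8 : True := by
  have := @_root_.Set.domRestrict.eq_def.{0, 0}
  have := @_root_.Set.restrict.eq_def.{0, 0}
  have := @_root_.Set.restrict.eq_1.{0, 0}
  have := @_root_.Set.codRestrict.eq_def.{0, 0}
  have := @_root_.Set.domRestrict₂.congr_simp.{0, 0}
  have := @_root_.Set.domRestrict₂.eq_def.{0, 0}
  have := @_root_.Function.invFunOn.eq_def.{0, 0}
  have := @_root_.ZeroHomClass.mk.congr_simp.{0, 0, 0}
  have := @_root_.AddHom.inverse.congr_simp.{0, 0}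
  have := @_root_.AddHom.inverse.eq_def.{0, 0}
  have := @_root_.ZeroHom.inverse.congr_simp.{0, 0}
  have := @_root_.ZeroHom.inverse.eq_def.{0, 0}
  have := @_root_.ZeroHomClass.toZeroHom.congr_simp.{0, 0, 0}
  have := @_root_.ZeroHomClass.toZeroHom.eq_def.{0, 0, 0}
  have := @_root_.MulHomClass.toMulHom.eq_def.{0, 0, 0}
  have := @_root_.OneHomClass.mk.congr_simp.{0, 0, 0}
  have := @_root_.ZeroHom.id.eq_def.{0}
  have := @_root_.AddHom.id.eq_def.{0}
  have := @_root_.AddMonoidHom.comp.eq_def.{0, 0, 0}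
  have := @_root_.LibraryNote.hom_simp_lemma_priority.eq_def
  have := @_root_.LibraryNote.hom_simp_lemma_priority.eq_1
  have := @_root_.MulHom.id.eq_def.{0}
  have := @_root_.AddMonoid.End.eq_def.{0}
  have := @_root_.MonoidHom.comp.eq_def.{0, 0, 0}
  have := @_root_.MonoidHomClass.toMonoidHom.eq_def.{0, 0, 0}
  have := @_root_.OneHom.comp.eq_def.{0, 0, 0}
  have := @_root_.MulHom.copy.congr_simp.{0, 0}
  have := @_root_.MulHom.copy.eq_def.{0, 0}
  have := @_root_.MonoidHom.toMulHom.eq_def.{0, 0}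
  have := @_root_.MonoidHom.toMulHom.eq_1.{0, 0}
  trivial

theorem m03_9 : True := by
  have := @_root_.MulHom.comp.eq_def.{0, 0, 0}
  have := @_root_.OneHom.copy.congr_simp.{0, 0}
  have := @_root_.OneHom.copy.eq_def.{0, 0}
  have := @_root_.MonoidHom.inverse.congr_simp.{0, 0}
  have := @_root_.MonoidHom.inverse.eq_def.{0, 0}
  have := @_root_.MulHomClass.mk.congr_simp.{0, 0, 0}
  have := @_root_.AddMonoidHom.inverse.congr_simp.{0, 0}
  have := @_root_.AddMonoidHom.inverse.eq_def.{0, 0}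
  have := @_root_.AddHomClass.mk.congr_simp.{0, 0, 0}
  have := @_root_.AddMonoidHom.toAddHom.eq_def.{0, 0}
  have := @_root_.AddMonoidHom.toAddHom.eq_1.{0, 0}
  have := @_root_.AddMonoidHomClass.toAddMonoidHom.eq_def.{0, 0, 0}
  have := @_root_.OneHomClass.toOneHom.congr_simp.{0, 0, 0}
  have := @_root_.OneHomClass.toOneHom.eq_def.{0, 0, 0}
  have := @_root_.AddHomClass.toAddHom.eq_def.{0, 0, 0}
  have := @_root_.OneHom.inverse.congr_simp.{0, 0}
  have := @_root_.OneHom.inverse.eq_def.{0, 0}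
  have := @_root_.ZeroHom.copy.congr_simp.{0, 0}
  have := @_root_.ZeroHom.copy.eq_def.{0, 0}
  have := @_root_.AddHom.copy.congr_simp.{0, 0}
  have := @_root_.AddHom.copy.eq_def.{0, 0}
  have := @_root_.MonoidHom.copy.congr_simp.{0, 0}
  have := @_root_.MonoidHom.copy.eq_def.{0, 0}
  have := @_root_.OneHom.id.eq_def.{0}
  have := @_root_.MonoidHom.id.eq_def.{0}
  have := @_root_.AddMonoidHomClass.mk.congr_simp.{0, 0, 0}
  have := @_root_.MonoidHom.mk'.eq_def.{0, 0}
  have := @_root_.AddMonoidHom.copy.congr_simp.{0, 0}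
  have := @_root_.AddMonoidHom.copy.eq_def.{0, 0}
  have := @_root_.Monoid.End.eq_def.{0}
  trivial

theorem m03_10 : True := by
  have := @_root_.MonoidHomClass.mk.congr_simp.{0, 0, 0}
  have := @_root_.AddMonoidHom.id.eq_def.{0}
  have := @_root_.AddHom.comp.eq_def.{0, 0, 0}
  have := @_root_.ZeroHom.comp.eq_def.{0, 0, 0}
  have := @_root_.AddMonoidHom.mk'.eq_def.{0, 0}
  have := @_root_.MulHom.inverse.eq_def.{0, 0}
  have := @_root_.AddEquiv.toAddHom.eq_def.{0, 0}
  have := @_root_.AddEquiv.toAddHom.eq_1.{0, 0}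
  have := @_root_.AddEquiv.ofBijective.eq_def.{0, 0, 0}
  have := @_root_.AddEquiv.toAddMonoidHom.eq_def.{0, 0}
  have := @_root_.MulEquiv.symmEquiv.eq_def.{0, 0}
  have := @_root_.AddEquiv.trans.eq_def.{0, 0, 0}
  have := @_root_.MulEquiv.toMulHom.eq_def.{0, 0}
  have := @_root_.MulEquiv.toMulHom.eq_1.{0, 0}
  have := @_root_.MulEquivClass.mk.congr_simp.{0, 0, 0}
  have := @_root_.AddEquiv.mk'.eq_def.{0, 0}
  have := @_root_.MulEquiv.cast.congr_simp.{0, 0}
  have := @_root_.MulEquiv.cast.eq_def.{0, 0}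
  have := @_root_.AddMonoid.End.equiv.eq_def.{0}
  have := @_root_.AddMonoidHom.toAddEquiv.eq_def.{0, 0}
  have := @_root_.AddEquivClass.mk.congr_simp.{0, 0, 0}
  have := @_root_.AddEquiv.symm.eq_def.{0, 0}
  have := @_root_.MulEquiv.refl.eq_def.{0}
  have := @_root_.AddEquiv.symmEquiv.eq_def.{0, 0}
  have := @_root_.AddHom.toAddEquiv.congr_simp.{0, 0}
  have := @_root_.AddHom.toAddEquiv.eq_def.{0, 0}
  have := @_root_.Monoid.End.equiv.eq_def.{0}
  have := @_root_.MonoidHom.toMulEquiv.eq_def.{0, 0}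
  have := @_root_.MulEquiv.toMonoidHom.eq_def.{0, 0}
  have := @_root_.MulHom.toMulEquiv.congr_simp.{0, 0}
  trivial

theorem m03_11 : True := by
  have := @_root_.MulHom.toMulEquiv.eq_def.{0, 0}
  have := @_root_.MulEquiv.ofBijective.eq_def.{0, 0, 0}
  have := @_root_.MulEquiv.mk'.congr_simp.{0, 0}
  have := @_root_.MulEquiv.mk'.eq_def.{0, 0}
  have := @_root_.AddEquiv.cast.congr_simp.{0, 0}
  have := @_root_.AddEquiv.cast.eq_def.{0, 0}
  have := @_root_.MulEquivClass.toMulEquiv.eq_def.{0, 0, 0}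
  have := @_root_.MulEquiv.trans.eq_def.{0, 0, 0}
  have := @_root_.AddEquiv.refl.eq_def.{0}
  have := @_root_.MulEquiv.symm.eq_def.{0, 0}
  have := @_root_.AddEquivClass.toAddEquiv.eq_def.{0, 0, 0}
  have := @_root_.Int.le_induction_down.eq_def.{0}
  have := @_root_.Int.le_induction_down.eq_1.{0}
  have := @_root_.Int.pred.eq_def
  have := @_root_.Int.pred.eq_1
  have := @_root_.Int.le_induction.eq_def.{0}
  have := @_root_.Int.le_induction.eq_1.{0}
  have := @_root_.Int.strongRec.eq_def.{0}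
  have := @_root_.Int.natMod.eq_def
  have := @_root_.Int.negInduction.eq_def.{0}
  have := @_root_.Int.negInduction.eq_1.{0}
  have := @_root_.Int.inductionOn'.eq_def.{0}
  have := @_root_.Int.inductionOn'.eq_1.{0}
  have := @_root_.Int.leInductionDown.eq_def.{0}
  have := @_root_.Int.leInduction.eq_def.{0}
  have := @_root_.Int.succ.eq_def
  have := @_root_.Int.inductionOn'.neg.eq_1.{0}
  have := @_root_.negAddMonoidHom.eq_def.{0}
  have := @_root_.MonoidHom.ofMapDiv.congr_simp.{0, 0}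
  have := @_root_.MonoidHom.ofMapDiv.eq_def.{0, 0}
  trivial

theorem m03_12 : True := by
  have := @_root_.AddMonoidHom.ofMapAddNeg.congr_simp.{0, 0}
  have := @_root_.AddMonoidHom.ofMapAddNeg.eq_def.{0, 0}
  have := @_root_.powMonoidHom.eq_def.{0}
  have := @_root_.zsmulAddGroupHom.eq_def.{0}
  have := @_root_.AddMonoidHom.ofMapSub.congr_simp.{0, 0}
  have := @_root_.AddMonoidHom.ofMapSub.eq_def.{0, 0}
  have := @_root_.MonoidHom.ofMapMulInv.congr_simp.{0, 0}
  have := @_root_.MonoidHom.ofMapMulInv.eq_def.{0, 0}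
  have := @_root_.zpowGroupHom.eq_def.{0}
  have := @_root_.MonoidHom.commGroupOfSurjective.congr_simp.{0, 0}
  have := @_root_.MonoidHom.commGroupOfSurjective.eq_def.{0, 0}
  have := @_root_.MonoidHom.commGroupOfSurjective.eq_1.{0, 0}
  have := @_root_.MonoidHom.commGroupOfInjective.congr_simp.{0, 0}
  have := @_root_.MonoidHom.commGroupOfInjective.eq_def.{0, 0}
  have := @_root_.MonoidHom.commGroupOfInjective.eq_1.{0, 0}
  have := @_root_.invMonoidHom.eq_def.{0}
  have := @_root_.nsmulAddMonoidHom.eq_def.{0}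
  have := @_root_.Multiplicative.toAdd.eq_def.{0}
  have := @_root_.Additive.ofMul.eq_def.{0}
  have := @_root_.Multiplicative.ofAdd.eq_def.{0}
  have := @_root_.Multiplicative.eq_def.{0}
  have := @_root_.Multiplicative.eq_1.{0}
  have := @_root_.Additive.toMul.eq_def.{0}
  have := @_root_.Additive.eq_def.{0}
  have := @_root_.Additive.eq_1.{0}
  have := @_root_.AddMonoidHom.toMultiplicativeRightAddEquiv.eq_def.{0, 0}
  have := @_root_.AddMonoidHom.toMultiplicativeRightAddEquiv.eq_1.{0, 0}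
  have := @_root_.AddMonoidHom.toMultiplicativeLeftAddEquiv.eq_def.{0, 0}
  have := @_root_.AddMonoidHom.toMultiplicativeLeftAddEquiv.eq_1.{0, 0}
  have := @_root_.AddMonoidHom.toMultiplicative.eq_def.{0, 0}
  trivial

theorem m03_13 : True := by
  have := @_root_.AddMonoidHom.toMultiplicative.eq_1.{0, 0}
  have := @_root_.MonoidHom.toAdditiveLeft.eq_def.{0, 0}
  have := @_root_.MonoidHom.toAdditiveLeft.eq_1.{0, 0}
  have := @_root_.MonoidHom.toAdditiveRight.eq_def.{0, 0}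
  have := @_root_.MonoidHom.toAdditiveRight.eq_1.{0, 0}
  have := @_root_.AddMonoidHom.toMultiplicativeRight.eq_def.{0, 0}
  have := @_root_.AddMonoidHom.toMultiplicativeRight.eq_1.{0, 0}
  have := @_root_.AddMonoidHom.toMultiplicativeLeft.eq_def.{0, 0}
  have := @_root_.AddMonoidHom.toMultiplicativeLeft.eq_1.{0, 0}
  have := @_root_.MonoidHom.toAdditiveLeftMulEquiv.eq_def.{0, 0}
  have := @_root_.MonoidHom.toAdditiveLeftMulEquiv.eq_1.{0, 0}
  have := @_root_.MonoidHom.toAdditiveRightMulEquiv.eq_def.{0, 0}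
  have := @_root_.MonoidHom.toAdditiveRightMulEquiv.eq_1.{0, 0}
  have := @_root_.MonoidHom.toAdditive.eq_def.{0, 0}
  have := @_root_.MonoidHom.toAdditive.eq_1.{0, 0}
  have := @_root_.MulEquiv.toMultiplicative_toAdditive.eq_def.{0}
  have := @_root_.MulEquiv.toMultiplicative_toAdditive.eq_1.{0}
  have := @_root_.AddEquiv.toMultiplicativeLeft.eq_def.{0, 0}
  have := @_root_.AddEquiv.toMultiplicativeLeft.eq_1.{0, 0}
  have := @_root_.MulEquiv.piMultiplicative.eq_def.{0, 0}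
  have := @_root_.MulEquiv.piMultiplicative.eq_1.{0, 0}
  have := @_root_.MulEquiv.multiplicativeAdditive.eq_def.{0}
  have := @_root_.MulEquiv.multiplicativeAdditive.eq_1.{0}
  have := @_root_.MulEquiv.toAdditiveLeft.eq_def.{0, 0}
  have := @_root_.MulEquiv.toAdditiveLeft.eq_1.{0, 0}
  have := @_root_.MulEquiv.toAdditiveRight.eq_def.{0, 0}
  have := @_root_.MulEquiv.toAdditiveRight.eq_1.{0, 0}
  have := @_root_.AddEquiv.prodAdditive.eq_def.{0, 0}
  have := @_root_.AddEquiv.prodAdditive.eq_1.{0, 0}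
  have := @_root_.addMonoidEndToMultiplicative.eq_def.{0}
  trivial

theorem m03_14 : True := by
  have := @_root_.addMonoidEndToMultiplicative.eq_1.{0}
  have := @_root_.AddEquiv.additiveMultiplicative.eq_def.{0}
  have := @_root_.AddEquiv.additiveMultiplicative.eq_1.{0}
  have := @_root_.AddEquiv.funAdditive.eq_def.{0, 0}
  have := @_root_.AddEquiv.funAdditive.eq_1.{0, 0}
  have := @_root_.MulEquiv.funMultiplicative.eq_def.{0, 0}
  have := @_root_.MulEquiv.funMultiplicative.eq_1.{0, 0}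
  have := @_root_.monoidEndToAdditive.eq_def.{0}
  have := @_root_.monoidEndToAdditive.eq_1.{0}
  have := @_root_.MulEquiv.AddMonoid.End.eq_def.{0}
  have := @_root_.MulEquiv.AddMonoid.End.eq_1.{0}
  have := @_root_.MulEquiv.prodMultiplicative.eq_def.{0, 0}
  have := @_root_.MulEquiv.prodMultiplicative.eq_1.{0, 0}
  have := @_root_.AddEquiv.piAdditive.eq_def.{0, 0}
  have := @_root_.AddEquiv.piAdditive.eq_1.{0, 0}
  have := @_root_.AddEquiv.toMultiplicative.eq_def.{0, 0}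
  have := @_root_.AddEquiv.toMultiplicative.eq_1.{0, 0}
  have := @_root_.AddEquiv.toAdditive_toMultiplicative.eq_def.{0}
  have := @_root_.AddEquiv.toAdditive_toMultiplicative.eq_1.{0}
  have := @_root_.MulEquiv.Monoid.End.eq_def.{0}
  have := @_root_.MulEquiv.Monoid.End.eq_1.{0}
  have := @_root_.MulEquiv.toAdditive.eq_def.{0, 0}
  have := @_root_.MulEquiv.toAdditive.eq_1.{0, 0}
  have := @_root_.AddEquiv.toMultiplicativeRight.eq_def.{0, 0}
  have := @_root_.AddEquiv.toMultiplicativeRight.eq_1.{0, 0}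
  have := @_root_.Function.Surjective.addCommSemigroup.congr_simp.{0, 0}
  have := @_root_.Function.Surjective.addCommSemigroup.eq_def.{0, 0}
  have := @_root_.Function.Injective.subtractionCommMonoid.congr_simp.{0, 0}
  have := @_root_.Function.Injective.subtractionCommMonoid.eq_def.{0, 0}
  have := @_root_.Function.Injective.subNegMonoid.congr_simp.{0, 0}
  trivial

end Cfsg.Rz
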