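import Cfsg.Agent.Rz.M03

/-! Generated file: forces on-demand equation and congruence lemmas to be created once. -/

set_option linter.all false

namespace Cfsg.Rz

theorem m04_0 : True := by
  have := @_root_.Function.Injective.subNegMonoid.eq_def.{0, 0}
  have := @_root_.Function.Injective.addCommGroup.congr_simp.{0, 0}
  have := @_root_.Function.Injective.addCommGroup.eq_def.{0, 0}
  have := @_root_.Function.Injective.addLeftCancelSemigroup.congr_simp.{0, 0}
  have := @_root_.Function.Injective.addLeftCancelSemigroup.eq_def.{0, 0}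
  have := @_root_.Function.Injective.addZeroClass.congr_simp.{0, 0}
  have := @_root_.Function.Injective.addZeroClass.eq_def.{0, 0}
  have := @_root_.Function.Injective.monoid.congr_simp.{0, 0}
  have := @_root_.Function.Injective.monoid.eq_def.{0, 0}
  have := @_root_.Function.Injective.addCancelCommMonoid.congr_simp.{0, 0}
  have := @_root_.Function.Injective.addCancelCommMonoid.eq_def.{0, 0}
  have := @_root_.Function.Surjective.divInvMonoid.congr_simp.{0, 0}
  have := @_root_.Function.Surjective.divInvMonoid.eq_def.{0, 0}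
  have := @_root_.Function.Injective.divisionMonoid.congr_simp.{0, 0}
  have := @_root_.Function.Injective.divisionMonoid.eq_def.{0, 0}
  have := @_root_.Function.Surjective.addSemigroup.congr_simp.{0, 0}
  have := @_root_.Function.Surjective.addSemigroup.eq_def.{0, 0}
  have := @_root_.Function.Surjective.mulOneClass.congr_simp.{0, 0}
  have := @_root_.Function.Surjective.mulOneClass.eq_def.{0, 0}
  have := @_root_.Function.Injective.divInvOneMonoid.congr_simp.{0, 0}
  have := @_root_.Function.Injective.divInvOneMonoid.eq_def.{0, 0}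
  have := @_root_.Function.Injective.involutiveNeg.congr_simp.{0, 0}
  have := @_root_.Function.Injective.involutiveNeg.eq_def.{0, 0}
  have := @_root_.Function.Injective.addMonoid.congr_simp.{0, 0}
  have := @_root_.Function.Injective.addMonoid.eq_def.{0, 0}
  have := @_root_.Function.Injective.addRightCancelSemigroup.congr_simp.{0, 0}
  have := @_root_.Function.Injective.addRightCancelSemigroup.eq_def.{0, 0}
  have := @_root_.Function.Injective.commGroup.congr_simp.{0, 0}
  have := @_root_.Function.Injective.commGroup.eq_def.{0, 0}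
  have := @_root_.Function.Surjective.commMagma.congr_simp.{0, 0}
  trivial

theorem m04_1 : True := by
  have := @_root_.Function.Surjective.commMagma.eq_def.{0, 0}
  have := @_root_.Function.Injective.commMonoid.congr_simp.{0, 0}
  have := @_root_.Function.Injective.commMonoid.eq_def.{0, 0}
  have := @_root_.Function.Injective.divisionCommMonoid.congr_simp.{0, 0}
  have := @_root_.Function.Injective.divisionCommMonoid.eq_def.{0, 0}
  have := @_root_.Function.Injective.semigroup.congr_simp.{0, 0}
  have := @_root_.Function.Injective.semigroup.eq_def.{0, 0}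
  have := @_root_.Function.Surjective.addCommMonoid.congr_simp.{0, 0}
  have := @_root_.Function.Surjective.addCommMonoid.eq_def.{0, 0}
  have := @_root_.Function.Injective.subtractionMonoid.congr_simp.{0, 0}
  have := @_root_.Function.Injective.subtractionMonoid.eq_def.{0, 0}
  have := @_root_.Function.Injective.addCommMagma.congr_simp.{0, 0}
  have := @_root_.Function.Injective.addCommMagma.eq_def.{0, 0}
  have := @_root_.Function.Injective.addCancelMonoid.congr_simp.{0, 0}
  have := @_root_.Function.Injective.addCancelMonoid.eq_def.{0, 0}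
  have := @_root_.Function.Injective.addRightCancelMonoid.congr_simp.{0, 0}
  have := @_root_.Function.Injective.addRightCancelMonoid.eq_def.{0, 0}
  have := @_root_.Function.Surjective.involutiveInv.congr_simp.{0, 0}
  have := @_root_.Function.Surjective.involutiveInv.eq_def.{0, 0}
  have := @_root_.Function.Injective.rightCancelSemigroup.congr_simp.{0, 0}
  have := @_root_.Function.Injective.rightCancelSemigroup.eq_def.{0, 0}
  have := @_root_.Function.Injective.group.congr_simp.{0, 0}
  have := @_root_.Function.Injective.group.eq_def.{0, 0}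
  have := @_root_.Function.Injective.addLeftCancelMonoid.congr_simp.{0, 0}
  have := @_root_.Function.Injective.addLeftCancelMonoid.eq_def.{0, 0}
  have := @_root_.Function.Injective.cancelCommMonoid.congr_simp.{0, 0}
  have := @_root_.Function.Injective.cancelCommMonoid.eq_def.{0, 0}
  have := @_root_.Function.Surjective.commSemigroup.congr_simp.{0, 0}
  have := @_root_.Function.Surjective.commSemigroup.eq_def.{0, 0}
  have := @_root_.Function.Injective.addGroup.congr_simp.{0, 0}
  trivial

theorem m04_2 : True := by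
  have := @_root_.Function.Injective.addGroup.eq_def.{0, 0}
  have := @_root_.Function.Injective.addCommSemigroup.congr_simp.{0, 0}
  have := @_root_.Function.Injective.addCommSemigroup.eq_def.{0, 0}
  have := @_root_.Function.Surjective.addCommGroup.congr_simp.{0, 0}
  have := @_root_.Function.Surjective.addCommGroup.eq_def.{0, 0}
  have := @_root_.Function.Surjective.subNegMonoid.congr_simp.{0, 0}
  have := @_root_.Function.Surjective.subNegMonoid.eq_def.{0, 0}
  have := @_root_.Function.Injective.negZeroClass.congr_simp.{0, 0}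
  have := @_root_.Function.Injective.negZeroClass.eq_def.{0, 0}
  have := @_root_.Function.Surjective.monoid.congr_simp.{0, 0}
  have := @_root_.Function.Surjective.monoid.eq_def.{0, 0}
  have := @_root_.Function.Injective.cancelMonoid.congr_simp.{0, 0}
  have := @_root_.Function.Injective.cancelMonoid.eq_def.{0, 0}
  have := @_root_.Function.Surjective.addZeroClass.congr_simp.{0, 0}
  have := @_root_.Function.Surjective.addZeroClass.eq_def.{0, 0}
  have := @_root_.Function.Injective.divInvMonoid.congr_simp.{0, 0}
  have := @_root_.Function.Injective.divInvMonoid.eq_def.{0, 0}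
  have := @_root_.Function.Injective.leftCancelMonoid.congr_simp.{0, 0}
  have := @_root_.Function.Injective.leftCancelMonoid.eq_def.{0, 0}
  have := @_root_.Function.Injective.addSemigroup.congr_simp.{0, 0}
  have := @_root_.Function.Injective.addSemigroup.eq_def.{0, 0}
  have := @_root_.Function.Injective.mulOneClass.congr_simp.{0, 0}
  have := @_root_.Function.Injective.mulOneClass.eq_def.{0, 0}
  have := @_root_.Function.Surjective.involutiveNeg.congr_simp.{0, 0}
  have := @_root_.Function.Surjective.involutiveNeg.eq_def.{0, 0}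
  have := @_root_.Function.Surjective.addMonoid.congr_simp.{0, 0}
  have := @_root_.Function.Surjective.addMonoid.eq_def.{0, 0}
  have := @_root_.Function.Surjective.commGroup.congr_simp.{0, 0}
  have := @_root_.Function.Surjective.commGroup.eq_def.{0, 0}
  have := @_root_.Function.Injective.leftCancelSemigroup.congr_simp.{0, 0}
  trivial

theorem m04_3 : True := by
  have := @_root_.Function.Injective.leftCancelSemigroup.eq_def.{0, 0}
  have := @_root_.Function.Surjective.commMonoid.congr_simp.{0, 0}
  have := @_root_.Function.Surjective.commMonoid.eq_def.{0, 0}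
  have := @_root_.Function.Injective.commMagma.congr_simp.{0, 0}
  have := @_root_.Function.Injective.commMagma.eq_def.{0, 0}
  have := @_root_.Function.Surjective.semigroup.congr_simp.{0, 0}
  have := @_root_.Function.Surjective.semigroup.eq_def.{0, 0}
  have := @_root_.Function.Injective.rightCancelMonoid.congr_simp.{0, 0}
  have := @_root_.Function.Injective.rightCancelMonoid.eq_def.{0, 0}
  have := @_root_.Function.Surjective.addCommMagma.congr_simp.{0, 0}
  have := @_root_.Function.Surjective.addCommMagma.eq_def.{0, 0}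
  have := @_root_.Function.Injective.addCommMonoid.congr_simp.{0, 0}
  have := @_root_.Function.Injective.addCommMonoid.eq_def.{0, 0}
  have := @_root_.Function.Injective.involutiveInv.congr_simp.{0, 0}
  have := @_root_.Function.Injective.involutiveInv.eq_def.{0, 0}
  have := @_root_.Function.Injective.commSemigroup.congr_simp.{0, 0}
  have := @_root_.Function.Injective.commSemigroup.eq_def.{0, 0}
  have := @_root_.Function.Surjective.group.congr_simp.{0, 0}
  have := @_root_.Function.Surjective.group.eq_def.{0, 0}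
  have := @_root_.Function.Injective.subNegZeroMonoid.congr_simp.{0, 0}
  have := @_root_.Function.Injective.subNegZeroMonoid.eq_def.{0, 0}
  have := @_root_.Function.Injective.invOneClass.congr_simp.{0, 0}
  have := @_root_.Function.Injective.invOneClass.eq_def.{0, 0}
  have := @_root_.Function.Surjective.addGroup.congr_simp.{0, 0}
  have := @_root_.Function.Surjective.addGroup.eq_def.{0, 0}
  have := @_root_.IsAddUnit.addUnit.congr_simp.{0}
  have := @_root_.IsAddUnit.addUnit.eq_def.{0}
  have := @_root_.IsAddUnit.eq_def.{0}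
  have := @_root_.divp.eq_def.{0}
  have := @_root_.invOfIsUnit.congr_simp.{0}
  trivial

theorem m04_4 : True := by
  have := @_root_.invOfIsUnit.eq_def.{0}
  have := @_root_.invOfIsUnit.eq_1.{0}
  have := @_root_.AddUnits.copy.congr_simp.{0}
  have := @_root_.AddUnits.copy.eq_def.{0}
  have := @_root_.Units.mkOfMulEqOne.eq_def.{0}
  have := @_root_.commGroupOfIsUnit.congr_simp.{0}
  have := @_root_.commGroupOfIsUnit.eq_def.{0}
  have := @_root_.commGroupOfIsUnit.eq_1.{0}
  have := @_root_.IsUnit.unit.eq_def.{0}
  have := @_root_.IsUnit.unit'.eq_def.{0}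
  have := @_root_.IsUnit.eq_def.{0}
  have := @_root_.AddUnits.mkOfAddEqZero.congr_simp.{0}
  have := @_root_.AddUnits.mkOfAddEqZero.eq_def.{0}
  have := @_root_.groupOfIsUnit.congr_simp.{0}
  have := @_root_.groupOfIsUnit.eq_def.{0}
  have := @_root_.groupOfIsUnit.eq_1.{0}
  have := @_root_.Units.copy.eq_def.{0}
  have := @_root_.IsAddUnit.addUnit'.congr_simp.{0}
  have := @_root_.IsAddUnit.addUnit'.eq_def.{0}
  have := @_root_.IsUnit.liftRight.eq_def.{0, 0}
  have := @_root_.AddUnits.coeHom.eq_def.{0}
  have := @_root_.Units.liftRight.eq_def.{0, 0}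
  have := @_root_.Units.coeHom.eq_def.{0}
  have := @_root_.AddUnits.liftRight.congr_simp.{0, 0}
  have := @_root_.AddUnits.liftRight.eq_def.{0, 0}
  have := @_root_.IsLocalHom.mk.congr_simp.{0, 0, 0}
  have := @_root_.MonoidHom.toHomUnitsMulEquiv.eq_def.{0, 0}
  have := @_root_.MonoidHom.toHomUnitsMulEquiv.eq_1.{0, 0}
  have := @_root_.Units.map.eq_def.{0, 0}
  have := @_root_.AddMonoidHom.toHomAddUnits.eq_def.{0, 0}
  trivial

theorem m04_5 : True := by
  have := @_root_.MonoidHom.toHomUnits.eq_def.{0, 0}
  have := @_root_.AddUnits.map.eq_def.{0, 0}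
  have := @_root_.IsAddUnit.liftRight.congr_simp.{0, 0}
  have := @_root_.IsAddUnit.liftRight.eq_def.{0, 0}
  have := @_root_.MulEquiv.prodAssoc.eq_def.{0, 0, 0}
  have := @_root_.AddHom.prodMap.eq_def.{0, 0, 0, 0}
  have := @_root_.MulEquiv.prodCongr.eq_def.{0, 0, 0, 0}
  have := @_root_.MonoidHom.fst.eq_def.{0, 0}
  have := @_root_.MulEquiv.prodUnique.eq_def.{0, 0}
  have := @_root_.MulHom.fst.eq_def.{0, 0}
  have := @_root_.AddMonoidHom.inr.eq_def.{0, 0}
  have := @_root_.MulEquiv.prodUnits.eq_def.{0, 0}
  have := @_root_.AddMonoidHom.fst.eq_def.{0, 0}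
  have := @_root_.AddHom.prod.eq_def.{0, 0, 0}
  have := @_root_.divMonoidHom.eq_def.{0}
  have := @_root_.AddEquiv.uniqueProd.eq_def.{0, 0}
  have := @_root_.MulEquiv.prodComm.eq_def.{0, 0}
  have := @_root_.MulHom.prod.eq_def.{0, 0, 0}
  have := @_root_.MonoidHom.inr.eq_def.{0, 0}
  have := @_root_.AddEquiv.prodCongr.eq_def.{0, 0, 0, 0}
  have := @_root_.AddMonoidHom.snd.eq_def.{0, 0}
  have := @_root_.Units.embedProduct.eq_def.{0}
  have := @_root_.AddUnits.embedProduct.eq_def.{0}
  have := @_root_.AddMonoidHom.prodMap.eq_def.{0, 0, 0, 0}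
  have := @_root_.AddEquiv.prodProdProdComm.eq_def.{0, 0, 0, 0}
  have := @_root_.AddHom.snd.eq_def.{0, 0}
  have := @_root_.MonoidHom.snd.eq_def.{0, 0}
  have := @_root_.mulMulHom.eq_def.{0}
  have := @_root_.addAddHom.eq_def.{0}
  have := @_root_.MulHom.prodMap.eq_def.{0, 0, 0, 0}
  trivial

theorem m04_6 : True := by
  have := @_root_.AddEquiv.prodAssoc.eq_def.{0, 0, 0}
  have := @_root_.MulHom.coprod.eq_def.{0, 0, 0}
  have := @_root_.addAddMonoidHom.eq_def.{0}
  have := @_root_.MonoidHom.prodMap.eq_def.{0, 0, 0, 0}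
  have := @_root_.MulHom.snd.eq_def.{0, 0}
  have := @_root_.AddMonoidHom.inl.eq_def.{0, 0}
  have := @_root_.MonoidHom.coprod.eq_def.{0, 0, 0}
  have := @_root_.AddHom.coprod.eq_def.{0, 0, 0}
  have := @_root_.AddEquiv.prodComm.eq_def.{0, 0}
  have := @_root_.MulEquiv.uniqueProd.eq_def.{0, 0}
  have := @_root_.AddEquiv.prodAddUnits.eq_def.{0, 0}
  have := @_root_.AddMonoidHom.prod.eq_def.{0, 0, 0}
  have := @_root_.subAddMonoidHom.eq_def.{0}
  have := @_root_.AddHom.fst.eq_def.{0, 0}
  have := @_root_.MonoidHom.inl.eq_def.{0, 0}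
  have := @_root_.AddEquiv.prodUnique.eq_def.{0, 0}
  have := @_root_.AddMonoidHom.coprod.eq_def.{0, 0, 0}
  have := @_root_.MonoidHom.prod.eq_def.{0, 0, 0}
  have := @_root_.mulMonoidHom.eq_def.{0}
  have := @_root_.MulEquiv.prodProdProdComm.eq_def.{0, 0, 0, 0}
  have := @_root_.MulEquiv.ofUnique.eq_def.{0, 0}
  have := @_root_.AddEquiv.addMonoidHomCongrLeft.eq_def.{0, 0, 0}
  have := @_root_.MulEquiv.piUnique.eq_def.{0, 0}
  have := @_root_.MulEquiv.monoidHomCongrLeft.eq_def.{0, 0, 0}
  have := @_root_.AddEquiv.addMonoidHomCongrRight.eq_def.{0, 0, 0}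
  have := @_root_.AddEquiv.addMonoidHomCongrLeftEquiv.eq_def.{0, 0, 0}
  have := @_root_.MulEquiv.piCongrRight.eq_def.{0, 0, 0}
  have := @_root_.AddEquiv.piUnique.eq_def.{0, 0}
  have := @_root_.MulEquiv.monoidHomCongrLeftEquiv.eq_def.{0, 0, 0}
  have := @_root_.Equiv.inv.eq_def.{0}
  trivial

theorem m04_7 : True := by
  have := @_root_.AddEquiv.funUnique.eq_def.{0, 0}
  have := @_root_.AddEquiv.arrowCongr.eq_def.{0, 0, 0, 0}
  have := @_root_.AddEquiv.ofUnique.eq_def.{0, 0}
  have := @_root_.Equiv.neg.eq_def.{0}
  have := @_root_.AddEquiv.addMonoidHomCongrRightEquiv.eq_def.{0, 0, 0}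
  have := @_root_.AddEquiv.piCongrRight.eq_def.{0, 0, 0}
  have := @_root_.MulEquiv.monoidHomCongrRight.eq_def.{0, 0, 0}
  have := @_root_.MulEquiv.monoidHomCongrRightEquiv.eq_def.{0, 0, 0}
  have := @_root_.MulEquiv.arrowCongr.eq_def.{0, 0, 0, 0}
  have := @_root_.MulEquiv.funUnique.eq_def.{0, 0}
  have := @_root_.Equiv.subRight.eq_def.{0}
  have := @_root_.toAddUnits.eq_def.{0}
  have := @_root_.Units.mulRight.eq_def.{0}
  have := @_root_.toUnits.eq_def.{0}
  have := @_root_.Equiv.addRight.eq_def.{0}
  have := @_root_.Equiv.divLeft.eq_def.{0}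
  have := @_root_.Equiv.subLeft.eq_def.{0}
  have := @_root_.Equiv.divRight.eq_def.{0}
  have := @_root_.Equiv.mulLeft.eq_def.{0}
  have := @_root_.MulEquiv.inv.eq_def.{0}
  have := @_root_.AddUnits.addLeft.eq_def.{0}
  have := @_root_.Units.mulLeft.eq_def.{0}
  have := @_root_.Units.mapEquiv.eq_def.{0, 0}
  have := @_root_.Units.mapEquiv.eq_1.{0, 0}
  have := @_root_.AddEquiv.neg.eq_def.{0}
  have := @_root_.Equiv.mulRight.eq_def.{0}
  have := @_root_.Equiv.addLeft.eq_def.{0}
  have := @_root_.unitsEquivProdSubtype.eq_def.{0}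
  have := @_root_.unitsEquivProdSubtype.eq_1.{0}
  have := @_root_.AddUnits.addRight.eq_def.{0}
  trivial

theorem m04_8 : True := by
  have := @_root_.Equiv.Perm.ofSubtype.eq_def.{0}
  have := @_root_.MulAut.toPerm.eq_def.{0}
  have := @_root_.MulAut.toPerm.eq_1.{0}
  have := @_root_.Equiv.Perm.sumCongrHom.eq_def.{0, 0}
  have := @_root_.Equiv.Perm.sumCongrHom.eq_1.{0, 0}
  have := @_root_.Equiv.Perm.subtypeEquivSubtypePerm.eq_def.{0}
  have := @_root_.MulAutMultiplicative.eq_def.{0}
  have := @_root_.MulAutMultiplicative.eq_1.{0}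
  have := @_root_.MulAut.eq_def.{0}
  have := @_root_.Equiv.permCongrHom.eq_def.{0, 0}
  have := @_root_.Equiv.permCongrHom.eq_1.{0, 0}
  have := @_root_.Equiv.Perm.equivUnitsEnd.eq_def.{0}
  have := @_root_.Equiv.Perm.equivUnitsEnd.eq_1.{0}
  have := @_root_.Equiv.Perm.subtypeCongrHom.eq_def.{0}
  have := @_root_.Equiv.Perm.subtypeCongrHom.eq_1.{0}
  have := @_root_.Equiv.Perm.subtypePerm.eq_def.{0}
  have := @_root_.Equiv.Perm.subtypePerm.eq_1.{0}
  have := @_root_.Function.End.eq_def.{0}
  have := @_root_.Function.End.eq_1.{0}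
  have := @_root_.MulAut.congr.eq_def.{0, 0}
  have := @_root_.MulAut.conj.eq_def.{0}
  have := @_root_.Equiv.Perm.extendDomainHom.congr_simp.{0, 0}
  have := @_root_.Equiv.Perm.extendDomainHom.eq_def.{0, 0}
  have := @_root_.Equiv.Perm.extendDomainHom.eq_1.{0, 0}
  have := @_root_.AddAut.addConj.eq_def.{0}
  have := @_root_.AddAut.congr.eq_def.{0, 0}
  have := @_root_.MonoidHom.toHomPerm.eq_def.{0, 0}
  have := @_root_.MonoidHom.toHomPerm.eq_1.{0, 0}
  have := @_root_.AddAut.eq_def.{0}
  have := @_root_.AddAut.conj.eq_def.{0}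
  trivial

theorem m04_9 : True := by
  have := @_root_.AddAut.conj.eq_1.{0}
  have := @_root_.Equiv.Perm.sigmaCongrRightHom.eq_def.{0, 0}
  have := @_root_.Equiv.Perm.sigmaCongrRightHom.eq_1.{0, 0}
  have := @_root_.AddAutAdditive.eq_def.{0}
  have := @_root_.AddAutAdditive.eq_1.{0}
  have := @_root_.AddAut.toPerm.eq_def.{0}
  have := @_root_.AddAut.toPerm.eq_1.{0}
  have := @_root_.IsCancelMulZero.mk.congr_simp.{0}
  have := @_root_.CommGroupWithZero.mk.congr_simp.{0}
  have := @_root_.CancelMonoidWithZero.mk.congr_simp.{0}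
  have := @_root_.MulZeroOneClass.mk.congr_simp.{0}
  have := @_root_.SemigroupWithZero.mk.congr_simp.{0}
  have := @_root_.MulDivCancelClass.mk.congr_simp.{0}
  have := @_root_.NoZeroDivisors.mk.congr_simp.{0}
  have := @_root_.IsRightCancelMulZero.mk.congr_simp.{0}
  have := @_root_.CancelCommMonoidWithZero.mk.congr_simp.{0}
  have := @_root_.MulZeroClass.mk.congr_simp.{0}
  have := @_root_.MonoidWithZero.mk.congr_simp.{0}
  have := @_root_.IsLeftCancelMulZero.mk.congr_simp.{0}
  have := @_root_.CommMonoidWithZero.mk.congr_simp.{0}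
  have := @_root_.GroupWithZero.mk.congr_simp.{0}
  have := @_root_.IsReduced.mk.congr_simp.{0}
  have := @_root_.IsNilpotent.eq_def.{0}
  have := @_root_.uniqueOfZeroEqOne.congr_simp.{0}
  have := @_root_.uniqueOfZeroEqOne.eq_def.{0}
  have := @_root_.uniqueOfZeroEqOne.eq_1.{0}
  have := @_root_.MonoidWithZeroHom.comp.eq_def.{0, 0, 0}
  have := @_root_.MonoidWithZeroHom.comp.eq_1.{0, 0, 0}
  have := @_root_.MonoidWithZeroHom.ofClass.eq_def.{0, 0, 0}
  have := @_root_.MonoidWithZeroHom.ofClass.eq_1.{0, 0, 0}
  trivial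

theorem m04_10 : True := by
  have := @_root_.powMonoidWithZeroHom.congr_simp.{0}
  have := @_root_.powMonoidWithZeroHom.eq_def.{0}
  have := @_root_.powMonoidWithZeroHom.eq_1.{0}
  have := @_root_.MonoidWithZeroHomClass.mk.congr_simp.{0, 0, 0}
  have := @_root_.MonoidWithZeroHom.toMonoidHom.eq_def.{0, 0}
  have := @_root_.MonoidWithZeroHom.toMonoidHom.eq_1.{0, 0}
  have := @_root_.MonoidWithZeroHom.copy.congr_simp.{0, 0}
  have := @_root_.MonoidWithZeroHom.copy.eq_def.{0, 0}
  have := @_root_.MonoidWithZeroHom.copy.eq_1.{0, 0}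
  have := @_root_.MonoidWithZeroHom.id.eq_def.{0}
  have := @_root_.MonoidWithZeroHom.id.eq_1.{0}
  have := @_root_.Function.Injective.monoidWithZero.congr_simp.{0, 0}
  have := @_root_.Function.Injective.monoidWithZero.eq_def.{0, 0}
  have := @_root_.Function.Injective.monoidWithZero.eq_1.{0, 0}
  have := @_root_.Function.Surjective.mulZeroClass.congr_simp.{0, 0}
  have := @_root_.Function.Surjective.mulZeroClass.eq_def.{0, 0}
  have := @_root_.Function.Surjective.mulZeroClass.eq_1.{0, 0}
  have := @_root_.Function.Surjective.semigroupWithZero.congr_simp.{0, 0}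
  have := @_root_.Function.Surjective.semigroupWithZero.eq_def.{0, 0}
  have := @_root_.Function.Surjective.semigroupWithZero.eq_1.{0, 0}
  have := @_root_.Function.Surjective.commMonoidWithZero.congr_simp.{0, 0}
  have := @_root_.Function.Surjective.commMonoidWithZero.eq_def.{0, 0}
  have := @_root_.Function.Surjective.commMonoidWithZero.eq_1.{0, 0}
  have := @_root_.Function.Injective.commGroupWithZero.congr_simp.{0, 0}
  have := @_root_.Function.Injective.commGroupWithZero.eq_def.{0, 0}
  have := @_root_.Function.Injective.commGroupWithZero.eq_1.{0, 0}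
  have := @_root_.Function.Injective.mulZeroOneClass.congr_simp.{0, 0}
  have := @_root_.Function.Injective.mulZeroOneClass.eq_def.{0, 0}
  have := @_root_.Function.Injective.mulZeroOneClass.eq_1.{0, 0}
  have := @_root_.Function.Injective.groupWithZero.congr_simp.{0, 0}
  trivial

theorem m04_11 : True := by
  have := @_root_.Function.Injective.groupWithZero.eq_def.{0, 0}
  have := @_root_.Function.Injective.groupWithZero.eq_1.{0, 0}
  have := @_root_.Function.Surjective.monoidWithZero.congr_simp.{0, 0}
  have := @_root_.Function.Surjective.monoidWithZero.eq_def.{0, 0}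
  have := @_root_.Function.Surjective.monoidWithZero.eq_1.{0, 0}
  have := @_root_.Function.Injective.mulZeroClass.congr_simp.{0, 0}
  have := @_root_.Function.Injective.mulZeroClass.eq_def.{0, 0}
  have := @_root_.Function.Injective.mulZeroClass.eq_1.{0, 0}
  have := @_root_.Function.Injective.semigroupWithZero.congr_simp.{0, 0}
  have := @_root_.Function.Injective.semigroupWithZero.eq_def.{0, 0}
  have := @_root_.Function.Injective.semigroupWithZero.eq_1.{0, 0}
  have := @_root_.Function.Injective.commMonoidWithZero.congr_simp.{0, 0}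
  have := @_root_.Function.Injective.commMonoidWithZero.eq_def.{0, 0}
  have := @_root_.Function.Injective.commMonoidWithZero.eq_1.{0, 0}
  have := @_root_.Function.Surjective.commGroupWithZero.congr_simp.{0, 0}
  have := @_root_.Function.Surjective.commGroupWithZero.eq_def.{0, 0}
  have := @_root_.Function.Surjective.commGroupWithZero.eq_1.{0, 0}
  have := @_root_.Function.Surjective.mulZeroOneClass.congr_simp.{0, 0}
  have := @_root_.Function.Surjective.mulZeroOneClass.eq_def.{0, 0}
  have := @_root_.Function.Surjective.mulZeroOneClass.eq_1.{0, 0}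
  have := @_root_.Function.Surjective.groupWithZero.congr_simp.{0, 0}
  have := @_root_.Function.Surjective.groupWithZero.eq_def.{0, 0}
  have := @_root_.Function.Surjective.groupWithZero.eq_1.{0, 0}
  have := @_root_.Function.Surjective.smulZeroClassLeft.congr_simp.{0, 0, 0}
  have := @_root_.Function.Surjective.smulZeroClassLeft.eq_def.{0, 0, 0}
  have := @_root_.Function.Surjective.smulZeroClassLeft.eq_1.{0, 0, 0}
  have := @_root_.DistribMulAction.mk.congr_simp.{0, 0}
  have := @_root_.Function.Injective.mulActionWithZero.congr_simp.{0, 0, 0}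
  have := @_root_.Function.Injective.mulActionWithZero.eq_def.{0, 0, 0}
  have := @_root_.Function.Injective.mulActionWithZero.eq_1.{0, 0, 0}
  trivial

theorem m04_12 : True := by
  have := @_root_.Function.Surjective.distribSMulLeft.congr_simp.{0, 0, 0}
  have := @_root_.Function.Surjective.distribSMulLeft.eq_def.{0, 0, 0}
  have := @_root_.Function.Surjective.distribSMulLeft.eq_1.{0, 0, 0}
  have := @_root_.DistribMulAction.toAddMonoidEnd.eq_def.{0, 0}
  have := @_root_.DistribMulAction.toAddMonoidEnd.eq_1.{0, 0}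
  have := @_root_.Function.Injective.smulWithZero.congr_simp.{0, 0, 0}
  have := @_root_.Function.Injective.smulWithZero.eq_def.{0, 0, 0}
  have := @_root_.Function.Injective.smulWithZero.eq_1.{0, 0, 0}
  have := @_root_.MulActionWithZero.mk.congr_simp.{0, 0}
  have := @_root_.Function.Surjective.distribMulAction.congr_simp.{0, 0, 0}
  have := @_root_.Function.Surjective.distribMulAction.eq_def.{0, 0, 0}
  have := @_root_.Function.Surjective.distribMulAction.eq_1.{0, 0, 0}
  have := @_root_.Function.Injective.smulZeroClass.congr_simp.{0, 0, 0}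
  have := @_root_.Function.Injective.smulZeroClass.eq_def.{0, 0, 0}
  have := @_root_.Function.Injective.smulZeroClass.eq_1.{0, 0, 0}
  have := @_root_.Function.Injective.distribSMul.congr_simp.{0, 0, 0}
  have := @_root_.Function.Injective.distribSMul.eq_def.{0, 0, 0}
  have := @_root_.Function.Injective.distribSMul.eq_1.{0, 0, 0}
  have := @_root_.DistribSMul.compFun.eq_def.{0, 0, 0}
  have := @_root_.DistribSMul.compFun.eq_1.{0, 0, 0}
  have := @_root_.SMulWithZero.mk.congr_simp.{0, 0}
  have := @_root_.SMulZeroClass.toZeroHom.eq_def.{0, 0}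
  have := @_root_.SMulZeroClass.toZeroHom.eq_1.{0, 0}
  have := @_root_.MulActionWithZero.compHom.eq_def.{0, 0, 0}
  have := @_root_.MulActionWithZero.compHom.eq_1.{0, 0, 0}
  have := @_root_.SMulZeroClass.mk.congr_simp.{0, 0}
  have := @_root_.DistribSMul.toAddMonoidHom.eq_def.{0, 0}
  have := @_root_.DistribSMul.toAddMonoidHom.eq_1.{0, 0}
  have := @_root_.Function.Surjective.mulActionWithZero.congr_simp.{0, 0, 0}
  have := @_root_.Function.Surjective.mulActionWithZero.eq_def.{0, 0, 0}
  trivial

theorem m04_13 : True := by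
  have := @_root_.Function.Surjective.mulActionWithZero.eq_1.{0, 0, 0}
  have := @_root_.Function.Surjective.smulWithZero.congr_simp.{0, 0, 0}
  have := @_root_.Function.Surjective.smulWithZero.eq_def.{0, 0, 0}
  have := @_root_.Function.Surjective.smulWithZero.eq_1.{0, 0, 0}
  have := @_root_.Function.Injective.distribMulAction.congr_simp.{0, 0, 0}
  have := @_root_.Function.Injective.distribMulAction.eq_def.{0, 0, 0}
  have := @_root_.Function.Injective.distribMulAction.eq_1.{0, 0, 0}
  have := @_root_.SMulZeroClass.compFun.eq_def.{0, 0, 0}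
  have := @_root_.SMulZeroClass.compFun.eq_1.{0, 0, 0}
  have := @_root_.SMulWithZero.compHom.eq_def.{0, 0, 0}
  have := @_root_.SMulWithZero.compHom.eq_1.{0, 0, 0}
  have := @_root_.ZeroHom.smulZeroClass.congr_simp.{0, 0, 0}
  have := @_root_.ZeroHom.smulZeroClass.eq_def.{0, 0, 0}
  have := @_root_.ZeroHom.smulZeroClass.eq_1.{0, 0, 0}
  have := @_root_.Function.Surjective.distribSMul.congr_simp.{0, 0, 0}
  have := @_root_.Function.Surjective.distribSMul.eq_def.{0, 0, 0}
  have := @_root_.Function.Surjective.distribSMul.eq_1.{0, 0, 0}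
  have := @_root_.DistribSMul.mk.congr_simp.{0, 0}
  have := @_root_.DistribMulAction.toAddMonoidHom.eq_def.{0, 0}
  have := @_root_.DistribMulAction.toAddMonoidHom.eq_1.{0, 0}
  have := @_root_.AddMonoidWithOne.unary.eq_def.{0}
  have := @_root_.AddMonoidWithOne.unary.eq_1.{0}
  have := @_root_.AddMonoidWithOne.binary.eq_def.{0}
  have := @_root_.AddMonoidWithOne.binary.eq_1.{0}
  have := @_root_.AddMonoidWithOne.mk.congr_simp.{0}
  have := @_root_.AddCommMonoidWithOne.mk.congr_simp.{0}
  have := @_root_.AddGroupWithOne.mk.congr_simp.{0}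
  have := @_root_.AddCommGroupWithOne.mk.congr_simp.{0}
  have := @_root_.Int.castDef.eq_def.{0}
  have := @_root_.NonUnitalRing.mk.congr_simp.{0}
  trivial

theorem m04_14 : True := by
  have := @_root_.Semiring.mk.congr_simp.{0}
  have := @_root_.NonUnitalNonAssocCommSemiring.mk.congr_simp.{0}
  have := @_root_.IsMulCommutative.instNonAssocCommSemiring.congr_simp.{0}
  have := @_root_.IsMulCommutative.instNonAssocCommSemiring.eq_def.{0}
  have := @_root_.IsMulCommutative.instNonAssocCommSemiring.eq_1.{0}
  have := @_root_.HasDistribNeg.mk.congr_simp.{0}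
  have := @_root_.CommSemiring.mk.congr_simp.{0}
  have := @_root_.Distrib.mk.congr_simp.{0}
  have := @_root_.NonUnitalNonAssocCommRing.mk.congr_simp.{0}
  have := @_root_.IsMulCommutative.instCommRing.congr_simp.{0}
  have := @_root_.IsMulCommutative.instCommRing.eq_def.{0}
  have := @_root_.IsMulCommutative.instCommRing.eq_1.{0}
  have := @_root_.NonUnitalNonAssocRing.mk.congr_simp.{0}
  have := @_root_.NonUnitalNonAssocSemiring.mk.congr_simp.{0}
  have := @_root_.CommRing.mk.congr_simp.{0}
  have := @_root_.NonAssocSemiring.mk.congr_simp.{0}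
  have := @_root_.LeftDistribClass.mk.congr_simp.{0}
  have := @_root_.IsMulCommutative.instNonUnitalNonAssocCommSemiring.congr_simp.{0}
  have := @_root_.IsMulCommutative.instNonUnitalNonAssocCommSemiring.eq_def.{0}
  have := @_root_.IsMulCommutative.instNonUnitalNonAssocCommSemiring.eq_1.{0}
  have := @_root_.IsMulCommutative.instNonUnitalCommSemiring.congr_simp.{0}
  have := @_root_.IsMulCommutative.instNonUnitalCommSemiring.eq_def.{0}
  have := @_root_.IsMulCommutative.instNonUnitalCommSemiring.eq_1.{0}
  have := @_root_.IsMulCommutative.instCommSemiring.congr_simp.{0}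
  have := @_root_.IsMulCommutative.instCommSemiring.eq_def.{0}
  have := @_root_.IsMulCommutative.instCommSemiring.eq_1.{0}
  have := @_root_.NonAssocCommSemiring.mk.congr_simp.{0}
  have := @_root_.NonAssocCommRing.mk.congr_simp.{0}
  have := @_root_.IsDomain.mk.congr_simp.{0}
  have := @_root_.NonUnitalSemiring.mk.congr_simp.{0}
  trivial

end Cfsg.Rz
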