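import Cfsg.Agent.Rz.M04

/-! Generated file: forces on-demand equation and congruence lemmas to be created once. -/

set_option linter.all false

namespace Cfsg.Rz

theorem m05_0 : True := by
  have := @_root_.NonAssocRing.mk.congr_simp.{0}
  have := @_root_.NonUnitalCommRing.mk.congr_simp.{0}
  have := @_root_.IsMulCommutative.instNonUnitalNonAssocCommRing.congr_simp.{0}
  have := @_root_.IsMulCommutative.instNonUnitalNonAssocCommRing.eq_def.{0}
  have := @_root_.IsMulCommutative.instNonUnitalNonAssocCommRing.eq_1.{0}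
  have := @_root_.IsMulCommutative.instNonUnitalCommRing.congr_simp.{0}
  have := @_root_.IsMulCommutative.instNonUnitalCommRing.eq_def.{0}
  have := @_root_.IsMulCommutative.instNonUnitalCommRing.eq_1.{0}
  have := @_root_.NonUnitalCommSemiring.mk.congr_simp.{0}
  have := @_root_.Ring.mk.congr_simp.{0}
  have := @_root_.RightDistribClass.mk.congr_simp.{0}
  have := @_root_.IsMulCommutative.instNonAssocCommRing.congr_simp.{0}
  have := @_root_.IsMulCommutative.instNonAssocCommRing.eq_def.{0}
  have := @_root_.IsMulCommutative.instNonAssocCommRing.eq_1.{0}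
  have := @_root_.AddOpposite.opMulEquiv.eq_def.{0}
  have := @_root_.AddOpposite.opMulEquiv.eq_1.{0}
  have := @_root_.AddMonoidHom.mulOp.eq_def.{0, 0}
  have := @_root_.AddMonoidHom.mulOp.eq_1.{0, 0}
  have := @_root_.AddEquiv.neg'.eq_def.{0}
  have := @_root_.AddEquiv.op.eq_def.{0, 0}
  have := @_root_.AddEquiv.unop.eq_def.{0, 0}
  have := @_root_.AddEquiv.mulUnop.eq_def.{0, 0}
  have := @_root_.MulEquiv.opOp.eq_def.{0}
  have := @_root_.AddMonoidHom.fromOpposite.congr_simp.{0, 0}
  have := @_root_.AddMonoidHom.fromOpposite.eq_def.{0, 0}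
  have := @_root_.AddHom.toOpposite.congr_simp.{0, 0}
  have := @_root_.AddHom.toOpposite.eq_def.{0, 0}
  have := @_root_.MulEquiv.inv'.eq_def.{0}
  have := @_root_.MulOpposite.opMulEquiv.eq_def.{0}
  have := @_root_.AddHom.fromOpposite.congr_simp.{0, 0}
  trivial

theorem m05_1 : True := by
  have := @_root_.AddHom.fromOpposite.eq_def.{0, 0}
  have := @_root_.MonoidHom.fromOpposite.congr_simp.{0, 0}
  have := @_root_.MonoidHom.fromOpposite.eq_def.{0, 0}
  have := @_root_.AddHom.unop.eq_def.{0, 0}
  have := @_root_.MulEquiv.op.eq_def.{0, 0}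
  have := @_root_.MonoidHom.op.eq_def.{0, 0}
  have := @_root_.AddHom.op.eq_def.{0, 0}
  have := @_root_.AddHom.mulOp.eq_def.{0, 0}
  have := @_root_.AddHom.mulOp.eq_1.{0, 0}
  have := @_root_.AddEquiv.mulOp.eq_def.{0, 0}
  have := @_root_.AddEquiv.mulOp.eq_1.{0, 0}
  have := @_root_.MulOpposite.opAddEquiv.eq_def.{0}
  have := @_root_.MulOpposite.opAddEquiv.eq_1.{0}
  have := @_root_.AddMonoidHom.op.eq_def.{0, 0}
  have := @_root_.MonoidHom.toOpposite.congr_simp.{0, 0}
  have := @_root_.MonoidHom.toOpposite.eq_def.{0, 0}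
  have := @_root_.AddMonoidHom.unop.eq_def.{0, 0}
  have := @_root_.MulHom.toOpposite.congr_simp.{0, 0}
  have := @_root_.MulHom.toOpposite.eq_def.{0, 0}
  have := @_root_.AddMonoidHom.mulUnop.eq_def.{0, 0}
  have := @_root_.AddOpposite.opAddEquiv.eq_def.{0}
  have := @_root_.MonoidHom.unop.eq_def.{0, 0}
  have := @_root_.MulEquiv.unop.eq_def.{0, 0}
  have := @_root_.AddMonoidHom.toOpposite.congr_simp.{0, 0}
  have := @_root_.AddMonoidHom.toOpposite.eq_def.{0, 0}
  have := @_root_.MulHom.unop.eq_def.{0, 0}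
  have := @_root_.AddHom.mulUnop.eq_def.{0, 0}
  have := @_root_.AddEquiv.opOp.eq_def.{0}
  have := @_root_.MulHom.op.eq_def.{0, 0}
  have := @_root_.MulHom.fromOpposite.congr_simp.{0, 0}
  trivial

theorem m05_2 : True := by
  have := @_root_.MulHom.fromOpposite.eq_def.{0, 0}
  have := @_root_.IsSquare.eq_def.{0}
  have := @_root_.Even.eq_def.{0}
  have := @_root_.Int.sqrt.eq_def
  have := @_root_.powersMulHom.eq_def.{0}
  have := @_root_.powersMulHom.eq_1.{0}
  have := @_root_.powersHom.eq_def.{0}
  have := @_root_.powersHom.eq_1.{0}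
  have := @_root_.multiplesHom.eq_def.{0}
  have := @_root_.multiplesHom.eq_1.{0}
  have := @_root_.multiplesAddHom.eq_def.{0}
  have := @_root_.multiplesAddHom.eq_1.{0}
  have := @_root_.AddMonoidHom.compl₂.eq_def.{0, 0, 0, 0}
  have := @_root_.MonoidHom.compr₂.eq_def.{0, 0, 0, 0}
  have := @_root_.MonoidHom.compl₂.eq_def.{0, 0, 0, 0}
  have := @_root_.AddMonoidHom.flip.eq_def.{0, 0, 0}
  have := @_root_.AddMonoidHom.compr₂.eq_def.{0, 0, 0, 0}
  have := @_root_.MonoidHom.flipHom.eq_def.{0, 0, 0}
  have := @_root_.MonoidHom.flip.eq_def.{0, 0, 0}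
  have := @_root_.AddMonoidHom.flipHom.eq_def.{0, 0, 0}
  have := @_root_.AddMonoidHom.eval.eq_def.{0, 0}
  have := @_root_.MonoidHom.eval.eq_def.{0, 0}
  have := @_root_.AddMonoidHom.compHom.eq_def.{0, 0, 0}
  have := @_root_.AddMonoidHom.compHom'.eq_def.{0, 0, 0}
  have := @_root_.MonoidHom.compHom.eq_def.{0, 0, 0}
  have := @_root_.MonoidHom.compHom'.eq_def.{0, 0, 0}
  have := @_root_.AddMonoidHom.mulLeft.eq_def.{0}
  have := @_root_.AddMonoidHom.mulLeft.eq_1.{0}
  have := @_root_.AddHom.mulRight.eq_def.{0}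
  have := @_root_.AddHom.mulRight.eq_1.{0}
  trivial

theorem m05_3 : True := by
  have := @_root_.AddMonoid.End.mulRight.eq_def.{0}
  have := @_root_.AddMonoid.End.mulRight.eq_1.{0}
  have := @_root_.AddHom.mulLeft.eq_def.{0}
  have := @_root_.AddHom.mulLeft.eq_1.{0}
  have := @_root_.AddMonoid.End.mulLeft.eq_def.{0}
  have := @_root_.AddMonoid.End.mulLeft.eq_1.{0}
  have := @_root_.AddMonoidHom.mulRight.eq_def.{0}
  have := @_root_.AddMonoidHom.mulRight.eq_1.{0}
  have := @_root_.AddMonoidHom.mul.eq_def.{0}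
  have := @_root_.AddMonoidHom.mul.eq_1.{0}
  have := @_root_.RingHomClass.mk.congr_simp.{0, 0, 0}
  have := @_root_.NonUnitalRingHom.copy.congr_simp.{0, 0}
  have := @_root_.NonUnitalRingHom.copy.eq_def.{0, 0}
  have := @_root_.NonUnitalRingHom.copy.eq_1.{0, 0}
  have := @_root_.RingHom.comp.eq_def.{0, 0, 0}
  have := @_root_.RingHom.comp.eq_1.{0, 0, 0}
  have := @_root_.RingHomClass.toRingHom.eq_def.{0, 0, 0}
  have := @_root_.RingHomClass.toRingHom.eq_1.{0, 0, 0}
  have := @_root_.RingHom.toNonUnitalRingHom.eq_def.{0, 0}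
  have := @_root_.RingHom.toNonUnitalRingHom.eq_1.{0, 0}
  have := @_root_.RingHom.id.eq_def.{0}
  have := @_root_.RingHom.mk'.congr_simp.{0, 0}
  have := @_root_.RingHom.mk'.eq_def.{0, 0}
  have := @_root_.RingHom.mk'.eq_1.{0, 0}
  have := @_root_.RingHom.copy.eq_def.{0, 0}
  have := @_root_.RingHom.copy.eq_1.{0, 0}
  have := @_root_.RingHom.toMonoidWithZeroHom.eq_def.{0, 0}
  have := @_root_.RingHom.toMonoidWithZeroHom.eq_1.{0, 0}
  have := @_root_.NonUnitalRingHomClass.mk.congr_simp.{0, 0, 0}
  have := @_root_.NonUnitalRingHomClass.toNonUnitalRingHom.eq_def.{0, 0, 0}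
  trivial

theorem m05_4 : True := by
  have := @_root_.NonUnitalRingHomClass.toNonUnitalRingHom.eq_1.{0, 0, 0}
  have := @_root_.RingHom.toAddMonoidHom.eq_def.{0, 0}
  have := @_root_.RingHom.toAddMonoidHom.eq_1.{0, 0}
  have := @_root_.AddMonoidHom.mkRingHomOfMulSelfOfTwoNeZero.congr_simp.{0, 0}
  have := @_root_.AddMonoidHom.mkRingHomOfMulSelfOfTwoNeZero.eq_def.{0, 0}
  have := @_root_.AddMonoidHom.mkRingHomOfMulSelfOfTwoNeZero.eq_1.{0, 0}
  have := @_root_.NonUnitalRingHom.mk.congr_simp.{0, 0}
  have := @_root_.NonUnitalRingHom.id.eq_def.{0}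
  have := @_root_.NonUnitalRingHom.id.eq_1.{0}
  have := @_root_.NonUnitalRingHom.comp.eq_def.{0, 0, 0}
  have := @_root_.NonUnitalRingHom.comp.eq_1.{0, 0, 0}
  have := @_root_.NonUnitalRingHom.toAddMonoidHom.eq_def.{0, 0}
  have := @_root_.NonUnitalRingHom.toAddMonoidHom.eq_1.{0, 0}
  have := @_root_.Nat.castRingHom.eq_def.{0}
  have := @_root_.Nat.castRingHom.eq_1.{0}
  have := @_root_.Nat.castAddMonoidHom.eq_def.{0}
  have := @_root_.Nat.castAddMonoidHom.eq_1.{0}
  have := @_root_.nontrivialPSumUnique.eq_def.{0}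
  have := @_root_.nontrivialPSumUnique.eq_1.{0}
  have := @_root_.Units.mk0.eq_def.{0}
  have := @_root_.Units.mk0.eq_1.{0}
  have := @_root_.groupWithZeroOfIsUnitOrEqZero.congr_simp.{0}
  have := @_root_.groupWithZeroOfIsUnitOrEqZero.eq_def.{0}
  have := @_root_.groupWithZeroOfIsUnitOrEqZero.eq_1.{0}
  have := @_root_.Ring.inverse.eq_def.{0}
  have := @_root_.commGroupWithZeroOfIsUnitOrEqZero.congr_simp.{0}
  have := @_root_.commGroupWithZeroOfIsUnitOrEqZero.eq_def.{0}
  have := @_root_.commGroupWithZeroOfIsUnitOrEqZero.eq_1.{0}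
  have := @_root_.AddUnits.ofNSMul.congr_simp.{0}
  have := @_root_.AddUnits.ofNSMul.eq_def.{0}
  trivial

theorem m05_5 : True := by
  have := @_root_.Units.rightOfMul.congr_simp.{0}
  have := @_root_.Units.rightOfMul.eq_def.{0}
  have := @_root_.AddUnits.leftOfAdd.congr_simp.{0}
  have := @_root_.AddUnits.leftOfAdd.eq_def.{0}
  have := @_root_.Units.leftOfMul.congr_simp.{0}
  have := @_root_.Units.leftOfMul.eq_def.{0}
  have := @_root_.AddUnits.ofNSMulEqZero.congr_simp.{0}
  have := @_root_.AddUnits.ofNSMulEqZero.eq_def.{0}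
  have := @_root_.Units.ofPowEqOne.eq_def.{0}
  have := @_root_.Units.ofPow.congr_simp.{0}
  have := @_root_.Units.ofPow.eq_def.{0}
  have := @_root_.AddUnits.rightOfAdd.congr_simp.{0}
  have := @_root_.AddUnits.rightOfAdd.eq_def.{0}
  have := @_root_.Function.Injective.nonUnitalNonAssocRing.congr_simp.{0, 0}
  have := @_root_.Function.Injective.nonUnitalNonAssocRing.eq_def.{0, 0}
  have := @_root_.Function.Injective.nonUnitalNonAssocRing.eq_1.{0, 0}
  have := @_root_.Function.Injective.distrib.congr_simp.{0, 0}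
  have := @_root_.Function.Injective.distrib.eq_def.{0, 0}
  have := @_root_.Function.Injective.distrib.eq_1.{0, 0}
  have := @_root_.Function.Surjective.nonUnitalNonAssocSemiring.congr_simp.{0, 0}
  have := @_root_.Function.Surjective.nonUnitalNonAssocSemiring.eq_def.{0, 0}
  have := @_root_.Function.Surjective.nonUnitalNonAssocSemiring.eq_1.{0, 0}
  have := @_root_.Function.Surjective.addMonoidWithOne.congr_simp.{0, 0}
  have := @_root_.Function.Surjective.addMonoidWithOne.eq_def.{0, 0}
  have := @_root_.Function.Surjective.addMonoidWithOne.eq_1.{0, 0}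
  have := @_root_.Function.Injective.nonUnitalNonAssocCommSemiring.congr_simp.{0, 0}
  have := @_root_.Function.Injective.nonUnitalNonAssocCommSemiring.eq_def.{0, 0}
  have := @_root_.Function.Injective.nonUnitalNonAssocCommSemiring.eq_1.{0, 0}
  have := @_root_.Function.Surjective.addGroupWithOne.congr_simp.{0, 0}
  have := @_root_.Function.Surjective.addGroupWithOne.eq_def.{0, 0}
  trivial

theorem m05_6 : True := by
  have := @_root_.Function.Surjective.addGroupWithOne.eq_1.{0, 0}
  have := @_root_.Function.Surjective.hasDistribNeg.congr_simp.{0, 0}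
  have := @_root_.Function.Surjective.hasDistribNeg.eq_def.{0, 0}
  have := @_root_.Function.Surjective.hasDistribNeg.eq_1.{0, 0}
  have := @_root_.Function.Injective.addCommMonoidWithOne.congr_simp.{0, 0}
  have := @_root_.Function.Injective.addCommMonoidWithOne.eq_def.{0, 0}
  have := @_root_.Function.Injective.addCommMonoidWithOne.eq_1.{0, 0}
  have := @_root_.Function.Injective.nonAssocSemiring.congr_simp.{0, 0}
  have := @_root_.Function.Injective.nonAssocSemiring.eq_def.{0, 0}
  have := @_root_.Function.Injective.nonAssocSemiring.eq_1.{0, 0}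
  have := @_root_.Function.Surjective.nonUnitalCommSemiring.congr_simp.{0, 0}
  have := @_root_.Function.Surjective.nonUnitalCommSemiring.eq_def.{0, 0}
  have := @_root_.Function.Surjective.nonUnitalCommSemiring.eq_1.{0, 0}
  have := @_root_.Function.Injective.nonUnitalSemiring.congr_simp.{0, 0}
  have := @_root_.Function.Injective.nonUnitalSemiring.eq_def.{0, 0}
  have := @_root_.Function.Injective.nonUnitalSemiring.eq_1.{0, 0}
  have := @_root_.Function.Injective.nonAssocCommRing.congr_simp.{0, 0}
  have := @_root_.Function.Injective.nonAssocCommRing.eq_def.{0, 0}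
  have := @_root_.Function.Injective.nonAssocCommRing.eq_1.{0, 0}
  have := @_root_.Function.Injective.nonUnitalRing.congr_simp.{0, 0}
  have := @_root_.Function.Injective.nonUnitalRing.eq_def.{0, 0}
  have := @_root_.Function.Injective.nonUnitalRing.eq_1.{0, 0}
  have := @_root_.Function.Injective.commSemiring.congr_simp.{0, 0}
  have := @_root_.Function.Injective.commSemiring.eq_def.{0, 0}
  have := @_root_.Function.Injective.commSemiring.eq_1.{0, 0}
  have := @_root_.Function.Injective.addCommGroupWithOne.congr_simp.{0, 0}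
  have := @_root_.Function.Injective.addCommGroupWithOne.eq_def.{0, 0}
  have := @_root_.Function.Injective.addCommGroupWithOne.eq_1.{0, 0}
  have := @_root_.Function.Surjective.semiring.congr_simp.{0, 0}
  have := @_root_.Function.Surjective.semiring.eq_def.{0, 0}
  trivial

theorem m05_7 : True := by
  have := @_root_.Function.Surjective.semiring.eq_1.{0, 0}
  have := @_root_.Function.Surjective.nonAssocCommSemiring.congr_simp.{0, 0}
  have := @_root_.Function.Surjective.nonAssocCommSemiring.eq_def.{0, 0}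
  have := @_root_.Function.Surjective.nonAssocCommSemiring.eq_1.{0, 0}
  have := @_root_.Function.Surjective.nonAssocRing.congr_simp.{0, 0}
  have := @_root_.Function.Surjective.nonAssocRing.eq_def.{0, 0}
  have := @_root_.Function.Surjective.nonAssocRing.eq_1.{0, 0}
  have := @_root_.Function.Injective.commRing.congr_simp.{0, 0}
  have := @_root_.Function.Injective.commRing.eq_def.{0, 0}
  have := @_root_.Function.Injective.commRing.eq_1.{0, 0}
  have := @_root_.Function.Surjective.nonUnitalCommRing.congr_simp.{0, 0}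
  have := @_root_.Function.Surjective.nonUnitalCommRing.eq_def.{0, 0}
  have := @_root_.Function.Surjective.nonUnitalCommRing.eq_1.{0, 0}
  have := @_root_.Function.Surjective.ring.congr_simp.{0, 0}
  have := @_root_.Function.Surjective.ring.eq_def.{0, 0}
  have := @_root_.Function.Surjective.ring.eq_1.{0, 0}
  have := @_root_.Function.Surjective.nonUnitalNonAssocCommRing.congr_simp.{0, 0}
  have := @_root_.Function.Surjective.nonUnitalNonAssocCommRing.eq_def.{0, 0}
  have := @_root_.Function.Surjective.nonUnitalNonAssocCommRing.eq_1.{0, 0}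
  have := @_root_.Function.Surjective.nonUnitalNonAssocRing.congr_simp.{0, 0}
  have := @_root_.Function.Surjective.nonUnitalNonAssocRing.eq_def.{0, 0}
  have := @_root_.Function.Surjective.nonUnitalNonAssocRing.eq_1.{0, 0}
  have := @_root_.Function.Injective.addMonoidWithOne.congr_simp.{0, 0}
  have := @_root_.Function.Injective.addMonoidWithOne.eq_def.{0, 0}
  have := @_root_.Function.Injective.addMonoidWithOne.eq_1.{0, 0}
  have := @_root_.Function.Surjective.nonUnitalNonAssocCommSemiring.congr_simp.{0, 0}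
  have := @_root_.Function.Surjective.nonUnitalNonAssocCommSemiring.eq_def.{0, 0}
  have := @_root_.Function.Surjective.nonUnitalNonAssocCommSemiring.eq_1.{0, 0}
  have := @_root_.Function.Surjective.distrib.congr_simp.{0, 0}
  have := @_root_.Function.Surjective.distrib.eq_def.{0, 0}
  trivial

theorem m05_8 : True := by
  have := @_root_.Function.Surjective.distrib.eq_1.{0, 0}
  have := @_root_.Function.Injective.nonUnitalNonAssocSemiring.congr_simp.{0, 0}
  have := @_root_.Function.Injective.nonUnitalNonAssocSemiring.eq_def.{0, 0}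
  have := @_root_.Function.Injective.nonUnitalNonAssocSemiring.eq_1.{0, 0}
  have := @_root_.Function.Injective.addGroupWithOne.congr_simp.{0, 0}
  have := @_root_.Function.Injective.addGroupWithOne.eq_def.{0, 0}
  have := @_root_.Function.Injective.addGroupWithOne.eq_1.{0, 0}
  have := @_root_.Function.Injective.hasDistribNeg.congr_simp.{0, 0}
  have := @_root_.Function.Injective.hasDistribNeg.eq_def.{0, 0}
  have := @_root_.Function.Injective.hasDistribNeg.eq_1.{0, 0}
  have := @_root_.Function.Surjective.addCommMonoidWithOne.congr_simp.{0, 0}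
  have := @_root_.Function.Surjective.addCommMonoidWithOne.eq_def.{0, 0}
  have := @_root_.Function.Surjective.addCommMonoidWithOne.eq_1.{0, 0}
  have := @_root_.Function.Injective.nonUnitalCommSemiring.congr_simp.{0, 0}
  have := @_root_.Function.Injective.nonUnitalCommSemiring.eq_def.{0, 0}
  have := @_root_.Function.Injective.nonUnitalCommSemiring.eq_1.{0, 0}
  have := @_root_.Function.Surjective.nonAssocSemiring.congr_simp.{0, 0}
  have := @_root_.Function.Surjective.nonAssocSemiring.eq_def.{0, 0}
  have := @_root_.Function.Surjective.nonAssocSemiring.eq_1.{0, 0}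
  have := @_root_.Function.Surjective.nonUnitalSemiring.congr_simp.{0, 0}
  have := @_root_.Function.Surjective.nonUnitalSemiring.eq_def.{0, 0}
  have := @_root_.Function.Surjective.nonUnitalSemiring.eq_1.{0, 0}
  have := @_root_.Function.Surjective.nonAssocCommRing.congr_simp.{0, 0}
  have := @_root_.Function.Surjective.nonAssocCommRing.eq_def.{0, 0}
  have := @_root_.Function.Surjective.nonAssocCommRing.eq_1.{0, 0}
  have := @_root_.Function.Surjective.nonUnitalRing.congr_simp.{0, 0}
  have := @_root_.Function.Surjective.nonUnitalRing.eq_def.{0, 0}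
  have := @_root_.Function.Surjective.nonUnitalRing.eq_1.{0, 0}
  have := @_root_.Function.Surjective.commSemiring.congr_simp.{0, 0}
  have := @_root_.Function.Surjective.commSemiring.eq_def.{0, 0}
  trivial

theorem m05_9 : True := by
  have := @_root_.Function.Surjective.commSemiring.eq_1.{0, 0}
  have := @_root_.Function.Surjective.addCommGroupWithOne.congr_simp.{0, 0}
  have := @_root_.Function.Surjective.addCommGroupWithOne.eq_def.{0, 0}
  have := @_root_.Function.Surjective.addCommGroupWithOne.eq_1.{0, 0}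
  have := @_root_.Function.Injective.semiring.congr_simp.{0, 0}
  have := @_root_.Function.Injective.semiring.eq_def.{0, 0}
  have := @_root_.Function.Injective.semiring.eq_1.{0, 0}
  have := @_root_.Function.Injective.nonAssocCommSemiring.congr_simp.{0, 0}
  have := @_root_.Function.Injective.nonAssocCommSemiring.eq_def.{0, 0}
  have := @_root_.Function.Injective.nonAssocCommSemiring.eq_1.{0, 0}
  have := @_root_.Function.Surjective.commRing.congr_simp.{0, 0}
  have := @_root_.Function.Surjective.commRing.eq_def.{0, 0}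
  have := @_root_.Function.Surjective.commRing.eq_1.{0, 0}
  have := @_root_.Function.Injective.nonUnitalCommRing.congr_simp.{0, 0}
  have := @_root_.Function.Injective.nonUnitalCommRing.eq_def.{0, 0}
  have := @_root_.Function.Injective.nonUnitalCommRing.eq_1.{0, 0}
  have := @_root_.Function.Injective.nonAssocRing.congr_simp.{0, 0}
  have := @_root_.Function.Injective.nonAssocRing.eq_def.{0, 0}
  have := @_root_.Function.Injective.nonAssocRing.eq_1.{0, 0}
  have := @_root_.Function.Injective.ring.congr_simp.{0, 0}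
  have := @_root_.Function.Injective.ring.eq_def.{0, 0}
  have := @_root_.Function.Injective.ring.eq_1.{0, 0}
  have := @_root_.Function.Injective.nonUnitalNonAssocCommRing.congr_simp.{0, 0}
  have := @_root_.Function.Injective.nonUnitalNonAssocCommRing.eq_def.{0, 0}
  have := @_root_.Function.Injective.nonUnitalNonAssocCommRing.eq_1.{0, 0}
  have := @_root_.Odd.eq_def.{0}
  have := @_root_.zmultiplesHom.eq_def.{0}
  have := @_root_.zmultiplesHom.eq_1.{0}
  have := @_root_.Int.castAddHom.eq_def.{0}
  have := @_root_.Int.castAddHom.eq_1.{0}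
  trivial

theorem m05_10 : True := by
  have := @_root_.zpowersMulHom.eq_def.{0}
  have := @_root_.zpowersMulHom.eq_1.{0}
  have := @_root_.Int.ofNatHom.eq_def
  have := @_root_.Int.ofNatHom.eq_1
  have := @_root_.zpowersHom.eq_def.{0}
  have := @_root_.zpowersHom.eq_1.{0}
  have := @_root_.Int.castRingHom.eq_def.{0}
  have := @_root_.Int.castRingHom.eq_1.{0}
  have := @_root_.zmultiplesAddHom.eq_def.{0}
  have := @_root_.zmultiplesAddHom.eq_1.{0}
  have := @_root_.NNRat.castRec.eq_def.{0}
  have := @_root_.NNRat.castRec.eq_1.{0}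
  have := @_root_.DivisionRing.mk.congr_simp.{0}
  have := @_root_.Rat.castRec.eq_def.{0}
  have := @_root_.Rat.castRec.eq_1.{0}
  have := @_root_.Field.mk.congr_simp.{0}
  have := @_root_.DivisionSemiring.mk.congr_simp.{0}
  have := @_root_.Semifield.mk.congr_simp.{0}
  have := @_root_.RightCommutative.mk.congr_simp.{0, 0}
  have := @_root_.LeftCommutative.mk.congr_simp.{0, 0}
  have := @_root_.IsSymmOp.mk.congr_simp.{0, 0}
  have := @_root_.PProd.mk.injArrow.congr_simp.{0, 0, 0}
  have := @_root_.PProd.mk.injArrow.eq_def.{0, 0, 0}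
  have := @_root_.PProd.mk.injArrow.eq_1.{0, 0, 0}
  have := @_root_.Function.Embedding.optionMap.eq_def.{0, 0}
  have := @_root_.Function.Embedding.optionMap.eq_1.{0, 0}
  have := @_root_.Function.Embedding.quotientOut.eq_def.{0}
  have := @_root_.Function.Embedding.quotientOut.eq_1.{0}
  have := @_root_.Function.Embedding.congr.eq_def.{0, 0, 0, 0}
  have := @_root_.Function.Embedding.congr.eq_1.{0, 0, 0, 0}
  trivial

theorem m05_11 : True := by
  have := @_root_.Function.Embedding.equivOfSurjective.congr_simp.{0, 0}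
  have := @_root_.Function.Embedding.equivOfSurjective.eq_def.{0, 0}
  have := @_root_.Function.Embedding.equivOfSurjective.eq_1.{0, 0}
  have := @_root_.Function.Embedding.sigmaMap.eq_def.{0, 0, 0, 0}
  have := @_root_.Function.Embedding.sigmaMap.eq_1.{0, 0, 0, 0}
  have := @_root_.Equiv.embeddingSurjectiveEquiv.eq_def.{0, 0}
  have := @_root_.Equiv.embeddingSurjectiveEquiv.eq_1.{0, 0}
  have := @_root_.Equiv.asEmbedding.eq_def.{0, 0}
  have := @_root_.Equiv.asEmbedding.eq_1.{0, 0}
  have := @_root_.Function.Embedding.subtype.eq_def.{0}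
  have := @_root_.Function.Embedding.arrowCongrLeft.eq_def.{0, 0, 0}
  have := @_root_.Function.Embedding.arrowCongrLeft.eq_1.{0, 0, 0}
  have := @_root_.Function.Embedding.trans.eq_def.{0, 0, 0}
  have := @_root_.Function.Embedding.inl.eq_def.{0, 0}
  have := @_root_.Function.Embedding.inl.eq_1.{0, 0}
  have := @_root_.Function.Embedding.sigmaMk.eq_def.{0, 0}
  have := @_root_.Function.Embedding.some.eq_def.{0}
  have := @_root_.Function.Embedding.some.eq_1.{0}
  have := @_root_.Function.Embedding.subtypeMap.congr_simp.{0, 0}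
  have := @_root_.Function.Embedding.subtypeMap.eq_def.{0, 0}
  have := @_root_.Function.Embedding.subtypeMap.eq_1.{0, 0}
  have := @_root_.Function.Embedding.sectL.eq_def.{0, 0}
  have := @_root_.Function.Embedding.sectL.eq_1.{0, 0}
  have := @_root_.Equiv.subtypeInjectiveEquivEmbedding.eq_def.{0, 0}
  have := @_root_.Equiv.subtypeInjectiveEquivEmbedding.eq_1.{0, 0}
  have := @_root_.Function.Embedding.prodMap.eq_def.{0, 0, 0, 0}
  have := @_root_.Function.Embedding.prodMap.eq_1.{0, 0, 0, 0}
  have := @_root_.Equiv.embeddingCongr.eq_def.{0, 0, 0, 0}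
  have := @_root_.Equiv.embeddingCongr.eq_1.{0, 0, 0, 0}
  have := @_root_.Function.Embedding.sumMap.eq_def.{0, 0, 0, 0}
  trivial

theorem m05_12 : True := by
  have := @_root_.Function.Embedding.sumMap.eq_1.{0, 0, 0, 0}
  have := @_root_.Function.Embedding.pprodMap.eq_def.{0, 0, 0, 0}
  have := @_root_.Function.Embedding.pprodMap.eq_1.{0, 0, 0, 0}
  have := @_root_.Equiv.toEmbedding.eq_def.{0, 0}
  have := @_root_.Equiv.toEmbedding.eq_1.{0, 0}
  have := @_root_.Function.Embedding.oneEmbeddingEquiv.eq_def.{0, 0}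
  have := @_root_.Function.Embedding.oneEmbeddingEquiv.eq_1.{0, 0}
  have := @_root_.Function.Embedding.refl.eq_def.{0}
  have := @_root_.Function.Embedding.refl.eq_1.{0}
  have := @_root_.Function.Embedding.ofIsEmpty.congr_simp.{0, 0}
  have := @_root_.Function.Embedding.ofIsEmpty.eq_def.{0, 0}
  have := @_root_.Function.Embedding.ofIsEmpty.eq_1.{0, 0}
  have := @_root_.Function.Embedding.arrowCongrRight.eq_def.{0, 0, 0}
  have := @_root_.Function.Embedding.arrowCongrRight.eq_1.{0, 0, 0}
  have := @_root_.subtypeOrLeftEmbedding.eq_def.{0}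
  have := @_root_.subtypeOrLeftEmbedding.eq_1.{0}
  have := @_root_.Function.Embedding.ofSurjective.eq_def.{0, 0}
  have := @_root_.Function.Embedding.ofSurjective.eq_1.{0, 0}
  have := @_root_.Function.Embedding.punit.eq_def.{0, 0}
  have := @_root_.Function.Embedding.punit.eq_1.{0, 0}
  have := @_root_.Function.Embedding.inr.eq_def.{0, 0}
  have := @_root_.Function.Embedding.inr.eq_1.{0, 0}
  have := @_root_.Function.Embedding.piCongrRight.eq_def.{0, 0, 0}
  have := @_root_.Function.Embedding.piCongrRight.eq_1.{0, 0, 0}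
  have := @_root_.Function.Embedding.setValue.eq_def.{0, 0}
  have := @_root_.Function.Embedding.sectR.eq_def.{0, 0}
  have := @_root_.Function.Embedding.sectR.eq_1.{0, 0}
  have := @_root_.Subtype.impEmbedding.eq_def.{0}
  have := @_root_.OrderIso.eq_def.{0, 0}
  have := @_root_.OrderIso.eq_1.{0, 0}
  trivial

theorem m05_13 : True := by
  have := @_root_.OrderIso.orderEmbeddingCongr.eq_def.{0, 0, 0, 0}
  have := @_root_.OrderIso.orderEmbeddingCongr.eq_1.{0, 0, 0, 0}
  have := @_root_.OrderHom.prodIso.eq_def.{0, 0, 0}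
  have := @_root_.OrderHom.prodIso.eq_1.{0, 0, 0}
  have := @_root_.OrderHom.copy.eq_def.{0, 0}
  have := @_root_.OrderHom.copy.eq_1.{0, 0}
  have := @_root_.OrderEmbedding.toOrderHom.eq_def.{0, 0}
  have := @_root_.Pi.evalOrderHom.eq_def.{0, 0}
  have := @_root_.Pi.evalOrderHom.eq_1.{0, 0}
  have := @_root_.OrderHom.pi.eq_def.{0, 0, 0}
  have := @_root_.OrderHom.pi.eq_1.{0, 0, 0}
  have := @_root_.OrderEmbedding.ofMapLEIff.eq_def.{0, 0}
  have := @_root_.OrderEmbedding.ofMapLEIff.eq_1.{0, 0}
  have := @_root_.OrderHom.coeFnHom.eq_def.{0, 0}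
  have := @_root_.OrderHom.coeFnHom.eq_1.{0, 0}
  have := @_root_.OrderIso.dualDual.eq_def.{0}
  have := @_root_.OrderIso.dualDual.eq_1.{0}
  have := @_root_.OrderIso.toOrderEmbedding.eq_def.{0, 0}
  have := @_root_.OrderIso.toOrderEmbedding.eq_1.{0, 0}
  have := @_root_.OrderHom.dualIso.eq_def.{0, 0}
  have := @_root_.OrderHom.dualIso.eq_1.{0, 0}
  have := @_root_.RelHom.toOrderHom.eq_def.{0, 0}
  have := @_root_.RelHom.toOrderHom.eq_1.{0, 0}
  have := @_root_.OrderHom.const.eq_def.{0, 0}
  have := @_root_.OrderHom.const.eq_1.{0, 0}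
  have := @_root_.OrderHom.equivRelHom.eq_def.{0, 0}
  have := @_root_.OrderHom.equivRelHom.eq_1.{0, 0}
  have := @_root_.OrderIso.ofHomInv.eq_def.{0, 0}
  have := @_root_.OrderIso.ofHomInv.eq_1.{0, 0}
  have := @_root_.OrderEmbedding.eq_def.{0, 0}
  trivial

theorem m05_14 : True := by
  have := @_root_.OrderEmbedding.eq_1.{0, 0}
  have := @_root_.OrderHom.compₘ.eq_def.{0, 0, 0}
  have := @_root_.OrderHom.compₘ.eq_1.{0, 0, 0}
  have := @_root_.OrderHom.prodMap.eq_def.{0, 0, 0, 0}
  have := @_root_.OrderHom.prodMap.eq_1.{0, 0, 0, 0}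
  have := @_root_.OrderHom.uliftLeftMap.eq_def.{0, 0, 0}
  have := @_root_.OrderHom.uliftLeftMap.eq_1.{0, 0, 0}
  have := @_root_.OrderIso.toRelIsoLT.eq_def.{0, 0}
  have := @_root_.OrderHom.Subtype.val.eq_def.{0}
  have := @_root_.OrderHom.Subtype.val.eq_1.{0}
  have := @_root_.OrderIsoClass.mk.congr_simp.{0, 0, 0}
  have := @_root_.OrderIso.ofSurjective.congr_simp.{0, 0}
  have := @_root_.OrderIso.ofSurjective.eq_def.{0, 0}
  have := @_root_.OrderIso.ofSurjective.eq_1.{0, 0}
  have := @_root_.OrderHomClass.eq_def.{0, 0, 0}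
  have := @_root_.OrderHomClass.eq_1.{0, 0, 0}
  have := @_root_.OrderIso.prodComm.eq_def.{0, 0}
  have := @_root_.OrderIso.prodComm.eq_1.{0, 0}
  have := @_root_.OrderHom.curry.eq_def.{0, 0, 0}
  have := @_root_.OrderHom.curry.eq_1.{0, 0, 0}
  have := @_root_.OrderHom.fst.eq_def.{0, 0}
  have := @_root_.OrderHom.fst.eq_1.{0, 0}
  have := @_root_.OrderEmbedding.id.eq_def.{0}
  have := @_root_.OrderEmbedding.id.eq_1.{0}
  have := @_root_.OrderEmbedding.subtype.eq_def.{0}
  have := @_root_.OrderEmbedding.subtype.eq_1.{0}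
  have := @_root_.OrderHom.id.eq_def.{0}
  have := @_root_.OrderHom.id.eq_1.{0}
  have := @_root_.OrderIso.conj.eq_def.{0, 0}
  have := @_root_.OrderIso.conj.eq_1.{0, 0}
  trivial

end Cfsg.Rz
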