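import Cfsg.Agent.Rz.M05

/-! Generated file: forces on-demand equation and congruence lemmas to be created once. -/

set_option linter.all false

namespace Cfsg.Rz

theorem m06_0 : True := by
  have := @_root_.OrderIso.ofUnique.eq_def.{0, 0}
  have := @_root_.OrderIso.ofUnique.eq_1.{0, 0}
  have := @_root_.OrderIsoClass.toOrderIso.eq_def.{0, 0, 0}
  have := @_root_.OrderIsoClass.toOrderIso.eq_1.{0, 0, 0}
  have := @_root_.OrderIso.prodAssoc.eq_def.{0, 0, 0}
  have := @_root_.OrderIso.prodAssoc.eq_1.{0, 0, 0}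
  have := @_root_.OrderIso.dual.eq_def.{0, 0}
  have := @_root_.OrderIso.dual.eq_1.{0, 0}
  have := @_root_.OrderIso.refl.eq_def.{0}
  have := @_root_.OrderIso.refl.eq_1.{0}
  have := @_root_.OrderHom.comp.eq_def.{0, 0, 0}
  have := @_root_.OrderHom.comp.eq_1.{0, 0, 0}
  have := @_root_.OrderIso.ofIsEmpty.congr_simp.{0, 0}
  have := @_root_.OrderIso.ofIsEmpty.eq_def.{0, 0}
  have := @_root_.OrderIso.ofIsEmpty.eq_1.{0, 0}
  have := @_root_.Subtype.orderEmbedding.congr_simp.{0}
  have := @_root_.Subtype.orderEmbedding.eq_def.{0}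
  have := @_root_.Subtype.orderEmbedding.eq_1.{0}
  have := @_root_.Equiv.toOrderIso.congr_simp.{0, 0}
  have := @_root_.Equiv.toOrderIso.eq_def.{0, 0}
  have := @_root_.Equiv.toOrderIso.eq_1.{0, 0}
  have := @_root_.OrderEmbedding.comp.eq_def.{0, 0, 0}
  have := @_root_.OrderEmbedding.comp.eq_1.{0, 0, 0}
  have := @_root_.OrderEmbedding.gtEmbedding.eq_def.{0, 0}
  have := @_root_.OrderHom.prod.eq_def.{0, 0, 0}
  have := @_root_.OrderHom.prod.eq_1.{0, 0, 0}
  have := @_root_.OrderHom.onDiag.eq_def.{0, 0}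
  have := @_root_.OrderHom.onDiag.eq_1.{0, 0}
  have := @_root_.OrderHom.diag.eq_def.{0}
  have := @_root_.OrderHom.diag.eq_1.{0}
  trivial

theorem m06_1 : True := by
  have := @_root_.OrderIso.ofCmpEqCmp.congr_simp.{0, 0}
  have := @_root_.OrderIso.ofCmpEqCmp.eq_def.{0, 0}
  have := @_root_.OrderIso.ofCmpEqCmp.eq_1.{0, 0}
  have := @_root_.OrderEmbedding.ltEmbedding.eq_def.{0, 0}
  have := @_root_.OrderHom.uliftMap.eq_def.{0, 0, 0, 0}
  have := @_root_.OrderHom.uliftMap.eq_1.{0, 0, 0, 0}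
  have := @_root_.RelEmbedding.orderEmbeddingOfLTEmbedding.eq_def.{0, 0}
  have := @_root_.RelEmbedding.orderEmbeddingOfLTEmbedding.eq_1.{0, 0}
  have := @_root_.OrderEmbedding.ofStrictMono.eq_def.{0, 0}
  have := @_root_.OrderEmbedding.ofStrictMono.eq_1.{0, 0}
  have := @_root_.OrderHomClass.toOrderHom.eq_def.{0, 0, 0}
  have := @_root_.OrderHomClass.toOrderHom.eq_1.{0, 0, 0}
  have := @_root_.OrderIso.ofRelIsoLT.eq_def.{0, 0}
  have := @_root_.OrderIso.ofRelIsoLT.eq_1.{0, 0}
  have := @_root_.OrderHom.prodₘ.eq_def.{0, 0, 0}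
  have := @_root_.OrderHom.prodₘ.eq_1.{0, 0, 0}
  have := @_root_.OrderHom.piIso.eq_def.{0, 0, 0}
  have := @_root_.OrderHom.piIso.eq_1.{0, 0, 0}
  have := @_root_.OrderHom.dual.eq_def.{0, 0}
  have := @_root_.OrderHom.dual.eq_1.{0, 0}
  have := @_root_.OrderIso.toRelIsoGT.eq_def.{0, 0}
  have := @_root_.OrderHom.apply.eq_def.{0, 0}
  have := @_root_.OrderHom.apply.eq_1.{0, 0}
  have := @_root_.OrderEmbedding.ofIsEmpty.eq_def.{0, 0}
  have := @_root_.OrderEmbedding.ofIsEmpty.eq_1.{0, 0}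
  have := @_root_.OrderEmbedding.dual.eq_def.{0, 0}
  have := @_root_.OrderEmbedding.dual.eq_1.{0, 0}
  have := @_root_.OrderIso.arrowCongr.eq_def.{0, 0, 0, 0}
  have := @_root_.OrderIso.arrowCongr.eq_1.{0, 0, 0, 0}
  have := @_root_.OrderIso.funUnique.eq_def.{0, 0}
  trivial

theorem m06_2 : True := by
  have := @_root_.OrderIso.funUnique.eq_1.{0, 0}
  have := @_root_.OrderHom.snd.eq_def.{0, 0}
  have := @_root_.OrderHom.snd.eq_1.{0, 0}
  have := @_root_.OrderIso.orderIsoCongr.eq_def.{0, 0, 0, 0}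
  have := @_root_.OrderIso.orderIsoCongr.eq_1.{0, 0, 0, 0}
  have := @_root_.OrderIso.trans.eq_def.{0, 0, 0}
  have := @_root_.OrderIso.trans.eq_1.{0, 0, 0}
  have := @_root_.ULift.orderIso.eq_def.{0, 0}
  have := @_root_.ULift.orderIso.eq_1.{0, 0}
  have := @_root_.StrictMono.orderIsoOfRightInverse.eq_def.{0, 0}
  have := @_root_.StrictMono.orderIsoOfRightInverse.eq_1.{0, 0}
  have := @_root_.OrderIso.symm.eq_def.{0, 0}
  have := @_root_.OrderHom.uliftRightMap.eq_def.{0, 0, 0}
  have := @_root_.OrderHom.uliftRightMap.eq_1.{0, 0, 0}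
  have := @_root_.OrderIso.equivEmbeddingSurjective.eq_def.{0, 0}
  have := @_root_.OrderIso.equivEmbeddingSurjective.eq_1.{0, 0}
  have := @_root_.Nat.gcdB.eq_def
  have := @_root_.Int.gcdA.eq_def
  have := @_root_.Int.gcdA.eq_1
  have := @_root_.Nat.xgcdAux.eq_def
  have := @_root_.Int.gcdB.eq_def
  have := @_root_.Int.gcdB.eq_1
  have := @_root_.Nat.gcdA.eq_def
  have := @_root_.Nat.xgcd.eq_def
  have := @_root_.Nat.castOrderEmbedding.eq_def.{0}
  have := @_root_.Nat.castOrderEmbedding.eq_1.{0}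
  have := @_root_.WithOne.eq_def.{0}
  have := @_root_.WithOne.recOneCoe.eq_def.{0, 0}
  have := @_root_.WithOne.recOneCoe.eq_1.{0, 0}
  have := @_root_.WithZero.eq_def.{0}
  trivial

theorem m06_3 : True := by
  have := @_root_.WithZero.unzeroD.eq_def.{0}
  have := @_root_.WithOne.unoneD.eq_def.{0}
  have := @_root_.WithOne.coe.eq_def.{0}
  have := @_root_.WithZero.recZeroCoe.eq_def.{0, 0}
  have := @_root_.WithZero.recZeroCoe.eq_1.{0, 0}
  have := @_root_.WithOne.unone.eq_def.{0}
  have := @_root_.WithZero.unzero.eq_def.{0}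
  have := @_root_.WithZero.coe.eq_def.{0}
  have := @_root_.WithOne.map₂.eq_def.{0, 0, 0}
  have := @_root_.WithZero.map₂.eq_def.{0, 0, 0}
  have := @_root_.WithOne.map.eq_def.{0, 0}
  have := @_root_.WithZero.map.eq_def.{0, 0}
  have := @_root_.MulEquiv.toMonoidWithZeroHom.eq_def.{0, 0}
  have := @_root_.MulEquiv.toMonoidWithZeroHom.eq_1.{0, 0}
  have := @_root_.WithZero.logEquiv.eq_def.{0}
  have := @_root_.WithZero.logEquiv.eq_1.{0}
  have := @_root_.WithZero.log.eq_def.{0}
  have := @_root_.WithZero.lift'.eq_def.{0, 0}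
  have := @_root_.WithZero.lift'.eq_1.{0, 0}
  have := @_root_.WithZero.withZeroUnitsEquiv.eq_def.{0}
  have := @_root_.MulEquiv.withZero.eq_def.{0, 0}
  have := @_root_.MulEquiv.unzero.eq_def.{0, 0}
  have := @_root_.MulEquiv.unzero.eq_1.{0, 0}
  have := @_root_.WithZero.expRecOn.eq_def.{0, 0}
  have := @_root_.WithZero.expRecOn.eq_1.{0, 0}
  have := @_root_.WithZero.coeMonoidHom.eq_def.{0}
  have := @_root_.WithZero.coeMonoidHom.eq_1.{0}
  have := @_root_.WithZero.exp.eq_def.{0}
  have := @_root_.WithZero.map'.eq_def.{0, 0}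
  have := @_root_.WithZero.map'.eq_1.{0, 0}
  trivial

theorem m06_4 : True := by
  have := @_root_.WithZero.expEquiv.eq_def.{0}
  have := @_root_.WithZero.expEquiv.eq_1.{0}
  have := @_root_.WithZero.unitsWithZeroEquiv.eq_def.{0}
  have := @_root_.Nat.findX.congr_simp
  have := @_root_.Nat.findX.eq_def
  have := @_root_.Nat.findX.eq_1
  have := @_root_.Nat.find.eq_def
  have := @_root_.Nat.find.eq_1
  have := @_root_.Int.leastOfBdd.eq_def
  have := @_root_.Int.leastOfBdd.eq_1
  have := @_root_.Int.greatestOfBdd.eq_def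
  have := @_root_.Int.greatestOfBdd.eq_1
  have := @_root_.Invertible.mul.eq_def.{0}
  have := @_root_.Invertible.mul.eq_1.{0}
  have := @_root_.invertibleOfGroup.eq_def.{0}
  have := @_root_.invertibleOfGroup.eq_1.{0}
  have := @_root_.Invertible.copy.congr_simp.{0}
  have := @_root_.Invertible.copy.eq_def.{0}
  have := @_root_.Invertible.copy.eq_1.{0}
  have := @_root_.invertibleOne.eq_def.{0}
  have := @_root_.invertibleOne.eq_1.{0}
  have := @_root_.Invertible.copy'.congr_simp.{0}
  have := @_root_.Invertible.copy'.eq_def.{0}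
  have := @_root_.Invertible.copy'.eq_1.{0}
  have := @_root_.invertibleOfLeftInverse.congr_simp.{0}
  have := @_root_.invertibleOfLeftInverse.eq_def.{0}
  have := @_root_.invertibleOfLeftInverse.eq_1.{0}
  have := @_root_.invertibleMul.eq_def.{0}
  have := @_root_.invertibleMul.eq_1.{0}
  have := @_root_.invertibleOfRightInverse.congr_simp.{0}
  trivial

theorem m06_5 : True := by
  have := @_root_.invertibleOfRightInverse.eq_def.{0}
  have := @_root_.invertibleOfRightInverse.eq_1.{0}
  have := @_root_.Invertible.mulLeft.eq_def.{0}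
  have := @_root_.Invertible.mulLeft.eq_1.{0}
  have := @_root_.invertibleOfPowEqOne.congr_simp.{0}
  have := @_root_.invertibleOfPowEqOne.eq_def.{0}
  have := @_root_.invertibleOfPowEqOne.eq_1.{0}
  have := @_root_.unitOfInvertible.eq_def.{0}
  have := @_root_.unitOfInvertible.eq_1.{0}
  have := @_root_.Invertible.ofLeftInverse.congr_simp.{0, 0, 0}
  have := @_root_.Invertible.ofLeftInverse.eq_def.{0, 0, 0}
  have := @_root_.Invertible.ofLeftInverse.eq_1.{0, 0, 0}
  have := @_root_.Invertible.map.congr_simp.{0, 0, 0}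
  have := @_root_.Invertible.map.eq_def.{0, 0, 0}
  have := @_root_.Invertible.map.eq_1.{0, 0, 0}
  have := @_root_.Invertible.mulRight.eq_def.{0}
  have := @_root_.Invertible.mulRight.eq_1.{0}
  have := @_root_.invertibleOfInvertibleMul.eq_def.{0}
  have := @_root_.invertibleOfInvertibleMul.eq_1.{0}
  have := @_root_.invertibleEquivOfLeftInverse.congr_simp.{0, 0, 0, 0}
  have := @_root_.invertibleEquivOfLeftInverse.eq_def.{0, 0, 0, 0}
  have := @_root_.invertibleEquivOfLeftInverse.eq_1.{0, 0, 0, 0}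
  have := @_root_.invertibleOfMulInvertible.eq_def.{0}
  have := @_root_.invertibleOfMulInvertible.eq_1.{0}
  have := @_root_.IsUnit.invertible.congr_simp.{0}
  have := @_root_.IsUnit.invertible.eq_def.{0}
  have := @_root_.IsUnit.invertible.eq_1.{0}
  have := @_root_.invertibleOfNonzero.congr_simp.{0}
  have := @_root_.invertibleOfNonzero.eq_def.{0}
  have := @_root_.invertibleOfNonzero.eq_1.{0}
  trivial

theorem m06_6 : True := by
  have := @_root_.invertibleDiv.eq_def.{0}
  have := @_root_.invertibleDiv.eq_1.{0}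
  have := @_root_.invertibleNeg.eq_def.{0}
  have := @_root_.invertibleNeg.eq_1.{0}
  have := @_root_.AddUnits.mulRight.eq_def.{0}
  have := @_root_.AddUnits.mulRight.eq_1.{0}
  have := @_root_.AddUnits.mulLeft.eq_def.{0}
  have := @_root_.AddUnits.mulLeft.eq_1.{0}
  have := @_root_.Function.Injective.divisionSemiring.congr_simp.{0, 0}
  have := @_root_.Function.Injective.divisionSemiring.eq_def.{0, 0}
  have := @_root_.Function.Injective.divisionSemiring.eq_1.{0, 0}
  have := @_root_.Field.ofIsUnitOrEqZero.congr_simp.{0}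
  have := @_root_.Field.ofIsUnitOrEqZero.eq_def.{0}
  have := @_root_.Field.ofIsUnitOrEqZero.eq_1.{0}
  have := @_root_.Function.Injective.divisionRing.congr_simp.{0, 0}
  have := @_root_.Function.Injective.divisionRing.eq_def.{0, 0}
  have := @_root_.Function.Injective.divisionRing.eq_1.{0, 0}
  have := @_root_.Function.Injective.field.congr_simp.{0, 0}
  have := @_root_.Function.Injective.field.eq_def.{0, 0}
  have := @_root_.Function.Injective.field.eq_1.{0, 0}
  have := @_root_.DivisionRing.ofIsUnitOrEqZero.congr_simp.{0}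
  have := @_root_.DivisionRing.ofIsUnitOrEqZero.eq_def.{0}
  have := @_root_.DivisionRing.ofIsUnitOrEqZero.eq_1.{0}
  have := @_root_.Function.Injective.semifield.congr_simp.{0, 0}
  have := @_root_.Function.Injective.semifield.eq_def.{0, 0}
  have := @_root_.Function.Injective.semifield.eq_1.{0, 0}
  have := @_root_.invMonoidWithZeroHom.eq_def.{0}
  have := @_root_.invMonoidWithZeroHom.eq_1.{0}
  have := @_root_.MonoidWithZero.inverse.eq_def.{0}
  have := @_root_.MonoidWithZero.inverse.eq_1.{0}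
  trivial

theorem m06_7 : True := by
  have := @_root_.Equiv.mulLeft₀.eq_def.{0}
  have := @_root_.Equiv.mulLeft₀.eq_1.{0}
  have := @_root_.Equiv.divRight₀.eq_def.{0}
  have := @_root_.Equiv.divRight₀.eq_1.{0}
  have := @_root_.Equiv.divLeft₀.congr_simp.{0}
  have := @_root_.Equiv.divLeft₀.eq_def.{0}
  have := @_root_.Equiv.divLeft₀.eq_1.{0}
  have := @_root_.Equiv.mulRight₀.eq_def.{0}
  have := @_root_.Equiv.mulRight₀.eq_1.{0}
  have := @_root_.unitsEquivNeZero.eq_def.{0}
  have := @_root_.unitsEquivNeZero.eq_1.{0}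
  have := @_root_.Equiv.dvd.eq_def.{0}
  have := @_root_.Equiv.dvd.eq_1.{0}
  have := @_root_.Equiv.Set.sep.eq_def.{0}
  have := @_root_.Equiv.Set.sep.eq_1.{0}
  have := @_root_.Set.BijOn.equiv.congr_simp.{0, 0}
  have := @_root_.Set.BijOn.equiv.eq_def.{0, 0}
  have := @_root_.Equiv.Set.congr.eq_def.{0, 0}
  have := @_root_.Equiv.Set.congr.eq_1.{0, 0}
  have := @_root_.Equiv.ofInjective.eq_def.{0, 0}
  have := @_root_.Equiv.ofInjective.eq_1.{0, 0}
  have := @_root_.Equiv.Set.powerset.eq_def.{0}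
  have := @_root_.Equiv.Set.powerset.eq_1.{0}
  have := @_root_.Equiv.Set.rangeInr.eq_def.{0, 0}
  have := @_root_.Equiv.Set.rangeInr.eq_1.{0, 0}
  have := @_root_.Equiv.Set.imageOfInjOn.congr_simp.{0, 0}
  have := @_root_.Equiv.Set.imageOfInjOn.eq_def.{0, 0}
  have := @_root_.Equiv.Set.imageOfInjOn.eq_1.{0, 0}
  have := @_root_.Equiv.Set.sumDiffSubset.eq_def.{0}
  have := @_root_.Equiv.Set.sumDiffSubset.eq_1.{0}
  trivial

theorem m06_8 : True := by
  have := @_root_.Equiv.ofPreimageEquiv.eq_def.{0, 0, 0}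
  have := @_root_.Equiv.ofPreimageEquiv.eq_1.{0, 0, 0}
  have := @_root_.Equiv.setProdEquivSigma.eq_def.{0, 0}
  have := @_root_.Equiv.setProdEquivSigma.eq_1.{0, 0}
  have := @_root_.Equiv.setCongr.eq_def.{0}
  have := @_root_.Equiv.Set.pempty.eq_def.{0, 0}
  have := @_root_.Equiv.Set.pempty.eq_1.{0, 0}
  have := @_root_.Equiv.Set.unionSumInter.eq_def.{0}
  have := @_root_.Equiv.Set.unionSumInter.eq_1.{0}
  have := @_root_.Equiv.Set.union.eq_def.{0}
  have := @_root_.Equiv.Set.union.eq_1.{0}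
  have := @_root_.Equiv.Set.rangeInl.eq_def.{0, 0}
  have := @_root_.Equiv.Set.rangeInl.eq_1.{0, 0}
  have := @_root_.Equiv.Set.image.eq_def.{0, 0}
  have := @_root_.Equiv.Set.image.eq_1.{0, 0}
  have := @_root_.Equiv.sigmaPreimageEquiv.eq_def.{0, 0}
  have := @_root_.Equiv.sigmaPreimageEquiv.eq_1.{0, 0}
  have := @_root_.Equiv.Set.union'.congr_simp.{0}
  have := @_root_.Equiv.Set.union'.eq_def.{0}
  have := @_root_.Equiv.Set.union'.eq_1.{0}
  have := @_root_.Equiv.ofLeftInverse.eq_def.{0, 0}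
  have := @_root_.Equiv.ofLeftInverse.eq_1.{0, 0}
  have := @_root_.Equiv.Set.insert.eq_def.{0}
  have := @_root_.Equiv.Set.insert.eq_1.{0}
  have := @_root_.Equiv.Set.sumCompl.eq_def.{0}
  have := @_root_.Equiv.Set.sumCompl.eq_1.{0}
  have := @_root_.Equiv.Set.rangeSplittingImageEquiv.eq_def.{0, 0}
  have := @_root_.Equiv.Set.rangeSplittingImageEquiv.eq_1.{0, 0}
  have := @_root_.Equiv.ofLeftInverse'.eq_def.{0, 0}
  have := @_root_.Equiv.ofLeftInverse'.eq_1.{0, 0}
  trivial

theorem m06_9 : True := by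
  have := @_root_.Equiv.Set.univPi.eq_def.{0, 0}
  have := @_root_.Equiv.Set.univPi.eq_1.{0, 0}
  have := @_root_.Equiv.Set.prod.eq_def.{0, 0}
  have := @_root_.Equiv.Set.prod.eq_1.{0, 0}
  have := @_root_.Equiv.Set.compl.eq_def.{0, 0}
  have := @_root_.Equiv.Set.compl.eq_1.{0, 0}
  have := @_root_.Equiv.Set.singleton.eq_def.{0, 0}
  have := @_root_.Equiv.Set.singleton.eq_1.{0, 0}
  have := @_root_.Equiv.image.eq_def.{0, 0}
  have := @_root_.Equiv.image.eq_1.{0, 0}
  have := @_root_.Equiv.Set.empty.eq_def.{0}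
  have := @_root_.Equiv.Set.empty.eq_1.{0}
  have := @_root_.Equiv.Set.univ.eq_def.{0}
  have := @_root_.StrictMonoOn.orderIso.congr_simp.{0, 0}
  have := @_root_.StrictMonoOn.orderIso.eq_def.{0, 0}
  have := @_root_.StrictMonoOn.orderIso.eq_1.{0, 0}
  have := @_root_.OrderIso.setCongr.eq_def.{0}
  have := @_root_.OrderIso.setCongr.eq_1.{0}
  have := @_root_.StrictMono.orderIso.eq_def.{0, 0}
  have := @_root_.StrictMono.orderIso.eq_1.{0, 0}
  have := @_root_.OrderIso.Icc.eq_def.{0, 0}
  have := @_root_.OrderIso.Icc.eq_1.{0, 0}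
  have := @_root_.OrderIso.Ici.eq_def.{0, 0}
  have := @_root_.OrderIso.Ici.eq_1.{0, 0}
  have := @_root_.OrderIso.Iic.eq_def.{0, 0}
  have := @_root_.OrderIso.Iic.eq_1.{0, 0}
  have := @_root_.Set.sumEquiv.eq_def.{0, 0}
  have := @_root_.Set.sumEquiv.eq_1.{0, 0}
  have := @_root_.StrictMono.orderIsoOfSurjective.congr_simp.{0, 0}
  have := @_root_.StrictMono.orderIsoOfSurjective.eq_def.{0, 0}
  trivial

theorem m06_10 : True := by
  have := @_root_.StrictMono.orderIsoOfSurjective.eq_1.{0, 0}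
  have := @_root_.OrderIso.compl.eq_def.{0}
  have := @_root_.OrderIso.compl.eq_1.{0}
  have := @_root_.OrderIso.Set.univ.eq_def.{0}
  have := @_root_.OrderIso.Set.univ.eq_1.{0}
  have := @_root_.OrderEmbedding.orderIso.eq_def.{0, 0}
  have := @_root_.OrderEmbedding.orderIso.eq_1.{0, 0}
  have := @_root_.DvdNotUnit.eq_def.{0}
  have := @_root_.iSup.eq_def.{0, 0}
  have := @_root_.Set.iUnion.eq_def.{0, 0}
  have := @_root_.iInf.eq_def.{0, 0}
  have := @_root_.Set.iInter.eq_def.{0, 0}
  have := @_root_.Set.sUnion.eq_def.{0}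
  have := @_root_.Set.sUnion.eq_1.{0}
  have := @_root_.Set.sInter.eq_def.{0}
  have := @_root_.Set.sInter.eq_1.{0}
  have := @_root_.completeLatticeOfCompleteSemilatticeSup.eq_def.{0}
  have := @_root_.completeLatticeOfCompleteSemilatticeSup.eq_1.{0}
  have := @_root_.CompleteSemilatticeInf.mk.congr_simp.{0}
  have := @_root_.CompleteLinearOrder.mk.congr_simp.{0}
  have := @_root_.CompleteLattice.mk.congr_simp.{0}
  have := @_root_.completeLatticeOfInf.congr_simp.{0}
  have := @_root_.completeLatticeOfInf.eq_def.{0}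
  have := @_root_.completeLatticeOfInf.eq_1.{0}
  have := @_root_.Equiv.infSet.eq_def.{0, 0}
  have := @_root_.Equiv.infSet.eq_1.{0, 0}
  have := @_root_.Equiv.supSet.eq_def.{0, 0}
  have := @_root_.Equiv.supSet.eq_1.{0, 0}
  have := @_root_.completeLatticeOfCompleteSemilatticeInf.eq_def.{0}
  have := @_root_.completeLatticeOfCompleteSemilatticeInf.eq_1.{0}
  trivial

theorem m06_11 : True := by
  have := @_root_.CompleteSemilatticeSup.mk.congr_simp.{0}
  have := @_root_.completeLatticeOfSup.congr_simp.{0}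
  have := @_root_.completeLatticeOfSup.eq_def.{0}
  have := @_root_.completeLatticeOfSup.eq_1.{0}
  have := @_root_.Function.Injective.completeLattice.congr_simp.{0, 0}
  have := @_root_.Function.Injective.completeLattice.eq_def.{0, 0}
  have := @_root_.Function.Injective.completeLattice.eq_1.{0, 0}
  have := @_root_.Equiv.completeLattice.eq_def.{0, 0}
  have := @_root_.Equiv.completeLattice.eq_1.{0, 0}
  have := @_root_.Set.sigmaToiUnion.eq_def.{0, 0}
  have := @_root_.Set.sigmaToiUnion.eq_1.{0, 0}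
  have := @_root_.Set.sUnionPowersetGI.eq_def.{0}
  have := @_root_.Set.sUnionPowersetGI.eq_1.{0}
  have := @_root_.Set.unionEqSigmaOfDisjoint.congr_simp.{0, 0}
  have := @_root_.Set.unionEqSigmaOfDisjoint.eq_def.{0, 0}
  have := @_root_.Set.unionEqSigmaOfDisjoint.eq_1.{0, 0}
  have := @_root_.Set.sigmaEquiv.eq_def.{0, 0}
  have := @_root_.Set.sigmaEquiv.eq_1.{0, 0}
  have := @_root_.Set.PairwiseDisjoint.eq_def.{0, 0}
  have := @_root_.SetLike.instSubtype.eq_def.{0, 0}
  have := @_root_.SetLike.instSubtype.eq_1.{0, 0}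
  have := @_root_.SetLike.instSubtypeSet.eq_def.{0}
  have := @_root_.SetLike.instSubtypeSet.eq_1.{0}
  have := @_root_.LE.ofSetLike.eq_def.{0, 0}
  have := @_root_.LE.ofSetLike.eq_1.{0, 0}
  have := @_root_.IsConcreteLE.mk.congr_simp.{0, 0}
  have := @_root_.PartialOrder.ofSetLike.eq_def.{0, 0}
  have := @_root_.PartialOrder.ofSetLike.eq_1.{0, 0}
  have := @_root_.SetLike.mk.congr_simp.{0, 0}
  have := @_root_.subsetInfSet.eq_def.{0}
  trivial

theorem m06_12 : True := by
  have := @_root_.subsetInfSet.eq_1.{0}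
  have := @_root_.subsetConditionallyCompleteLinearOrder.congr_simp.{0}
  have := @_root_.subsetConditionallyCompleteLinearOrder.eq_def.{0}
  have := @_root_.subsetConditionallyCompleteLinearOrder.eq_1.{0}
  have := @_root_.subsetSupSet.eq_def.{0}
  have := @_root_.subsetSupSet.eq_1.{0}
  have := @_root_.Nat.factorialBinarySplitting.eq_def
  have := @_root_.Nat.ascFactorialBinary.eq_1
  have := @_root_.Nat.descFactorialBinary.eq_def
  have := @_root_.Function.support.eq_def.{0, 0}
  have := @_root_.Function.mulSupport.eq_def.{0, 0}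
  have := @_root_.Units.mulDistribMulActionRight.eq_def.{0, 0}
  have := @_root_.Units.mulDistribMulActionRight.eq_1.{0, 0}
  have := @_root_.arrowAddAction.eq_def.{0, 0, 0}
  have := @_root_.MulDistribMulAction.toMonoidEnd.eq_def.{0, 0}
  have := @_root_.MulDistribMulAction.toMonoidEnd.eq_1.{0, 0}
  have := @_root_.Function.Surjective.mulDistribMulAction.congr_simp.{0, 0, 0}
  have := @_root_.Function.Surjective.mulDistribMulAction.eq_def.{0, 0, 0}
  have := @_root_.Function.Surjective.mulDistribMulAction.eq_1.{0, 0, 0}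
  have := @_root_.arrowAction.eq_def.{0, 0, 0}
  have := @_root_.MulAction.toPerm.eq_def.{0, 0}
  have := @_root_.MulDistribMulAction.toMonoidHom.eq_def.{0, 0}
  have := @_root_.MulDistribMulAction.toMonoidHom.eq_1.{0, 0}
  have := @_root_.AddAction.toPerm.eq_def.{0, 0}
  have := @_root_.arrowMulDistribMulAction.eq_def.{0, 0, 0}
  have := @_root_.arrowMulDistribMulAction.eq_1.{0, 0, 0}
  have := @_root_.AddAction.toFun.eq_def.{0, 0}
  have := @_root_.MulAction.toFun.eq_def.{0, 0}
  have := @_root_.Function.Injective.mulDistribMulAction.congr_simp.{0, 0, 0}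
  have := @_root_.Function.Injective.mulDistribMulAction.eq_def.{0, 0, 0}
  trivial

theorem m06_13 : True := by
  have := @_root_.Function.Injective.mulDistribMulAction.eq_1.{0, 0, 0}
  have := @_root_.Set.vaddSet.eq_def.{0, 0}
  have := @_root_.Set.smul.eq_def.{0, 0}
  have := @_root_.Set.smulSet.eq_def.{0, 0}
  have := @_root_.Set.vadd.eq_def.{0, 0}
  have := @_root_.Multiset.Le.eq_def.{0}
  have := @_root_.Multiset.Le.eq_1.{0}
  have := @_root_.Multiset.card.eq_def.{0}
  have := @_root_.Multiset.card.eq_1.{0}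
  have := @_root_.Multiset.Nodup.eq_def.{0}
  have := @_root_.Multiset.Nodup.eq_1.{0}
  have := @_root_.Multiset.sizeOf.eq_def.{0}
  have := @_root_.Multiset.sizeOf.eq_1.{0}
  have := @_root_.Multiset.Mem.eq_def.{0}
  have := @_root_.Multiset.Mem.eq_1.{0}
  have := @_root_.Multiset.decidableForallMultiset.eq_def.{0}
  have := @_root_.Multiset.decidableForallMultiset.eq_1.{0}
  have := @_root_.Multiset.attach.eq_def.{0}
  have := @_root_.Multiset.attach.eq_1.{0}
  have := @_root_.Multiset.eq_def.{0}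
  have := @_root_.Multiset.eq_1.{0}
  have := @_root_.Multiset.pmap.eq_def.{0, 0}
  have := @_root_.Multiset.pmap.eq_1.{0, 0}
  have := @_root_.Multiset.Subset.eq_def.{0}
  have := @_root_.Multiset.Subset.eq_1.{0}
  have := @_root_.Multiset.Pairwise.eq_def.{0}
  have := @_root_.Multiset.Pairwise.eq_1.{0}
  have := @_root_.Multiset.ofList.eq_def.{0}
  have := @_root_.Multiset.ofList.eq_1.{0}
  have := @_root_.Multiset.decidableExistsMultiset.eq_def.{0}
  trivial

theorem m06_14 : True := by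
  have := @_root_.Multiset.decidableExistsMultiset.eq_1.{0}
  have := @_root_.Finset.coeEmb.eq_def.{0}
  have := @_root_.Multiset.zero.eq_def.{0}
  have := @_root_.Multiset.zero.eq_1.{0}
  have := @_root_.Multiset.recOn.eq_def.{0, 0}
  have := @_root_.Multiset.recOn.eq_1.{0, 0}
  have := @_root_.Multiset.Rel.below.cons.congr_simp.{0, 0}
  have := @_root_.Multiset.Rel.cons.congr_simp.{0, 0}
  have := @_root_.Multiset.cons.eq_def.{0}
  have := @_root_.Multiset.cons.eq_1.{0}
  have := @_root_.Multiset.count.eq_def.{0}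
  have := @_root_.Multiset.countP.eq_def.{0}
  have := @_root_.Multiset.countP.eq_1.{0}
  have := @_root_.Multiset.erase.eq_def.{0}
  have := @_root_.Multiset.erase.eq_1.{0}
  have := @_root_.Multiset.sub.eq_def.{0}
  have := @_root_.Multiset.sub.eq_1.{0}
  have := @_root_.Multiset.add.eq_def.{0}
  have := @_root_.Multiset.add.eq_1.{0}
  have := @_root_.Multiset.replicate.eq_def.{0}
  have := @_root_.Multiset.map.eq_def.{0, 0}
  have := @_root_.Multiset.map.eq_1.{0, 0}
  have := @_root_.Multiset.foldr.eq_def.{0, 0}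
  have := @_root_.Multiset.foldr.eq_1.{0, 0}
  have := @_root_.Multiset.foldl.eq_def.{0, 0}
  have := @_root_.Multiset.foldl.eq_1.{0, 0}
  have := @_root_.Finset.attach.eq_def.{0}
  have := @_root_.Finset.attach.eq_1.{0}
  have := @_root_.Multiset.mapEmbedding.eq_def.{0, 0}
  have := @_root_.Multiset.mapEmbedding.eq_1.{0, 0}
  trivial

end Cfsg.Rz
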