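import Cfsg.Agent.Rz.M06

/-! Generated file: forces on-demand equation and congruence lemmas to be created once. -/

set_option linter.all false

namespace Cfsg.Rz

theorem m07_0 : True := by
  have := @_root_.Multiset.filterMap.eq_def.{0, 0}
  have := @_root_.Multiset.filterMap.eq_1.{0, 0}
  have := @_root_.Multiset.filter.eq_def.{0}
  have := @_root_.Multiset.filter.eq_1.{0}
  have := @_root_.Multiset.union.eq_def.{0}
  have := @_root_.Multiset.inter.eq_def.{0}
  have := @_root_.Multiset.inter.eq_1.{0}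
  have := @_root_.Multiset.dedup.eq_def.{0}
  have := @_root_.Multiset.dedup.eq_1.{0}
  have := @_root_.Multiset.toList.eq_def.{0}
  have := @_root_.Multiset.toList.eq_1.{0}
  have := @_root_.Multiset.strongDownwardInduction.congr_simp.{0, 0}
  have := @_root_.Multiset.strongDownwardInductionOn.congr_simp.{0, 0}
  have := @_root_.Multiset.strongDownwardInductionOn.eq_def.{0, 0}
  have := @_root_.Multiset.strongDownwardInductionOn.eq_1.{0, 0}
  have := @_root_.Multiset.choose.eq_def.{0}
  have := @_root_.Multiset.choose.eq_1.{0}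
  have := @_root_.Multiset.chooseX.congr_simp.{0}
  have := @_root_.Multiset.chooseX.eq_def.{0}
  have := @_root_.Multiset.chooseX.eq_1.{0}
  have := @_root_.Multiset.subsingletonEquiv.congr_simp.{0}
  have := @_root_.Multiset.subsingletonEquiv.eq_def.{0}
  have := @_root_.Multiset.subsingletonEquiv.eq_1.{0}
  have := @_root_.Finset.toList.eq_def.{0}
  have := @_root_.Multiset.toFinset.eq_def.{0}
  have := @_root_.Finset.Nonempty.eq_def.{0}
  have := @_root_.Finset.empty.eq_def.{0}
  have := @_root_.Finset.empty.eq_1.{0}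
  have := @_root_.Multiset.ndinter.eq_def.{0}
  have := @_root_.Multiset.ndinsert.eq_def.{0}
  trivial

theorem m07_1 : True := by
  have := @_root_.Multiset.ndinsert.eq_1.{0}
  have := @_root_.Multiset.ndunion.eq_def.{0}
  have := @_root_.Multiset.ndunion.eq_1.{0}
  have := @_root_.Finset.insertPiProdEquiv.congr_simp.{0, 0}
  have := @_root_.Finset.insertPiProdEquiv.eq_def.{0, 0}
  have := @_root_.Finset.insertPiProdEquiv.eq_1.{0, 0}
  have := @_root_.Finset.consPiProdEquiv.eq_def.{0, 0}
  have := @_root_.Finset.consPiProdEquiv.eq_1.{0, 0}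
  have := @_root_.Finset.subtypeInsertEquivOption.congr_simp.{0}
  have := @_root_.Finset.subtypeInsertEquivOption.eq_def.{0}
  have := @_root_.Finset.subtypeInsertEquivOption.eq_1.{0}
  have := @_root_.Finset.prodPiInsert.eq_def.{0, 0}
  have := @_root_.Finset.consPiProd.eq_def.{0, 0}
  have := @_root_.Finset.prodPiCons.eq_def.{0, 0}
  have := @_root_.Finset.insertPiProd.eq_def.{0, 0}
  have := @_root_.Finset.Nontrivial.eq_def.{0}
  have := @_root_.Finset.cons.eq_def.{0}
  have := @_root_.Finset.cons.eq_1.{0}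
  have := @_root_.Finset.disjUnion.eq_def.{0}
  have := @_root_.Finset.disjUnion.eq_1.{0}
  have := @_root_.Finset.erase.eq_def.{0}
  have := @_root_.Finset.filter.eq_def.{0}
  have := @_root_.Finset.filter.eq_1.{0}
  have := @_root_.Multiset.range.eq_def
  have := @_root_.Finset.range.eq_def
  have := @_root_.notMemRangeEquiv.eq_def
  have := @_root_.notMemRangeEquiv.eq_1
  have := @_root_.Finset.equivToSet.eq_def.{0}
  have := @_root_.Finset.equivToSet.eq_1.{0}
  have := @_root_.Finset.choose.eq_def.{0}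
  trivial

theorem m07_2 : True := by
  have := @_root_.Finset.choose.eq_1.{0}
  have := @_root_.Equiv.Finset.disjUnionEquiv.eq_def.{0}
  have := @_root_.Equiv.Finset.disjUnionEquiv.eq_1.{0}
  have := @_root_.Equiv.Finset.union.eq_def.{0}
  have := @_root_.Equiv.Finset.union.eq_1.{0}
  have := @_root_.Equiv.piFinsetUnion.eq_def.{0, 0}
  have := @_root_.Finset.chooseX.congr_simp.{0}
  have := @_root_.Finset.chooseX.eq_def.{0}
  have := @_root_.Finset.chooseX.eq_1.{0}
  have := @_root_.Infinite.mk.congr_simp.{0}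
  have := @_root_.Set.Finite.eq_def.{0}
  have := @_root_.Set.Infinite.eq_def.{0}
  have := @_root_.Finset.univ.eq_def.{0}
  have := @_root_.Finset.univ.eq_1.{0}
  have := @_root_.Fintype.mk.congr_simp.{0}
  have := @_root_.Fintype.ofFinset.congr_simp.{0}
  have := @_root_.Fintype.ofFinset.eq_def.{0}
  have := @_root_.Fintype.ofFinset.eq_1.{0}
  have := @_root_.Fintype.subtype.congr_simp.{0}
  have := @_root_.Fintype.subtype.eq_def.{0}
  have := @_root_.Fintype.subtype.eq_1.{0}
  have := @_root_.Finset.mapEmbedding.eq_def.{0, 0}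
  have := @_root_.Finset.mapEmbedding.eq_1.{0, 0}
  have := @_root_.Equiv.finsetSubtypeComm.eq_def.{0}
  have := @_root_.Equiv.finsetSubtypeComm.eq_1.{0}
  have := @_root_.Finset.filterMap.eq_def.{0, 0}
  have := @_root_.Finset.filterMap.eq_1.{0, 0}
  have := @_root_.Finset.map.eq_def.{0, 0}
  have := @_root_.Equiv.finsetCongr.eq_def.{0, 0}
  have := @_root_.Equiv.finsetCongr.eq_1.{0, 0}
  trivial

theorem m07_3 : True := by
  have := @_root_.Finset.equivMap.eq_def.{0, 0}
  have := @_root_.Finset.equivMap.eq_1.{0, 0}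
  have := @_root_.Finset.image.eq_def.{0, 0}
  have := @_root_.Finset.subtype.eq_def.{0}
  have := @_root_.Finset.card.eq_def.{0}
  have := @_root_.Finset.strongDownwardInduction.congr_simp.{0, 0}
  have := @_root_.Finset.strongDownwardInductionOn.congr_simp.{0, 0}
  have := @_root_.Finset.strongDownwardInductionOn.eq_def.{0, 0}
  have := @_root_.Finset.strongDownwardInductionOn.eq_1.{0, 0}
  have := @_root_.Finset.strongInductionOn.eq_def.{0, 0}
  have := @_root_.Finset.strongInductionOn.eq_1.{0, 0}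
  have := @_root_.Fintype.ofSubsingleton.congr_simp.{0}
  have := @_root_.Fintype.ofSubsingleton.eq_def.{0}
  have := @_root_.Fintype.ofSubsingleton.eq_1.{0}
  have := @_root_.Fintype.ofInjective.congr_simp.{0, 0}
  have := @_root_.Fintype.ofInjective.eq_def.{0, 0}
  have := @_root_.Fintype.ofInjective.eq_1.{0, 0}
  have := @_root_.Fintype.ofEquiv.eq_def.{0, 0}
  have := @_root_.Fintype.ofEquiv.eq_1.{0, 0}
  have := @_root_.Fintype.ofBijective.eq_def.{0, 0}
  have := @_root_.Fintype.ofBijective.eq_1.{0, 0}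
  have := @_root_.Fintype.ofList.congr_simp.{0}
  have := @_root_.Fintype.ofList.eq_def.{0}
  have := @_root_.Fintype.ofList.eq_1.{0}
  have := @_root_.Fintype.ofSurjective.congr_simp.{0, 0}
  have := @_root_.Fintype.ofSurjective.eq_def.{0, 0}
  have := @_root_.Fintype.ofSurjective.eq_1.{0, 0}
  have := @_root_.Fintype.ofMultiset.congr_simp.{0}
  have := @_root_.Fintype.ofMultiset.eq_def.{0}
  have := @_root_.Fintype.ofMultiset.eq_1.{0}
  trivial

theorem m07_4 : True := by
  have := @_root_.Fintype.ofIsEmpty.congr_simp.{0}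
  have := @_root_.Fintype.ofIsEmpty.eq_def.{0}
  have := @_root_.Fintype.ofIsEmpty.eq_1.{0}
  have := @_root_.Set.decidableMemOfFintype.eq_def.{0}
  have := @_root_.Set.decidableMemOfFintype.eq_1.{0}
  have := @_root_.Set.toFinset.eq_def.{0}
  have := @_root_.Fintype.finsetEquivSet.eq_def.{0}
  have := @_root_.setFintype.eq_def.{0}
  have := @_root_.setFintype.eq_1.{0}
  have := @_root_.precheckFinsetStx.eq_def
  have := @_root_.precheckFinsetStx.eq_1
  have := @_root_.finsetStx.eq_def
  have := @_root_.finsetStx.eq_1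
  have := @_root_.Fintype.finsetOrderIsoSet.eq_def.{0}
  have := @_root_.Fintype.finsetOrderIsoSet.eq_1.{0}
  have := @_root_.finZeroElim.eq_def.{0}
  have := @_root_.finZeroElim.eq_1.{0}
  have := @_root_.Fin.rec0.eq_def.{0}
  have := @_root_.Fin.rec0.eq_1.{0}
  have := @_root_.Fin.equivSubtype.eq_def
  have := @_root_.Fin.equivSubtype.eq_1
  have := @_root_.finCongr.eq_def
  have := @_root_.finCongr.eq_1
  have := @_root_.Fin.predAbove.eq_def
  have := @_root_.Fin.castPred.eq_def
  have := @_root_.Fin.succAbove.eq_def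
  have := @_root_.Fin.revPerm.eq_def
  have := @_root_.Fin.revPerm.eq_1
  have := @_root_.Fin.succEmb.eq_def
  have := @_root_.Fin.succEmb.eq_1
  trivial

theorem m07_5 : True := by
  have := @_root_.Fin.castLEEmb.eq_def
  have := @_root_.Fin.castLEEmb.eq_1
  have := @_root_.Fin.addNatEmb.eq_def
  have := @_root_.Fin.addNatEmb.eq_1
  have := @_root_.Fin.natAdd_castLEEmb.eq_def
  have := @_root_.Fin.castSuccEmb.eq_def
  have := @_root_.Fin.castSuccEmb.eq_1
  have := @_root_.Fin.castAddEmb.eq_def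
  have := @_root_.Fin.castAddEmb.eq_1
  have := @_root_.Fin.natAddEmb.eq_def
  have := @_root_.Fin.natAddEmb.eq_1
  have := @_root_.Fin.succAboveEmb.eq_def
  have := @_root_.Fin.succAboveEmb.eq_1
  have := @_root_.Fin.valEmbedding.eq_def
  have := @_root_.Fin.valEmbedding.eq_1
  have := @_root_.Fin.insertNthEquiv.eq_def.{0}
  have := @_root_.Fin.repeat.eq_def.{0}
  have := @_root_.Fin.snoc.eq_def.{0}
  have := @_root_.Fin.find.eq_def
  have := @_root_.Fin.find.eq_1
  have := @_root_.Fin.tail.eq_def.{0}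
  have := @_root_.Fin.snocEquiv.eq_def.{0}
  have := @_root_.Fin.snocEquiv.eq_1.{0}
  have := @_root_.Fin.removeNth.eq_def.{0}
  have := @_root_.Fin.cons.eq_def.{0}
  have := @_root_.Fin.append.eq_def.{0}
  have := @_root_.Fin.succAboveCases.eq_def.{0}
  have := @_root_.Fin.consEquiv.eq_def.{0}
  have := @_root_.Fin.consEquiv.eq_1.{0}
  have := @_root_.Fin.init.eq_def.{0}
  trivial

theorem m07_6 : True := by
  have := @_root_.piFinTwoEquiv.eq_def.{0}
  have := @_root_.piFinTwoEquiv.eq_1.{0}
  have := @_root_.Fin.contractNth.eq_def.{0}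
  have := @_root_.Fin.consInduction.eq_def.{0, 0}
  have := @_root_.Fin.consInduction.eq_1.{0, 0}
  have := @_root_.Fin.snocCases.eq_def.{0, 0}
  have := @_root_.Fin.consCases.eq_def.{0, 0}
  have := @_root_.Fin.snocInduction.eq_def.{0, 0}
  have := @_root_.Fin.snocInduction.eq_1.{0, 0}
  have := @_root_.Fin.insertNth.eq_def.{0}
  have := @_root_.Fintype.prodLeft.congr_simp.{0, 0}
  have := @_root_.Fintype.prodLeft.eq_def.{0, 0}
  have := @_root_.Fintype.prodLeft.eq_1.{0, 0}
  have := @_root_.truncOfMultisetExistsMem.congr_simp.{0}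
  have := @_root_.truncOfMultisetExistsMem.eq_def.{0}
  have := @_root_.truncOfMultisetExistsMem.eq_1.{0}
  have := @_root_.truncSigmaOfExists.congr_simp.{0}
  have := @_root_.truncSigmaOfExists.eq_def.{0}
  have := @_root_.truncSigmaOfExists.eq_1.{0}
  have := @_root_.Fintype.prodRight.congr_simp.{0, 0}
  have := @_root_.Fintype.prodRight.eq_def.{0, 0}
  have := @_root_.Fintype.prodRight.eq_1.{0, 0}
  have := @_root_.truncOfNonemptyFintype.congr_simp.{0}
  have := @_root_.truncOfNonemptyFintype.eq_def.{0}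
  have := @_root_.truncOfNonemptyFintype.eq_1.{0}
  have := @_root_.seqOfForallFinsetExistsAux.congr_simp.{0}
  have := @_root_.Fintype.cardEqZeroEquivEquivEmpty.eq_def.{0}
  have := @_root_.Fintype.cardEqZeroEquivEquivEmpty.eq_1.{0}
  have := @_root_.Fintype.card.eq_def.{0}
  have := @_root_.truncOfCardPos.congr_simp.{0}
  trivial

theorem m07_7 : True := by
  have := @_root_.truncOfCardPos.eq_def.{0}
  have := @_root_.truncOfCardPos.eq_1.{0}
  have := @_root_.Fintype.sumLeft.eq_def.{0, 0}
  have := @_root_.Fintype.sumLeft.eq_1.{0, 0}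
  have := @_root_.Fintype.sumRight.eq_def.{0, 0}
  have := @_root_.Fintype.sumRight.eq_1.{0, 0}
  have := @_root_.Fintype.equivOfCardEq.eq_def.{0, 0}
  have := @_root_.Fintype.equivOfCardEq.eq_1.{0, 0}
  have := @_root_.fintypeOfFinsetCardLe.congr_simp.{0}
  have := @_root_.fintypeOfFinsetCardLe.eq_def.{0}
  have := @_root_.fintypeOfFinsetCardLe.eq_1.{0}
  have := @_root_.Function.Embedding.truncOfCardLE.congr_simp.{0, 0}
  have := @_root_.Function.Embedding.truncOfCardLE.eq_def.{0, 0}
  have := @_root_.Function.Embedding.truncOfCardLE.eq_1.{0, 0}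
  have := @_root_.Finset.equivFinOfCardEq.eq_def.{0}
  have := @_root_.Finset.equivFinOfCardEq.eq_1.{0}
  have := @_root_.Fintype.ofFinite.eq_def.{0}
  have := @_root_.Fintype.ofFinite.eq_1.{0}
  have := @_root_.Fintype.truncEquivFinOfCardEq.congr_simp.{0}
  have := @_root_.Fintype.truncEquivFinOfCardEq.eq_def.{0}
  have := @_root_.Fintype.truncEquivFinOfCardEq.eq_1.{0}
  have := @_root_.Equiv.ofLeftInverseOfCardLE.congr_simp.{0, 0}
  have := @_root_.Equiv.ofLeftInverseOfCardLE.eq_def.{0, 0}
  have := @_root_.Equiv.ofLeftInverseOfCardLE.eq_1.{0, 0}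
  have := @_root_.Equiv.embeddingEquivOfFinite.eq_def.{0}
  have := @_root_.Equiv.embeddingEquivOfFinite.eq_1.{0}
  have := @_root_.Fintype.equivFin.eq_def.{0}
  have := @_root_.Fintype.equivFin.eq_1.{0}
  have := @_root_.Finset.equivFin.eq_def.{0}
  have := @_root_.Finset.equivFin.eq_1.{0}
  trivial

theorem m07_8 : True := by
  have := @_root_.Fintype.truncEquivFin.eq_def.{0}
  have := @_root_.Fintype.truncEquivFin.eq_1.{0}
  have := @_root_.fintypeOrInfinite.eq_def.{0}
  have := @_root_.fintypeOrInfinite.eq_1.{0}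
  have := @_root_.Fintype.truncEquivOfCardEq.congr_simp.{0, 0}
  have := @_root_.Fintype.truncEquivOfCardEq.eq_def.{0, 0}
  have := @_root_.Fintype.truncEquivOfCardEq.eq_1.{0, 0}
  have := @_root_.fintypeOfNotInfinite.congr_simp.{0}
  have := @_root_.fintypeOfNotInfinite.eq_def.{0}
  have := @_root_.fintypeOfNotInfinite.eq_1.{0}
  have := @_root_.Infinite.natEmbedding.eq_def.{0}
  have := @_root_.Infinite.natEmbedding.eq_1.{0}
  have := @_root_.Finset.equivOfCardEq.congr_simp.{0, 0}
  have := @_root_.Finset.equivOfCardEq.eq_def.{0, 0}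
  have := @_root_.Finset.equivOfCardEq.eq_1.{0, 0}
  have := @_root_.Fintype.equivFinOfCardEq.eq_def.{0}
  have := @_root_.Fintype.equivFinOfCardEq.eq_1.{0}
  have := @_root_.Equiv.ofRightInverseOfCardLE.congr_simp.{0, 0}
  have := @_root_.Equiv.ofRightInverseOfCardLE.eq_def.{0, 0}
  have := @_root_.Equiv.ofRightInverseOfCardLE.eq_1.{0, 0}
  have := @_root_.Fintype.truncFinBijection.eq_def.{0}
  have := @_root_.Fintype.truncFinBijection.eq_1.{0}
  have := @_root_.Function.Embedding.equivOfFiniteSelfEmbedding.congr_simp.{0}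
  have := @_root_.Function.Embedding.equivOfFiniteSelfEmbedding.eq_def.{0}
  have := @_root_.OrderIso.finsetSetFinite.eq_def.{0}
  have := @_root_.OrderIso.finsetSetFinite.eq_1.{0}
  have := @_root_.Set.Nat.fintypeIio.eq_def
  have := @_root_.Set.Nat.fintypeIio.eq_1
  have := @_root_.Set.fintypeInsertOfNotMem.congr_simp.{0}
  have := @_root_.Set.fintypeInsertOfNotMem.eq_def.{0}
  trivial

theorem m07_9 : True := by
  have := @_root_.Set.fintypeInsertOfNotMem.eq_1.{0}
  have := @_root_.Set.Infinite.natEmbedding.eq_def.{0}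
  have := @_root_.Set.Infinite.natEmbedding.eq_1.{0}
  have := @_root_.Set.fintypeInsertOfMem.congr_simp.{0}
  have := @_root_.Set.fintypeInsertOfMem.eq_def.{0}
  have := @_root_.Set.fintypeInsertOfMem.eq_1.{0}
  have := @_root_.Set.Finite.subtypeEquivToFinset.eq_def.{0}
  have := @_root_.Set.Finite.subtypeEquivToFinset.eq_1.{0}
  have := @_root_.Set.fintypeOfFintypeImage.congr_simp.{0, 0}
  have := @_root_.Set.fintypeOfFintypeImage.eq_def.{0, 0}
  have := @_root_.Set.fintypeOfFintypeImage.eq_1.{0, 0}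
  have := @_root_.Set.Finite.fintype.congr_simp.{0}
  have := @_root_.Set.Finite.fintype.eq_def.{0}
  have := @_root_.Set.Finite.fintype.eq_1.{0}
  have := @_root_.Set.fintypeSubset.congr_simp.{0}
  have := @_root_.Set.fintypeSubset.eq_def.{0}
  have := @_root_.Set.fintypeSubset.eq_1.{0}
  have := @_root_.Set.fintypeOfFiniteUniv.congr_simp.{0}
  have := @_root_.Set.fintypeOfFiniteUniv.eq_def.{0}
  have := @_root_.Set.fintypeOfFiniteUniv.eq_1.{0}
  have := @_root_.Set.Finite.toFinset.eq_def.{0}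
  have := @_root_.Multiset.fold.eq_def.{0}
  have := @_root_.Multiset.fold.eq_1.{0}
  have := @_root_.Finset.fold.eq_def.{0, 0}
  have := @_root_.Multiset.sum.eq_def.{0}
  have := @_root_.Multiset.prod.eq_def.{0}
  have := @_root_.Multiset.sumAddMonoidHom.eq_def.{0}
  have := @_root_.Multiset.sumAddMonoidHom.eq_1.{0}
  have := @_root_.Multiset.join.eq_def.{0}
  have := @_root_.Multiset.product.eq_def.{0, 0}
  trivial

theorem m07_10 : True := by
  have := @_root_.Multiset.bind.eq_def.{0, 0}
  have := @_root_.Multiset.sigma.eq_def.{0, 0}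
  have := @_root_.Finset.disjiUnion.eq_def.{0, 0}
  have := @_root_.Finset.disjiUnion.eq_1.{0, 0}
  have := @_root_.Finset.biUnion.eq_def.{0, 0}
  have := @_root_.Finset.biUnion.eq_1.{0, 0}
  have := @_root_.Nat.fast_choose.eq_def
  have := @_root_.Nat.fast_choose.eq_1
  have := @_root_.Finset.offDiag.eq_def.{0}
  have := @_root_.Finset.offDiag.eq_1.{0}
  have := @_root_.Finset.diag.eq_def.{0}
  have := @_root_.Finset.product.eq_def.{0, 0}
  have := @_root_.Finset.product.eq_1.{0, 0}
  have := @_root_.Equiv.Finset.prod.eq_def.{0, 0}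
  have := @_root_.Equiv.Finset.prod.eq_1.{0, 0}
  have := @_root_.Multiset.Pi.empty.eq_def.{0, 0}
  have := @_root_.Multiset.pi.eq_def.{0, 0}
  have := @_root_.Multiset.pi.eq_1.{0, 0}
  have := @_root_.Multiset.Pi.cons.eq_def.{0, 0}
  have := @_root_.Multiset.Pi.cons.eq_1.{0, 0}
  have := @_root_.DependsOn.eq_def.{0, 0, 0}
  have := @_root_.Finset.Pi.empty.eq_def.{0, 0}
  have := @_root_.Finset.Pi.empty.eq_1.{0, 0}
  have := @_root_.Finset.restrict₂.eq_def.{0, 0}
  have := @_root_.Finset.pi.eq_def.{0, 0}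
  have := @_root_.Finset.pi.eq_1.{0, 0}
  have := @_root_.Finset.restrict.eq_def.{0, 0}
  have := @_root_.Finset.Pi.cons.eq_def.{0, 0}
  have := @_root_.Finset.Pi.cons.eq_1.{0, 0}
  have := @_root_.Finset.piDiag.eq_def.{0, 0}
  trivial

theorem m07_11 : True := by
  have := @_root_.Fintype.piFinset.eq_def.{0, 0}
  have := @_root_.Set.addCommMonoid.eq_def.{0}
  have := @_root_.Set.neg.eq_def.{0}
  have := @_root_.Set.commMonoid.eq_def.{0}
  have := @_root_.LibraryNote.pointwise_nat_action.eq_def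
  have := @_root_.LibraryNote.pointwise_nat_action.eq_1
  have := @_root_.Set.zero.eq_def.{0}
  have := @_root_.Set.add.eq_def.{0}
  have := @_root_.Set.semigroup.eq_def.{0}
  have := @_root_.Set.divisionCommMonoid.eq_def.{0}
  have := @_root_.Set.mul.eq_def.{0}
  have := @_root_.Set.singletonMulHom.eq_def.{0}
  have := @_root_.Set.inv.eq_def.{0}
  have := @_root_.Set.singletonZeroHom.eq_def.{0}
  have := @_root_.Set.addCommSemigroup.eq_def.{0}
  have := @_root_.Set.addMonoid.eq_def.{0}
  have := @_root_.Set.NPow.eq_def.{0}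
  have := @_root_.Set.one.eq_def.{0}
  have := @_root_.Set.mulOneClass.eq_def.{0}
  have := @_root_.Set.addSemigroup.eq_def.{0}
  have := @_root_.Set.subtractionMonoid.eq_def.{0}
  have := @_root_.Set.div.eq_def.{0}
  have := @_root_.Set.singletonOneHom.eq_def.{0}
  have := @_root_.Set.NSMul.eq_def.{0}
  have := @_root_.Set.singletonAddMonoidHom.eq_def.{0}
  have := @_root_.Set.ZSMul.eq_def.{0}
  have := @_root_.Set.commSemigroup.eq_def.{0}
  have := @_root_.Set.sub.eq_def.{0}
  have := @_root_.Set.ZPow.eq_def.{0}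
  have := @_root_.Set.subtractionCommMonoid.eq_def.{0}
  trivial

theorem m07_12 : True := by
  have := @_root_.Set.singletonAddHom.eq_def.{0}
  have := @_root_.Set.monoid.eq_def.{0}
  have := @_root_.Set.addZeroClass.eq_def.{0}
  have := @_root_.Set.singletonMonoidHom.eq_def.{0}
  have := @_root_.Set.divisionMonoid.eq_def.{0}
  have := @_root_.MulAction.IsPretransitive.mk.congr_simp.{0, 0}
  have := @_root_.AddAction.IsPretransitive.mk.congr_simp.{0, 0}
  have := @_root_.MonoidHom.smulOneHom.congr_simp.{0, 0}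
  have := @_root_.MonoidHom.smulOneHom.eq_def.{0, 0}
  have := @_root_.addMonoidHomEquivAddActionVAddAssocClass.eq_def.{0, 0}
  have := @_root_.Function.Surjective.addActionLeft.congr_simp.{0, 0, 0}
  have := @_root_.Function.Surjective.addActionLeft.eq_def.{0, 0, 0}
  have := @_root_.AddMonoidHom.vaddZeroHom.congr_simp.{0, 0}
  have := @_root_.AddMonoidHom.vaddZeroHom.eq_def.{0, 0}
  have := @_root_.monoidHomEquivMulActionIsScalarTower.eq_def.{0, 0}
  have := @_root_.AddAction.compHom.eq_def.{0, 0, 0}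
  have := @_root_.Function.Surjective.mulActionLeft.congr_simp.{0, 0, 0}
  have := @_root_.Function.Surjective.mulActionLeft.eq_def.{0, 0, 0}
  have := @_root_.MulAction.compHom.eq_def.{0, 0, 0}
  have := @_root_.mulAutArrow.eq_def.{0, 0, 0}
  have := @_root_.mulAutArrow.eq_1.{0, 0, 0}
  have := @_root_.AddAction.toPermHom.eq_def.{0, 0}
  have := @_root_.AddAction.toPermHom.eq_1.{0, 0}
  have := @_root_.MulAction.toEndHom.eq_def.{0, 0}
  have := @_root_.MulAction.toPermHom.eq_def.{0, 0}
  have := @_root_.MulAction.toPermHom.eq_1.{0, 0}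
  have := @_root_.MulDistribMulAction.toMulAut.eq_def.{0, 0}
  have := @_root_.MulDistribMulAction.toMulAut.eq_1.{0, 0}
  have := @_root_.MulAction.ofEndHom.eq_def.{0, 0}
  have := @_root_.MulAction.ofEndHom.eq_1.{0, 0}
  trivial

theorem m07_13 : True := by
  have := @_root_.AddAction.toEndHom.eq_def.{0, 0}
  have := @_root_.AddAction.toEndHom.eq_1.{0, 0}
  have := @_root_.AddAction.ofEndHom.eq_def.{0, 0}
  have := @_root_.AddAction.ofEndHom.eq_1.{0, 0}
  have := @_root_.MulDistribMulAction.toMulEquiv.eq_def.{0, 0}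
  have := @_root_.MulDistribMulAction.toMulEquiv.eq_1.{0, 0}
  have := @_root_.ConjClasses.eq_def.{0}
  have := @_root_.ConjClasses.mkEquiv.eq_def.{0}
  have := @_root_.conjugatesOf.eq_def.{0}
  have := @_root_.AddConjClasses.carrier.eq_def.{0}
  have := @_root_.IsAddConj.setoid.eq_def.{0}
  have := @_root_.AddConjClasses.mkEquiv.eq_def.{0}
  have := @_root_.addConjugatesOf.eq_def.{0}
  have := @_root_.IsConj.setoid.eq_def.{0}
  have := @_root_.AddConjClasses.mk.eq_def.{0}
  have := @_root_.AddConjClasses.eq_def.{0}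
  have := @_root_.ConjClasses.map.eq_def.{0, 0}
  have := @_root_.ConjClasses.mk.eq_def.{0}
  have := @_root_.AddConjClasses.map.eq_def.{0, 0}
  have := @_root_.IsConj.eq_def.{0}
  have := @_root_.ConjClasses.carrier.eq_def.{0}
  have := @_root_.IsAddConj.eq_def.{0}
  have := @_root_.MonoidHom.mulSingle.eq_def.{0, 0}
  have := @_root_.Pi.evalMulHom.eq_def.{0, 0}
  have := @_root_.OneHom.mulSingle.eq_def.{0, 0}
  have := @_root_.Pi.mulHom.eq_def.{0, 0, 0}
  have := @_root_.Pi.evalMonoidHom.eq_def.{0, 0}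
  have := @_root_.MonoidHom.coeFn.eq_def.{0, 0}
  have := @_root_.Pi.addHom.eq_def.{0, 0, 0}
  have := @_root_.MulHom.coeFn.eq_def.{0, 0}
  trivial

theorem m07_14 : True := by
  have := @_root_.Pi.evalAddMonoidHom.eq_def.{0, 0}
  have := @_root_.AddMonoidHom.coeFn.eq_def.{0, 0}
  have := @_root_.MonoidHom.compLeft.eq_def.{0, 0, 0}
  have := @_root_.Pi.constAddHom.eq_def.{0, 0}
  have := @_root_.Pi.addMonoidHom.eq_def.{0, 0, 0}
  have := @_root_.AddMonoidHom.compLeft.eq_def.{0, 0, 0}
  have := @_root_.ZeroHom.single.eq_def.{0, 0}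
  have := @_root_.Function.ExtendByOne.hom.eq_def.{0, 0, 0}
  have := @_root_.MonoidHom.piMap.eq_def.{0, 0, 0}
  have := @_root_.MonoidHom.pi.eq_def.{0, 0, 0}
  have := @_root_.AddHom.pi.eq_def.{0, 0, 0}
  have := @_root_.Function.ExtendByZero.hom.eq_def.{0, 0, 0}
  have := @_root_.AddHom.piMap.eq_def.{0, 0, 0}
  have := @_root_.AddMonoidHom.piMap.eq_def.{0, 0, 0}
  have := @_root_.AddMonoidHom.pi.eq_def.{0, 0, 0}
  have := @_root_.Pi.evalAddHom.eq_def.{0, 0}
  have := @_root_.Pi.constMonoidHom.eq_def.{0, 0}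
  have := @_root_.AddHom.compLeft.eq_def.{0, 0, 0}
  have := @_root_.AddMonoidHom.single.eq_def.{0, 0}
  have := @_root_.MulHom.compLeft.eq_def.{0, 0, 0}
  have := @_root_.Pi.monoidHom.eq_def.{0, 0, 0}
  have := @_root_.Pi.constAddMonoidHom.eq_def.{0, 0}
  have := @_root_.Pi.constMulHom.eq_def.{0, 0}
  have := @_root_.AddHom.coeFn.eq_def.{0, 0}
  have := @_root_.MulHom.piMap.eq_def.{0, 0, 0}
  have := @_root_.MulHom.pi.eq_def.{0, 0, 0}
  have := @_root_.AddSubsemigroup.copy.congr_simp.{0}
  have := @_root_.AddSubsemigroup.copy.eq_def.{0}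
  have := @_root_.Subsemigroup.copy.congr_simp.{0}
  have := @_root_.Subsemigroup.copy.eq_def.{0}
  trivial

end Cfsg.Rz
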