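import Cfsg.Agent.Rz.M07

/-! Generated file: forces on-demand equation and congruence lemmas to be created once. -/

set_option linter.all false

namespace Cfsg.Rz

theorem m08_0 : True := by
  have := @_root_.MulMemClass.mk.congr_simp.{0, 0}
  have := @_root_.MulMemClass.subtype.eq_def.{0, 0}
  have := @_root_.AddSubsemigroup.ofClass.congr_simp.{0, 0}
  have := @_root_.AddSubsemigroup.ofClass.eq_def.{0, 0}
  have := @_root_.Subsemigroup.ofClass.congr_simp.{0, 0}
  have := @_root_.Subsemigroup.ofClass.eq_def.{0, 0}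
  have := @_root_.AddHom.eqLocus.eq_def.{0, 0}
  have := @_root_.AddMemClass.mk.congr_simp.{0, 0}
  have := @_root_.AddMemClass.subtype.eq_def.{0, 0}
  have := @_root_.MulHom.eqLocus.eq_def.{0, 0}
  have := @_root_.AddSubmonoid.ofClass.congr_simp.{0, 0}
  have := @_root_.AddSubmonoid.ofClass.eq_def.{0, 0}
  have := @_root_.MonoidHom.eqLocusM.eq_def.{0, 0}
  have := @_root_.Submonoid.ofClass.congr_simp.{0, 0}
  have := @_root_.Submonoid.ofClass.eq_def.{0, 0}
  have := @_root_.ZeroMemClass.mk.congr_simp.{0, 0}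
  have := @_root_.AddSubmonoid.copy.congr_simp.{0}
  have := @_root_.AddSubmonoid.copy.eq_def.{0}
  have := @_root_.AddMonoidHom.eqLocusM.eq_def.{0, 0}
  have := @_root_.AddSubmonoid.subtype.eq_def.{0}
  have := @_root_.SubmonoidClass.mk.congr_simp.{0, 0}
  have := @_root_.SubmonoidClass.subtype.eq_def.{0, 0}
  have := @_root_.AddSubmonoidClass.mk.congr_simp.{0, 0}
  have := @_root_.Submonoid.copy.eq_def.{0}
  have := @_root_.OneMemClass.mk.congr_simp.{0, 0}
  have := @_root_.AddSubmonoidClass.subtype.eq_def.{0, 0}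
  have := @_root_.Submonoid.subtype.eq_def.{0}
  have := @_root_.Subsemigroup.closure.eq_def.{0}
  have := @_root_.AddSubsemigroup.closure.eq_def.{0}
  have := @_root_.AddSubsemigroup.gi.eq_def.{0}
  trivial

theorem m08_1 : True := by
  have := @_root_.Subsemigroup.gi.eq_def.{0}
  have := @_root_.AddHom.ofDense.congr_simp.{0, 0}
  have := @_root_.AddHom.ofDense.eq_def.{0, 0}
  have := @_root_.MulHom.ofDense.congr_simp.{0, 0}
  have := @_root_.MulHom.ofDense.eq_def.{0, 0}
  have := @_root_.Submonoid.gi.eq_def.{0}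
  have := @_root_.IsUnit.submonoid.eq_def.{0}
  have := @_root_.MonoidHom.ofClosureMEqTopLeft.congr_simp.{0, 0}
  have := @_root_.MonoidHom.ofClosureMEqTopLeft.eq_def.{0, 0}
  have := @_root_.IsAddUnit.addSubmonoid.eq_def.{0}
  have := @_root_.AddSubmonoid.closure.eq_def.{0}
  have := @_root_.AddMonoidHom.ofClosureMEqTopLeft.congr_simp.{0, 0}
  have := @_root_.AddMonoidHom.ofClosureMEqTopLeft.eq_def.{0, 0}
  have := @_root_.AddMonoidHom.ofClosureMEqTopRight.congr_simp.{0, 0}
  have := @_root_.AddMonoidHom.ofClosureMEqTopRight.eq_def.{0, 0}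
  have := @_root_.MonoidHom.ofClosureMEqTopRight.congr_simp.{0, 0}
  have := @_root_.MonoidHom.ofClosureMEqTopRight.eq_def.{0, 0}
  have := @_root_.AddSubmonoid.gi.eq_def.{0}
  have := @_root_.Submonoid.closure.eq_def.{0}
  have := @_root_.AddMonoidHom.mrange.eq_def.{0, 0, 0}
  have := @_root_.AddMonoidHom.mker.eq_def.{0, 0, 0}
  have := @_root_.Submonoid.unitsTypeEquivIsUnitSubmonoid.eq_def.{0}
  have := @_root_.Submonoid.prodEquiv.eq_def.{0, 0}
  have := @_root_.Submonoid.topEquiv.eq_def.{0}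
  have := @_root_.AddMonoidHom.domRestrict.eq_def.{0, 0, 0}
  have := @_root_.AddMonoidHom.mrangeRestrict.eq_def.{0, 0}
  have := @_root_.AddMonoidHom.domRestrictHom.eq_def.{0, 0, 0}
  have := @_root_.AddSubmonoid.addUnitsTypeEquivIsAddUnitAddSubmonoid.eq_def.{0}
  have := @_root_.Submonoid.prod.eq_def.{0, 0}
  have := @_root_.MonoidHom.mrange.eq_def.{0, 0, 0}
  trivial

theorem m08_2 : True := by
  have := @_root_.AddSubmonoid.pi.eq_def.{0, 0}
  have := @_root_.MonoidHom.domRestrict.eq_def.{0, 0, 0}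
  have := @_root_.AddMonoidHom.addSubmonoidMap.eq_def.{0, 0}
  have := @_root_.AddSubmonoid.gciMapComap.congr_simp.{0, 0, 0}
  have := @_root_.AddSubmonoid.gciMapComap.eq_def.{0, 0, 0}
  have := @_root_.AddMonoidHom.restrict.congr_simp.{0, 0}
  have := @_root_.AddMonoidHom.restrict.eq_def.{0, 0}
  have := @_root_.AddSubmonoid.toSubmonoid.eq_def.{0}
  have := @_root_.AddSubmonoid.toSubmonoid.eq_1.{0}
  have := @_root_.AddSubmonoid.prodEquiv.eq_def.{0, 0}
  have := @_root_.AddSubmonoid.toSubmonoid'.eq_def.{0}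
  have := @_root_.AddSubmonoid.toSubmonoid'.eq_1.{0}
  have := @_root_.MonoidHom.restrict.congr_simp.{0, 0}
  have := @_root_.MonoidHom.restrict.eq_def.{0, 0}
  have := @_root_.AddMonoidHom.addSubmonoidComap.eq_def.{0, 0}
  have := @_root_.Submonoid.map.eq_def.{0, 0, 0}
  have := @_root_.Submonoid.inclusion.eq_def.{0}
  have := @_root_.Submonoid.equivMapOfInjective.congr_simp.{0, 0}
  have := @_root_.Submonoid.equivMapOfInjective.eq_def.{0, 0}
  have := @_root_.AddMonoidHom.restrictHom.eq_def.{0, 0, 0}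
  have := @_root_.AddMonoidHom.restrictHom.eq_1.{0, 0, 0}
  have := @_root_.Submonoid.comap.eq_def.{0, 0, 0}
  have := @_root_.Submonoid.giMapComap.congr_simp.{0, 0, 0}
  have := @_root_.Submonoid.giMapComap.eq_def.{0, 0, 0}
  have := @_root_.AddEquiv.ofLeftInverse'.congr_simp.{0, 0}
  have := @_root_.AddEquiv.ofLeftInverse'.eq_def.{0, 0}
  have := @_root_.Submonoid.toAddSubmonoid'.eq_def.{0}
  have := @_root_.Submonoid.toAddSubmonoid'.eq_1.{0}
  have := @_root_.LibraryNote.range_copy_pattern.eq_def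
  have := @_root_.LibraryNote.range_copy_pattern.eq_1
  trivial

theorem m08_3 : True := by
  have := @_root_.MonoidHom.restrictHom.eq_def.{0, 0, 0}
  have := @_root_.MonoidHom.restrictHom.eq_1.{0, 0, 0}
  have := @_root_.AddSubmonoid.map.eq_def.{0, 0, 0}
  have := @_root_.Submonoid.toAddSubmonoid.eq_def.{0}
  have := @_root_.Submonoid.toAddSubmonoid.eq_1.{0}
  have := @_root_.MonoidHom.submonoidComap.eq_def.{0, 0}
  have := @_root_.MonoidHom.codRestrict.eq_def.{0, 0, 0}
  have := @_root_.Submonoid.pi.eq_def.{0, 0}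
  have := @_root_.AddSubmonoid.prod.eq_def.{0, 0}
  have := @_root_.AddEquiv.addSubmonoidCongr.eq_def.{0}
  have := @_root_.Submonoid.gciMapComap.congr_simp.{0, 0, 0}
  have := @_root_.Submonoid.gciMapComap.eq_def.{0, 0, 0}
  have := @_root_.AddEquiv.addSubmonoidMap.eq_def.{0, 0}
  have := @_root_.AddMonoidHom.codRestrict.eq_def.{0, 0, 0}
  have := @_root_.MulEquiv.submonoidCongr.eq_def.{0}
  have := @_root_.MulEquiv.ofLeftInverse'.congr_simp.{0, 0}
  have := @_root_.MulEquiv.ofLeftInverse'.eq_def.{0, 0}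
  have := @_root_.AddSubmonoid.topEquiv.eq_def.{0}
  have := @_root_.AddSubmonoid.giMapComap.congr_simp.{0, 0, 0}
  have := @_root_.AddSubmonoid.giMapComap.eq_def.{0, 0, 0}
  have := @_root_.AddSubmonoid.comap.eq_def.{0, 0, 0}
  have := @_root_.MonoidHom.mker.eq_def.{0, 0, 0}
  have := @_root_.AddSubmonoid.equivMapOfInjective.congr_simp.{0, 0}
  have := @_root_.AddSubmonoid.equivMapOfInjective.eq_def.{0, 0}
  have := @_root_.AddSubmonoid.inclusion.eq_def.{0}
  have := @_root_.MulEquiv.submonoidMap.eq_def.{0, 0}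
  have := @_root_.MonoidHom.submonoidMap.eq_def.{0, 0}
  have := @_root_.MonoidHom.mrangeRestrict.eq_def.{0, 0}
  have := @_root_.MonoidHom.domRestrictHom.eq_def.{0, 0, 0}
  have := @_root_.AddSubgroupClass.inclusion.congr_simp.{0, 0}
  trivial

theorem m08_4 : True := by
  have := @_root_.AddSubgroupClass.inclusion.eq_def.{0, 0}
  have := @_root_.Subgroup.ofDiv.congr_simp.{0}
  have := @_root_.Subgroup.ofDiv.eq_def.{0}
  have := @_root_.AddSubgroup.normalizer.eq_def.{0}
  have := @_root_.SubgroupClass.mk.congr_simp.{0, 0}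
  have := @_root_.Subgroup.setNormalizer.eq_def.{0}
  have := @_root_.Subgroup.setNormalizer.eq_1.{0}
  have := @_root_.Subgroup.ofClass.congr_simp.{0, 0}
  have := @_root_.Subgroup.ofClass.eq_def.{0, 0}
  have := @_root_.AddSubgroup.copy.congr_simp.{0}
  have := @_root_.AddSubgroup.copy.eq_def.{0}
  have := @_root_.AddSubgroupClass.subtype.eq_def.{0, 0}
  have := @_root_.HasMemOrNegMem.mk.congr_simp.{0, 0}
  have := @_root_.AddSubgroup.Normal.mk.congr_simp.{0}
  have := @_root_.AddSubgroupClass.mk.congr_simp.{0, 0}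
  have := @_root_.Subgroup.inclusion.eq_def.{0}
  have := @_root_.AddSubgroup.ofSub.congr_simp.{0}
  have := @_root_.AddSubgroup.ofSub.eq_def.{0}
  have := @_root_.AddSubgroup.inclusion.congr_simp.{0}
  have := @_root_.AddSubgroup.inclusion.eq_def.{0}
  have := @_root_.SubgroupClass.inclusion.congr_simp.{0, 0}
  have := @_root_.SubgroupClass.inclusion.eq_def.{0, 0}
  have := @_root_.Subgroup.copy.congr_simp.{0}
  have := @_root_.Subgroup.copy.eq_def.{0}
  have := @_root_.AddSubgroup.ofClass.congr_simp.{0, 0}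
  have := @_root_.AddSubgroup.ofClass.eq_def.{0, 0}
  have := @_root_.NegMemClass.mk.congr_simp.{0, 0}
  have := @_root_.AddSubgroup.setNormalizer.eq_def.{0}
  have := @_root_.AddSubgroup.setNormalizer.eq_1.{0}
  have := @_root_.Subgroup.normalizer.eq_def.{0}
  trivial

theorem m08_5 : True := by
  have := @_root_.SubgroupClass.subtype.eq_def.{0, 0}
  have := @_root_.Subgroup.Normal.mk.congr_simp.{0}
  have := @_root_.AddSubgroup.subtype.eq_def.{0}
  have := @_root_.HasMemOrInvMem.mk.congr_simp.{0, 0}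
  have := @_root_.InvMemClass.mk.congr_simp.{0, 0}
  have := @_root_.Subgroup.subtype.eq_def.{0}
  have := @_root_.Subgroup.topEquiv.eq_def.{0}
  have := @_root_.Subgroup.gi.eq_def.{0}
  have := @_root_.Subgroup.toAddSubgroup'.eq_def.{0}
  have := @_root_.Subgroup.toAddSubgroup'.eq_1.{0}
  have := @_root_.AddSubgroup.gi.eq_def.{0}
  have := @_root_.AddSubgroup.toSubgroup'.eq_def.{0}
  have := @_root_.AddSubgroup.toSubgroup'.eq_1.{0}
  have := @_root_.Subgroup.toAddSubgroup.eq_def.{0}
  have := @_root_.Subgroup.toAddSubgroup.eq_1.{0}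
  have := @_root_.AddSubgroup.topEquiv.eq_def.{0}
  have := @_root_.AddSubgroup.closure.eq_def.{0}
  have := @_root_.AddSubgroup.toSubgroup.eq_def.{0}
  have := @_root_.AddSubgroup.toSubgroup.eq_1.{0}
  have := @_root_.Subgroup.closure.eq_def.{0}
  have := @_root_.AddMonoidHom.addSubgroupMap.eq_def.{0, 0}
  have := @_root_.MonoidHom.subgroupComap.eq_def.{0, 0}
  have := @_root_.Subgroup.subgroupOf.eq_def.{0}
  have := @_root_.Subgroup.map.eq_def.{0, 0}
  have := @_root_.MulEquiv.mapSubgroup.eq_def.{0, 0}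
  have := @_root_.Subgroup.equivMapOfInjective.congr_simp.{0, 0}
  have := @_root_.Subgroup.equivMapOfInjective.eq_def.{0, 0}
  have := @_root_.AddSubgroup.addSubgroupOfEquivOfLe.eq_def.{0}
  have := @_root_.Subgroup.comap.eq_def.{0, 0}
  have := @_root_.AddSubgroup.comap.eq_def.{0, 0}
  trivial

theorem m08_6 : True := by
  have := @_root_.Subgroup.subgroupOfEquivOfLe.eq_def.{0}
  have := @_root_.AddSubgroup.equivMapOfInjective.congr_simp.{0, 0}
  have := @_root_.AddSubgroup.equivMapOfInjective.eq_def.{0, 0}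
  have := @_root_.AddSubgroup.map.eq_def.{0, 0}
  have := @_root_.AddEquiv.comapAddSubgroup.eq_def.{0, 0}
  have := @_root_.MulEquiv.comapSubgroup.eq_def.{0, 0}
  have := @_root_.AddEquiv.addSubgroupMap.eq_def.{0, 0}
  have := @_root_.AddEquiv.mapAddSubgroup.eq_def.{0, 0}
  have := @_root_.AddSubgroup.addSubgroupOf.eq_def.{0}
  have := @_root_.AddEquiv.addSubgroupCongr.eq_def.{0}
  have := @_root_.AddMonoidHom.addSubgroupComap.eq_def.{0, 0}
  have := @_root_.MulEquiv.subgroupMap.eq_def.{0, 0}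
  have := @_root_.MulEquiv.subgroupCongr.eq_def.{0}
  have := @_root_.MonoidHom.subgroupMap.eq_def.{0, 0}
  have := @_root_.MonoidHom.ofLeftInverse.congr_simp.{0, 0}
  have := @_root_.MonoidHom.ofLeftInverse.eq_def.{0, 0}
  have := @_root_.AddMonoidHom.range.eq_def.{0, 0}
  have := @_root_.Subgroup.MapSubtype.orderIso.eq_def.{0}
  have := @_root_.AddMonoidHom.ofLeftInverse.congr_simp.{0, 0}
  have := @_root_.AddMonoidHom.ofLeftInverse.eq_def.{0, 0}
  have := @_root_.MonoidHom.rangeRestrict.eq_def.{0, 0}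
  have := @_root_.MonoidHom.range.eq_def.{0, 0}
  have := @_root_.AddMonoidHom.rangeRestrict.eq_def.{0, 0}
  have := @_root_.MonoidHom.eqLocus.eq_def.{0, 0}
  have := @_root_.MonoidHom.ker.eq_def.{0, 0}
  have := @_root_.MonoidHom.ofInjective.eq_def.{0, 0}
  have := @_root_.AddMonoidHom.eqLocus.eq_def.{0, 0}
  have := @_root_.AddMonoidHom.ker.eq_def.{0, 0}
  have := @_root_.AddMonoidHom.ofInjective.congr_simp.{0, 0}
  have := @_root_.AddMonoidHom.ofInjective.eq_def.{0, 0}
  trivial

theorem m08_7 : True := by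
  have := @_root_.AddSubgroup.MapSubtype.orderIso.eq_def.{0}
  have := @_root_.Subgroup.prodEquiv.eq_def.{0, 0}
  have := @_root_.Subgroup.prod.eq_def.{0, 0}
  have := @_root_.AddSubgroup.pi.eq_def.{0, 0}
  have := @_root_.AddSubgroup.inertia.eq_def.{0, 0}
  have := @_root_.AddSubgroup.inertia.eq_1.{0, 0}
  have := @_root_.AddSubgroup.normalClosure.eq_def.{0}
  have := @_root_.AddGroup.addConjugatesOfSet.eq_def.{0}
  have := @_root_.AddSubgroup.normalCore.eq_def.{0}
  have := @_root_.AddSubgroup.Characteristic.mk.congr_simp.{0}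
  have := @_root_.Subgroup.normalCore.eq_def.{0}
  have := @_root_.AddAut.characteristic.congr_simp.{0}
  have := @_root_.AddAut.characteristic.eq_def.{0}
  have := @_root_.Subgroup.normalClosure.eq_def.{0}
  have := @_root_.NormalizerCondition.eq_def.{0}
  have := @_root_.NormalizerCondition.eq_1.{0}
  have := @_root_.AddMonoidHom.liftOfRightInverseAux.congr_simp.{0, 0, 0}
  have := @_root_.AddMonoidHom.liftOfRightInverseAux.eq_def.{0, 0, 0}
  have := @_root_.AddMonoidHom.liftOfRightInverse.congr_simp.{0, 0, 0}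
  have := @_root_.AddMonoidHom.liftOfRightInverse.eq_def.{0, 0, 0}
  have := @_root_.Group.conjugatesOfSet.eq_def.{0}
  have := @_root_.MonoidHom.liftOfSurjective.congr_simp.{0, 0, 0}
  have := @_root_.MonoidHom.liftOfSurjective.eq_def.{0, 0, 0}
  have := @_root_.MulAut.characteristic.congr_simp.{0}
  have := @_root_.MulAut.characteristic.eq_def.{0}
  have := @_root_.MonoidHom.liftOfRightInverseAux.eq_def.{0, 0, 0}
  have := @_root_.MonoidHom.liftOfRightInverse.eq_def.{0, 0, 0}
  have := @_root_.Subgroup.pi.eq_def.{0, 0}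
  have := @_root_.AddMonoidHom.liftOfSurjective.congr_simp.{0, 0, 0}
  have := @_root_.AddMonoidHom.liftOfSurjective.eq_def.{0, 0, 0}
  trivial

theorem m08_8 : True := by
  have := @_root_.ConjClasses.noncenter.eq_def.{0}
  have := @_root_.AddSubgroup.prod.eq_def.{0, 0}
  have := @_root_.Subgroup.Characteristic.mk.congr_simp.{0}
  have := @_root_.AddSubgroup.prodEquiv.eq_def.{0, 0}
  have := @_root_.AddSubsemigroup.opEquiv.eq_def.{0}
  have := @_root_.Subsemigroup.opEquiv.eq_def.{0}
  have := @_root_.Subsemigroup.op.eq_def.{0}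
  have := @_root_.Subsemigroup.unop.eq_def.{0}
  have := @_root_.AddSubsemigroup.op.eq_def.{0}
  have := @_root_.AddSubsemigroup.unop.eq_def.{0}
  have := @_root_.AddSubsemigroup.equivOp.eq_def.{0}
  have := @_root_.Subsemigroup.equivOp.eq_def.{0}
  have := @_root_.Submonoid.equivOp.eq_def.{0}
  have := @_root_.AddSubmonoid.op.eq_def.{0}
  have := @_root_.Submonoid.opEquiv.eq_def.{0}
  have := @_root_.Submonoid.unop.eq_def.{0}
  have := @_root_.Submonoid.op.eq_def.{0}
  have := @_root_.AddSubmonoid.unop.eq_def.{0}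
  have := @_root_.AddSubmonoid.equivOp.eq_def.{0}
  have := @_root_.AddSubmonoid.opEquiv.eq_def.{0}
  have := @_root_.Subgroup.equivOp.eq_def.{0}
  have := @_root_.AddSubgroup.op.eq_def.{0}
  have := @_root_.AddSubgroup.unop.eq_def.{0}
  have := @_root_.Subgroup.opEquiv.eq_def.{0}
  have := @_root_.AddSubgroup.opEquiv.eq_def.{0}
  have := @_root_.Subgroup.unop.eq_def.{0}
  have := @_root_.Subgroup.op.eq_def.{0}
  have := @_root_.AddSubgroup.equivOp.eq_def.{0}
  have := @_root_.Nat.ldiff.eq_def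
  have := @_root_.Nat.div2.eq_def
  trivial

theorem m08_9 : True := by
  have := @_root_.Nat.bodd.eq_def
  have := @_root_.Nat.size.eq_def
  have := @_root_.Nat.size.eq_1
  have := @_root_.Nat.bits.eq_def
  have := @_root_.Nat.unpair.eq_def
  have := @_root_.Nat.pair.eq_def
  have := @_root_.Nat.pairEquiv.eq_def
  have := @_root_.Nat.pairEquiv.eq_1
  have := @_root_.Equiv.intEquivNat.eq_def
  have := @_root_.Equiv.intEquivNat.eq_1
  have := @_root_.Equiv.boolProdNatEquivNat.eq_def
  have := @_root_.Equiv.boolProdNatEquivNat.eq_1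
  have := @_root_.Equiv.prodEquivOfEquivNat.eq_def.{0}
  have := @_root_.Equiv.prodEquivOfEquivNat.eq_1.{0}
  have := @_root_.Equiv.natSumNatEquivNat.eq_def
  have := @_root_.Equiv.natSumNatEquivNat.eq_1
  have := @_root_.Encodable.decodeSum.eq_def.{0, 0}
  have := @_root_.Encodable.decodeSigma.eq_def.{0, 0}
  have := @_root_.Encodable.ofCountable.congr_simp.{0}
  have := @_root_.Encodable.ofCountable.eq_def.{0}
  have := @_root_.Encodable.ofCountable.eq_1.{0}
  have := @_root_.Encodable.mk.congr_simp.{0}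
  have := @_root_.Encodable.encodeSigma.eq_def.{0, 0}
  have := @_root_.Encodable.choose.congr_simp.{0}
  have := @_root_.Encodable.choose.eq_def.{0}
  have := @_root_.Encodable.choose.eq_1.{0}
  have := @_root_.Encodable.decode₂.eq_def.{0}
  have := @_root_.Encodable.ofEquiv.eq_def.{0, 0}
  have := @_root_.Encodable.ofEquiv.eq_1.{0, 0}
  have := @_root_.Encodable.equivRangeEncode.eq_def.{0}
  trivial

theorem m08_10 : True := by
  have := @_root_.Encodable.equivRangeEncode.eq_1.{0}
  have := @_root_.ULower.down.eq_def.{0}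
  have := @_root_.Encodable.decidableEqOfEncodable.eq_def.{0}
  have := @_root_.Encodable.decidableEqOfEncodable.eq_1.{0}
  have := @_root_.ULower.eq_def.{0}
  have := @_root_.ULower.eq_1.{0}
  have := @_root_.Encodable.ofInj.congr_simp.{0, 0}
  have := @_root_.Encodable.ofInj.eq_def.{0, 0}
  have := @_root_.Encodable.ofInj.eq_1.{0, 0}
  have := @_root_.Quotient.rep.eq_def.{0}
  have := @_root_.Quotient.rep.eq_1.{0}
  have := @_root_.Encodable.encode'.eq_def.{0}
  have := @_root_.Encodable.encode'.eq_1.{0}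
  have := @_root_.Encodable.decidableRangeEncode.eq_def.{0}
  have := @_root_.Encodable.decidableRangeEncode.eq_1.{0}
  have := @_root_.Encodable.encodeSum.eq_def.{0, 0}
  have := @_root_.ULower.up.eq_def.{0}
  have := @_root_.Encodable.ofLeftInjection.congr_simp.{0, 0}
  have := @_root_.Encodable.ofLeftInjection.eq_def.{0, 0}
  have := @_root_.Encodable.ofLeftInjection.eq_1.{0, 0}
  have := @_root_.encodableQuotient.eq_def.{0}
  have := @_root_.encodableQuotient.eq_1.{0}
  have := @_root_.Encodable.chooseX.congr_simp.{0}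
  have := @_root_.Encodable.chooseX.eq_def.{0}
  have := @_root_.Encodable.chooseX.eq_1.{0}
  have := @_root_.Encodable.encodeSubtype.eq_def.{0}
  have := @_root_.Encodable.decodeSubtype.eq_def.{0}
  have := @_root_.ULower.equiv.eq_def.{0}
  have := @_root_.ULower.equiv.eq_1.{0}
  have := @_root_.Encodable.ofLeftInverse.congr_simp.{0, 0}
  trivial

theorem m08_11 : True := by
  have := @_root_.Encodable.ofLeftInverse.eq_def.{0, 0}
  have := @_root_.Encodable.ofLeftInverse.eq_1.{0, 0}
  have := @_root_.Unique.encodable.eq_def.{0}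
  have := @_root_.Unique.encodable.eq_1.{0}
  have := @_root_.Subgroup.zpowers.eq_def.{0}
  have := @_root_.AddSubgroup.zmultiples.eq_def.{0}
  have := @_root_.Set.mulActionSet.eq_def.{0, 0}
  have := @_root_.Set.addAction.eq_def.{0, 0}
  have := @_root_.Set.addActionSet.eq_def.{0, 0}
  have := @_root_.Set.mulAction.eq_def.{0, 0}
  have := @_root_.IsIdempotentElem.eq_def.{0}
  have := @_root_.Submonoid.powLogEquiv.congr_simp.{0}
  have := @_root_.Submonoid.powLogEquiv.eq_def.{0}
  have := @_root_.Submonoid.powLogEquiv.eq_1.{0}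
  have := @_root_.Submonoid.log.congr_simp.{0}
  have := @_root_.Submonoid.log.eq_def.{0}
  have := @_root_.Submonoid.log.eq_1.{0}
  have := @_root_.Submonoid.groupPowers.congr_simp.{0}
  have := @_root_.Submonoid.groupPowers.eq_def.{0}
  have := @_root_.Submonoid.powers.eq_def.{0}
  have := @_root_.Submonoid.powers.eq_1.{0}
  have := @_root_.AddSubmonoid.addGroupMultiples.congr_simp.{0}
  have := @_root_.AddSubmonoid.addGroupMultiples.eq_def.{0}
  have := @_root_.Submonoid.pow.eq_def.{0}
  have := @_root_.AddSubmonoid.multiples.eq_def.{0}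
  have := @_root_.AddSubmonoid.multiples.eq_1.{0}
  have := @_root_.Sigma.Lex.right.congr_simp.{0, 0}
  have := @_root_.Sigma.Lex.left.congr_simp.{0, 0}
  have := @_root_.Function.Embedding.sumSet.eq_def.{0}
  have := @_root_.Function.Embedding.sumSet.eq_1.{0}
  trivial

theorem m08_12 : True := by
  have := @_root_.Set.embeddingOfSubset.eq_def.{0}
  have := @_root_.Set.embeddingOfSubset.eq_1.{0}
  have := @_root_.Function.Embedding.image.eq_def.{0, 0}
  have := @_root_.Function.Embedding.image.eq_1.{0, 0}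
  have := @_root_.Function.Embedding.sigmaSet.eq_def.{0, 0}
  have := @_root_.Function.Embedding.sigmaSet.eq_1.{0, 0}
  have := @_root_.Function.Embedding.optionElim.eq_def.{0, 0}
  have := @_root_.Function.Embedding.optionElim.eq_1.{0, 0}
  have := @_root_.Function.Embedding.optionEmbeddingEquiv.eq_def.{0, 0}
  have := @_root_.Function.Embedding.optionEmbeddingEquiv.eq_1.{0, 0}
  have := @_root_.Function.Embedding.codRestrict.eq_def.{0, 0}
  have := @_root_.Function.Embedding.codRestrict.eq_1.{0, 0}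
  have := @_root_.subtypeOrEquiv.eq_def.{0}
  have := @_root_.subtypeOrEquiv.eq_1.{0}
  have := @_root_.Denumerable.equiv₂.eq_def.{0, 0}
  have := @_root_.Denumerable.equiv₂.eq_1.{0, 0}
  have := @_root_.Denumerable.ofNat.eq_def.{0}
  have := @_root_.Denumerable.ofNat.eq_1.{0}
  have := @_root_.Denumerable.mk'.eq_def.{0}
  have := @_root_.Denumerable.mk'.eq_1.{0}
  have := @_root_.Denumerable.mk.congr_simp.{0}
  have := @_root_.Nat.Subtype.denumerable.congr_simp
  have := @_root_.Nat.Subtype.denumerable.eq_def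
  have := @_root_.Nat.Subtype.denumerable.eq_1
  have := @_root_.Denumerable.eqv.eq_def.{0}
  have := @_root_.Denumerable.ofEncodableOfInfinite.congr_simp.{0}
  have := @_root_.Denumerable.ofEncodableOfInfinite.eq_def.{0}
  have := @_root_.Denumerable.ofEncodableOfInfinite.eq_1.{0}
  have := @_root_.Denumerable.ofEquiv.eq_def.{0, 0}
  have := @_root_.Denumerable.ofEquiv.eq_1.{0, 0}
  trivial

theorem m08_13 : True := by
  have := @_root_.Nat.Subtype.succ.eq_def
  have := @_root_.Nat.Subtype.succ.eq_1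
  have := @_root_.Denumerable.pair.eq_def.{0}
  have := @_root_.Denumerable.pair.eq_1.{0}
  have := @_root_.Multiset.disjSum.eq_def.{0, 0}
  have := @_root_.Finset.toRight.eq_def.{0, 0}
  have := @_root_.Finset.toLeft.eq_def.{0, 0}
  have := @_root_.Finset.disjSum.eq_def.{0, 0}
  have := @_root_.Finset.sumEquiv.eq_def.{0, 0}
  have := @_root_.Finset.sumEquiv.eq_1.{0, 0}
  have := @_root_.Multiset.inf.eq_def.{0}
  have := @_root_.Multiset.sup.eq_def.{0}
  have := @_root_.BoundedOrderHom.toTopHom.eq_def.{0, 0}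
  have := @_root_.TopHom.mk.congr_simp.{0, 0}
  have := @_root_.TopHom.id.eq_def.{0}
  have := @_root_.TopHomClass.mk.congr_simp.{0, 0, 0}
  have := @_root_.BoundedOrderHomClass.mk.congr_simp.{0, 0, 0}
  have := @_root_.BoundedOrderHomClass.toBoundedOrderHom.congr_simp.{0, 0, 0}
  have := @_root_.BoundedOrderHomClass.toBoundedOrderHom.eq_def.{0, 0, 0}
  have := @_root_.BoundedOrderHomClass.toBoundedOrderHom.eq_1.{0, 0, 0}
  have := @_root_.TopHom.comp.eq_def.{0, 0, 0}
  have := @_root_.BotHom.comp.eq_def.{0, 0, 0}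
  have := @_root_.BoundedOrderHom.comp.eq_def.{0, 0, 0}
  have := @_root_.BoundedOrderHom.comp.eq_1.{0, 0, 0}
  have := @_root_.TopHom.dual.eq_def.{0, 0}
  have := @_root_.BoundedOrderHom.mk.congr_simp.{0, 0}
  have := @_root_.BoundedOrderHom.id.eq_def.{0}
  have := @_root_.BoundedOrderHom.id.eq_1.{0}
  have := @_root_.BotHom.mk.congr_simp.{0, 0}
  have := @_root_.BotHom.id.eq_def.{0}
  trivial

theorem m08_14 : True := by
  have := @_root_.BoundedOrderHom.copy.congr_simp.{0, 0}
  have := @_root_.BoundedOrderHom.copy.eq_def.{0, 0}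
  have := @_root_.BoundedOrderHom.copy.eq_1.{0, 0}
  have := @_root_.BotHom.copy.congr_simp.{0, 0}
  have := @_root_.BotHom.copy.eq_def.{0, 0}
  have := @_root_.TopHom.copy.congr_simp.{0, 0}
  have := @_root_.TopHom.copy.eq_def.{0, 0}
  have := @_root_.BotHomClass.toBotHom.congr_simp.{0, 0, 0}
  have := @_root_.BotHomClass.toBotHom.eq_def.{0, 0, 0}
  have := @_root_.TopHomClass.toTopHom.congr_simp.{0, 0, 0}
  have := @_root_.TopHomClass.toTopHom.eq_def.{0, 0, 0}
  have := @_root_.BoundedOrderHom.toBotHom.eq_def.{0, 0}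
  have := @_root_.BotHom.dual.eq_def.{0, 0}
  have := @_root_.BoundedOrderHom.dual.eq_def.{0, 0}
  have := @_root_.BoundedOrderHom.dual.eq_1.{0, 0}
  have := @_root_.BotHomClass.mk.congr_simp.{0, 0, 0}
  have := @_root_.Pi.evalLatticeHom.eq_def.{0, 0}
  have := @_root_.Pi.evalLatticeHom.eq_1.{0, 0}
  have := @_root_.InfHom.const.eq_def.{0, 0}
  have := @_root_.SupHom.comp.eq_def.{0, 0, 0}
  have := @_root_.SupHom.copy.congr_simp.{0, 0}
  have := @_root_.SupHom.copy.eq_def.{0, 0}
  have := @_root_.LatticeHomClass.mk.congr_simp.{0, 0, 0}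
  have := @_root_.InfHom.subtypeVal.eq_def.{0}
  have := @_root_.SupHom.id.eq_def.{0}
  have := @_root_.LatticeHom.toInfHom.eq_def.{0, 0}
  have := @_root_.LatticeHom.toInfHom.eq_1.{0, 0}
  have := @_root_.orderEmbeddingOfInjective.congr_simp.{0, 0, 0}
  have := @_root_.orderEmbeddingOfInjective.eq_def.{0, 0, 0}
  have := @_root_.orderEmbeddingOfInjective.eq_1.{0, 0, 0}
  trivial

end Cfsg.Rz
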