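import Cfsg.Agent.Rz.M08

/-! Generated file: forces on-demand equation and congruence lemmas to be created once. -/

set_option linter.all false

namespace Cfsg.Rz

theorem m09_0 : True := by
  have := @_root_.LatticeHom.copy.congr_simp.{0, 0}
  have := @_root_.LatticeHom.copy.eq_def.{0, 0}
  have := @_root_.LatticeHom.copy.eq_1.{0, 0}
  have := @_root_.SupHom.dual.eq_def.{0, 0}
  have := @_root_.OrderHomClass.toLatticeHom.eq_def.{0, 0, 0}
  have := @_root_.OrderHomClass.toLatticeHom.eq_1.{0, 0, 0}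
  have := @_root_.SupHom.const.eq_def.{0, 0}
  have := @_root_.InfHom.comp.eq_def.{0, 0, 0}
  have := @_root_.LatticeHom.comp.eq_def.{0, 0, 0}
  have := @_root_.LatticeHom.comp.eq_1.{0, 0, 0}
  have := @_root_.InfHom.dual.eq_def.{0, 0}
  have := @_root_.InfHomClass.mk.congr_simp.{0, 0, 0}
  have := @_root_.LatticeHom.fst.eq_def.{0, 0}
  have := @_root_.LatticeHom.fst.eq_1.{0, 0}
  have := @_root_.LatticeHom.id.eq_def.{0}
  have := @_root_.LatticeHom.id.eq_1.{0}
  have := @_root_.LatticeHom.subtypeVal.eq_def.{0}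
  have := @_root_.LatticeHom.subtypeVal.eq_1.{0}
  have := @_root_.LatticeHom.dual.eq_def.{0, 0}
  have := @_root_.LatticeHom.dual.eq_1.{0, 0}
  have := @_root_.SupHomClass.mk.congr_simp.{0, 0, 0}
  have := @_root_.InfHom.copy.congr_simp.{0, 0}
  have := @_root_.InfHom.copy.eq_def.{0, 0}
  have := @_root_.SupHom.subtypeVal.eq_def.{0}
  have := @_root_.InfHom.id.eq_def.{0}
  have := @_root_.LatticeHom.snd.eq_def.{0, 0}
  have := @_root_.LatticeHom.snd.eq_1.{0, 0}
  have := @_root_.InfTopHom.toTopHom.eq_def.{0, 0}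
  have := @_root_.InfTopHom.toTopHom.eq_1.{0, 0}
  have := @_root_.BoundedLatticeHomClass.mk.congr_simp.{0, 0, 0}
  trivial

theorem m09_1 : True := by
  have := @_root_.BoundedLatticeHom.toInfTopHom.eq_def.{0, 0}
  have := @_root_.BoundedLatticeHom.toInfTopHom.eq_1.{0, 0}
  have := @_root_.InfTopHom.comp.eq_def.{0, 0, 0}
  have := @_root_.SupBotHom.toBotHom.eq_def.{0, 0}
  have := @_root_.SupBotHom.toBotHom.eq_1.{0, 0}
  have := @_root_.InfTopHomClass.mk.congr_simp.{0, 0, 0}
  have := @_root_.SupBotHom.copy.congr_simp.{0, 0}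
  have := @_root_.SupBotHom.copy.eq_def.{0, 0}
  have := @_root_.BoundedLatticeHom.subtypeVal.eq_def.{0}
  have := @_root_.BoundedLatticeHom.subtypeVal.eq_1.{0}
  have := @_root_.BoundedLatticeHom.toSupBotHom.eq_def.{0, 0}
  have := @_root_.BoundedLatticeHom.toSupBotHom.eq_1.{0, 0}
  have := @_root_.InfTopHom.dual.eq_def.{0, 0}
  have := @_root_.SupBotHom.dual.eq_def.{0, 0}
  have := @_root_.BoundedLatticeHom.comp.eq_def.{0, 0, 0}
  have := @_root_.BoundedLatticeHom.comp.eq_1.{0, 0, 0}
  have := @_root_.BoundedLatticeHom.copy.congr_simp.{0, 0}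
  have := @_root_.BoundedLatticeHom.copy.eq_def.{0, 0}
  have := @_root_.BoundedLatticeHom.copy.eq_1.{0, 0}
  have := @_root_.BoundedLatticeHom.toBoundedOrderHom.eq_def.{0, 0}
  have := @_root_.BoundedLatticeHom.toBoundedOrderHom.eq_1.{0, 0}
  have := @_root_.SupBotHom.subtypeVal.eq_def.{0}
  have := @_root_.BoundedLatticeHom.id.eq_def.{0}
  have := @_root_.BoundedLatticeHom.id.eq_1.{0}
  have := @_root_.SupBotHom.comp.eq_def.{0, 0, 0}
  have := @_root_.BoundedLatticeHom.dual.eq_def.{0, 0}
  have := @_root_.BoundedLatticeHom.dual.eq_1.{0, 0}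
  have := @_root_.SupBotHomClass.mk.congr_simp.{0, 0, 0}
  have := @_root_.SupBotHom.id.eq_def.{0}
  have := @_root_.InfTopHom.copy.congr_simp.{0, 0}
  trivial

theorem m09_2 : True := by
  have := @_root_.InfTopHom.copy.eq_def.{0, 0}
  have := @_root_.InfTopHom.id.eq_def.{0}
  have := @_root_.InfTopHom.subtypeVal.eq_def.{0}
  have := @_root_.Finset.sup'.eq_def.{0, 0}
  have := @_root_.Finset.inf'.eq_def.{0, 0}
  have := @_root_.Finset.inf.eq_def.{0, 0}
  have := @_root_.Finset.sup.eq_def.{0, 0}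
  have := @_root_.Finset.max.eq_def.{0}
  have := @_root_.Finset.min.eq_def.{0}
  have := @_root_.Finset.max'.eq_def.{0}
  have := @_root_.Finset.min'.eq_def.{0}
  have := @_root_.Multiset.powerset.eq_def.{0}
  have := @_root_.Multiset.powerset.eq_1.{0}
  have := @_root_.Multiset.powersetCardAux.eq_def.{0}
  have := @_root_.Multiset.powersetCard.eq_def.{0}
  have := @_root_.Multiset.powersetCard.eq_1.{0}
  have := @_root_.Multiset.powersetAux'.eq_def.{0}
  have := @_root_.Multiset.powersetAux.eq_def.{0}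
  have := @_root_.Multiset.powersetAux.eq_1.{0}
  have := @_root_.Set.biUnionEqSigmaOfDisjoint.congr_simp.{0, 0}
  have := @_root_.Set.biUnionEqSigmaOfDisjoint.eq_def.{0, 0}
  have := @_root_.Finset.decidableExistsOfDecidableSSubsets'.eq_def.{0}
  have := @_root_.Finset.decidableExistsOfDecidableSSubsets'.eq_1.{0}
  have := @_root_.Finset.powerset.eq_def.{0}
  have := @_root_.Finset.decidableForallOfDecidableSSubsets'.eq_def.{0}
  have := @_root_.Finset.decidableForallOfDecidableSSubsets'.eq_1.{0}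
  have := @_root_.Finset.ssubsets.eq_def.{0}
  have := @_root_.Finset.powersetCard.eq_def.{0}
  have := @_root_.Finset.decidableExistsOfDecidableSSubsets.eq_def.{0}
  have := @_root_.Finset.decidableExistsOfDecidableSSubsets.eq_1.{0}
  trivial

theorem m09_3 : True := by
  have := @_root_.Finset.decidableForallOfDecidableSSubsets.eq_def.{0}
  have := @_root_.Finset.decidableForallOfDecidableSSubsets.eq_1.{0}
  have := @_root_.Option.toFinset.eq_def.{0}
  have := @_root_.Option.toFinset.eq_1.{0}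
  have := @_root_.Finset.insertNone.eq_def.{0}
  have := @_root_.Finset.eraseNone.eq_def.{0}
  have := @_root_.fintypeOfOption.eq_def.{0}
  have := @_root_.fintypeOfOption.eq_1.{0}
  have := @_root_.Fintype.truncRecEmptyOption.eq_def.{0, 0}
  have := @_root_.Fintype.truncRecEmptyOption.eq_1.{0, 0}
  have := @_root_.fintypeOfOptionEquiv.eq_def.{0, 0}
  have := @_root_.fintypeOfOptionEquiv.eq_1.{0, 0}
  have := @_root_.Set.fintypeBiUnion.eq_def.{0, 0}
  have := @_root_.Set.fintypeBiUnion.eq_1.{0, 0}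
  have := @_root_.addLeftEmbedding.eq_def.{0}
  have := @_root_.addRightEmbedding.eq_def.{0}
  have := @_root_.mulRightEmbedding.eq_def.{0}
  have := @_root_.mulLeftEmbedding.eq_def.{0}
  have := @_root_.WithTop.subtypeOrderIso.eq_def.{0}
  have := @_root_.LatticeHom.withBot'.eq_def.{0, 0}
  have := @_root_.LatticeHom.withBot'.eq_1.{0, 0}
  have := @_root_.LatticeHom.withBotWithTop.eq_def.{0, 0}
  have := @_root_.LatticeHom.withTopWithBot'.eq_def.{0, 0}
  have := @_root_.SupHom.withBot'.eq_def.{0, 0}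
  have := @_root_.WithBot.coeOrderHom.eq_def.{0}
  have := @_root_.InfHom.withBot'.eq_def.{0, 0}
  have := @_root_.LatticeHom.withBotWithTop'.eq_def.{0, 0}
  have := @_root_.WithBot.toDualTopEquiv.eq_def.{0}
  have := @_root_.OrderIso.withTopCongr.eq_def.{0, 0}
  have := @_root_.OrderHom.withTopMap.eq_def.{0, 0}
  trivial

theorem m09_4 : True := by
  have := @_root_.Function.Embedding.coeWithTop.eq_def.{0}
  have := @_root_.LatticeHom.withBot.eq_def.{0, 0}
  have := @_root_.LatticeHom.withBot.eq_1.{0, 0}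
  have := @_root_.OrderHom.withBotMap.eq_def.{0, 0}
  have := @_root_.WithTop.coeOrderHom.eq_def.{0}
  have := @_root_.InfHom.withTop'.eq_def.{0, 0}
  have := @_root_.InfHom.withTop.eq_def.{0, 0}
  have := @_root_.SupHom.withTop'.eq_def.{0, 0}
  have := @_root_.OrderIso.withBotCongr.eq_def.{0, 0}
  have := @_root_.SupHom.withTop.eq_def.{0, 0}
  have := @_root_.OrderEmbedding.withTopMap.eq_def.{0, 0}
  have := @_root_.LatticeHom.withTop.eq_def.{0, 0}
  have := @_root_.LatticeHom.withTop.eq_1.{0, 0}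
  have := @_root_.WithBot.subtypeOrderIso.eq_def.{0}
  have := @_root_.LatticeHom.withTop'.eq_def.{0, 0}
  have := @_root_.LatticeHom.withTop'.eq_1.{0, 0}
  have := @_root_.OrderEmbedding.withBotMap.eq_def.{0, 0}
  have := @_root_.LatticeHom.withTopWithBot.eq_def.{0, 0}
  have := @_root_.Function.Embedding.coeWithBot.eq_def.{0}
  have := @_root_.WithTop.toDualBotEquiv.eq_def.{0}
  have := @_root_.InfHom.withBot.eq_def.{0, 0}
  have := @_root_.SupHom.withBot.eq_def.{0, 0}
  have := @_root_.Set.sigma.eq_def.{0, 0}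
  have := @_root_.Set.sigma.eq_1.{0, 0}
  have := @_root_.Finset.sigmaLift.eq_def.{0, 0, 0, 0}
  have := @_root_.Finset.sigma.eq_def.{0, 0}
  have := @_root_.Finset.sigma.eq_1.{0, 0}
  have := @_root_.Finset.preimage.eq_def.{0, 0}
  have := @_root_.Finset.preimage.eq_1.{0, 0}
  have := @_root_.Equiv.restrictPreimageFinset.eq_def.{0, 0}
  trivial

theorem m09_5 : True := by
  have := @_root_.Equiv.restrictPreimageFinset.eq_1.{0, 0}
  have := @_root_.LocallyFiniteOrderTop.ofIci.congr_simp.{0}
  have := @_root_.LocallyFiniteOrderTop.ofIci.eq_def.{0}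
  have := @_root_.IsEmpty.toLocallyFiniteOrder.congr_simp.{0}
  have := @_root_.IsEmpty.toLocallyFiniteOrder.eq_def.{0}
  have := @_root_.IsEmpty.toLocallyFiniteOrder.eq_1.{0}
  have := @_root_.Finset.uIcc.eq_def.{0}
  have := @_root_.LocallyFiniteOrder.ofIcc'.congr_simp.{0}
  have := @_root_.LocallyFiniteOrder.ofIcc'.eq_def.{0}
  have := @_root_.LocallyFiniteOrder.ofIcc'.eq_1.{0}
  have := @_root_.Finset.Ico.eq_def.{0}
  have := @_root_.Finset.Ici.eq_def.{0}
  have := @_root_.Finset.Icc.eq_def.{0}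
  have := @_root_.Finset.Icc.eq_1.{0}
  have := @_root_.LocallyFiniteOrderBot.ofIic'.congr_simp.{0}
  have := @_root_.LocallyFiniteOrderBot.ofIic'.eq_def.{0}
  have := @_root_.OrderEmbedding.locallyFiniteOrder.eq_def.{0, 0}
  have := @_root_.OrderEmbedding.locallyFiniteOrder.eq_1.{0, 0}
  have := @_root_.WithBot.insertBot.eq_def.{0}
  have := @_root_.LocallyFiniteOrderTop.ofIci'.congr_simp.{0}
  have := @_root_.LocallyFiniteOrderTop.ofIci'.eq_def.{0}
  have := @_root_.LocallyFiniteOrder.ofOrderIsoClass.congr_simp.{0, 0, 0}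
  have := @_root_.LocallyFiniteOrder.ofOrderIsoClass.eq_def.{0, 0, 0}
  have := @_root_.LocallyFiniteOrder.ofOrderIsoClass.eq_1.{0, 0, 0}
  have := @_root_.Finset.Iio.eq_def.{0}
  have := @_root_.LocallyFiniteOrder.mk'.congr_simp.{0}
  have := @_root_.LocallyFiniteOrder.mk'.eq_def.{0}
  have := @_root_.LocallyFiniteOrder.mk'.eq_1.{0}
  have := @_root_.Finset.Iic.eq_def.{0}
  have := @_root_.Finset.Ioi.eq_def.{0}
  trivial

theorem m09_6 : True := by
  have := @_root_.OrderIso.locallyFiniteOrderTop.eq_def.{0, 0}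
  have := @_root_.WithTop.insertTop.eq_def.{0}
  have := @_root_.IsEmpty.toLocallyFiniteOrderTop.congr_simp.{0}
  have := @_root_.IsEmpty.toLocallyFiniteOrderTop.eq_def.{0}
  have := @_root_.IsEmpty.toLocallyFiniteOrderBot.congr_simp.{0}
  have := @_root_.IsEmpty.toLocallyFiniteOrderBot.eq_def.{0}
  have := @_root_.LocallyFiniteOrder.ofIcc.congr_simp.{0}
  have := @_root_.LocallyFiniteOrder.ofIcc.eq_def.{0}
  have := @_root_.LocallyFiniteOrder.ofIcc.eq_1.{0}
  have := @_root_.LocallyFiniteOrderBot.ofIic.congr_simp.{0}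
  have := @_root_.LocallyFiniteOrderBot.ofIic.eq_def.{0}
  have := @_root_.LocallyFiniteOrder.ofFiniteIcc.congr_simp.{0}
  have := @_root_.LocallyFiniteOrder.ofFiniteIcc.eq_def.{0}
  have := @_root_.LocallyFiniteOrder.ofFiniteIcc.eq_1.{0}
  have := @_root_.OrderIso.locallyFiniteOrder.eq_def.{0, 0}
  have := @_root_.OrderIso.locallyFiniteOrder.eq_1.{0, 0}
  have := @_root_.OrderIso.locallyFiniteOrderBot.eq_def.{0, 0}
  have := @_root_.Finset.Ioo.eq_def.{0}
  have := @_root_.Finset.Ioo.eq_1.{0}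
  have := @_root_.LocallyFiniteOrderBot.mk.congr_simp.{0}
  have := @_root_.Finset.Ioc.eq_def.{0}
  have := @_root_.Finset.Ioc.eq_1.{0}
  have := @_root_.Fintype.toLocallyFiniteOrder.eq_def.{0}
  have := @_root_.Fintype.toLocallyFiniteOrder.eq_1.{0}
  have := @_root_.OrderIso.setOfMaximalIsoSetOfMinimal.eq_def.{0, 0}
  have := @_root_.OrderIso.setOfMaximalIsoSetOfMinimal.eq_1.{0, 0}
  have := @_root_.OrderIso.mapSetOfPredMinimal.eq_def.{0, 0}
  have := @_root_.OrderIso.mapSetOfPredMinimal.eq_1.{0, 0}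
  have := @_root_.OrderIso.mapSetOfPredMaximal.eq_def.{0, 0}
  have := @_root_.OrderIso.mapSetOfPredMaximal.eq_1.{0, 0}
  trivial

theorem m09_7 : True := by
  have := @_root_.OrderIso.setOfPredMinimalIsoSetOfPredMaximal.eq_def.{0, 0}
  have := @_root_.OrderIso.mapSetOfMaximal.eq_def.{0, 0}
  have := @_root_.OrderIso.mapSetOfMaximal.eq_1.{0, 0}
  have := @_root_.OrderIso.setOfPredMaximalIsoSetOfPredMinimal.eq_def.{0, 0}
  have := @_root_.OrderIso.setOfMinimalIsoSetOfMaximal.eq_def.{0, 0}
  have := @_root_.OrderIso.setOfMinimalIsoSetOfMaximal.eq_1.{0, 0}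
  have := @_root_.OrderIso.mapSetOfMinimal.eq_def.{0, 0}
  have := @_root_.OrderIso.mapSetOfMinimal.eq_1.{0, 0}
  have := @_root_.Equiv.IicFinsetSet.eq_def.{0}
  have := @_root_.Equiv.IicFinsetSet.eq_1.{0}
  have := @_root_.Set.fintypeOfMemBounds.congr_simp.{0}
  have := @_root_.Set.fintypeOfMemBounds.eq_def.{0}
  have := @_root_.Set.fintypeOfMemBounds.eq_1.{0}
  have := @_root_.Submonoid.pointwiseMulAction.eq_def.{0, 0}
  have := @_root_.Submonoid.pointwiseMulAction.eq_1.{0, 0}
  have := @_root_.AddSubmonoid.involutiveNeg.eq_def.{0}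
  have := @_root_.Submonoid.invOrderIso.eq_def.{0}
  have := @_root_.AddSubmonoid.neg.eq_def.{0}
  have := @_root_.AddSubmonoid.negOrderIso.eq_def.{0}
  have := @_root_.Submonoid.inv.eq_def.{0}
  have := @_root_.Submonoid.involutiveInv.eq_def.{0}
  have := @_root_.MulAction.orbitRel.eq_def.{0, 0}
  have := @_root_.AddAction.stabilizer.eq_def.{0, 0}
  have := @_root_.FixedPoints.subgroup.eq_def.{0, 0}
  have := @_root_.FixedPoints.subgroup.eq_1.{0, 0}
  have := @_root_.MulAction.selfEquivSigmaOrbits'.eq_def.{0, 0}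
  have := @_root_.AddAction.stabilizerAddSubmonoid.eq_def.{0, 0}
  have := @_root_.MulAction.orbitRel.Quotient.eq_def.{0, 0}
  have := @_root_.AddAction.selfEquivSigmaOrbits'.eq_def.{0, 0}
  have := @_root_.AddAction.fixedPoints.eq_def.{0, 0}
  trivial

theorem m09_8 : True := by
  have := @_root_.MulAction.selfEquivSigmaOrbits.eq_def.{0, 0}
  have := @_root_.MulAction.orbit.eq_def.{0, 0}
  have := @_root_.AddAction.fixedBy.eq_def.{0, 0}
  have := @_root_.FixedPoints.submonoid.eq_def.{0, 0}
  have := @_root_.FixedPoints.submonoid.eq_1.{0, 0}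
  have := @_root_.AddAction.selfEquivSigmaOrbits.eq_def.{0, 0}
  have := @_root_.MulAction.fixedPoints.eq_def.{0, 0}
  have := @_root_.AddAction.orbit.eq_def.{0, 0}
  have := @_root_.MulAction.fixedBy.eq_def.{0, 0}
  have := @_root_.AddAction.orbitRel.Quotient.eq_def.{0, 0}
  have := @_root_.AddAction.orbitRel.Quotient.orbit.eq_def.{0, 0}
  have := @_root_.MulAction.stabilizerSubmonoid.eq_def.{0, 0}
  have := @_root_.MulAction.stabilizer.eq_def.{0, 0}
  have := @_root_.AddAction.orbitRel.eq_def.{0, 0}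
  have := @_root_.MulAction.orbitRel.Quotient.orbit.eq_def.{0, 0}
  have := @_root_.commutatorElement.eq_def.{0}
  have := @_root_.addCommutatorElement.eq_def.{0}
  have := @_root_.IsAddCentral.mk.congr_simp.{0}
  have := @_root_.Set.addCenter.eq_def.{0}
  have := @_root_.Set.centralizer.eq_def.{0}
  have := @_root_.Set.addCentralizer.eq_def.{0}
  have := @_root_.Set.center.eq_def.{0}
  have := @_root_.IsMulCentral.mk.congr_simp.{0}
  have := @_root_.AddSubsemigroup.center.eq_def.{0}
  have := @_root_.Subsemigroup.center.eq_def.{0}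
  have := @_root_.Subsemigroup.centerCongr.eq_def.{0, 0}
  have := @_root_.AddSubmonoid.centerCongr.eq_def.{0, 0}
  have := @_root_.Submonoid.center.eq_def.{0}
  have := @_root_.Submonoid.centerToMulOpposite.eq_def.{0}
  have := @_root_.Submonoid.center.commMonoid'.eq_def.{0}
  trivial

theorem m09_9 : True := by
  have := @_root_.AddSubmonoid.center.eq_def.{0}
  have := @_root_.AddSubmonoid.centerToAddOpposite.eq_def.{0}
  have := @_root_.Subsemigroup.centerToMulOpposite.eq_def.{0}
  have := @_root_.Submonoid.centerCongr.eq_def.{0, 0}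
  have := @_root_.AddSubmonoid.center.addCommMonoid'.eq_def.{0}
  have := @_root_.addUnitsCenterToCenterAddUnits.eq_def.{0}
  have := @_root_.AddSubsemigroup.centerCongr.eq_def.{0, 0}
  have := @_root_.unitsCenterToCenterUnits.eq_def.{0}
  have := @_root_.AddSubsemigroup.centerToAddOpposite.eq_def.{0}
  have := @_root_.AddSubgroup.centerCongr.eq_def.{0, 0}
  have := @_root_.Subgroup.center.eq_def.{0}
  have := @_root_.Subgroup.centerToMulOpposite.eq_def.{0}
  have := @_root_.AddGroup.addCommGroupOfCenterEqTop.congr_simp.{0}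
  have := @_root_.AddGroup.addCommGroupOfCenterEqTop.eq_def.{0}
  have := @_root_.AddSubgroup.center.eq_def.{0}
  have := @_root_.Subgroup.centerCongr.eq_def.{0, 0}
  have := @_root_.AddSubgroup.centerToAddOpposite.eq_def.{0}
  have := @_root_.Group.commGroupOfCenterEqTop.congr_simp.{0}
  have := @_root_.Group.commGroupOfCenterEqTop.eq_def.{0}
  have := @_root_.Subsemigroup.closureCommSemigroupOfComm.congr_simp.{0}
  have := @_root_.Subsemigroup.closureCommSemigroupOfComm.eq_def.{0}
  have := @_root_.AddSubsemigroup.centralizer.eq_def.{0}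
  have := @_root_.Subsemigroup.centralizer.eq_def.{0}
  have := @_root_.AddSubsemigroup.closureAddCommSemigroupOfComm.congr_simp.{0}
  have := @_root_.AddSubsemigroup.closureAddCommSemigroupOfComm.eq_def.{0}
  have := @_root_.AddSubmonoid.centralizer.eq_def.{0}
  have := @_root_.Submonoid.centralizer.eq_def.{0}
  have := @_root_.Submonoid.closureCommMonoidOfComm.congr_simp.{0}
  have := @_root_.Submonoid.closureCommMonoidOfComm.eq_def.{0}
  have := @_root_.AddSubmonoid.closureAddCommMonoidOfComm.congr_simp.{0}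
  trivial

theorem m09_10 : True := by
  have := @_root_.AddSubmonoid.closureAddCommMonoidOfComm.eq_def.{0}
  have := @_root_.Subgroup.centralizer.eq_def.{0}
  have := @_root_.AddSubgroup.closureAddCommGroupOfComm.congr_simp.{0}
  have := @_root_.AddSubgroup.closureAddCommGroupOfComm.eq_def.{0}
  have := @_root_.Subgroup.closureCommGroupOfComm.congr_simp.{0}
  have := @_root_.Subgroup.closureCommGroupOfComm.eq_def.{0}
  have := @_root_.AddSubgroup.centralizer.eq_def.{0}
  have := @_root_.Subgroup.normalizerMonoidHom.eq_def.{0}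
  have := @_root_.Subgroup.normalizerMonoidHom.eq_1.{0}
  have := @_root_.ConjAct.ofConjAct.eq_def.{0}
  have := @_root_.ConjAct.ofConjAct.eq_1.{0}
  have := @_root_.ConjAct.toConjAct.eq_def.{0}
  have := @_root_.ConjAct.toConjAct.eq_1.{0}
  have := @_root_.ConjAct.eq_def.{0}
  have := @_root_.ConjAct.eq_1.{0}
  have := @_root_.unitsCentralizerEquiv.eq_def.{0}
  have := @_root_.unitsCentralizerEquiv.eq_1.{0}
  have := @_root_.MulAut.conjNormal.eq_def.{0}
  have := @_root_.MulAut.conjNormal.eq_1.{0}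
  have := @_root_.Subgroup.pointwiseMulAction.eq_def.{0, 0}
  have := @_root_.Subgroup.pointwiseMulAction.eq_1.{0, 0}
  have := @_root_.Subgroup.equivSMul.eq_def.{0, 0}
  have := @_root_.Subgroup.equivSMul.eq_1.{0, 0}
  have := @_root_.BigOperators.processBigOpBinders.eq_def
  have := @_root_.BigOperators.processBigOpBinders.eq_1
  have := @_root_.BigOperators.BigOpWith.eq_def
  have := @_root_.BigOperators.BigOpWith.eq_1
  have := @_root_.BigOperators.bigOpBindersPattern.eq_def
  have := @_root_.BigOperators.bigOpBindersPattern.eq_1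
  have := @_root_.Finset.sum.eq_def.{0, 0}
  trivial

theorem m09_11 : True := by
  have := @_root_.LibraryNote.operator_precedence_of_big_operators.eq_def
  have := @_root_.LibraryNote.operator_precedence_of_big_operators.eq_1
  have := @_root_.BigOperators.bigOpBinderCollection.eq_def
  have := @_root_.BigOperators.bigOpBinderCollection.eq_1
  have := @_root_.BigOperators.bigOpBinderParenthesized.eq_def
  have := @_root_.BigOperators.bigOpBinderParenthesized.eq_1
  have := @_root_.BigOperators.bigOpBinders.eq_def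
  have := @_root_.BigOperators.bigOpBinders.eq_1
  have := @_root_.BigOperators.bigprod.eq_def
  have := @_root_.BigOperators.bigprod.eq_1
  have := @_root_.Finset.prod.eq_def.{0, 0}
  have := @_root_.BigOperators.bigOpBindersProd.eq_def
  have := @_root_.BigOperators.bigOpBindersProd.eq_1
  have := @_root_.BigOperators.processBigOpBinder.eq_def
  have := @_root_.BigOperators.processBigOpBinder.eq_1
  have := @_root_.BigOperators.bigsum.eq_def
  have := @_root_.BigOperators.bigsum.eq_1
  have := @_root_.BigOperators.bigOpBinder.eq_def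
  have := @_root_.BigOperators.bigOpBinder.eq_1
  have := @_root_.Multiset.noncommSum.congr_simp.{0}
  have := @_root_.Multiset.noncommSum.eq_def.{0}
  have := @_root_.Finset.noncommSum.congr_simp.{0, 0}
  have := @_root_.Finset.noncommSum.eq_def.{0, 0}
  have := @_root_.Finset.noncommProd.eq_def.{0, 0}
  have := @_root_.Multiset.noncommProd.eq_def.{0}
  have := @_root_.Multiset.noncommFold.eq_def.{0}
  have := @_root_.Multiset.noncommFoldr.eq_def.{0, 0}
  have := @_root_.FreeGroup.mk.eq_def.{0}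
  have := @_root_.FreeAddGroup.sum.eq_def.{0}
  have := @_root_.FreeAddGroup.freeAddGroupCongr.eq_def.{0, 0}
  trivial

theorem m09_12 : True := by
  have := @_root_.FreeGroup.of.eq_def.{0}
  have := @_root_.FreeAddGroup.lift.eq_def.{0, 0}
  have := @_root_.FreeAddGroup.eq_def.{0}
  have := @_root_.FreeGroup.eq_def.{0}
  have := @_root_.FreeAddGroup.of.eq_def.{0}
  have := @_root_.FreeGroup.lift.eq_def.{0, 0}
  have := @_root_.FreeGroup.mulEquivIntOfUnique.eq_def.{0}
  have := @_root_.FreeGroup.mulEquivIntOfUnique.eq_1.{0}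
  have := @_root_.FreeGroup.map.eq_def.{0, 0}
  have := @_root_.FreeGroup.Lift.aux.eq_def.{0, 0}
  have := @_root_.FreeAddGroup.IsReduced.eq_def.{0}
  have := @_root_.FreeGroup.sum.eq_def.{0}
  have := @_root_.FreeGroup.sum.eq_1.{0}
  have := @_root_.FreeGroup.freeGroupEmptyEquivUnit.eq_def
  have := @_root_.FreeAddGroup.negRev.eq_def.{0}
  have := @_root_.FreeAddGroup.Red.eq_def.{0}
  have := @_root_.FreeAddGroup.freeAddGroupEmptyEquivAddUnit.eq_def
  have := @_root_.FreeGroup.freeGroupUnitEquivInt.eq_def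
  have := @_root_.FreeAddGroup.map.eq_def.{0, 0}
  have := @_root_.FreeAddGroup.Lift.aux.eq_def.{0, 0}
  have := @_root_.FreeGroup.IsReduced.eq_def.{0}
  have := @_root_.FreeAddGroup.addEquivIntOfUnique.eq_def.{0}
  have := @_root_.FreeAddGroup.addEquivIntOfUnique.eq_1.{0}
  have := @_root_.FreeAddGroup.mk.eq_def.{0}
  have := @_root_.FreeGroup.equivIntOfUnique.eq_def.{0}
  have := @_root_.FreeGroup.Red.eq_def.{0}
  have := @_root_.FreeGroup.invRev.eq_def.{0}
  have := @_root_.FreeGroup.freeGroupCongr.eq_def.{0, 0}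
  have := @_root_.FreeGroup.prod.eq_def.{0}
  have := @_root_.Setoid.correspondence.eq_def.{0}
  trivial

theorem m09_13 : True := by
  have := @_root_.Setoid.correspondence.eq_1.{0}
  have := @_root_.Setoid.quotientKerEquivOfRightInverse.congr_simp.{0, 0}
  have := @_root_.Setoid.quotientKerEquivOfRightInverse.eq_def.{0, 0}
  have := @_root_.Setoid.quotientKerEquivOfRightInverse.eq_1.{0, 0}
  have := @_root_.Setoid.quotientKerEquivRange.eq_def.{0, 0}
  have := @_root_.Setoid.quotientKerEquivRange.eq_1.{0, 0}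
  have := @_root_.Setoid.quotientBotEquiv.eq_def.{0}
  have := @_root_.Setoid.quotientBotEquiv.eq_1.{0}
  have := @_root_.Setoid.gi.eq_def.{0}
  have := @_root_.Setoid.gi.eq_1.{0}
  have := @_root_.Setoid.map.eq_def.{0, 0}
  have := @_root_.Setoid.map.eq_1.{0, 0}
  have := @_root_.Setoid.quotientKerEquivRangeKerLift.eq_def.{0, 0}
  have := @_root_.Setoid.quotientKerEquivRangeKerLift.eq_1.{0, 0}
  have := @_root_.Setoid.map_sInf.congr_simp.{0}
  have := @_root_.Setoid.map_sInf.eq_def.{0}
  have := @_root_.Setoid.map_sInf.eq_1.{0}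
  have := @_root_.Setoid.prod.eq_def.{0, 0}
  have := @_root_.Setoid.prod.eq_1.{0, 0}
  have := @_root_.Setoid.map_of_le.congr_simp.{0}
  have := @_root_.Setoid.map_of_le.eq_def.{0}
  have := @_root_.Setoid.map_of_le.eq_1.{0}
  have := @_root_.Setoid.quotientQuotientEquivQuotient.eq_def.{0}
  have := @_root_.Setoid.quotientQuotientEquivQuotient.eq_1.{0}
  have := @_root_.Setoid.ker.eq_def.{0, 0}
  have := @_root_.Setoid.mapOfSurjective.congr_simp.{0, 0}
  have := @_root_.Setoid.mapOfSurjective.eq_def.{0, 0}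
  have := @_root_.Setoid.mapOfSurjective.eq_1.{0, 0}
  have := @_root_.Setoid.liftEquiv.eq_def.{0, 0}
  have := @_root_.Setoid.liftEquiv.eq_1.{0, 0}
  trivial

theorem m09_14 : True := by
  have := @_root_.Setoid.quotientKerEquivOfSurjective.eq_def.{0, 0}
  have := @_root_.Setoid.quotientKerEquivOfSurjective.eq_1.{0, 0}
  have := @_root_.Setoid.kerLift.eq_def.{0, 0}
  have := @_root_.Setoid.kerLift.eq_1.{0, 0}
  have := @_root_.Setoid.comapQuotientEquiv.eq_def.{0, 0}
  have := @_root_.Setoid.comapQuotientEquiv.eq_1.{0, 0}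
  have := @_root_.Setoid.comap.eq_def.{0, 0}
  have := @_root_.Setoid.comap.eq_1.{0, 0}
  have := @_root_.Setoid.sigmaQuotientEquivOfLe.congr_simp.{0}
  have := @_root_.Setoid.sigmaQuotientEquivOfLe.eq_def.{0}
  have := @_root_.Setoid.sigmaQuotientEquivOfLe.eq_1.{0}
  have := @_root_.Setoid.piQuotientEquiv.eq_def.{0, 0}
  have := @_root_.Setoid.piQuotientEquiv.eq_1.{0, 0}
  have := @_root_.Setoid.prodQuotientEquiv.eq_def.{0, 0}
  have := @_root_.Setoid.prodQuotientEquiv.eq_1.{0, 0}
  have := @_root_.AddConGen.Rel.add.congr_simp.{0}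
  have := @_root_.addConGen.eq_def.{0}
  have := @_root_.ConGen.Rel.below.symm.congr_simp.{0}
  have := @_root_.AddCon.toQuotient.eq_def.{0}
  have := @_root_.AddConGen.Rel.trans.congr_simp.{0}
  have := @_root_.conGen.eq_def.{0}
  have := @_root_.ConGen.Rel.below.mul.congr_simp.{0}
  have := @_root_.AddCon.mk.congr_simp.{0}
  have := @_root_.AddCon.hrecOn₂.congr_simp.{0, 0, 0}
  have := @_root_.AddCon.hrecOn₂.eq_def.{0, 0, 0}
  have := @_root_.AddCon.comap.congr_simp.{0, 0}
  have := @_root_.AddCon.comap.eq_def.{0, 0}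
  have := @_root_.Con.liftOnUnits.congr_simp.{0, 0}
  have := @_root_.Con.liftOnUnits.eq_def.{0, 0}
  have := @_root_.ConGen.Rel.below.trans.congr_simp.{0}
  trivial

end Cfsg.Rz
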