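import Cfsg.Agent.Rz.M09

/-! Generated file: forces on-demand equation and congruence lemmas to be created once. -/

set_option linter.all false

namespace Cfsg.Rz

theorem m10_0 : True := by
  have := @_root_.AddCon.liftOn.eq_def.{0, 0}
  have := @_root_.AddCon.liftOnAddUnits.congr_simp.{0, 0}
  have := @_root_.AddCon.liftOnAddUnits.eq_def.{0, 0}
  have := @_root_.Con.liftOn.congr_simp.{0, 0}
  have := @_root_.Con.liftOn.eq_def.{0, 0}
  have := @_root_.AddConGen.Rel.below.trans.congr_simp.{0}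
  have := @_root_.AddCon.liftOn₂.congr_simp.{0, 0}
  have := @_root_.AddCon.liftOn₂.eq_def.{0, 0}
  have := @_root_.Con.gi.eq_def.{0}
  have := @_root_.Con.Quotient.eq_def.{0}
  have := @_root_.AddConGen.Rel.below.symm.congr_simp.{0}
  have := @_root_.Con.hrecOn₂.congr_simp.{0, 0, 0}
  have := @_root_.Con.hrecOn₂.eq_def.{0, 0, 0}
  have := @_root_.Con.comap.eq_def.{0, 0}
  have := @_root_.ConGen.Rel.trans.congr_simp.{0}
  have := @_root_.AddCon.gi.eq_def.{0}
  have := @_root_.Con.liftOn₂.congr_simp.{0, 0}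
  have := @_root_.Con.liftOn₂.eq_def.{0, 0}
  have := @_root_.AddCon.Quotient.eq_def.{0}
  have := @_root_.ConGen.Rel.of.congr_simp.{0}
  have := @_root_.AddConGen.Rel.below.add.congr_simp.{0}
  have := @_root_.ConGen.Rel.mul.congr_simp.{0}
  have := @_root_.Con.toQuotient.eq_def.{0}
  have := @_root_.ConGen.Rel.symm.congr_simp.{0}
  have := @_root_.AddConGen.Rel.symm.congr_simp.{0}
  have := @_root_.AddConGen.Rel.of.congr_simp.{0}
  have := @_root_.AddCon.mapOfSurjective.congr_simp.{0, 0, 0}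
  have := @_root_.AddCon.mapOfSurjective.eq_def.{0, 0, 0}
  have := @_root_.AddCon.lift.eq_def.{0, 0}
  have := @_root_.AddCon.correspondence.eq_def.{0}
  trivial

theorem m10_1 : True := by
  have := @_root_.Con.kerLift.eq_def.{0, 0}
  have := @_root_.AddCon.mk'.eq_def.{0}
  have := @_root_.AddCon.map.congr_simp.{0}
  have := @_root_.AddCon.map.eq_def.{0}
  have := @_root_.Con.ker.eq_def.{0, 0, 0}
  have := @_root_.AddCon.mkAddHom.eq_def.{0}
  have := @_root_.Con.mapGen.eq_def.{0, 0}
  have := @_root_.AddCon.ker.eq_def.{0, 0, 0}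
  have := @_root_.AddCon.mapGen.eq_def.{0, 0}
  have := @_root_.Con.mk'.eq_def.{0}
  have := @_root_.Con.correspondence.eq_def.{0}
  have := @_root_.Con.map.congr_simp.{0}
  have := @_root_.Con.map.eq_def.{0}
  have := @_root_.AddCon.kerLift.eq_def.{0, 0}
  have := @_root_.Con.mkMulHom.eq_def.{0}
  have := @_root_.Con.mapOfSurjective.congr_simp.{0, 0, 0}
  have := @_root_.Con.mapOfSurjective.eq_def.{0, 0, 0}
  have := @_root_.Con.lift.eq_def.{0, 0}
  have := @_root_.AddSubgroup.quotientEquivOfEq.congr_simp.{0}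
  have := @_root_.AddSubgroup.quotientEquivOfEq.eq_def.{0}
  have := @_root_.QuotientAddGroup.rightRel.eq_def.{0}
  have := @_root_.QuotientGroup.quotientRightRelEquivQuotientLeftRel.eq_def.{0}
  have := @_root_.QuotientGroup.leftRel.eq_def.{0}
  have := @_root_.QuotientGroup.rightRel.eq_def.{0}
  have := @_root_.QuotientAddGroup.leftRel.eq_def.{0}
  have := @_root_.QuotientAddGroup.mk.eq_def.{0}
  have := @_root_.QuotientGroup.mk.eq_def.{0}
  have := @_root_.Subgroup.quotientEquivOfEq.congr_simp.{0}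
  have := @_root_.Subgroup.quotientEquivOfEq.eq_def.{0}
  have := @_root_.QuotientAddGroup.quotientRightRelEquivQuotientLeftRel.eq_def.{0}
  trivial

theorem m10_2 : True := by
  have := @_root_.QuotientAddGroup.con.congr_simp.{0}
  have := @_root_.QuotientAddGroup.con.eq_def.{0}
  have := @_root_.QuotientAddGroup.lift.eq_def.{0, 0}
  have := @_root_.AddCon.addSubgroup.eq_def.{0}
  have := @_root_.QuotientGroup.liftEquiv.congr_simp.{0, 0}
  have := @_root_.QuotientGroup.liftEquiv.eq_def.{0, 0}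
  have := @_root_.QuotientGroup.lift.eq_def.{0, 0}
  have := @_root_.QuotientGroup.con.congr_simp.{0}
  have := @_root_.QuotientGroup.con.eq_def.{0}
  have := @_root_.QuotientGroup.congr.eq_def.{0, 0}
  have := @_root_.Con.subgroup.eq_def.{0}
  have := @_root_.AddSubgroup.orderIsoAddCon.eq_def.{0}
  have := @_root_.QuotientAddGroup.mk'.eq_def.{0}
  have := @_root_.QuotientAddGroup.congr.congr_simp.{0, 0}
  have := @_root_.QuotientAddGroup.congr.eq_def.{0, 0}
  have := @_root_.QuotientGroup.mk'.eq_def.{0}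
  have := @_root_.QuotientGroup.map.eq_def.{0, 0}
  have := @_root_.Subgroup.orderIsoCon.eq_def.{0}
  have := @_root_.QuotientAddGroup.map.congr_simp.{0, 0}
  have := @_root_.QuotientAddGroup.map.eq_def.{0, 0}
  have := @_root_.QuotientAddGroup.liftEquiv.congr_simp.{0, 0}
  have := @_root_.QuotientAddGroup.liftEquiv.eq_def.{0, 0}
  have := @_root_.Monoid.FG.mk.congr_simp.{0}
  have := @_root_.Group.FG.mk.congr_simp.{0}
  have := @_root_.AddMonoid.FG.mk.congr_simp.{0}
  have := @_root_.Subgroup.FG.eq_def.{0}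
  have := @_root_.Submonoid.FG.eq_def.{0}
  have := @_root_.AddGroup.FG.mk.congr_simp.{0}
  have := @_root_.AddSubgroup.FG.eq_def.{0}
  have := @_root_.AddSubmonoid.FG.eq_def.{0}
  trivial

theorem m10_3 : True := by
  have := @_root_.commutator.eq_def.{0}
  have := @_root_.closureCommutatorRepresentatives.eq_def.{0}
  have := @_root_.commutatorRepresentatives.eq_def.{0}
  have := @_root_.addCommutatorRepresentatives.eq_def.{0}
  have := @_root_.commutatorSet.eq_def.{0}
  have := @_root_.closureAddCommutatorRepresentatives.eq_def.{0}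
  have := @_root_.addCommutatorSet.eq_def.{0}
  have := @_root_.addCommutator.eq_def.{0}
  have := @_root_.Abelianization.of.eq_def.{0}
  have := @_root_.Abelianization.of.eq_1.{0}
  have := @_root_.Abelianization.lift.eq_def.{0, 0}
  have := @_root_.Abelianization.lift.eq_1.{0, 0}
  have := @_root_.MulEquiv.abelianizationCongr.eq_def.{0, 0}
  have := @_root_.MulEquiv.abelianizationCongr.eq_1.{0, 0}
  have := @_root_.Abelianization.equivOfComm.eq_def.{0}
  have := @_root_.Abelianization.equivOfComm.eq_1.{0}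
  have := @_root_.Abelianization.map.eq_def.{0, 0}
  have := @_root_.Abelianization.map.eq_1.{0, 0}
  have := @_root_.Abelianization.eq_def.{0}
  have := @_root_.Abelianization.eq_1.{0}
  have := @_root_.FreeAbelianGroup.map.eq_def.{0, 0}
  have := @_root_.FreeAbelianGroup.ofMulHom.eq_def.{0}
  have := @_root_.FreeAbelianGroup.ofMulHom.eq_1.{0}
  have := @_root_.FreeAbelianGroup.lift.eq_def.{0, 0}
  have := @_root_.FreeAbelianGroup.lift.eq_1.{0, 0}
  have := @_root_.FreeAbelianGroup.liftAddEquiv.eq_def.{0, 0}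
  have := @_root_.FreeAbelianGroup.liftAddEquiv.eq_1.{0, 0}
  have := @_root_.FreeAbelianGroup.liftMonoid.eq_def.{0, 0}
  have := @_root_.FreeAbelianGroup.liftMonoid.eq_1.{0, 0}
  have := @_root_.FreeAbelianGroup.equivOfEquiv.eq_def.{0, 0}
  trivial

theorem m10_4 : True := by
  have := @_root_.FreeAbelianGroup.equivOfEquiv.eq_1.{0, 0}
  have := @_root_.FreeAbelianGroup.of.eq_def.{0}
  have := @_root_.FreeAbelianGroup.of.eq_1.{0}
  have := @_root_.FreeAbelianGroup.eq_def.{0}
  have := @_root_.FreeAbelianGroup.eq_1.{0}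
  have := @_root_.FreeAbelianGroup.liftAddGroupHom.eq_def.{0, 0}
  have := @_root_.FreeAbelianGroup.liftAddGroupHom.eq_1.{0, 0}
  have := @_root_.FreeAbelianGroup.seqAddGroupHom.eq_def.{0}
  have := @_root_.FreeAbelianGroup.seqAddGroupHom.eq_1.{0}
  have := @_root_.FreeAbelianGroup.uniqueEquiv.eq_def.{0}
  have := @_root_.FreeAbelianGroup.uniqueEquiv.eq_1.{0}
  have := @_root_.OreLocalization.oreDenom.eq_def.{0}
  have := @_root_.OreLocalization.oreNum.eq_def.{0}
  have := @_root_.AddOreLocalization.addOreCondition.eq_def.{0}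
  have := @_root_.AddOreLocalization.oreMin.eq_def.{0}
  have := @_root_.OreLocalization.OreSet.mk.congr_simp.{0}
  have := @_root_.AddOreLocalization.AddOreSet.mk.congr_simp.{0}
  have := @_root_.OreLocalization.oreCondition.eq_def.{0}
  have := @_root_.AddOreLocalization.oreSubtra.eq_def.{0}
  have := @_root_.AddOreLocalization.numeratorAddUnit.eq_def.{0}
  have := @_root_.AddOreLocalization.oreSubVAddChar'.eq_def.{0, 0}
  have := @_root_.AddOreLocalization.zero.eq_def.{0, 0}
  have := @_root_.OreLocalization.oreEqv.eq_def.{0, 0}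
  have := @_root_.OreLocalization.zero.eq_def.{0, 0}
  have := @_root_.OreLocalization.zero.eq_1.{0, 0}
  have := @_root_.AddOreLocalization.oreSubAddChar'.eq_def.{0}
  have := @_root_.OreLocalization.lift₂Expand.congr_simp.{0, 0, 0}
  have := @_root_.OreLocalization.lift₂Expand.eq_def.{0, 0, 0}
  have := @_root_.AddOreLocalization.universalAddHom.congr_simp.{0, 0}
  have := @_root_.AddOreLocalization.universalAddHom.eq_def.{0, 0}
  trivial

theorem m10_5 : True := by
  have := @_root_.OreLocalization.oreDivSMulChar'.eq_def.{0, 0}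
  have := @_root_.OreLocalization.hsmul.eq_def.{0, 0, 0}
  have := @_root_.OreLocalization.universalMulHom.eq_def.{0, 0}
  have := @_root_.AddOreLocalization.numeratorHom.eq_def.{0}
  have := @_root_.AddOreLocalization.oreEqv.eq_def.{0, 0}
  have := @_root_.AddOreLocalization.eq_def.{0, 0}
  have := @_root_.OreLocalization.liftExpand.congr_simp.{0, 0, 0}
  have := @_root_.OreLocalization.liftExpand.eq_def.{0, 0, 0}
  have := @_root_.AddOreLocalization.hvadd.eq_def.{0, 0, 0}
  have := @_root_.OreLocalization.numeratorUnit.eq_def.{0}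
  have := @_root_.OreLocalization.one.eq_def.{0, 0}
  have := @_root_.AddOreLocalization.lift₂Expand.congr_simp.{0, 0, 0}
  have := @_root_.AddOreLocalization.lift₂Expand.eq_def.{0, 0, 0}
  have := @_root_.OreLocalization.eq_def.{0, 0}
  have := @_root_.AddOreLocalization.nsmul.eq_def.{0}
  have := @_root_.AddOreLocalization.vadd.eq_def.{0, 0}
  have := @_root_.OreLocalization.oreDivMulChar'.eq_def.{0}
  have := @_root_.OreLocalization.numeratorHom.eq_def.{0}
  have := @_root_.OreLocalization.npow.eq_def.{0}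
  have := @_root_.AddOreLocalization.liftExpand.congr_simp.{0, 0, 0}
  have := @_root_.AddOreLocalization.liftExpand.eq_def.{0, 0, 0}
  have := @_root_.OreLocalization.oreDiv.eq_def.{0, 0}
  have := @_root_.AddOreLocalization.oreSub.eq_def.{0, 0}
  have := @_root_.OreLocalization.smul.eq_def.{0, 0}
  have := @_root_.Submonoid.LocalizationMap.cancelCommMonoid.eq_def.{0, 0}
  have := @_root_.Localization.r.eq_def.{0}
  have := @_root_.AddLocalization.mkHom.eq_def.{0}
  have := @_root_.AddMonoidHom.toLocalizationMap.congr_simp.{0, 0}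
  have := @_root_.AddMonoidHom.toLocalizationMap.eq_def.{0, 0}
  have := @_root_.OreLocalization.equivMonoidLocalization.eq_def.{0}
  trivial

theorem m10_6 : True := by
  have := @_root_.OreLocalization.equivMonoidLocalization.eq_1.{0}
  have := @_root_.AddLocalization.r.eq_def.{0}
  have := @_root_.Localization.mkHom.eq_def.{0}
  have := @_root_.Localization.mk.eq_def.{0}
  have := @_root_.AddLocalization.recOnSubsingleton₂.congr_simp.{0, 0}
  have := @_root_.AddLocalization.recOnSubsingleton₂.eq_def.{0, 0}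
  have := @_root_.AddLocalization.addMonoidOf.eq_def.{0}
  have := @_root_.Localization.eq_def.{0}
  have := @_root_.Localization.liftOn.congr_simp.{0, 0}
  have := @_root_.Localization.liftOn.eq_def.{0, 0}
  have := @_root_.AddLocalization.eq_def.{0}
  have := @_root_.AddLocalization.r'.eq_def.{0}
  have := @_root_.AddSubmonoid.LocalizationMap.toAddMonoidHom.eq_def.{0, 0}
  have := @_root_.AddSubmonoid.LocalizationMap.addCancelCommMonoid.eq_def.{0, 0}
  have := @_root_.Localization.r'.eq_def.{0}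
  have := @_root_.Submonoid.IsLocalizationMap.mk.congr_simp.{0, 0}
  have := @_root_.Submonoid.LocalizationMap.toMonoidHom.eq_def.{0, 0}
  have := @_root_.AddSubmonoid.LocalizationMap.sec.eq_def.{0, 0}
  have := @_root_.Localization.liftOn₂.congr_simp.{0, 0}
  have := @_root_.Localization.liftOn₂.eq_def.{0, 0}
  have := @_root_.Localization.monoidOf.eq_def.{0}
  have := @_root_.AddSubmonoid.IsLocalizationMap.mk.congr_simp.{0, 0}
  have := @_root_.Localization.recOnSubsingleton₂.congr_simp.{0, 0}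
  have := @_root_.Localization.recOnSubsingleton₂.eq_def.{0, 0}
  have := @_root_.Submonoid.LocalizationMap.sec.eq_def.{0, 0}
  have := @_root_.AddSubmonoid.LocalizationMap.mk'.eq_def.{0, 0}
  have := @_root_.AddSubmonoid.LocalizationMap.mk.congr_simp.{0, 0}
  have := @_root_.AddLocalization.liftOn.congr_simp.{0, 0}
  have := @_root_.AddLocalization.liftOn.eq_def.{0, 0}
  have := @_root_.OreLocalization.localizationMap.eq_def.{0}
  trivial

theorem m10_7 : True := by
  have := @_root_.OreLocalization.localizationMap.eq_1.{0}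
  have := @_root_.Submonoid.LocalizationMap.mk.congr_simp.{0, 0}
  have := @_root_.Submonoid.LocalizationMap.mk'.eq_def.{0, 0}
  have := @_root_.AddLocalization.liftOn₂.congr_simp.{0, 0}
  have := @_root_.AddLocalization.liftOn₂.eq_def.{0, 0}
  have := @_root_.AddLocalization.mk.eq_def.{0}
  have := @_root_.MonoidHom.toLocalizationMap.congr_simp.{0, 0}
  have := @_root_.MonoidHom.toLocalizationMap.eq_def.{0, 0}
  have := @_root_.AddLocalization.addEquivOfQuotient.eq_def.{0, 0}
  have := @_root_.Submonoid.LocalizationMap.mulEquivOfLocalizations.eq_def.{0, 0, 0}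
  have := @_root_.AddSubmonoid.LocalizationMap.lift.congr_simp.{0, 0, 0}
  have := @_root_.AddSubmonoid.LocalizationMap.lift.eq_def.{0, 0, 0}
  have := @_root_.AddSubmonoid.LocalizationMap.addEquivOfLocalizations.eq_def.{0, 0, 0}
  have := @_root_.Localization.mulEquivOfQuotient.eq_def.{0, 0}
  have := @_root_.Submonoid.LocalizationMap.lift.eq_def.{0, 0, 0}
  have := @_root_.AddSubmonoid.LocalizationMap.addEquivOfAddEquiv.congr_simp.{0, 0, 0, 0}
  have := @_root_.AddSubmonoid.LocalizationMap.addEquivOfAddEquiv.eq_def.{0, 0, 0, 0}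
  have := @_root_.Submonoid.LocalizationMap.map.eq_def.{0, 0, 0, 0}
  have := @_root_.AddSubmonoid.LocalizationMap.ofAddEquivOfDom.congr_simp.{0, 0, 0}
  have := @_root_.AddSubmonoid.LocalizationMap.ofAddEquivOfDom.eq_def.{0, 0, 0}
  have := @_root_.Submonoid.LocalizationMap.ofMulEquivOfDom.congr_simp.{0, 0, 0}
  have := @_root_.Submonoid.LocalizationMap.ofMulEquivOfDom.eq_def.{0, 0, 0}
  have := @_root_.AddSubmonoid.LocalizationMap.map.congr_simp.{0, 0, 0, 0}
  have := @_root_.AddSubmonoid.LocalizationMap.map.eq_def.{0, 0, 0, 0}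
  have := @_root_.Submonoid.LocalizationMap.ofMulEquivOfLocalizations.eq_def.{0, 0, 0}
  have := @_root_.AddSubmonoid.LocalizationMap.ofAddEquivOfLocalizations.eq_def.{0, 0, 0}
  have := @_root_.Submonoid.LocalizationMap.mulEquivOfMulEquiv.congr_simp.{0, 0, 0, 0}
  have := @_root_.Submonoid.LocalizationMap.mulEquivOfMulEquiv.eq_def.{0, 0, 0, 0}
  have := @_root_.Algebra.GrothendieckAddGroup.of.eq_def.{0}
  have := @_root_.Algebra.GrothendieckAddGroup.lift.eq_def.{0, 0}
  trivial

theorem m10_8 : True := by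
  have := @_root_.Algebra.GrothendieckGroup.of.eq_def.{0}
  have := @_root_.Algebra.GrothendieckGroup.eq_def.{0}
  have := @_root_.Algebra.GrothendieckGroup.lift.eq_def.{0, 0}
  have := @_root_.Algebra.GrothendieckAddGroup.eq_def.{0}
  have := @_root_.RingEquiv.toMonoidHom.eq_def.{0, 0}
  have := @_root_.RingEquiv.toMonoidHom.eq_1.{0, 0}
  have := @_root_.RingEquiv.piOptionEquivProd.eq_def.{0, 0}
  have := @_root_.RingEquiv.piOptionEquivProd.eq_1.{0, 0}
  have := @_root_.RingEquiv.toNonUnitalRingHom.eq_def.{0, 0}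
  have := @_root_.RingEquiv.toNonUnitalRingHom.eq_1.{0, 0}
  have := @_root_.RingEquiv.ofRingHom.eq_def.{0, 0}
  have := @_root_.RingEquiv.ofRingHom.eq_1.{0, 0}
  have := @_root_.RingEquivClass.toRingEquiv.eq_def.{0, 0, 0}
  have := @_root_.RingEquivClass.toRingEquiv.eq_1.{0, 0, 0}
  have := @_root_.RingEquiv.prodCongr.eq_def.{0, 0, 0, 0}
  have := @_root_.RingEquiv.prodCongr.eq_1.{0, 0, 0, 0}
  have := @_root_.AddEquiv.toRingEquiv.congr_simp.{0, 0, 0}
  have := @_root_.AddEquiv.toRingEquiv.eq_def.{0, 0, 0}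
  have := @_root_.AddEquiv.toRingEquiv.eq_1.{0, 0, 0}
  have := @_root_.RingEquiv.toRingHom.eq_def.{0, 0}
  have := @_root_.RingEquiv.toRingHom.eq_1.{0, 0}
  have := @_root_.RingEquiv.refl.eq_def.{0}
  have := @_root_.RingEquiv.refl.eq_1.{0}
  have := @_root_.RingEquiv.piMulOpposite.eq_def.{0, 0}
  have := @_root_.RingEquiv.piMulOpposite.eq_1.{0, 0}
  have := @_root_.RingEquiv.opOp.eq_def.{0}
  have := @_root_.RingEquiv.opOp.eq_1.{0}
  have := @_root_.RingEquiv.toMulEquiv.eq_def.{0, 0}
  have := @_root_.RingEquiv.toMulEquiv.eq_1.{0, 0}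
  have := @_root_.RingEquiv.toOpposite.eq_def.{0}
  trivial

theorem m10_9 : True := by
  have := @_root_.RingEquiv.toOpposite.eq_1.{0}
  have := @_root_.RingEquiv.sumArrowEquivProdArrow.eq_def.{0, 0, 0}
  have := @_root_.RingEquiv.sumArrowEquivProdArrow.eq_1.{0, 0, 0}
  have := @_root_.RingEquiv.piCongrRight.eq_def.{0, 0, 0}
  have := @_root_.RingEquiv.piCongrRight.eq_1.{0, 0, 0}
  have := @_root_.RingEquiv.piCongrLeft'.eq_def.{0, 0, 0}
  have := @_root_.RingEquiv.ofBijective.eq_def.{0, 0, 0}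
  have := @_root_.RingEquiv.ofBijective.eq_1.{0, 0, 0}
  have := @_root_.RingEquiv.unop.eq_def.{0, 0}
  have := @_root_.RingEquiv.ofNonUnitalRingHom.congr_simp.{0, 0}
  have := @_root_.RingEquiv.ofNonUnitalRingHom.eq_def.{0, 0}
  have := @_root_.RingEquiv.ofNonUnitalRingHom.eq_1.{0, 0}
  have := @_root_.RingEquiv.op.eq_def.{0, 0}
  have := @_root_.RingEquiv.op.eq_1.{0, 0}
  have := @_root_.NonUnitalRingHom.inverse.congr_simp.{0, 0}
  have := @_root_.NonUnitalRingHom.inverse.eq_def.{0, 0}
  have := @_root_.NonUnitalRingHom.inverse.eq_1.{0, 0}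
  have := @_root_.RingEquiv.piCongrLeft.eq_def.{0, 0, 0}
  have := @_root_.RingEquiv.piCongrLeft.eq_1.{0, 0, 0}
  have := @_root_.RingEquiv.symm.eq_def.{0, 0}
  have := @_root_.MulEquiv.toRingEquiv.congr_simp.{0, 0, 0}
  have := @_root_.MulEquiv.toRingEquiv.eq_def.{0, 0, 0}
  have := @_root_.MulEquiv.toRingEquiv.eq_1.{0, 0, 0}
  have := @_root_.RingEquiv.toAddEquiv.eq_def.{0, 0}
  have := @_root_.RingEquiv.toAddEquiv.eq_1.{0, 0}
  have := @_root_.RingEquiv.piUnique.eq_def.{0, 0}
  have := @_root_.RingEquiv.piUnique.eq_1.{0, 0}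
  have := @_root_.RingEquiv.cast.congr_simp.{0, 0}
  have := @_root_.RingEquiv.cast.eq_def.{0, 0}
  have := @_root_.RingEquiv.cast.eq_1.{0, 0}
  trivial

theorem m10_10 : True := by
  have := @_root_.RingHom.inverse.congr_simp.{0, 0}
  have := @_root_.RingHom.inverse.eq_def.{0, 0}
  have := @_root_.RingHom.inverse.eq_1.{0, 0}
  have := @_root_.RingEquiv.trans.eq_def.{0, 0, 0}
  have := @_root_.RingEquiv.trans.eq_1.{0, 0, 0}
  have := @_root_.RingEquivClass.mk.congr_simp.{0, 0, 0}
  have := @_root_.RingEquiv.toAddMonoidHom.eq_def.{0, 0}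
  have := @_root_.RingEquiv.toAddMonoidHom.eq_1.{0, 0}
  have := @_root_.RingEquiv.ofUnique.eq_def.{0, 0}
  have := @_root_.RingEquiv.ofUnique.eq_1.{0, 0}
  have := @_root_.RingEquiv.piEquivPiSubtypeProd.eq_def.{0, 0}
  have := @_root_.RingEquiv.piEquivPiSubtypeProd.eq_1.{0, 0}
  have := @_root_.Small.mk.congr_simp.{0, 0}
  have := @_root_.Shrink.eq_def.{0, 0}
  have := @_root_.Shrink.eq_1.{0, 0}
  have := @_root_.equivShrink.eq_def.{0, 0}
  have := @_root_.equivShrink.eq_1.{0, 0}
  have := @_root_.Finset.piecewise.eq_def.{0, 0}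
  have := @_root_.fintypeOfFintypeNe.eq_def.{0}
  have := @_root_.fintypeOfFintypeNe.eq_1.{0}
  have := @_root_.Fintype.toEncodable.eq_def.{0}
  have := @_root_.Fintype.toEncodable.eq_1.{0}
  have := @_root_.Equiv.listUniqueEquiv.eq_def.{0}
  have := @_root_.Equiv.listUniqueEquiv.eq_1.{0}
  have := @_root_.Equiv.listEquivOfEquiv.eq_def.{0, 0}
  have := @_root_.Equiv.listEquivOfEquiv.eq_1.{0, 0}
  have := @_root_.Equiv.listEquivSelfOfEquivNat.eq_def.{0}
  have := @_root_.Equiv.listEquivSelfOfEquivNat.eq_1.{0}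
  have := @_root_.Encodable.encodableOfList.congr_simp.{0}
  have := @_root_.Encodable.encodableOfList.eq_def.{0}
  trivial

theorem m10_11 : True := by
  have := @_root_.Encodable.encodableOfList.eq_1.{0}
  have := @_root_.Fintype.truncEncodable.eq_def.{0}
  have := @_root_.Fintype.truncEncodable.eq_1.{0}
  have := @_root_.Equiv.listNatEquivNat.eq_def
  have := @_root_.Equiv.listNatEquivNat.eq_1
  have := @_root_.Set.enumerateCountable.congr_simp.{0}
  have := @_root_.Set.enumerateCountable.eq_def.{0}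
  have := @_root_.Set.Countable.toEncodable.congr_simp.{0}
  have := @_root_.Set.Countable.toEncodable.eq_def.{0}
  have := @_root_.Set.Countable.toEncodable.eq_1.{0}
  have := @_root_.Set.Countable.eq_def.{0}
  have := @_root_.Set.Countable.eq_1.{0}
  have := @_root_.UnivLE.mk.congr_simp.{0, 0}
  have := @_root_.Sum.inrₗ.eq_def.{0, 0}
  have := @_root_.Sum.inrₗ.eq_1.{0, 0}
  have := @_root_.OrderIso.sumCongr.eq_def.{0, 0, 0, 0}
  have := @_root_.OrderIso.sumCongr.eq_1.{0, 0, 0, 0}
  have := @_root_.OrderIso.sumComm.eq_def.{0, 0}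
  have := @_root_.OrderIso.sumComm.eq_1.{0, 0}
  have := @_root_.OrderIso.sumLexEmpty.congr_simp.{0, 0}
  have := @_root_.OrderIso.sumLexEmpty.eq_def.{0, 0}
  have := @_root_.OrderIso.sumLexEmpty.eq_1.{0, 0}
  have := @_root_.WithTop.orderIsoSumLexPUnit.eq_def.{0, 0}
  have := @_root_.WithTop.orderIsoSumLexPUnit.eq_1.{0, 0}
  have := @_root_.Sum.Lex.toLexRelIsoLT.eq_def.{0, 0}
  have := @_root_.Sum.Lex.toLexRelIsoLT.eq_1.{0, 0}
  have := @_root_.OrderIso.sumLexDualAntidistrib.eq_def.{0, 0}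
  have := @_root_.OrderIso.sumLexDualAntidistrib.eq_1.{0, 0}
  have := @_root_.OrderIso.emptySumLex.congr_simp.{0, 0}
  have := @_root_.OrderIso.emptySumLex.eq_def.{0, 0}
  trivial

theorem m10_12 : True := by
  have := @_root_.OrderIso.emptySumLex.eq_1.{0, 0}
  have := @_root_.OrderIso.sumLexAssoc.eq_def.{0, 0, 0}
  have := @_root_.OrderIso.sumLexAssoc.eq_1.{0, 0, 0}
  have := @_root_.WithBot.orderIsoPUnitSumLex.eq_def.{0, 0}
  have := @_root_.WithBot.orderIsoPUnitSumLex.eq_1.{0, 0}
  have := @_root_.OrderIso.sumDualDistrib.eq_def.{0, 0}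
  have := @_root_.OrderIso.sumDualDistrib.eq_1.{0, 0}
  have := @_root_.Sum.Lex.toLexRelIsoLE.eq_def.{0, 0}
  have := @_root_.Sum.Lex.toLexRelIsoLE.eq_1.{0, 0}
  have := @_root_.OrderIso.sumAssoc.eq_def.{0, 0, 0}
  have := @_root_.OrderIso.sumAssoc.eq_1.{0, 0, 0}
  have := @_root_.OrderIso.sumLexCongr.eq_def.{0, 0, 0, 0}
  have := @_root_.OrderIso.sumLexCongr.eq_1.{0, 0, 0, 0}
  have := @_root_.Sum.inlₗ.eq_def.{0, 0}
  have := @_root_.Sum.inlₗ.eq_1.{0, 0}
  have := @_root_.RelIso.sumLexComplLeft.congr_simp.{0}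
  have := @_root_.RelIso.sumLexComplLeft.eq_def.{0}
  have := @_root_.RelIso.sumLexComplLeft.eq_1.{0}
  have := @_root_.Prod.Lex.uniqueProd.eq_def.{0, 0}
  have := @_root_.Prod.Lex.uniqueProd.eq_1.{0, 0}
  have := @_root_.OrderIso.sumLexIioIci.eq_def.{0}
  have := @_root_.OrderIso.sumLexIioIci.eq_1.{0}
  have := @_root_.Prod.Lex.prodLexAssoc.eq_def.{0, 0, 0}
  have := @_root_.Prod.Lex.prodLexAssoc.eq_1.{0, 0, 0}
  have := @_root_.Prod.Lex.prodLexCongr.eq_def.{0, 0, 0, 0}
  have := @_root_.Prod.Lex.prodLexCongr.eq_1.{0, 0, 0, 0}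
  have := @_root_.Prod.Lex.prodUnique.eq_def.{0, 0}
  have := @_root_.Prod.Lex.prodUnique.eq_1.{0, 0}
  have := @_root_.Prod.Lex.sumLexProdLexDistrib.eq_def.{0, 0, 0}
  have := @_root_.Prod.Lex.sumLexProdLexDistrib.eq_1.{0, 0, 0}
  trivial

theorem m10_13 : True := by
  have := @_root_.RelIso.sumLexComplRight.congr_simp.{0}
  have := @_root_.RelIso.sumLexComplRight.eq_def.{0}
  have := @_root_.RelIso.sumLexComplRight.eq_1.{0}
  have := @_root_.OrderIso.sumLexIicIoi.eq_def.{0}
  have := @_root_.OrderIso.sumLexIicIoi.eq_1.{0}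
  have := @_root_.Function.fixedPoints.eq_def.{0}
  have := @_root_.ChainClosure.below.union.congr_simp.{0}
  have := @_root_.ChainClosure.succ.congr_simp.{0}
  have := @_root_.ChainClosure.below.succ.congr_simp.{0}
  have := @_root_.maxChain.eq_def.{0}
  have := @_root_.maxChain.eq_1.{0}
  have := @_root_.ChainClosure.union.congr_simp.{0}
  have := @_root_.Equiv.smulRight.eq_def.{0, 0}
  have := @_root_.Equiv.smulRight.eq_1.{0, 0}
  have := @_root_.MulDistribMulAction.compHom.eq_def.{0, 0, 0}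
  have := @_root_.MulDistribMulAction.compHom.eq_1.{0, 0, 0}
  have := @_root_.DistribMulAction.toAddEquiv₀.congr_simp.{0, 0}
  have := @_root_.DistribMulAction.toAddEquiv₀.eq_def.{0, 0}
  have := @_root_.DistribMulAction.toAddEquiv₀.eq_1.{0, 0}
  have := @_root_.DistribMulAction.compHom.eq_def.{0, 0, 0}
  have := @_root_.DistribMulAction.compHom.eq_1.{0, 0, 0}
  have := @_root_.Function.Surjective.distribMulActionLeft.congr_simp.{0, 0, 0}
  have := @_root_.Function.Surjective.distribMulActionLeft.eq_def.{0, 0, 0}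
  have := @_root_.Function.Surjective.distribMulActionLeft.eq_1.{0, 0, 0}
  have := @_root_.RingHomSurjective.mk.congr_simp.{0, 0}
  have := @_root_.RingHomCompTriple.mk.congr_simp.{0, 0, 0}
  have := @_root_.RingHomInvPair.mk.congr_simp.{0, 0}
  have := @_root_.RingHomInvPair.toRingEquiv.eq_def.{0, 0}
  have := @_root_.RingHomInvPair.toRingEquiv.eq_1.{0, 0}
  have := @_root_.RingHomId.mk.congr_simp.{0}
  trivial

theorem m10_14 : True := by
  have := @_root_.CompTriple.IsId.mk.congr_simp.{0}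
  have := @_root_.CompTriple.mk.congr_simp.{0, 0, 0}
  have := @_root_.MonoidHom.CompTriple.IsId.mk.congr_simp.{0}
  have := @_root_.MonoidHom.CompTriple.mk.congr_simp.{0, 0, 0}
  have := @_root_.MulSemiringAction.toRingHom.eq_def.{0, 0}
  have := @_root_.MulSemiringAction.toRingHom.eq_1.{0, 0}
  have := @_root_.MulSemiringAction.compHom.eq_def.{0, 0, 0}
  have := @_root_.MulSemiringAction.compHom.eq_1.{0, 0, 0}
  have := @_root_.MulSemiringAction.mk.congr_simp.{0, 0}
  have := @_root_.MulActionHom.End.equivMulOpposite.eq_def.{0}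
  have := @_root_.DistribMulActionSemiHomClass.toDistribMulActionHom.eq_def.{0, 0, 0, 0, 0}
  have := @_root_.AddActionHom.End.addOppositeEquiv.eq_def.{0}
  have := @_root_.MulSemiringActionHom.inverse.congr_simp.{0, 0, 0}
  have := @_root_.MulSemiringActionHom.inverse.eq_def.{0, 0, 0}
  have := @_root_.MulSemiringActionHom.inverse.eq_1.{0, 0, 0}
  have := @_root_.AddActionHom.comp.congr_simp.{0, 0, 0, 0, 0, 0}
  have := @_root_.AddActionHom.comp.eq_def.{0, 0, 0, 0, 0, 0}
  have := @_root_.VAddCommClass.toAddActionHom.congr_simp.{0, 0, 0}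
  have := @_root_.VAddCommClass.toAddActionHom.eq_def.{0, 0, 0}
  have := @_root_.Pi.evalAddActionHom.eq_def.{0, 0, 0}
  have := @_root_.MulSemiringActionHom.mk.congr_simp.{0, 0, 0, 0}
  have := @_root_.MulSemiringActionHom.id.eq_def.{0, 0}
  have := @_root_.MulSemiringActionHom.id.eq_1.{0, 0}
  have := @_root_.DistribMulActionHom.comp.eq_def.{0, 0, 0, 0, 0, 0}
  have := @_root_.MulSemiringActionHom.toRingHom.eq_def.{0, 0, 0, 0}
  have := @_root_.MulSemiringActionHom.toRingHom.eq_1.{0, 0, 0, 0}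
  have := @_root_.AddActionHom.inverse'.congr_simp.{0, 0, 0, 0}
  have := @_root_.AddActionHom.inverse'.eq_def.{0, 0, 0, 0}
  have := @_root_.MulActionSemiHomClass.toMulActionHom.congr_simp.{0, 0, 0, 0, 0}
  have := @_root_.MulActionSemiHomClass.toMulActionHom.eq_def.{0, 0, 0, 0, 0}
  trivial

end Cfsg.Rz
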