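import Cfsg.Agent.Rz.M10

/-! Generated file: forces on-demand equation and congruence lemmas to be created once. -/

set_option linter.all false

namespace Cfsg.Rz

theorem m11_0 : True := by
  have := @_root_.AddActionHom.fst.eq_def.{0, 0, 0}
  have := @_root_.AddActionSemiHomClass.mk.congr_simp.{0, 0, 0, 0, 0}
  have := @_root_.MulDistribMulActionHom.toMonoidHom.eq_def.{0, 0, 0, 0}
  have := @_root_.MulDistribMulActionHom.toMonoidHom.eq_1.{0, 0, 0, 0}
  have := @_root_.MulActionHomClass.eq_def.{0, 0, 0, 0}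
  have := @_root_.MulDistribMulActionHom.inverse.congr_simp.{0, 0, 0}
  have := @_root_.MulDistribMulActionHom.inverse.eq_def.{0, 0, 0}
  have := @_root_.MulActionHom.End.mulOppositeEquiv.eq_def.{0}
  have := @_root_.MulSemiringActionHomClass.toMulSemiringActionHom.congr_simp.{0, 0, 0, 0, 0}
  have := @_root_.MulSemiringActionHomClass.toMulSemiringActionHom.eq_def.{0, 0, 0, 0, 0}
  have := @_root_.MulSemiringActionHomClass.toMulSemiringActionHom.eq_1.{0, 0, 0, 0, 0}
  have := @_root_.DistribMulActionHom.id.eq_def.{0, 0}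
  have := @_root_.MulActionHom.snd.eq_def.{0, 0, 0}
  have := @_root_.AddActionHom.prod.eq_def.{0, 0, 0, 0, 0}
  have := @_root_.MulDistribMulActionSemiHomClass.toMulDistribMulActionHom.congr_simp.{0, 0, 0, 0, 0}
  have := @_root_.MulDistribMulActionSemiHomClass.toMulDistribMulActionHom.eq_def.{0, 0, 0, 0, 0}
  have := @_root_.AddActionHom.ofEq.congr_simp.{0, 0, 0, 0}
  have := @_root_.AddActionHom.ofEq.eq_def.{0, 0, 0, 0}
  have := @_root_.AddActionHom.End.equivAddOpposite.eq_def.{0}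
  have := @_root_.MulSemiringActionSemiHomClass.mk.congr_simp.{0, 0, 0, 0, 0}
  have := @_root_.MulDistribMulActionSemiHomClass.mk.congr_simp.{0, 0, 0, 0, 0}
  have := @_root_.DistribMulActionSemiHomClass.mk.congr_simp.{0, 0, 0, 0, 0}
  have := @_root_.AddActionHom.mk.congr_simp.{0, 0, 0, 0}
  have := @_root_.AddActionHom.id.eq_def.{0, 0}
  have := @_root_.DistribMulActionHomClass.eq_def.{0, 0, 0, 0}
  have := @_root_.MulActionHom.inverse.congr_simp.{0, 0, 0}
  have := @_root_.MulActionHom.inverse.eq_def.{0, 0, 0}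
  have := @_root_.MulActionHom.End.instMonoidId.eq_def.{0, 0}
  have := @_root_.Pi.evalMulActionHom.eq_def.{0, 0, 0}
  have := @_root_.AddActionHom.prodMap.eq_def.{0, 0, 0, 0, 0, 0}
  trivial

theorem m11_1 : True := by
  have := @_root_.DistribMulActionHom.toAddMonoidHom.eq_def.{0, 0, 0, 0}
  have := @_root_.DistribMulActionHom.toAddMonoidHom.eq_1.{0, 0, 0, 0}
  have := @_root_.MulDistribMulActionHom.comp.congr_simp.{0, 0, 0, 0, 0, 0}
  have := @_root_.MulDistribMulActionHom.comp.eq_def.{0, 0, 0, 0, 0, 0}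
  have := @_root_.AddActionSemiHomClass.toAddActionHom.congr_simp.{0, 0, 0, 0, 0}
  have := @_root_.AddActionSemiHomClass.toAddActionHom.eq_def.{0, 0, 0, 0, 0}
  have := @_root_.MulActionSemiHomClass.mk.congr_simp.{0, 0, 0, 0, 0}
  have := @_root_.AddActionHom.snd.eq_def.{0, 0, 0}
  have := @_root_.MulActionHom.prod.eq_def.{0, 0, 0, 0, 0}
  have := @_root_.MulActionHom.ofEq.congr_simp.{0, 0, 0, 0}
  have := @_root_.MulActionHom.ofEq.eq_def.{0, 0, 0, 0}
  have := @_root_.MulDistribMulActionHomClass.eq_def.{0, 0, 0, 0}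
  have := @_root_.MulActionHom.comp.eq_def.{0, 0, 0, 0, 0, 0}
  have := @_root_.SMulCommClass.toDistribMulActionHom.congr_simp.{0, 0, 0}
  have := @_root_.SMulCommClass.toDistribMulActionHom.eq_def.{0, 0, 0}
  have := @_root_.SMulCommClass.toDistribMulActionHom.eq_1.{0, 0, 0}
  have := @_root_.SMulCommClass.toMulActionHom.congr_simp.{0, 0, 0}
  have := @_root_.SMulCommClass.toMulActionHom.eq_def.{0, 0, 0}
  have := @_root_.DistribMulActionHom.inverse.congr_simp.{0, 0, 0}
  have := @_root_.DistribMulActionHom.inverse.eq_def.{0, 0, 0}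
  have := @_root_.MulSemiringActionHom.inverse'.congr_simp.{0, 0, 0, 0}
  have := @_root_.MulSemiringActionHom.inverse'.eq_def.{0, 0, 0, 0}
  have := @_root_.MulSemiringActionHom.inverse'.eq_1.{0, 0, 0, 0}
  have := @_root_.AddActionHomClass.eq_def.{0, 0, 0, 0}
  have := @_root_.MulActionHom.id.eq_def.{0, 0}
  have := @_root_.MulActionHom.fst.eq_def.{0, 0, 0}
  have := @_root_.MulActionHom.inverse'.eq_def.{0, 0, 0, 0}
  have := @_root_.MulDistribMulActionHom.mk.congr_simp.{0, 0, 0, 0}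
  have := @_root_.MulDistribMulActionHom.id.eq_def.{0, 0}
  have := @_root_.AddActionHom.End.instAddMonoidId.eq_def.{0, 0}
  trivial

theorem m11_2 : True := by
  have := @_root_.MulSemiringActionHomClass.eq_def.{0, 0, 0, 0}
  have := @_root_.MulSemiringActionHomClass.eq_1.{0, 0, 0, 0}
  have := @_root_.MulSemiringActionHom.comp.congr_simp.{0, 0, 0, 0, 0, 0}
  have := @_root_.MulSemiringActionHom.comp.eq_def.{0, 0, 0, 0, 0, 0}
  have := @_root_.MulSemiringActionHom.comp.eq_1.{0, 0, 0, 0, 0, 0}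
  have := @_root_.AddActionHom.inverse.congr_simp.{0, 0, 0}
  have := @_root_.AddActionHom.inverse.eq_def.{0, 0, 0}
  have := @_root_.MulActionHom.prodMap.eq_def.{0, 0, 0, 0, 0, 0}
  have := @_root_.LinearMapClass.eq_def.{0, 0, 0, 0}
  have := @_root_.LinearMapClass.eq_1.{0, 0, 0, 0}
  have := @_root_.LinearMap.toAddMonoidHom.eq_def.{0, 0, 0, 0}
  have := @_root_.LinearMap.toAddMonoidHom.eq_1.{0, 0, 0, 0}
  have := @_root_.LinearMap.id'.congr_simp.{0, 0}
  have := @_root_.LinearMap.id'.eq_def.{0, 0}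
  have := @_root_.LinearMap.id'.eq_1.{0, 0}
  have := @_root_.LinearMap.CompatibleSMul.mk.congr_simp.{0, 0, 0, 0}
  have := @_root_.LinearMap.mulRight.eq_def.{0, 0}
  have := @_root_.LinearMap.mulRight.eq_1.{0, 0}
  have := @_root_.LinearMap.inverse.eq_def.{0, 0, 0, 0}
  have := @_root_.LinearMap.inverse.eq_1.{0, 0, 0, 0}
  have := @_root_.LinearMap.mulLeftRight.eq_def.{0, 0}
  have := @_root_.LinearMap.mulLeftRight.eq_1.{0, 0}
  have := @_root_.LinearMap.restrictScalarsₗ.eq_def.{0, 0, 0, 0, 0}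
  have := @_root_.LinearMap.restrictScalarsₗ.eq_1.{0, 0, 0, 0, 0}
  have := @_root_.AddMonoidHom.toNatLinearMap.eq_def.{0, 0}
  have := @_root_.AddMonoidHom.toNatLinearMap.eq_1.{0, 0}
  have := @_root_.SemilinearMapClass.semilinearMap.eq_def.{0, 0, 0, 0, 0}
  have := @_root_.SemilinearMapClass.semilinearMap.eq_1.{0, 0, 0, 0, 0}
  have := @_root_.LinearMap.id.eq_def.{0, 0}
  have := @_root_.LinearMap.restrictScalars.eq_def.{0, 0, 0, 0}
  trivial

theorem m11_3 : True := by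
  have := @_root_.LinearMap.restrictScalars.eq_1.{0, 0, 0, 0}
  have := @_root_.LinearMap.evalAddMonoidHom.eq_def.{0, 0, 0, 0}
  have := @_root_.LinearMap.evalAddMonoidHom.eq_1.{0, 0, 0, 0}
  have := @_root_.Module.compHom.toLinearMap.eq_def.{0, 0}
  have := @_root_.Module.compHom.toLinearMap.eq_1.{0, 0}
  have := @_root_.SemilinearMapClass.mk.congr_simp.{0, 0, 0, 0, 0}
  have := @_root_.LinearMap.mulLeft.eq_def.{0, 0}
  have := @_root_.LinearMap.mulLeft.eq_1.{0, 0}
  have := @_root_.AddMonoidHom.toIntLinearMap.eq_def.{0, 0}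
  have := @_root_.AddMonoidHom.toIntLinearMap.eq_1.{0, 0}
  have := @_root_.LinearMap.toDistribMulActionHom.eq_def.{0, 0, 0, 0}
  have := @_root_.LinearMap.toDistribMulActionHom.eq_1.{0, 0, 0, 0}
  have := @_root_.LinearMap.toMulActionHom.eq_def.{0, 0, 0, 0}
  have := @_root_.LinearMap.toMulActionHom.eq_1.{0, 0, 0, 0}
  have := @_root_.IsLinearMap.mk'.eq_def.{0, 0, 0}
  have := @_root_.IsLinearMap.mk'.eq_1.{0, 0, 0}
  have := @_root_.LinearMap.comp.eq_def.{0, 0, 0, 0, 0, 0}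
  have := @_root_.LinearMap.comp.eq_1.{0, 0, 0, 0, 0, 0}
  have := @_root_.LinearMap.toAddMonoidHom'.eq_def.{0, 0, 0, 0}
  have := @_root_.LinearMap.toAddMonoidHom'.eq_1.{0, 0, 0, 0}
  have := @_root_.IsLinearMap.mk.congr_simp.{0, 0, 0}
  have := @_root_.LinearMap.copy.eq_def.{0, 0, 0, 0}
  have := @_root_.LinearMap.copy.eq_1.{0, 0, 0, 0}
  have := @_root_.LinearMapClass.linearMap.congr_simp.{0, 0, 0, 0}
  have := @_root_.LinearMapClass.linearMap.eq_def.{0, 0, 0, 0}
  have := @_root_.LinearMapClass.linearMap.eq_1.{0, 0, 0, 0}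
  have := @_root_.LinearMap.compNotation.eq_def
  have := @_root_.LinearMap.compNotation.eq_1
  have := @_root_.RingHom.toSemilinearMap.eq_def.{0, 0}
  have := @_root_.RingHom.toSemilinearMap.eq_1.{0, 0}
  trivial

theorem m11_4 : True := by
  have := @_root_.RingHom.toAlgebra.eq_def.{0, 0}
  have := @_root_.RingHom.toAlgebra.eq_1.{0, 0}
  have := @_root_.algebraMap.coeHTCT.eq_def.{0, 0}
  have := @_root_.algebraMap.coeHTCT.eq_1.{0, 0}
  have := @_root_.Algebra.ofModule.congr_simp.{0, 0}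
  have := @_root_.Algebra.ofModule.eq_def.{0, 0}
  have := @_root_.Algebra.ofModule.eq_1.{0, 0}
  have := @_root_.Algebra.cast.eq_def.{0, 0}
  have := @_root_.Algebra.compHom.eq_def.{0, 0, 0}
  have := @_root_.Algebra.compHom.eq_1.{0, 0, 0}
  have := @_root_.Algebra.ofModule'.congr_simp.{0, 0}
  have := @_root_.Algebra.ofModule'.eq_def.{0, 0}
  have := @_root_.Algebra.ofModule'.eq_1.{0, 0}
  have := @_root_.Algebra.linearMap.eq_def.{0, 0}
  have := @_root_.Algebra.linearMap.eq_1.{0, 0}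
  have := @_root_.RingHom.toAlgebra'.congr_simp.{0, 0}
  have := @_root_.RingHom.toAlgebra'.eq_def.{0, 0}
  have := @_root_.RingHom.toAlgebra'.eq_1.{0, 0}
  have := @_root_.Algebra.mk.congr_simp.{0, 0}
  have := @_root_.AddAction.prodOfVAddCommClass.congr_simp.{0, 0, 0}
  have := @_root_.AddAction.prodOfVAddCommClass.eq_def.{0, 0, 0}
  have := @_root_.AddAction.prodEquiv.eq_def.{0, 0, 0}
  have := @_root_.MulAction.prodOfSMulCommClass.congr_simp.{0, 0, 0}
  have := @_root_.MulAction.prodOfSMulCommClass.eq_def.{0, 0, 0}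
  have := @_root_.MulAction.prodEquiv.eq_def.{0, 0, 0}
  have := @_root_.smulMulHom.congr_simp.{0, 0}
  have := @_root_.smulMulHom.eq_def.{0, 0}
  have := @_root_.smulMulHom.eq_1.{0, 0}
  have := @_root_.smulMonoidHom.congr_simp.{0, 0}
  have := @_root_.smulMonoidHom.eq_def.{0, 0}
  trivial

theorem m11_5 : True := by
  have := @_root_.smulMonoidHom.eq_1.{0, 0}
  have := @_root_.divMonoidWithZeroHom.eq_def.{0}
  have := @_root_.divMonoidWithZeroHom.eq_1.{0}
  have := @_root_.mulMonoidWithZeroHom.eq_def.{0}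
  have := @_root_.mulMonoidWithZeroHom.eq_1.{0}
  have := @_root_.DistribMulAction.toAddAut.eq_def.{0, 0}
  have := @_root_.DistribMulAction.toAddAut.eq_1.{0, 0}
  have := @_root_.smulMonoidWithZeroHom.congr_simp.{0, 0}
  have := @_root_.smulMonoidWithZeroHom.eq_def.{0, 0}
  have := @_root_.smulMonoidWithZeroHom.eq_1.{0, 0}
  have := @_root_.DistribMulAction.toAddEquiv.eq_def.{0, 0}
  have := @_root_.DistribMulAction.toAddEquiv.eq_1.{0, 0}
  have := @_root_.LinearEquiv.cast.congr_simp.{0, 0, 0}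
  have := @_root_.LinearEquiv.cast.eq_def.{0, 0, 0}
  have := @_root_.LinearEquiv.cast.eq_1.{0, 0, 0}
  have := @_root_.LinearEquiv.trans.eq_def.{0, 0, 0, 0, 0, 0}
  have := @_root_.LinearEquiv.trans.eq_1.{0, 0, 0, 0, 0, 0}
  have := @_root_.SemilinearEquivClass.semilinearEquiv.congr_simp.{0, 0, 0, 0, 0}
  have := @_root_.SemilinearEquivClass.semilinearEquiv.eq_def.{0, 0, 0, 0, 0}
  have := @_root_.SemilinearEquivClass.semilinearEquiv.eq_1.{0, 0, 0, 0, 0}
  have := @_root_.LinearEquiv.symm.eq_def.{0, 0, 0, 0}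
  have := @_root_.LinearEquiv.symm.eq_1.{0, 0, 0, 0}
  have := @_root_.LinearEquivClass.eq_def.{0, 0, 0, 0}
  have := @_root_.LinearEquivClass.eq_1.{0, 0, 0, 0}
  have := @_root_.LinearEquiv.ofInvolutive.congr_simp.{0, 0}
  have := @_root_.LinearEquiv.ofInvolutive.eq_def.{0, 0}
  have := @_root_.LinearEquiv.ofInvolutive.eq_1.{0, 0}
  have := @_root_.SemilinearEquivClass.congr_simp.{0, 0, 0, 0, 0}
  have := @_root_.LinearEquiv.toEquiv.eq_def.{0, 0, 0, 0}
  have := @_root_.LinearEquiv.toEquiv.eq_1.{0, 0, 0, 0}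
  trivial

theorem m11_6 : True := by
  have := @_root_.LinearEquiv.transNotation.eq_def
  have := @_root_.LinearEquiv.transNotation.eq_1
  have := @_root_.SemilinearEquivClass.mk.congr_simp.{0, 0, 0, 0, 0}
  have := @_root_.LinearEquiv.refl.eq_def.{0, 0}
  have := @_root_.LinearEquiv.refl.eq_1.{0, 0}
  have := @_root_.LinearEquiv.symmEquiv.eq_def.{0, 0, 0, 0}
  have := @_root_.LinearEquiv.symmEquiv.eq_1.{0, 0, 0, 0}
  have := @_root_.RingEquiv.toSemilinearEquiv.eq_def.{0, 0}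
  have := @_root_.RingEquiv.toSemilinearEquiv.eq_1.{0, 0}
  have := @_root_.LinearEquiv.toAddEquiv.eq_def.{0, 0, 0, 0}
  have := @_root_.LinearEquiv.toAddEquiv.eq_1.{0, 0, 0, 0}
  have := @_root_.NonUnitalRingHom.op.eq_def.{0, 0}
  have := @_root_.NonUnitalRingHom.op.eq_1.{0, 0}
  have := @_root_.RingHom.fromOpposite.congr_simp.{0, 0}
  have := @_root_.RingHom.fromOpposite.eq_def.{0, 0}
  have := @_root_.RingHom.fromOpposite.eq_1.{0, 0}
  have := @_root_.NonUnitalRingHom.toOpposite.congr_simp.{0, 0}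
  have := @_root_.NonUnitalRingHom.toOpposite.eq_def.{0, 0}
  have := @_root_.NonUnitalRingHom.toOpposite.eq_1.{0, 0}
  have := @_root_.NonUnitalRingHom.unop.eq_def.{0, 0}
  have := @_root_.RingHom.toOpposite.eq_def.{0, 0}
  have := @_root_.RingHom.toOpposite.eq_1.{0, 0}
  have := @_root_.RingHom.unop.eq_def.{0, 0}
  have := @_root_.RingHom.op.eq_def.{0, 0}
  have := @_root_.RingHom.op.eq_1.{0, 0}
  have := @_root_.NonUnitalRingHom.fromOpposite.congr_simp.{0, 0}
  have := @_root_.NonUnitalRingHom.fromOpposite.eq_def.{0, 0}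
  have := @_root_.NonUnitalRingHom.fromOpposite.eq_1.{0, 0}
  have := @_root_.DomAddAct.eq_def.{0}
  have := @_root_.DomAddAct.mk.eq_def.{0}
  trivial

theorem m11_7 : True := by
  have := @_root_.DomMulAct.mk.eq_def.{0}
  have := @_root_.DomMulAct.eq_def.{0}
  have := @_root_.MulHom.single.eq_def.{0, 0}
  have := @_root_.MulHom.single.eq_1.{0, 0}
  have := @_root_.Pi.evalRingHom.eq_def.{0, 0}
  have := @_root_.Pi.evalRingHom.eq_1.{0, 0}
  have := @_root_.NonUnitalRingHom.pi.eq_def.{0, 0, 0}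
  have := @_root_.NonUnitalRingHom.pi.eq_1.{0, 0, 0}
  have := @_root_.Pi.constRingHom.eq_def.{0, 0}
  have := @_root_.Pi.constRingHom.eq_1.{0, 0}
  have := @_root_.Pi.constNonUnitalRingHom.eq_def.{0, 0}
  have := @_root_.Pi.constNonUnitalRingHom.eq_1.{0, 0}
  have := @_root_.NonUnitalRingHom.compLeft.eq_def.{0, 0, 0}
  have := @_root_.NonUnitalRingHom.compLeft.eq_1.{0, 0, 0}
  have := @_root_.RingHom.pi.eq_def.{0, 0, 0}
  have := @_root_.RingHom.pi.eq_1.{0, 0, 0}
  have := @_root_.Pi.nonUnitalRingHom.eq_def.{0, 0, 0}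
  have := @_root_.Pi.nonUnitalRingHom.eq_1.{0, 0, 0}
  have := @_root_.RingHom.compLeft.eq_def.{0, 0, 0}
  have := @_root_.RingHom.compLeft.eq_1.{0, 0, 0}
  have := @_root_.Pi.ringHom.eq_def.{0, 0, 0}
  have := @_root_.Pi.ringHom.eq_1.{0, 0, 0}
  have := @_root_.Sum.elimZeroLeft.eq_def.{0, 0, 0}
  have := @_root_.Sum.elimZeroLeft.eq_1.{0, 0, 0}
  have := @_root_.Sum.elimZeroRight.eq_def.{0, 0, 0}
  have := @_root_.Sum.elimZeroRight.eq_1.{0, 0, 0}
  have := @_root_.LinearMap.ltoFun.eq_def.{0, 0, 0, 0}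
  have := @_root_.LinearMap.ltoFun.eq_1.{0, 0, 0, 0}
  have := @_root_.MulOpposite.opLinearEquiv.eq_def.{0, 0}
  have := @_root_.MulOpposite.opLinearEquiv.eq_1.{0, 0}
  trivial

theorem m11_8 : True := by
  have := @_root_.LinearMap.smulRightₗ.eq_def.{0, 0, 0}
  have := @_root_.LinearMap.smulRightₗ.eq_1.{0, 0, 0}
  have := @_root_.LinearMap.compRight.eq_def.{0, 0, 0, 0, 0}
  have := @_root_.LinearMap.compRight.eq_1.{0, 0, 0, 0, 0}
  have := @_root_.RingEquiv.moduleEndSelfOp.eq_def.{0}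
  have := @_root_.RingEquiv.moduleEndSelfOp.eq_1.{0}
  have := @_root_.DistribSMul.toLinearMap.eq_def.{0, 0, 0}
  have := @_root_.DistribSMul.toLinearMap.eq_1.{0, 0, 0}
  have := @_root_.DistribMulAction.toLinearMap.congr_simp.{0, 0, 0}
  have := @_root_.DistribMulAction.toLinearMap.eq_def.{0, 0, 0}
  have := @_root_.DistribMulAction.toLinearMap.eq_1.{0, 0, 0}
  have := @_root_.Module.End.smulLeft.eq_def.{0, 0}
  have := @_root_.Module.End.smulLeft.eq_1.{0, 0}
  have := @_root_.LinearMap.smulRight.eq_def.{0, 0, 0, 0}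
  have := @_root_.LinearMap.smulRight.eq_1.{0, 0, 0, 0}
  have := @_root_.DistribMulAction.toModuleEnd.eq_def.{0, 0, 0}
  have := @_root_.DistribMulAction.toModuleEnd.eq_1.{0, 0, 0}
  have := @_root_.Module.End.eq_def.{0, 0}
  have := @_root_.Module.End.eq_1.{0, 0}
  have := @_root_.LinearMap.applyₗ.eq_def.{0, 0, 0}
  have := @_root_.LinearMap.applyₗ.eq_1.{0, 0, 0}
  have := @_root_.Module.toModuleEnd.eq_def.{0, 0, 0}
  have := @_root_.Module.toModuleEnd.eq_1.{0, 0, 0}
  have := @_root_.RingEquiv.moduleEndSelf.eq_def.{0}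
  have := @_root_.RingEquiv.moduleEndSelf.eq_1.{0}
  have := @_root_.LinearMap.applyₗ'.eq_def.{0, 0, 0, 0}
  have := @_root_.LinearMap.applyₗ'.eq_1.{0, 0, 0, 0}
  have := @_root_.DistribMulAction.prodEquiv.eq_def.{0, 0, 0}
  have := @_root_.DistribMulAction.prodEquiv.eq_1.{0, 0, 0}
  have := @_root_.DistribMulAction.prodOfSMulCommClass.congr_simp.{0, 0, 0}
  trivial

theorem m11_9 : True := by
  have := @_root_.DistribMulAction.prodOfSMulCommClass.eq_def.{0, 0, 0}
  have := @_root_.DistribMulAction.prodOfSMulCommClass.eq_1.{0, 0, 0}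
  have := @_root_.Units.mulLeftLinearEquiv.eq_def.{0, 0}
  have := @_root_.Units.mulLeftLinearEquiv.eq_1.{0, 0}
  have := @_root_.LinearMap.funLeft.eq_def.{0, 0, 0, 0}
  have := @_root_.LinearMap.ringLmapEquivSelf.eq_def.{0, 0, 0}
  have := @_root_.LinearMap.ringLmapEquivSelf.eq_1.{0, 0, 0}
  have := @_root_.LinearEquiv.ofSubsingleton.eq_def.{0, 0, 0}
  have := @_root_.LinearEquiv.ofSubsingleton.eq_1.{0, 0, 0}
  have := @_root_.LinearEquiv.smulOfUnit.eq_def.{0, 0}
  have := @_root_.LinearEquiv.smulOfUnit.eq_1.{0, 0}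
  have := @_root_.LinearEquiv.conjRingEquiv.eq_def.{0, 0, 0, 0}
  have := @_root_.LinearEquiv.conjRingEquiv.eq_1.{0, 0, 0, 0}
  have := @_root_.LinearEquiv.sumPiEquivProdPi.eq_def.{0, 0, 0, 0}
  have := @_root_.LinearEquiv.sumPiEquivProdPi.eq_1.{0, 0, 0, 0}
  have := @_root_.LinearEquiv.conj.eq_def.{0, 0, 0, 0}
  have := @_root_.LinearEquiv.congrRight.eq_def.{0, 0, 0, 0}
  have := @_root_.Equiv.toLinearEquiv.eq_def.{0, 0, 0}
  have := @_root_.Equiv.toLinearEquiv.eq_1.{0, 0, 0}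
  have := @_root_.LinearEquiv.ofLinear.congr_simp.{0, 0, 0, 0}
  have := @_root_.LinearEquiv.ofLinear.eq_def.{0, 0, 0, 0}
  have := @_root_.LinearEquiv.ofLinear.eq_1.{0, 0, 0, 0}
  have := @_root_.LinearEquiv.piUnique.eq_def.{0, 0, 0}
  have := @_root_.LinearEquiv.piUnique.eq_1.{0, 0, 0}
  have := @_root_.Module.compHom.toLinearEquiv.eq_def.{0, 0}
  have := @_root_.Module.compHom.toLinearEquiv.eq_1.{0, 0}
  have := @_root_.LinearEquiv.arrowCongrAddEquiv.eq_def.{0, 0, 0, 0, 0, 0, 0, 0}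
  have := @_root_.LinearEquiv.ofLinearMap.eq_def.{0, 0, 0, 0}
  have := @_root_.LinearEquiv.ofLinearMap.eq_1.{0, 0, 0, 0}
  have := @_root_.LinearEquiv.neg.eq_def.{0, 0}
  trivial

theorem m11_10 : True := by
  have := @_root_.LinearEquiv.neg.eq_1.{0, 0}
  have := @_root_.LinearEquiv.domMulActCongrRight.congr_simp.{0, 0, 0, 0, 0, 0, 0}
  have := @_root_.LinearEquiv.domMulActCongrRight.eq_def.{0, 0, 0, 0, 0, 0, 0}
  have := @_root_.LinearEquiv.domMulActCongrRight.eq_1.{0, 0, 0, 0, 0, 0, 0}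
  have := @_root_.LinearEquiv.curry.eq_def.{0, 0, 0, 0}
  have := @_root_.LinearEquiv.curry.eq_1.{0, 0, 0, 0}
  have := @_root_.addMonoidHomLequivNat.eq_def.{0, 0, 0}
  have := @_root_.addMonoidHomLequivNat.eq_1.{0, 0, 0}
  have := @_root_.DistribMulAction.toLinearEquiv.eq_def.{0, 0, 0}
  have := @_root_.DistribMulAction.toLinearEquiv.eq_1.{0, 0, 0}
  have := @_root_.LinearEquiv.restrictScalars.eq_def.{0, 0, 0, 0}
  have := @_root_.LinearEquiv.restrictScalars.eq_1.{0, 0, 0, 0}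
  have := @_root_.LinearEquiv.automorphismGroup.toLinearMapMonoidHom.eq_def.{0, 0}
  have := @_root_.LinearEquiv.automorphismGroup.toLinearMapMonoidHom.eq_1.{0, 0}
  have := @_root_.addMonoidEndRingEquivInt.eq_def.{0}
  have := @_root_.addMonoidEndRingEquivInt.eq_1.{0}
  have := @_root_.LinearEquiv.arrowCongr.eq_def.{0, 0, 0, 0, 0, 0, 0, 0}
  have := @_root_.LinearEquiv.arrowCongr.eq_1.{0, 0, 0, 0, 0, 0, 0, 0}
  have := @_root_.AddEquiv.toIntLinearEquiv.eq_def.{0, 0}
  have := @_root_.AddEquiv.toIntLinearEquiv.eq_1.{0, 0}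
  have := @_root_.LinearEquiv.congrLeft.eq_def.{0, 0, 0, 0, 0}
  have := @_root_.AddEquiv.toNatLinearEquiv.eq_def.{0, 0}
  have := @_root_.AddEquiv.toNatLinearEquiv.eq_1.{0, 0}
  have := @_root_.LinearMap.piApply.eq_def.{0, 0, 0}
  have := @_root_.LinearMap.piApply.eq_1.{0, 0, 0}
  have := @_root_.addMonoidHomLequivInt.eq_def.{0, 0, 0}
  have := @_root_.addMonoidHomLequivInt.eq_1.{0, 0, 0}
  have := @_root_.LinearEquiv.smulOfNeZero.congr_simp.{0, 0}
  have := @_root_.LinearEquiv.smulOfNeZero.eq_def.{0, 0}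
  have := @_root_.LinearEquiv.smulOfNeZero.eq_1.{0, 0}
  trivial

theorem m11_11 : True := by
  have := @_root_.AddEquiv.toLinearEquiv.congr_simp.{0, 0, 0}
  have := @_root_.AddEquiv.toLinearEquiv.eq_def.{0, 0, 0}
  have := @_root_.AddEquiv.toLinearEquiv.eq_1.{0, 0, 0}
  have := @_root_.LinearEquiv.funCongrLeft.eq_def.{0, 0, 0, 0}
  have := @_root_.LinearEquiv.funCongrLeft.eq_1.{0, 0, 0, 0}
  have := @_root_.Units.mulRightLinearEquiv.eq_def.{0, 0}
  have := @_root_.Units.mulRightLinearEquiv.eq_1.{0, 0}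
  have := @_root_.DistribMulAction.toModuleAut.congr_simp.{0, 0, 0}
  have := @_root_.DistribMulAction.toModuleAut.eq_def.{0, 0, 0}
  have := @_root_.DistribMulAction.toModuleAut.eq_1.{0, 0, 0}
  have := @_root_.SMulMemClass.mk.congr_simp.{0, 0, 0}
  have := @_root_.SubMulAction.SMulMemClass.subtype.eq_def.{0, 0, 0}
  have := @_root_.SubMulAction.inclusion.eq_def.{0, 0}
  have := @_root_.SubAddAction.copy.congr_simp.{0, 0}
  have := @_root_.SubAddAction.copy.eq_def.{0, 0}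
  have := @_root_.fixedPointsSubAddOfNormal.congr_simp.{0, 0}
  have := @_root_.fixedPointsSubAddOfNormal.eq_def.{0, 0}
  have := @_root_.SubMulAction.subtype.eq_def.{0, 0}
  have := @_root_.VAddMemClass.mk.congr_simp.{0, 0, 0}
  have := @_root_.SubAddAction.SMulMemClass.subtype.eq_def.{0, 0, 0}
  have := @_root_.SubAddAction.subtype.eq_def.{0, 0}
  have := @_root_.SubAddAction.mk.congr_simp.{0, 0}
  have := @_root_.fixedPointsSubMulOfNormal.congr_simp.{0, 0}
  have := @_root_.fixedPointsSubMulOfNormal.eq_def.{0, 0}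
  have := @_root_.Units.nonZeroSubMul.eq_def.{0, 0}
  have := @_root_.Units.nonZeroSubMul.eq_1.{0, 0}
  have := @_root_.SubAddAction.inclusion.eq_def.{0, 0}
  have := @_root_.SubMulAction.copy.congr_simp.{0, 0}
  have := @_root_.SubMulAction.copy.eq_def.{0, 0}
  have := @_root_.SubMulAction.mk.congr_simp.{0, 0}
  trivial

theorem m11_12 : True := by
  have := @_root_.Submodule.toAddSubgroup.eq_def.{0, 0}
  have := @_root_.Submodule.toAddSubgroup.eq_1.{0, 0}
  have := @_root_.SMulMemClass.toModule'.congr_simp.{0, 0, 0, 0}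
  have := @_root_.SMulMemClass.toModule'.eq_def.{0, 0, 0, 0}
  have := @_root_.SMulMemClass.toModule'.eq_1.{0, 0, 0, 0}
  have := @_root_.Submodule.copy.eq_def.{0, 0}
  have := @_root_.Submodule.copy.eq_1.{0, 0}
  have := @_root_.Submodule.ofClass.congr_simp.{0, 0, 0}
  have := @_root_.Submodule.ofClass.eq_def.{0, 0, 0}
  have := @_root_.Submodule.ofClass.eq_1.{0, 0, 0}
  have := @_root_.Submodule.toSubMulAction.eq_def.{0, 0}
  have := @_root_.Submodule.toSubMulAction.eq_1.{0, 0}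
  have := @_root_.Submodule.ofLinearComb.congr_simp.{0, 0}
  have := @_root_.Submodule.ofLinearComb.eq_def.{0, 0}
  have := @_root_.Submodule.ofLinearComb.eq_1.{0, 0}
  have := @_root_.Subspace.eq_def.{0, 0}
  have := @_root_.Subspace.eq_1.{0, 0}
  have := @_root_.AddSubgroup.toIntSubmodule.eq_def.{0}
  have := @_root_.AddSubgroup.toIntSubmodule.eq_1.{0}
  have := @_root_.Submodule.topEquiv.eq_def.{0, 0}
  have := @_root_.Submodule.topEquiv.eq_1.{0, 0}
  have := @_root_.AddSubmonoid.toNatSubmodule.eq_def.{0}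
  have := @_root_.AddSubmonoid.toNatSubmodule.eq_1.{0}
  have := @_root_.Submodule.botEquivPUnit.eq_def.{0, 0, 0}
  have := @_root_.Submodule.botEquivPUnit.eq_1.{0, 0, 0}
  have := @_root_.LinearMap.codLift.congr_simp.{0, 0, 0, 0, 0}
  have := @_root_.LinearMap.codLift.eq_def.{0, 0, 0, 0, 0}
  have := @_root_.LinearMap.codLift.eq_1.{0, 0, 0, 0, 0}
  have := @_root_.LinearMap.domRestrict'.eq_def.{0, 0, 0}
  have := @_root_.LinearMap.domRestrict'.eq_1.{0, 0, 0}
  trivial

theorem m11_13 : True := by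
  have := @_root_.LinearMap.restrict.eq_def.{0, 0, 0, 0}
  have := @_root_.LinearMap.domRestrict.eq_def.{0, 0, 0, 0}
  have := @_root_.LinearMap.codRestrict.eq_def.{0, 0, 0, 0}
  have := @_root_.Submodule.inclusion.eq_def.{0, 0}
  have := @_root_.Submodule.subtype.eq_def.{0, 0}
  have := @_root_.Submodule.subtype.eq_1.{0, 0}
  have := @_root_.SMulMemClass.subtype.eq_def.{0, 0, 0}
  have := @_root_.SMulMemClass.subtype.eq_1.{0, 0, 0}
  have := @_root_.LinearMap.submoduleMap.eq_def.{0, 0, 0, 0}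
  have := @_root_.Submodule.orderIsoMapComapOfBijective.congr_simp.{0, 0, 0, 0}
  have := @_root_.Submodule.orderIsoMapComapOfBijective.eq_def.{0, 0, 0, 0}
  have := @_root_.Submodule.orderIsoMapComapOfBijective.eq_1.{0, 0, 0, 0}
  have := @_root_.Submodule.orderIsoMapComap.eq_def.{0, 0, 0, 0}
  have := @_root_.Submodule.orderIsoMapComap.eq_1.{0, 0, 0, 0}
  have := @_root_.Submodule.submoduleOf.eq_def.{0, 0}
  have := @_root_.Submodule.gciMapComap.congr_simp.{0, 0, 0, 0}
  have := @_root_.Submodule.gciMapComap.eq_def.{0, 0, 0, 0}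
  have := @_root_.Submodule.gciMapComap.eq_1.{0, 0, 0, 0}
  have := @_root_.Submodule.giMapComap.congr_simp.{0, 0, 0, 0}
  have := @_root_.Submodule.giMapComap.eq_def.{0, 0, 0, 0}
  have := @_root_.Submodule.giMapComap.eq_1.{0, 0, 0, 0}
  have := @_root_.Submodule.comap.eq_def.{0, 0, 0, 0}
  have := @_root_.Submodule.comap.eq_1.{0, 0, 0, 0}
  have := @_root_.LinearMap.submoduleComap.eq_def.{0, 0, 0, 0}
  have := @_root_.LinearMap.submoduleComap.eq_1.{0, 0, 0, 0}
  have := @_root_.Submodule.equivMapOfInjective.congr_simp.{0, 0, 0, 0}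
  have := @_root_.Submodule.equivMapOfInjective.eq_def.{0, 0, 0, 0}
  have := @_root_.Submodule.equivMapOfInjective.eq_1.{0, 0, 0, 0}
  have := @_root_.Submodule.map.eq_def.{0, 0, 0, 0}
  have := @_root_.Submodule.comapSubtypeEquivOfLe.eq_def.{0, 0}
  trivial

theorem m11_14 : True := by
  have := @_root_.Submodule.comapSubtypeEquivOfLe.eq_1.{0, 0}
  have := @_root_.LinearEquiv.submoduleMap.eq_def.{0, 0, 0, 0}
  have := @_root_.LinearEquiv.submoduleMap.eq_1.{0, 0, 0, 0}
  have := @_root_.Submodule.submoduleOfEquivOfLe.congr_simp.{0, 0}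
  have := @_root_.Submodule.submoduleOfEquivOfLe.eq_def.{0, 0}
  have := @_root_.Submodule.submoduleOfEquivOfLe.eq_1.{0, 0}
  have := @_root_.Submodule.compatibleMaps.eq_def.{0, 0, 0}
  have := @_root_.Submodule.compatibleMaps.eq_1.{0, 0, 0}
  have := @_root_.supsSupHom.eq_def.{0}
  have := @_root_.supsSupHom.eq_1.{0}
  have := @_root_.sSupHom.mk.congr_simp.{0, 0}
  have := @_root_.sSupHom.id.eq_def.{0}
  have := @_root_.sSupHom.copy.congr_simp.{0, 0}
  have := @_root_.sSupHom.copy.eq_def.{0, 0}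
  have := @_root_.sInfHomClass.mk.congr_simp.{0, 0, 0}
  have := @_root_.FrameHom.id.eq_def.{0}
  have := @_root_.FrameHom.id.eq_1.{0}
  have := @_root_.sSupHomClass.mk.congr_simp.{0, 0, 0}
  have := @_root_.Equiv.toOrderIsoSet.eq_def.{0, 0}
  have := @_root_.Equiv.toOrderIsoSet.eq_1.{0, 0}
  have := @_root_.CompleteLatticeHom.comp.eq_def.{0, 0, 0}
  have := @_root_.CompleteLatticeHom.comp.eq_1.{0, 0, 0}
  have := @_root_.CompleteLatticeHom.OrderIso.toCompleteLatticeHom.eq_def.{0, 0}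
  have := @_root_.CompleteLatticeHom.OrderIso.toCompleteLatticeHom.eq_1.{0, 0}
  have := @_root_.sSupHom.dual.eq_def.{0, 0}
  have := @_root_.FrameHomClass.mk.congr_simp.{0, 0, 0}
  have := @_root_.CompleteLatticeHomClass.mk.congr_simp.{0, 0, 0}
  have := @_root_.sSupHom.setImage.eq_def.{0, 0}
  have := @_root_.sSupHom.setImage.eq_1.{0, 0}
  have := @_root_.CompleteLatticeHom.dual.eq_def.{0, 0}
  trivial

end Cfsg.Rz
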