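import Cfsg.Agent.Rz.M11

/-! Generated file: forces on-demand equation and congruence lemmas to be created once. -/

set_option linter.all false

namespace Cfsg.Rz

theorem m12_0 : True := by
  have := @_root_.CompleteLatticeHom.dual.eq_1.{0, 0}
  have := @_root_.sSupHom.comp.eq_def.{0, 0, 0}
  have := @_root_.sInfHom.dual.eq_def.{0, 0}
  have := @_root_.CompleteLatticeHom.toBoundedLatticeHom.eq_def.{0, 0}
  have := @_root_.CompleteLatticeHom.toBoundedLatticeHom.eq_1.{0, 0}
  have := @_root_.FrameHom.copy.congr_simp.{0, 0}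
  have := @_root_.FrameHom.copy.eq_def.{0, 0}
  have := @_root_.FrameHom.copy.eq_1.{0, 0}
  have := @_root_.sInfHom.mk.congr_simp.{0, 0}
  have := @_root_.sInfHom.id.eq_def.{0}
  have := @_root_.CompleteLatticeHom.copy.congr_simp.{0, 0}
  have := @_root_.CompleteLatticeHom.copy.eq_def.{0, 0}
  have := @_root_.CompleteLatticeHom.copy.eq_1.{0, 0}
  have := @_root_.sInfHom.copy.congr_simp.{0, 0}
  have := @_root_.sInfHom.copy.eq_def.{0, 0}
  have := @_root_.CompleteLatticeHom.mk.congr_simp.{0, 0}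
  have := @_root_.CompleteLatticeHom.id.eq_def.{0}
  have := @_root_.CompleteLatticeHom.id.eq_1.{0}
  have := @_root_.FrameHom.toLatticeHom.eq_def.{0, 0}
  have := @_root_.FrameHom.toLatticeHom.eq_1.{0, 0}
  have := @_root_.CompleteLatticeHom.tosSupHom.eq_def.{0, 0}
  have := @_root_.CompleteLatticeHom.tosSupHom.eq_1.{0, 0}
  have := @_root_.sInfHom.comp.eq_def.{0, 0, 0}
  have := @_root_.CompleteLatticeHom.setPreimage.eq_def.{0, 0}
  have := @_root_.CompleteLatticeHom.setPreimage.eq_1.{0, 0}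
  have := @_root_.FrameHom.comp.eq_def.{0, 0, 0}
  have := @_root_.FrameHom.comp.eq_1.{0, 0, 0}
  have := @_root_.infsInfHom.eq_def.{0}
  have := @_root_.infsInfHom.eq_1.{0}
  have := @_root_.Submodule.restrictScalarsEquiv.eq_def.{0, 0, 0}
  trivial

theorem m12_1 : True := by
  have := @_root_.Submodule.restrictScalarsEquiv.eq_1.{0, 0, 0}
  have := @_root_.Submodule.restrictScalarsLatticeHom.congr_simp.{0, 0, 0}
  have := @_root_.Submodule.restrictScalarsLatticeHom.eq_def.{0, 0, 0}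
  have := @_root_.Submodule.restrictScalarsLatticeHom.eq_1.{0, 0, 0}
  have := @_root_.Submodule.restrictScalars.eq_def.{0, 0, 0}
  have := @_root_.Submodule.restrictScalars.eq_1.{0, 0, 0}
  have := @_root_.Submodule.restrictScalarsEmbedding.congr_simp.{0, 0, 0}
  have := @_root_.Submodule.restrictScalarsEmbedding.eq_def.{0, 0, 0}
  have := @_root_.LinearMap.ker.eq_def.{0, 0, 0, 0}
  have := @_root_.LinearMap.iterateKer.eq_def.{0, 0}
  have := @_root_.LinearMap.iterateKer.eq_1.{0, 0}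
  have := @_root_.AddEquiv.ulift.eq_def.{0, 0}
  have := @_root_.MulEquiv.ulift.eq_def.{0, 0}
  have := @_root_.ULift.ringEquiv.eq_def.{0, 0}
  have := @_root_.ULift.ringEquiv.eq_1.{0, 0}
  have := @_root_.RingHom.ulift.eq_def.{0, 0, 0, 0}
  have := @_root_.RingHom.ulift.eq_1.{0, 0, 0, 0}
  have := @_root_.Nat.castEmbedding.eq_def.{0}
  have := @_root_.Nat.castEmbedding.eq_1.{0}
  have := @_root_.SubsemiringClass.subtype.eq_def.{0, 0}
  have := @_root_.SubsemiringClass.subtype.eq_1.{0, 0}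
  have := @_root_.Subsemiring.mk'.eq_def.{0}
  have := @_root_.Subsemiring.mk'.eq_1.{0}
  have := @_root_.AddSubmonoidWithOneClass.mk.congr_simp.{0, 0}
  have := @_root_.RingHom.domRestrict.eq_def.{0, 0, 0}
  have := @_root_.RingHom.domRestrict.eq_1.{0, 0, 0}
  have := @_root_.NonUnitalSubsemiring.toSubsemiring.congr_simp.{0}
  have := @_root_.NonUnitalSubsemiring.toSubsemiring.eq_def.{0}
  have := @_root_.NonUnitalSubsemiring.toSubsemiring.eq_1.{0}
  have := @_root_.SubsemiringClass.mk.congr_simp.{0, 0}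
  trivial

theorem m12_2 : True := by
  have := @_root_.Subsemiring.ofClass.congr_simp.{0, 0}
  have := @_root_.Subsemiring.ofClass.eq_def.{0, 0}
  have := @_root_.Subsemiring.ofClass.eq_1.{0, 0}
  have := @_root_.RingHom.eqLocusS.eq_def.{0, 0}
  have := @_root_.RingHom.eqLocusS.eq_1.{0, 0}
  have := @_root_.Subsemiring.copy.eq_def.{0}
  have := @_root_.Subsemiring.copy.eq_1.{0}
  have := @_root_.Subsemiring.toAddSubmonoid.eq_def.{0}
  have := @_root_.Subsemiring.toAddSubmonoid.eq_1.{0}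
  have := @_root_.Subsemiring.subtype.eq_def.{0}
  have := @_root_.Subsemiring.subtype.eq_1.{0}
  have := @_root_.Subsemiring.toNonUnitalSubsemiring.eq_def.{0}
  have := @_root_.Subsemiring.toNonUnitalSubsemiring.eq_1.{0}
  have := @_root_.Subring.copy.eq_def.{0}
  have := @_root_.Subring.copy.eq_1.{0}
  have := @_root_.Subring.mk'.eq_def.{0}
  have := @_root_.Subring.mk'.eq_1.{0}
  have := @_root_.Subring.toAddSubgroup.eq_def.{0}
  have := @_root_.Subring.toAddSubgroup.eq_1.{0}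
  have := @_root_.Subring.ofClass.congr_simp.{0, 0}
  have := @_root_.Subring.ofClass.eq_def.{0, 0}
  have := @_root_.Subring.ofClass.eq_1.{0, 0}
  have := @_root_.SubringClass.mk.congr_simp.{0, 0}
  have := @_root_.SubringClass.subtype.eq_def.{0, 0}
  have := @_root_.SubringClass.subtype.eq_1.{0, 0}
  have := @_root_.Subring.subtype.eq_def.{0}
  have := @_root_.Subring.subtype.eq_1.{0}
  have := @_root_.NonUnitalSubring.toSubring.congr_simp.{0}
  have := @_root_.NonUnitalSubring.toSubring.eq_def.{0}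
  have := @_root_.NonUnitalSubring.toSubring.eq_1.{0}
  trivial

theorem m12_3 : True := by
  have := @_root_.Subsemiring.toSubring.congr_simp.{0}
  have := @_root_.Subsemiring.toSubring.eq_def.{0}
  have := @_root_.Subsemiring.toSubring.eq_1.{0}
  have := @_root_.Subring.toNonUnitalSubring.eq_def.{0}
  have := @_root_.Subring.toNonUnitalSubring.eq_1.{0}
  have := @_root_.RingEquiv.prodProdProdComm.eq_def.{0, 0, 0, 0}
  have := @_root_.RingEquiv.prodProdProdComm.eq_1.{0, 0, 0, 0}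
  have := @_root_.RingHom.fst.eq_def.{0, 0}
  have := @_root_.RingHom.fst.eq_1.{0, 0}
  have := @_root_.NonUnitalRingHom.prodMap.eq_def.{0, 0, 0, 0}
  have := @_root_.NonUnitalRingHom.prodMap.eq_1.{0, 0, 0, 0}
  have := @_root_.RingEquiv.prodComm.eq_def.{0, 0}
  have := @_root_.RingEquiv.prodComm.eq_1.{0, 0}
  have := @_root_.RingEquiv.prodZeroRing.congr_simp.{0, 0}
  have := @_root_.RingEquiv.prodZeroRing.eq_def.{0, 0}
  have := @_root_.RingEquiv.prodZeroRing.eq_1.{0, 0}
  have := @_root_.RingHom.prod.eq_def.{0, 0, 0}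
  have := @_root_.RingHom.prod.eq_1.{0, 0, 0}
  have := @_root_.NonUnitalRingHom.snd.eq_def.{0, 0}
  have := @_root_.NonUnitalRingHom.snd.eq_1.{0, 0}
  have := @_root_.NonUnitalRingHom.fst.eq_def.{0, 0}
  have := @_root_.NonUnitalRingHom.fst.eq_1.{0, 0}
  have := @_root_.RingEquiv.zeroRingProd.congr_simp.{0, 0}
  have := @_root_.RingEquiv.zeroRingProd.eq_def.{0, 0}
  have := @_root_.RingEquiv.zeroRingProd.eq_1.{0, 0}
  have := @_root_.RingHom.prodMap.eq_def.{0, 0, 0, 0}
  have := @_root_.RingHom.prodMap.eq_1.{0, 0, 0, 0}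
  have := @_root_.NonUnitalRingHom.prod.eq_def.{0, 0, 0}
  have := @_root_.NonUnitalRingHom.prod.eq_1.{0, 0, 0}
  have := @_root_.RingHom.snd.eq_def.{0, 0}
  trivial

theorem m12_4 : True := by
  have := @_root_.RingHom.snd.eq_1.{0, 0}
  have := @_root_.Subsemigroup.gciMapComap.congr_simp.{0, 0}
  have := @_root_.Subsemigroup.gciMapComap.eq_def.{0, 0}
  have := @_root_.MulHom.srangeRestrict.eq_def.{0, 0}
  have := @_root_.AddEquiv.subsemigroupCongr.congr_simp.{0}
  have := @_root_.AddEquiv.subsemigroupCongr.eq_def.{0}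
  have := @_root_.MulHom.subsemigroupMap.eq_def.{0, 0}
  have := @_root_.MulHom.domRestrict.eq_def.{0, 0, 0}
  have := @_root_.MulEquiv.ofLeftInverse.congr_simp.{0, 0}
  have := @_root_.MulEquiv.ofLeftInverse.eq_def.{0, 0}
  have := @_root_.MulEquiv.subsemigroupMap.eq_def.{0, 0}
  have := @_root_.AddSubsemigroup.comap.eq_def.{0, 0}
  have := @_root_.AddSubsemigroup.giMapComap.congr_simp.{0, 0}
  have := @_root_.AddSubsemigroup.giMapComap.eq_def.{0, 0}
  have := @_root_.AddSubsemigroup.inclusion.congr_simp.{0}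
  have := @_root_.AddSubsemigroup.inclusion.eq_def.{0}
  have := @_root_.AddSubsemigroup.equivMapOfInjective.congr_simp.{0, 0}
  have := @_root_.AddSubsemigroup.equivMapOfInjective.eq_def.{0, 0}
  have := @_root_.AddSubsemigroup.map.eq_def.{0, 0}
  have := @_root_.MulHom.restrict.eq_def.{0, 0, 0}
  have := @_root_.MulHom.restrict.eq_1.{0, 0, 0}
  have := @_root_.Subsemigroup.toAddSubsemigroup.eq_def.{0}
  have := @_root_.Subsemigroup.toAddSubsemigroup.eq_1.{0}
  have := @_root_.Subsemigroup.inclusion.congr_simp.{0}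
  have := @_root_.Subsemigroup.inclusion.eq_def.{0}
  have := @_root_.AddHom.codRestrict.congr_simp.{0, 0, 0}
  have := @_root_.AddHom.codRestrict.eq_def.{0, 0, 0}
  have := @_root_.Subsemigroup.equivMapOfInjective.congr_simp.{0, 0}
  have := @_root_.Subsemigroup.equivMapOfInjective.eq_def.{0, 0}
  have := @_root_.AddHom.restrict.eq_def.{0, 0, 0}
  trivial

theorem m12_5 : True := by
  have := @_root_.AddHom.restrict.eq_1.{0, 0, 0}
  have := @_root_.AddHom.srangeRestrict.eq_def.{0, 0}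
  have := @_root_.MulEquiv.subsemigroupCongr.congr_simp.{0}
  have := @_root_.MulEquiv.subsemigroupCongr.eq_def.{0}
  have := @_root_.AddSubsemigroup.toSubsemigroup.eq_def.{0}
  have := @_root_.AddSubsemigroup.toSubsemigroup.eq_1.{0}
  have := @_root_.AddHom.subsemigroupMap.eq_def.{0, 0}
  have := @_root_.AddSubsemigroup.topEquiv.eq_def.{0}
  have := @_root_.AddHom.domRestrict.eq_def.{0, 0, 0}
  have := @_root_.AddEquiv.subsemigroupMap.eq_def.{0, 0}
  have := @_root_.AddSubsemigroup.prodEquiv.eq_def.{0, 0}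
  have := @_root_.Subsemigroup.prod.eq_def.{0, 0}
  have := @_root_.Subsemigroup.comap.eq_def.{0, 0}
  have := @_root_.Subsemigroup.giMapComap.congr_simp.{0, 0}
  have := @_root_.Subsemigroup.giMapComap.eq_def.{0, 0}
  have := @_root_.Subsemigroup.topEquiv.eq_def.{0}
  have := @_root_.Subsemigroup.map.eq_def.{0, 0}
  have := @_root_.AddSubsemigroup.toSubsemigroup'.eq_def.{0}
  have := @_root_.AddSubsemigroup.toSubsemigroup'.eq_1.{0}
  have := @_root_.MulHom.codRestrict.congr_simp.{0, 0, 0}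
  have := @_root_.MulHom.codRestrict.eq_def.{0, 0, 0}
  have := @_root_.Subsemigroup.toAddSubsemigroup'.eq_def.{0}
  have := @_root_.Subsemigroup.toAddSubsemigroup'.eq_1.{0}
  have := @_root_.AddEquiv.ofLeftInverse.congr_simp.{0, 0}
  have := @_root_.AddEquiv.ofLeftInverse.eq_def.{0, 0}
  have := @_root_.AddHom.srange.eq_def.{0, 0}
  have := @_root_.AddHom.subsemigroupComap.eq_def.{0, 0}
  have := @_root_.MulHom.subsemigroupComap.eq_def.{0, 0}
  have := @_root_.MulHom.srange.eq_def.{0, 0}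
  have := @_root_.AddSubsemigroup.gciMapComap.congr_simp.{0, 0}
  trivial

theorem m12_6 : True := by
  have := @_root_.AddSubsemigroup.gciMapComap.eq_def.{0, 0}
  have := @_root_.Subsemigroup.prodEquiv.eq_def.{0, 0}
  have := @_root_.AddSubsemigroup.prod.eq_def.{0, 0}
  have := @_root_.RingHom.restrict.eq_def.{0, 0, 0, 0}
  have := @_root_.RingHom.restrict.eq_1.{0, 0, 0, 0}
  have := @_root_.Subsemiring.centerToMulOpposite.eq_def.{0}
  have := @_root_.Subsemiring.centerToMulOpposite.eq_1.{0}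
  have := @_root_.Subsemiring.center.eq_def.{0}
  have := @_root_.Subsemiring.center.eq_1.{0}
  have := @_root_.Subsemiring.map.eq_def.{0, 0}
  have := @_root_.Subsemiring.map.eq_1.{0, 0}
  have := @_root_.Subsemiring.topEquiv.eq_def.{0}
  have := @_root_.Subsemiring.topEquiv.eq_1.{0}
  have := @_root_.Subsemiring.comap.eq_def.{0, 0}
  have := @_root_.Subsemiring.comap.eq_1.{0, 0}
  have := @_root_.Subsemiring.prod.eq_def.{0, 0}
  have := @_root_.Subsemiring.prod.eq_1.{0, 0}
  have := @_root_.RingEquiv.ofLeftInverseS.congr_simp.{0, 0}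
  have := @_root_.RingEquiv.ofLeftInverseS.eq_def.{0, 0}
  have := @_root_.RingEquiv.ofLeftInverseS.eq_1.{0, 0}
  have := @_root_.RingEquiv.subsemiringCongr.eq_def.{0}
  have := @_root_.RingEquiv.subsemiringCongr.eq_1.{0}
  have := @_root_.Subsemiring.centralizer.eq_def.{0}
  have := @_root_.Subsemiring.centralizer.eq_1.{0}
  have := @_root_.RingHom.rangeS.eq_def.{0, 0}
  have := @_root_.RingHom.rangeS.eq_1.{0, 0}
  have := @_root_.Subsemiring.gi.eq_def.{0}
  have := @_root_.Subsemiring.gi.eq_1.{0}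
  have := @_root_.Subsemiring.equivMapOfInjective.congr_simp.{0, 0}
  have := @_root_.Subsemiring.equivMapOfInjective.eq_def.{0, 0}
  trivial

theorem m12_7 : True := by
  have := @_root_.Subsemiring.equivMapOfInjective.eq_1.{0, 0}
  have := @_root_.Subsemiring.inclusion.congr_simp.{0}
  have := @_root_.Subsemiring.inclusion.eq_def.{0}
  have := @_root_.Subsemiring.inclusion.eq_1.{0}
  have := @_root_.RingHom.codRestrict.eq_def.{0, 0, 0}
  have := @_root_.RingHom.codRestrict.eq_1.{0, 0, 0}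
  have := @_root_.Subsemiring.closureCommSemiringOfComm.congr_simp.{0}
  have := @_root_.Subsemiring.closureCommSemiringOfComm.eq_def.{0}
  have := @_root_.Subsemiring.closureCommSemiringOfComm.eq_1.{0}
  have := @_root_.Subsemiring.center.commSemiring'.eq_def.{0}
  have := @_root_.Subsemiring.center.commSemiring'.eq_1.{0}
  have := @_root_.RingEquiv.subsemiringMap.eq_def.{0, 0}
  have := @_root_.RingEquiv.subsemiringMap.eq_1.{0, 0}
  have := @_root_.RingHom.rangeSRestrict.eq_def.{0, 0}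
  have := @_root_.RingHom.rangeSRestrict.eq_1.{0, 0}
  have := @_root_.Subsemiring.closure.eq_def.{0}
  have := @_root_.Subsemiring.centerCongr.eq_def.{0, 0}
  have := @_root_.Subsemiring.centerCongr.eq_1.{0, 0}
  have := @_root_.Subsemiring.prodEquiv.eq_def.{0, 0}
  have := @_root_.Subsemiring.prodEquiv.eq_1.{0, 0}
  have := @_root_.Submonoid.subsemiringClosure.eq_def.{0}
  have := @_root_.Submonoid.subsemiringClosure.eq_1.{0}
  have := @_root_.Subring.map.eq_def.{0, 0}
  have := @_root_.Subring.map.eq_1.{0, 0}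
  have := @_root_.Subring.centerToMulOpposite.eq_def.{0}
  have := @_root_.Subring.centerToMulOpposite.eq_1.{0}
  have := @_root_.Subring.center.eq_def.{0}
  have := @_root_.Subring.center.eq_1.{0}
  have := @_root_.RingHom.range.eq_def.{0, 0}
  have := @_root_.RingHom.range.eq_1.{0, 0}
  trivial

theorem m12_8 : True := by
  have := @_root_.Subring.closureCommRingOfComm.congr_simp.{0}
  have := @_root_.Subring.closureCommRingOfComm.eq_def.{0}
  have := @_root_.Subring.closureCommRingOfComm.eq_1.{0}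
  have := @_root_.RingEquiv.subringCongr.congr_simp.{0}
  have := @_root_.RingEquiv.subringCongr.eq_def.{0}
  have := @_root_.RingEquiv.subringCongr.eq_1.{0}
  have := @_root_.Subring.prodEquiv.eq_def.{0, 0}
  have := @_root_.Subring.prodEquiv.eq_1.{0, 0}
  have := @_root_.Subring.centerCongr.eq_def.{0, 0}
  have := @_root_.Subring.centerCongr.eq_1.{0, 0}
  have := @_root_.RingEquiv.restrict.eq_def.{0, 0, 0, 0}
  have := @_root_.RingEquiv.restrict.eq_1.{0, 0, 0, 0}
  have := @_root_.Subring.prod.eq_def.{0, 0}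
  have := @_root_.Subring.prod.eq_1.{0, 0}
  have := @_root_.Subring.centralizer.eq_def.{0}
  have := @_root_.Subring.centralizer.eq_1.{0}
  have := @_root_.Subring.closure.eq_def.{0}
  have := @_root_.Subring.gi.eq_def.{0}
  have := @_root_.Subring.gi.eq_1.{0}
  have := @_root_.Subring.inclusion.congr_simp.{0}
  have := @_root_.Subring.inclusion.eq_def.{0}
  have := @_root_.Subring.equivMapOfInjective.congr_simp.{0, 0}
  have := @_root_.Subring.equivMapOfInjective.eq_def.{0, 0}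
  have := @_root_.Subring.equivMapOfInjective.eq_1.{0, 0}
  have := @_root_.Subring.comap.eq_def.{0, 0}
  have := @_root_.Subring.comap.eq_1.{0, 0}
  have := @_root_.RingHom.eqLocus.eq_def.{0, 0}
  have := @_root_.RingHom.eqLocus.eq_1.{0, 0}
  have := @_root_.Subring.topEquiv.eq_def.{0}
  have := @_root_.Subring.topEquiv.eq_1.{0}
  trivial

theorem m12_9 : True := by
  have := @_root_.RingEquiv.ofLeftInverse.congr_simp.{0, 0}
  have := @_root_.RingEquiv.ofLeftInverse.eq_def.{0, 0}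
  have := @_root_.RingEquiv.ofLeftInverse.eq_1.{0, 0}
  have := @_root_.RingEquiv.subringMap.eq_def.{0, 0}
  have := @_root_.RingEquiv.subringMap.eq_1.{0, 0}
  have := @_root_.RingHom.rangeRestrict.eq_def.{0, 0}
  have := @_root_.RingHom.rangeRestrict.eq_1.{0, 0}
  have := @_root_.Algebra.semiringToRing.eq_def.{0, 0}
  have := @_root_.Algebra.semiringToRing.eq_1.{0, 0}
  have := @_root_.ULift.algebra'.eq_def.{0, 0, 0}
  have := @_root_.ULift.algebra'.eq_1.{0, 0, 0}
  have := @_root_.LinearEquiv.extendScalarsOfSurjective.congr_simp.{0, 0, 0, 0}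
  have := @_root_.LinearEquiv.extendScalarsOfSurjective.eq_def.{0, 0, 0, 0}
  have := @_root_.LinearEquiv.extendScalarsOfSurjective.eq_1.{0, 0, 0, 0}
  have := @_root_.LinearMap.extendScalarsOfSurjectiveEquiv.eq_def.{0, 0, 0, 0}
  have := @_root_.LinearMap.extendScalarsOfSurjectiveEquiv.eq_1.{0, 0, 0, 0}
  have := @_root_.mulSemiringActionOfSmulDistribClass.congr_simp.{0, 0, 0}
  have := @_root_.mulSemiringActionOfSmulDistribClass.eq_def.{0, 0, 0}
  have := @_root_.mulSemiringActionOfSmulDistribClass.eq_1.{0, 0, 0}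
  have := @_root_.Invertible.algebraMapOfInvertibleAlgebraMap.congr_simp.{0, 0, 0}
  have := @_root_.Invertible.algebraMapOfInvertibleAlgebraMap.eq_def.{0, 0, 0}
  have := @_root_.Invertible.algebraMapOfInvertibleAlgebraMap.eq_1.{0, 0, 0}
  have := @_root_.Algebra.algebraMapSubmonoid.eq_def.{0, 0}
  have := @_root_.LinearMap.extendScalarsOfSurjective.congr_simp.{0, 0, 0, 0}
  have := @_root_.LinearMap.extendScalarsOfSurjective.eq_def.{0, 0, 0, 0}
  have := @_root_.LinearMap.extendScalarsOfSurjective.eq_1.{0, 0, 0, 0}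
  have := @_root_.RingHom.commSemiringToCommRing.eq_def.{0, 0}
  have := @_root_.RingHom.commSemiringToCommRing.eq_1.{0, 0}
  have := @_root_.AlgHomClass.mk.congr_simp.{0, 0, 0, 0}
  have := @_root_.AlgHom.mk'.eq_def.{0, 0, 0}
  trivial

theorem m12_10 : True := by
  have := @_root_.AlgHom.mk'.eq_1.{0, 0, 0}
  have := @_root_.AlgHom.id.eq_def.{0, 0}
  have := @_root_.AlgHom.id.eq_1.{0, 0}
  have := @_root_.RingHom.toNatAlgHom.eq_def.{0, 0}
  have := @_root_.RingHom.toNatAlgHom.eq_1.{0, 0}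
  have := @_root_.IsScalarTower.toAlgHom.eq_def.{0, 0, 0}
  have := @_root_.IsScalarTower.toAlgHom.eq_1.{0, 0, 0}
  have := @_root_.RingHom.equivIntAlgHom.eq_def.{0, 0}
  have := @_root_.RingHom.equivIntAlgHom.eq_1.{0, 0}
  have := @_root_.AlgHom.toLinearMap.eq_def.{0, 0, 0}
  have := @_root_.AlgHom.toLinearMap.eq_1.{0, 0, 0}
  have := @_root_.AlgHomClass.toAlgHom.eq_def.{0, 0, 0, 0}
  have := @_root_.AlgHomClass.toAlgHom.eq_1.{0, 0, 0, 0}
  have := @_root_.AlgHom.toEnd.eq_def.{0, 0}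
  have := @_root_.AlgHom.toEnd.eq_1.{0, 0}
  have := @_root_.MulSemiringAction.toAlgHom.eq_def.{0, 0, 0}
  have := @_root_.MulSemiringAction.toAlgHom.eq_1.{0, 0, 0}
  have := @_root_.Algebra.algHom.eq_def.{0, 0, 0}
  have := @_root_.AlgHom.toMonoidHom'.eq_def.{0, 0, 0}
  have := @_root_.AlgHom.toMonoidHom'.eq_1.{0, 0, 0}
  have := @_root_.Algebra.ofId.eq_def.{0, 0}
  have := @_root_.RingHom.equivNatAlgHom.eq_def.{0, 0}
  have := @_root_.RingHom.equivNatAlgHom.eq_1.{0, 0}
  have := @_root_.AlgHom.ofLinearMap.eq_def.{0, 0, 0}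
  have := @_root_.AlgHom.ofLinearMap.eq_1.{0, 0, 0}
  have := @_root_.RingHom.toIntAlgHom.eq_def.{0, 0}
  have := @_root_.RingHom.toIntAlgHom.eq_1.{0, 0}
  have := @_root_.AlgHom.toAddMonoidHom'.eq_def.{0, 0, 0}
  have := @_root_.AlgHom.toAddMonoidHom'.eq_1.{0, 0, 0}
  have := @_root_.AlgHom.comp.eq_def.{0, 0, 0, 0}
  trivial

theorem m12_11 : True := by
  have := @_root_.AlgHom.comp.eq_1.{0, 0, 0, 0}
  have := @_root_.RingAut.toPerm.eq_def.{0}
  have := @_root_.RingAut.toPerm.eq_1.{0}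
  have := @_root_.RingAut.eq_def.{0}
  have := @_root_.RingAut.eq_1.{0}
  have := @_root_.RingAut.toMulAut.eq_def.{0}
  have := @_root_.RingAut.toMulAut.eq_1.{0}
  have := @_root_.RingAut.toAddAut.eq_def.{0}
  have := @_root_.RingAut.toAddAut.eq_1.{0}
  have := @_root_.MulSemiringAction.toRingEquiv.eq_def.{0, 0}
  have := @_root_.MulSemiringAction.toRingEquiv.eq_1.{0, 0}
  have := @_root_.ULift.algEquiv.eq_def.{0, 0, 0}
  have := @_root_.ULift.algEquiv.eq_1.{0, 0, 0}
  have := @_root_.AlgEquiv.toLinearMapHom.eq_def.{0, 0}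
  have := @_root_.AlgEquiv.toLinearMapHom.eq_1.{0, 0}
  have := @_root_.AlgEquiv.cast.congr_simp.{0, 0, 0}
  have := @_root_.AlgEquiv.cast.eq_def.{0, 0, 0}
  have := @_root_.AlgEquiv.cast.eq_1.{0, 0, 0}
  have := @_root_.RingEquiv.equivIntAlgEquiv.eq_def.{0, 0}
  have := @_root_.RingEquiv.equivIntAlgEquiv.eq_1.{0, 0}
  have := @_root_.LinearEquiv.conjAlgEquiv.eq_def.{0, 0, 0, 0}
  have := @_root_.LinearEquiv.conjAlgEquiv.eq_1.{0, 0, 0, 0}
  have := @_root_.AlgEquiv.algHomUnitsEquiv.eq_def.{0, 0}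
  have := @_root_.AlgEquiv.algHomUnitsEquiv.eq_1.{0, 0}
  have := @_root_.AlgEquiv.ofAlgHom.eq_def.{0, 0, 0}
  have := @_root_.AlgEquiv.ofAlgHom.eq_1.{0, 0, 0}
  have := @_root_.AlgEquiv.arrowCongr.eq_def.{0, 0, 0, 0, 0}
  have := @_root_.AlgEquiv.arrowCongr.eq_1.{0, 0, 0, 0, 0}
  have := @_root_.AlgEquiv.toLinearMap.eq_def.{0, 0, 0}
  have := @_root_.AlgEquiv.symm.eq_def.{0, 0, 0}
  trivial

theorem m12_12 : True := by
  have := @_root_.AlgEquiv.symm.eq_1.{0, 0, 0}
  have := @_root_.AlgEquivClass.toAlgEquiv.eq_def.{0, 0, 0, 0}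
  have := @_root_.AlgEquivClass.toAlgEquiv.eq_1.{0, 0, 0, 0}
  have := @_root_.RingEquiv.equivNatAlgEquiv.eq_def.{0, 0}
  have := @_root_.RingEquiv.equivNatAlgEquiv.eq_1.{0, 0}
  have := @_root_.AlgEquiv.ofRingEquiv.eq_def.{0, 0, 0}
  have := @_root_.AlgEquiv.ofRingEquiv.eq_1.{0, 0, 0}
  have := @_root_.AlgEquiv.toAlgHomHom.eq_def.{0, 0}
  have := @_root_.AlgEquiv.toAlgHomHom.eq_1.{0, 0}
  have := @_root_.AlgEquiv.ofLinearEquiv.eq_def.{0, 0, 0}
  have := @_root_.AlgEquiv.ofLinearEquiv.eq_1.{0, 0, 0}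
  have := @_root_.AlgEquiv.toMulEquiv.eq_def.{0, 0, 0}
  have := @_root_.AlgEquiv.toMulEquiv.eq_1.{0, 0, 0}
  have := @_root_.AlgEquiv.trans.eq_def.{0, 0, 0, 0}
  have := @_root_.AlgEquiv.trans.eq_1.{0, 0, 0, 0}
  have := @_root_.AlgEquivClass.mk.congr_simp.{0, 0, 0, 0}
  have := @_root_.RingEquiv.toNatAlgEquiv.eq_def.{0, 0}
  have := @_root_.RingEquiv.toNatAlgEquiv.eq_1.{0, 0}
  have := @_root_.RingEquiv.toIntAlgEquiv.eq_def.{0, 0}
  have := @_root_.RingEquiv.toIntAlgEquiv.eq_1.{0, 0}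
  have := @_root_.AlgEquiv.toRingEquiv.eq_def.{0, 0, 0}
  have := @_root_.AlgEquiv.toRingEquiv.eq_1.{0, 0, 0}
  have := @_root_.AlgEquiv.ofBijective.eq_def.{0, 0, 0}
  have := @_root_.AlgEquiv.ofBijective.eq_1.{0, 0, 0}
  have := @_root_.AlgEquiv.ofLinearEquiv_symm.aux.congr_simp.{0, 0, 0}
  have := @_root_.AlgEquiv.ofLinearEquiv_symm.aux.eq_def.{0, 0, 0}
  have := @_root_.AlgEquiv.ofLinearEquiv_symm.aux.eq_1.{0, 0, 0}
  have := @_root_.LinearEquiv.algEquivOfRing.eq_def.{0, 0}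
  have := @_root_.LinearEquiv.algEquivOfRing.eq_1.{0, 0}
  have := @_root_.AlgEquiv.equivCongr.eq_def.{0, 0, 0, 0, 0}
  trivial

theorem m12_13 : True := by
  have := @_root_.AlgEquiv.equivCongr.eq_1.{0, 0, 0, 0, 0}
  have := @_root_.AlgEquiv.autCongr.eq_def.{0, 0, 0}
  have := @_root_.AlgEquiv.autCongr.eq_1.{0, 0, 0}
  have := @_root_.AlgEquiv.toAddEquiv.eq_def.{0, 0, 0}
  have := @_root_.AlgEquiv.toAddEquiv.eq_1.{0, 0, 0}
  have := @_root_.MulSemiringAction.toAlgAut.eq_def.{0, 0, 0}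
  have := @_root_.MulSemiringAction.toAlgAut.eq_1.{0, 0, 0}
  have := @_root_.AlgHom.ulift.eq_def.{0, 0, 0, 0, 0, 0}
  have := @_root_.AlgHom.ulift.eq_1.{0, 0, 0, 0, 0, 0}
  have := @_root_.AlgEquiv.toAlgHom.eq_def.{0, 0, 0}
  have := @_root_.AlgEquiv.toAlgHom.eq_1.{0, 0, 0}
  have := @_root_.AlgEquiv.refl.eq_def.{0, 0}
  have := @_root_.AlgEquiv.refl.eq_1.{0, 0}
  have := @_root_.AlgEquiv.toLinearEquiv.eq_def.{0, 0, 0}
  have := @_root_.AlgEquiv.toLinearEquiv.eq_1.{0, 0, 0}
  have := @_root_.MulSemiringAction.toAlgEquiv.eq_def.{0, 0, 0}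
  have := @_root_.MulSemiringAction.toAlgEquiv.eq_1.{0, 0, 0}
  have := @_root_.AddIrreducible.mk.congr_simp.{0}
  have := @_root_.Irreducible.mk.congr_simp.{0}
  have := @_root_.Associated.eq_def.{0}
  have := @_root_.Associates.eq_def.{0}
  have := @_root_.Associates.eq_1.{0}
  have := @_root_.Associates.mk.eq_def.{0}
  have := @_root_.Associates.mk.eq_1.{0}
  have := @_root_.Associated.setoid.eq_def.{0}
  have := @_root_.Associates.mkMonoidHom.eq_def.{0}
  have := @_root_.Associates.mkMonoidHom.eq_1.{0}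
  have := @_root_.nonZeroDivisorsEquivUnits.eq_def.{0}
  have := @_root_.nonZeroDivisorsEquivUnits.eq_1.{0}
  have := @_root_.associatesNonZeroDivisorsEquiv.eq_def.{0}
  trivial

theorem m12_14 : True := by
  have := @_root_.associatesNonZeroDivisorsEquiv.eq_1.{0}
  have := @_root_.nonZeroSMulDivisors.eq_def.{0, 0}
  have := @_root_.nonZeroSMulDivisors.eq_1.{0, 0}
  have := @_root_.nonZeroDivisors.eq_def.{0}
  have := @_root_.nonZeroDivisorsRight.eq_def.{0}
  have := @_root_.nonZeroDivisorsRight.eq_1.{0}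
  have := @_root_.nonZeroDivisorsLeft.eq_def.{0}
  have := @_root_.nonZeroDivisorsLeft.eq_1.{0}
  have := @_root_.unitsNonZeroDivisorsEquiv.eq_def.{0}
  have := @_root_.unitsNonZeroDivisorsEquiv.eq_1.{0}
  have := @_root_.LinearMap.submoduleImage.eq_def.{0, 0, 0}
  have := @_root_.LinearMap.range.eq_def.{0, 0, 0, 0}
  have := @_root_.LinearMap.range.eq_1.{0, 0, 0, 0}
  have := @_root_.LinearMap.iterateRange.eq_def.{0, 0}
  have := @_root_.LinearMap.iterateRange.eq_1.{0, 0}
  have := @_root_.Submodule.MapSubtype.orderIso.eq_def.{0, 0}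
  have := @_root_.Submodule.MapSubtype.orderEmbedding.eq_def.{0, 0}
  have := @_root_.Submodule.MapSubtype.orderEmbedding.eq_1.{0, 0}
  have := @_root_.Submodule.mapIic.eq_def.{0, 0}
  have := @_root_.Submodule.mapIic.eq_1.{0, 0}
  have := @_root_.LinearMap.rangeRestrict.eq_def.{0, 0, 0, 0}
  have := @_root_.LinearMap.rangeRestrict.eq_1.{0, 0, 0, 0}
  have := @_root_.LinearEquiv.ofBijective.eq_def.{0, 0, 0, 0}
  have := @_root_.LinearEquiv.ofBijective.eq_1.{0, 0, 0, 0}
  have := @_root_.LinearEquiv.ofSubmodule'.eq_def.{0, 0, 0, 0}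
  have := @_root_.LinearEquiv.ofSubmodule'.eq_1.{0, 0, 0, 0}
  have := @_root_.LinearEquiv.ofLeftInverse.congr_simp.{0, 0, 0, 0}
  have := @_root_.LinearEquiv.ofLeftInverse.eq_def.{0, 0, 0, 0}
  have := @_root_.LinearEquiv.ofLeftInverse.eq_1.{0, 0, 0, 0}
  have := @_root_.Submodule.equivSubtypeMap.eq_def.{0, 0}
  trivial

end Cfsg.Rz
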