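import Cfsg.Agent.Rz.M12

/-! Generated file: forces on-demand equation and congruence lemmas to be created once. -/

set_option linter.all false

namespace Cfsg.Rz

theorem m13_0 : True := by
  have := @_root_.Submodule.equivSubtypeMap.eq_1.{0, 0}
  have := @_root_.LinearMap.codRestrict₂.eq_def.{0, 0, 0, 0, 0}
  have := @_root_.LinearEquiv.ofSubmodules.congr_simp.{0, 0, 0, 0}
  have := @_root_.LinearEquiv.ofSubmodules.eq_def.{0, 0, 0, 0}
  have := @_root_.LinearEquiv.ofSubmodules.eq_1.{0, 0, 0, 0}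
  have := @_root_.LinearEquiv.ofEq.eq_def.{0, 0}
  have := @_root_.LinearEquiv.ofEq.eq_1.{0, 0}
  have := @_root_.LinearMap.codRestrictOfInjective.eq_def.{0, 0, 0, 0}
  have := @_root_.Submodule.comap_equiv_self_of_inj_of_le.congr_simp.{0, 0, 0}
  have := @_root_.Submodule.comap_equiv_self_of_inj_of_le.eq_def.{0, 0, 0}
  have := @_root_.Submodule.comap_equiv_self_of_inj_of_le.eq_1.{0, 0, 0}
  have := @_root_.LinearEquiv.ofInjective.eq_def.{0, 0, 0, 0}
  have := @_root_.LinearEquiv.ofInjective.eq_1.{0, 0, 0, 0}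
  have := @_root_.LinearEquiv.ofTop.eq_def.{0, 0}
  have := @_root_.LinearEquiv.ofTop.eq_1.{0, 0}
  have := @_root_.Set.distribMulActionSet.eq_def.{0, 0}
  have := @_root_.Set.distribMulActionSet.eq_1.{0, 0}
  have := @_root_.Set.distribSMulSet.eq_def.{0, 0}
  have := @_root_.Set.distribSMulSet.eq_1.{0, 0}
  have := @_root_.Set.mulDistribMulActionSet.eq_def.{0, 0}
  have := @_root_.Set.mulDistribMulActionSet.eq_1.{0, 0}
  have := @_root_.Set.smulZeroClassSet.eq_def.{0, 0}
  have := @_root_.Set.smulZeroClassSet.eq_1.{0, 0}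
  have := @_root_.AddSubmonoid.pointwiseMulAction.eq_def.{0, 0}
  have := @_root_.AddSubmonoid.pointwiseMulAction.eq_1.{0, 0}
  have := @_root_.AddSubgroup.pointwiseMulAction.eq_def.{0, 0}
  have := @_root_.AddSubgroup.pointwiseMulAction.eq_1.{0, 0}
  have := @_root_.Submodule.pointwiseNeg.eq_def.{0, 0}
  have := @_root_.Submodule.pointwiseNeg.eq_1.{0, 0}
  have := @_root_.Submodule.pointwiseDistribMulAction.congr_simp.{0, 0, 0}
  trivial

theorem m13_1 : True := by
  have := @_root_.Submodule.pointwiseDistribMulAction.eq_def.{0, 0, 0}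
  have := @_root_.Submodule.pointwiseDistribMulAction.eq_1.{0, 0, 0}
  have := @_root_.Submodule.involutivePointwiseNeg.eq_def.{0, 0}
  have := @_root_.Submodule.involutivePointwiseNeg.eq_1.{0, 0}
  have := @_root_.Submodule.pointwiseMulActionWithZero.congr_simp.{0, 0, 0}
  have := @_root_.Submodule.pointwiseMulActionWithZero.eq_def.{0, 0, 0}
  have := @_root_.Submodule.pointwiseMulActionWithZero.eq_1.{0, 0, 0}
  have := @_root_.Submodule.pointwiseSetSMul.eq_def.{0, 0, 0}
  have := @_root_.Submodule.pointwiseSetSMul.eq_1.{0, 0, 0}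
  have := @_root_.Submodule.negOrderIso.eq_def.{0, 0}
  have := @_root_.Submodule.negOrderIso.eq_1.{0, 0}
  have := @_root_.Module.IsPrincipal.eq_def.{0, 0}
  have := @_root_.Module.IsPrincipal.eq_1.{0, 0}
  have := @_root_.Submodule.IsPrincipal.mk.congr_simp.{0, 0}
  have := @_root_.Submodule.span.eq_def.{0, 0}
  have := @_root_.Submodule.span.eq_1.{0, 0}
  have := @_root_.Submodule.IsPrincipal.generator.eq_def.{0, 0}
  have := @_root_.Submodule.IsPrincipal.generator.eq_1.{0, 0}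
  have := @_root_.Submodule.gi.eq_def.{0, 0}
  have := @_root_.Submodule.gi.eq_1.{0, 0}
  have := @_root_.IsStronglyAtomic.mk.congr_simp.{0}
  have := @_root_.IsSimpleOrder.booleanAlgebra.congr_simp.{0}
  have := @_root_.IsSimpleOrder.booleanAlgebra.eq_def.{0}
  have := @_root_.IsSimpleOrder.booleanAlgebra.eq_1.{0}
  have := @_root_.IsSimpleOrder.lattice.congr_simp.{0}
  have := @_root_.IsSimpleOrder.lattice.eq_def.{0}
  have := @_root_.IsSimpleOrder.lattice.eq_1.{0}
  have := @_root_.IsAtom.eq_def.{0}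
  have := @_root_.IsSimpleOrder.linearOrder.congr_simp.{0}
  have := @_root_.IsSimpleOrder.linearOrder.eq_def.{0}
  trivial

theorem m13_2 : True := by
  have := @_root_.IsSimpleOrder.linearOrder.eq_1.{0}
  have := @_root_.IsSimpleOrder.completeLattice.congr_simp.{0}
  have := @_root_.IsSimpleOrder.completeLattice.eq_def.{0}
  have := @_root_.IsSimpleOrder.completeLattice.eq_1.{0}
  have := @_root_.IsSimpleOrder.distribLattice.congr_simp.{0}
  have := @_root_.IsSimpleOrder.distribLattice.eq_def.{0}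
  have := @_root_.IsSimpleOrder.distribLattice.eq_1.{0}
  have := @_root_.IsCoatomistic.mk.congr_simp.{0}
  have := @_root_.CompleteAtomicBooleanAlgebra.toSetOfIsAtom.eq_def.{0}
  have := @_root_.CompleteAtomicBooleanAlgebra.toSetOfIsAtom.eq_1.{0}
  have := @_root_.IsAtomic.mk.congr_simp.{0}
  have := @_root_.IsSimpleOrder.completeBooleanAlgebra.congr_simp.{0}
  have := @_root_.IsSimpleOrder.completeBooleanAlgebra.eq_def.{0}
  have := @_root_.IsSimpleOrder.completeBooleanAlgebra.eq_1.{0}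
  have := @_root_.IsSimpleOrder.preorder.congr_simp.{0}
  have := @_root_.IsSimpleOrder.preorder.eq_def.{0}
  have := @_root_.IsSimpleOrder.preorder.eq_1.{0}
  have := @_root_.IsCoatom.eq_def.{0}
  have := @_root_.IsStronglyCoatomic.mk.congr_simp.{0}
  have := @_root_.IsSimpleOrder.mk.congr_simp.{0}
  have := @_root_.IsAtomistic.mk.congr_simp.{0}
  have := @_root_.IsCoatomic.mk.congr_simp.{0}
  have := @_root_.IsSimpleOrder.equivBool.eq_def.{0}
  have := @_root_.IsSimpleOrder.equivBool.eq_1.{0}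
  have := @_root_.CompleteBooleanAlgebra.toCompleteAtomicBooleanAlgebra.congr_simp.{0}
  have := @_root_.CompleteBooleanAlgebra.toCompleteAtomicBooleanAlgebra.eq_def.{0}
  have := @_root_.CompleteBooleanAlgebra.toCompleteAtomicBooleanAlgebra.eq_1.{0}
  have := @_root_.IsSimpleOrder.orderIsoBool.congr_simp.{0}
  have := @_root_.IsSimpleOrder.orderIsoBool.eq_def.{0}
  have := @_root_.IsSimpleOrder.orderIsoBool.eq_1.{0}
  trivial

theorem m13_3 : True := by
  have := @_root_.LinearMap.eqLocus.eq_def.{0, 0, 0, 0}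
  have := @_root_.LinearMap.eqLocus.eq_1.{0, 0, 0, 0}
  have := @_root_.LinearEquiv.coord.eq_def.{0, 0}
  have := @_root_.LinearEquiv.coord.eq_1.{0, 0}
  have := @_root_.LinearMap.toSpanSingleton.eq_def.{0, 0}
  have := @_root_.LinearMap.toSpanSingleton.eq_1.{0, 0}
  have := @_root_.Submodule.inclusionSpan.eq_def.{0, 0, 0}
  have := @_root_.Submodule.inclusionSpan.eq_1.{0, 0, 0}
  have := @_root_.Submodule.prod.eq_def.{0, 0, 0}
  have := @_root_.Submodule.prod.eq_1.{0, 0, 0}
  have := @_root_.LinearEquiv.toSpanNonzeroSingleton.eq_def.{0, 0}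
  have := @_root_.LinearEquiv.toSpanNonzeroSingleton.eq_1.{0, 0}
  have := @_root_.Submodule.orderIsoOfAlgebraMapSurjective.congr_simp.{0, 0, 0}
  have := @_root_.Submodule.orderIsoOfAlgebraMapSurjective.eq_def.{0, 0, 0}
  have := @_root_.Submodule.orderIsoOfAlgebraMapSurjective.eq_1.{0, 0, 0}
  have := @_root_.AlgHom.restrictScalars.eq_def.{0, 0, 0, 0}
  have := @_root_.AlgHom.restrictScalars.eq_1.{0, 0, 0, 0}
  have := @_root_.AlgEquiv.extendScalarsOfSurjective.congr_simp.{0, 0, 0, 0}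
  have := @_root_.AlgEquiv.extendScalarsOfSurjective.eq_def.{0, 0, 0, 0}
  have := @_root_.AlgEquiv.extendScalarsOfSurjective.eq_1.{0, 0, 0, 0}
  have := @_root_.AlgEquiv.extendScalarsHomOfSurjective.congr_simp.{0, 0, 0}
  have := @_root_.AlgEquiv.extendScalarsHomOfSurjective.eq_def.{0, 0, 0}
  have := @_root_.AlgEquiv.extendScalarsHomOfSurjective.eq_1.{0, 0, 0}
  have := @_root_.AlgHom.extendScalarsHomOfSurjective.congr_simp.{0, 0, 0}
  have := @_root_.AlgHom.extendScalarsHomOfSurjective.eq_def.{0, 0, 0}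
  have := @_root_.AlgHom.extendScalarsHomOfSurjective.eq_1.{0, 0, 0}
  have := @_root_.AlgHom.extendScalarsOfSurjective.congr_simp.{0, 0, 0, 0}
  have := @_root_.AlgHom.extendScalarsOfSurjective.eq_def.{0, 0, 0, 0}
  have := @_root_.AlgHom.extendScalarsOfSurjective.eq_1.{0, 0, 0, 0}
  have := @_root_.AlgEquiv.restrictScalarsHom.congr_simp.{0, 0, 0}
  trivial

theorem m13_4 : True := by
  have := @_root_.AlgEquiv.restrictScalarsHom.eq_def.{0, 0, 0}
  have := @_root_.AlgEquiv.restrictScalarsHom.eq_1.{0, 0, 0}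
  have := @_root_.Algebra.lsmul.eq_def.{0, 0, 0, 0}
  have := @_root_.AlgEquiv.restrictScalars.eq_def.{0, 0, 0, 0}
  have := @_root_.AlgEquiv.restrictScalars.eq_1.{0, 0, 0, 0}
  have := @_root_.Set.mulIndicator.eq_def.{0, 0}
  have := @_root_.Set.indicator.eq_def.{0, 0}
  have := @_root_.Pi.monoidHomMulEquiv.eq_def.{0, 0, 0}
  have := @_root_.Pi.addMonoidHomAddEquiv.eq_def.{0, 0, 0}
  have := @_root_.Multiset.antidiagonal.eq_def.{0}
  have := @_root_.Multiset.antidiagonal.eq_1.{0}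
  have := @_root_.Multiset.Sections.eq_def.{0}
  have := @_root_.Multiset.Sections.eq_1.{0}
  have := @_root_.Set.indicatorHom.eq_def.{0, 0}
  have := @_root_.Set.mulIndicatorHom.eq_def.{0, 0}
  have := @_root_.Multiset.find?.eq_def.{0}
  have := @_root_.Multiset.find?.eq_1.{0}
  have := @_root_.Finsupp.zipWith.eq_def.{0, 0, 0, 0}
  have := @_root_.Finsupp.zipWith.eq_1.{0, 0, 0, 0}
  have := @_root_.Finsupp.ofSupportFinite.eq_def.{0, 0}
  have := @_root_.Finsupp.ofSupportFinite.eq_1.{0, 0}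
  have := @_root_.Finsupp.mapRange.equiv.eq_def.{0, 0, 0}
  have := @_root_.Finsupp.mapRange.equiv.eq_1.{0, 0, 0}
  have := @_root_.Finsupp.equivFunOnFinite.eq_def.{0, 0}
  have := @_root_.Finsupp.onFinsetSupport.eq_def.{0, 0}
  have := @_root_.Finsupp.onFinsetSupport.eq_1.{0, 0}
  have := @_root_.Finsupp.onFinset.eq_def.{0, 0}
  have := @_root_.Finsupp.onFinset.eq_1.{0, 0}
  have := @_root_.Finsupp.mapRange.eq_def.{0, 0, 0}
  have := @_root_.Finsupp.mapRange.eq_1.{0, 0, 0}
  trivial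

theorem m13_5 : True := by
  have := @_root_.Finsupp.embDomain.eq_def.{0, 0, 0}
  have := @_root_.Finsupp.single.eq_def.{0, 0}
  have := @_root_.Finsupp.erase.eq_def.{0, 0}
  have := @_root_.Finsupp.update.eq_def.{0, 0}
  have := @_root_.Finsupp.uniqueEquiv.eq_def.{0, 0}
  have := @_root_.Finsupp.uniqueEquiv.eq_1.{0, 0}
  have := @_root_.Equiv.finsuppUnique.eq_def.{0, 0}
  have := @_root_.Equiv.finsuppUnique.eq_1.{0, 0}
  have := @_root_.Finsupp.addEquivFunOnFinite.congr_simp.{0, 0}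
  have := @_root_.Finsupp.addEquivFunOnFinite.eq_def.{0, 0}
  have := @_root_.Finsupp.addEquivFunOnFinite.eq_1.{0, 0}
  have := @_root_.Finsupp.embDomain.addMonoidHom.eq_def.{0, 0, 0}
  have := @_root_.Finsupp.embDomain.addMonoidHom.eq_1.{0, 0, 0}
  have := @_root_.Finsupp.mapRange.addMonoidHom.eq_def.{0, 0, 0}
  have := @_root_.Finsupp.mapRange.addMonoidHom.eq_1.{0, 0, 0}
  have := @_root_.Finsupp.uniqueAddEquiv.eq_def.{0, 0}
  have := @_root_.Finsupp.uniqueAddEquiv.eq_1.{0, 0}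
  have := @_root_.Finsupp.mapRange.addEquiv.eq_def.{0, 0, 0}
  have := @_root_.Finsupp.mapRange.addEquiv.eq_1.{0, 0, 0}
  have := @_root_.Finsupp.mapRange.zeroHom.eq_def.{0, 0, 0}
  have := @_root_.Finsupp.mapRange.zeroHom.eq_1.{0, 0, 0}
  have := @_root_.AddEquiv.finsuppUnique.eq_def.{0, 0}
  have := @_root_.Finsupp.singleAddHom.eq_def.{0, 0}
  have := @_root_.Finsupp.applyAddHom.eq_def.{0, 0}
  have := @_root_.Finsupp.applyAddHom.eq_1.{0, 0}
  have := @_root_.Finsupp.coeFnAddHom.eq_def.{0, 0}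
  have := @_root_.Finsupp.coeFnAddHom.eq_1.{0, 0}
  have := @_root_.Finsupp.eraseAddHom.eq_def.{0, 0}
  have := @_root_.Finsupp.eraseAddHom.eq_1.{0, 0}
  have := @_root_.Finsupp.indicator.eq_def.{0, 0}
  trivial

theorem m13_6 : True := by
  have := @_root_.Finsupp.prod.eq_def.{0, 0, 0}
  have := @_root_.Finsupp.liftAddHom.eq_def.{0, 0, 0}
  have := @_root_.Finsupp.liftAddHom.eq_1.{0, 0, 0}
  have := @_root_.Finsupp.sum.eq_def.{0, 0, 0}
  have := @_root_.Finsupp.restrictSupportEquiv.eq_def.{0, 0}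
  have := @_root_.Finsupp.finsuppProdEquiv.eq_def.{0, 0, 0}
  have := @_root_.Finsupp.finsuppProdEquiv.eq_1.{0, 0, 0}
  have := @_root_.Finsupp.splitSupport.eq_def.{0, 0, 0}
  have := @_root_.Finsupp.subtypeDomainAddMonoidHom.eq_def.{0, 0}
  have := @_root_.Finsupp.subtypeDomainAddMonoidHom.eq_1.{0, 0}
  have := @_root_.Finsupp.splitComp.congr_simp.{0, 0, 0, 0}
  have := @_root_.Finsupp.splitComp.eq_def.{0, 0, 0, 0}
  have := @_root_.Finsupp.splitComp.eq_1.{0, 0, 0, 0}
  have := @_root_.Finsupp.extendDomain.eq_def.{0, 0}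
  have := @_root_.Finsupp.extendDomain.eq_1.{0, 0}
  have := @_root_.Finsupp.mapDomain.addMonoidHom.eq_def.{0, 0, 0}
  have := @_root_.Finsupp.graph.eq_def.{0, 0}
  have := @_root_.Finsupp.sumFinsuppEquivProdFinsupp.eq_def.{0, 0, 0}
  have := @_root_.Finsupp.curry.eq_def.{0, 0, 0}
  have := @_root_.Finsupp.curry.eq_1.{0, 0, 0}
  have := @_root_.Finsupp.domCongr.eq_def.{0, 0, 0}
  have := @_root_.Finsupp.domCongr.eq_1.{0, 0, 0}
  have := @_root_.Finsupp.curryAddEquiv.eq_def.{0, 0, 0}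
  have := @_root_.Finsupp.curryAddEquiv.eq_1.{0, 0, 0}
  have := @_root_.Finsupp.curryEquiv.eq_def.{0, 0, 0}
  have := @_root_.Finsupp.equivMapDomain.eq_def.{0, 0, 0}
  have := @_root_.Finsupp.sigmaFinsuppAddEquivPiFinsupp.eq_def.{0, 0, 0}
  have := @_root_.Finsupp.sigmaFinsuppAddEquivPiFinsupp.eq_1.{0, 0, 0}
  have := @_root_.Finsupp.filter.eq_def.{0, 0}
  have := @_root_.Finsupp.filter.eq_1.{0, 0}
  trivial

theorem m13_7 : True := by
  have := @_root_.Finsupp.mapDomain.eq_def.{0, 0, 0}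
  have := @_root_.Finsupp.uncurry.eq_def.{0, 0, 0}
  have := @_root_.Finsupp.piecewise.congr_simp.{0, 0}
  have := @_root_.Finsupp.piecewise.eq_def.{0, 0}
  have := @_root_.Finsupp.piecewise.eq_1.{0, 0}
  have := @_root_.Finsupp.sumElim.eq_def.{0, 0, 0}
  have := @_root_.Finsupp.sumElim.eq_1.{0, 0, 0}
  have := @_root_.Finsupp.subtypeDomain.eq_def.{0, 0}
  have := @_root_.Finsupp.subtypeDomain.eq_1.{0, 0}
  have := @_root_.Finsupp.comapDomain.eq_def.{0, 0, 0}
  have := @_root_.Finsupp.filterAddHom.congr_simp.{0, 0}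
  have := @_root_.Finsupp.filterAddHom.eq_def.{0, 0}
  have := @_root_.Finsupp.filterAddHom.eq_1.{0, 0}
  have := @_root_.Finsupp.sigmaFinsuppEquivPiFinsupp.eq_def.{0, 0, 0}
  have := @_root_.Finsupp.sigmaFinsuppEquivPiFinsupp.eq_1.{0, 0, 0}
  have := @_root_.Finsupp.frange.eq_def.{0, 0}
  have := @_root_.Finsupp.sumFinsuppAddEquivProdFinsupp.eq_def.{0, 0, 0}
  have := @_root_.Finsupp.mapDomainEmbedding.eq_def.{0, 0}
  have := @_root_.Finsupp.mapDomainEmbedding.eq_1.{0, 0}
  have := @_root_.Finsupp.split.eq_def.{0, 0, 0}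
  have := @_root_.Finsupp.equivCongrLeft.eq_def.{0, 0, 0}
  have := @_root_.Finsupp.equivCongrLeft.eq_1.{0, 0, 0}
  have := @_root_.Finsupp.comapDomain.addMonoidHom.eq_def.{0, 0, 0}
  have := @_root_.Finsupp.comapDomain.addMonoidHom.eq_1.{0, 0, 0}
  have := @_root_.Finsupp.some.eq_def.{0, 0}
  have := @_root_.Finsupp.some.eq_1.{0, 0}
  have := @_root_.Finsupp.optionElim.eq_def.{0, 0}
  have := @_root_.Finsupp.optionEquiv.eq_def.{0, 0}
  have := @_root_.Finsupp.optionEquiv.eq_1.{0, 0}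
  have := @_root_.finsum.eq_def.{0, 0}
  trivial

theorem m13_8 : True := by
  have := @_root_.finprod.eq_def.{0, 0}
  have := @_root_.Finsupp.comapSMul.eq_def.{0, 0, 0}
  have := @_root_.Finsupp.comapSMul.eq_1.{0, 0, 0}
  have := @_root_.Finsupp.comapMulAction.eq_def.{0, 0, 0}
  have := @_root_.Finsupp.comapMulAction.eq_1.{0, 0, 0}
  have := @_root_.Finsupp.DistribMulActionHom.single.eq_def.{0, 0, 0}
  have := @_root_.Finsupp.DistribMulActionHom.single.eq_1.{0, 0, 0}
  have := @_root_.Finsupp.comapDistribMulAction.eq_def.{0, 0, 0}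
  have := @_root_.Finsupp.comapDistribMulAction.eq_1.{0, 0, 0}
  have := @_root_.Finsupp.lsubtypeDomain.eq_def.{0, 0, 0}
  have := @_root_.Finsupp.lsubtypeDomain.eq_1.{0, 0, 0}
  have := @_root_.Finsupp.lcomapDomain.eq_def.{0, 0, 0, 0}
  have := @_root_.Finsupp.lcomapDomain.eq_1.{0, 0, 0, 0}
  have := @_root_.Module.subsingletonEquiv.eq_def.{0, 0, 0}
  have := @_root_.Module.subsingletonEquiv.eq_1.{0, 0, 0}
  have := @_root_.Finsupp.lmapDomain.eq_def.{0, 0, 0, 0}
  have := @_root_.Finsupp.lmapDomain.eq_1.{0, 0, 0, 0}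
  have := @_root_.Finsupp.lsingle.eq_def.{0, 0, 0}
  have := @_root_.Finsupp.finsuppProdLEquiv.eq_def.{0, 0, 0, 0}
  have := @_root_.Finsupp.finsuppProdLEquiv.eq_1.{0, 0, 0, 0}
  have := @_root_.Finsupp.linearEquivFunOnFinite.eq_def.{0, 0, 0}
  have := @_root_.Module.End.ringEquivEndFinsupp.eq_def.{0, 0, 0}
  have := @_root_.Module.End.ringEquivEndFinsupp.eq_1.{0, 0, 0}
  have := @_root_.Finsupp.mapRange.linearMap.eq_def.{0, 0, 0, 0, 0}
  have := @_root_.Finsupp.mapRange.linearMap.eq_1.{0, 0, 0, 0, 0}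
  have := @_root_.Finsupp.lapply.eq_def.{0, 0, 0}
  have := @_root_.Finsupp.lapply.eq_1.{0, 0, 0}
  have := @_root_.Module.End.ringHomEndFinsupp.eq_def.{0, 0, 0}
  have := @_root_.Module.End.ringHomEndFinsupp.eq_1.{0, 0, 0}
  have := @_root_.Finsupp.mapDomain.linearEquiv.eq_def.{0, 0, 0, 0}
  trivial

theorem m13_9 : True := by
  have := @_root_.Finsupp.mapDomain.linearEquiv.eq_1.{0, 0, 0, 0}
  have := @_root_.Finsupp.curryLinearEquiv.eq_def.{0, 0, 0, 0}
  have := @_root_.Finsupp.mapRange.linearEquiv.eq_def.{0, 0, 0, 0, 0}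
  have := @_root_.Finsupp.mapRange.linearEquiv.eq_1.{0, 0, 0, 0, 0}
  have := @_root_.Finsupp.domLCongr.eq_def.{0, 0, 0, 0}
  have := @_root_.Finsupp.domLCongr.eq_1.{0, 0, 0, 0}
  have := @_root_.Submodule.mulRightMap.eq_def.{0, 0, 0}
  have := @_root_.Finsupp.lift.eq_def.{0, 0, 0}
  have := @_root_.Finsupp.lift.eq_1.{0, 0, 0}
  have := @_root_.Submodule.mulLeftMap.eq_def.{0, 0, 0}
  have := @_root_.Finsupp.llift.eq_def.{0, 0, 0, 0}
  have := @_root_.Finsupp.llift.eq_1.{0, 0, 0, 0}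
  have := @_root_.Finsupp.lcongr.eq_def.{0, 0, 0, 0, 0, 0}
  have := @_root_.Finsupp.lsum.eq_def.{0, 0, 0, 0, 0, 0}
  have := @_root_.Finsupp.lsum.eq_1.{0, 0, 0, 0, 0, 0}
  have := @_root_.LinearMap.splittingOfFinsuppSurjective.congr_simp.{0, 0, 0}
  have := @_root_.LinearMap.splittingOfFinsuppSurjective.eq_def.{0, 0, 0}
  have := @_root_.LinearMap.splittingOfFinsuppSurjective.eq_1.{0, 0, 0}
  have := @_root_.Finsupp.restrictDom.eq_def.{0, 0, 0}
  have := @_root_.Finsupp.restrictDom.eq_1.{0, 0, 0}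
  have := @_root_.Finsupp.supported.eq_def.{0, 0, 0}
  have := @_root_.Finsupp.supported.eq_1.{0, 0, 0}
  have := @_root_.Finsupp.congr.eq_def.{0, 0, 0, 0}
  have := @_root_.Finsupp.congr.eq_1.{0, 0, 0, 0}
  have := @_root_.Finsupp.supportedEquivFinsupp.eq_def.{0, 0, 0}
  have := @_root_.Finsupp.supportedEquivFinsupp.eq_1.{0, 0, 0}
  have := @_root_.Finsupp.linearCombination.eq_def.{0, 0, 0}
  have := @_root_.Finsupp.bilinearCombination.eq_def.{0, 0, 0, 0}
  have := @_root_.Finsupp.bilinearCombination.eq_1.{0, 0, 0, 0}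
  have := @_root_.Finsupp.addSingleEquiv.eq_def.{0, 0}
  trivial

theorem m13_10 : True := by
  have := @_root_.Fintype.linearCombination.eq_def.{0, 0, 0}
  have := @_root_.Fintype.bilinearCombination.eq_def.{0, 0, 0, 0}
  have := @_root_.Span.repr.eq_def.{0, 0}
  have := @_root_.Finsupp.linearCombinationOn.eq_def.{0, 0, 0}
  have := @_root_.Module.Basis.reindexRange.eq_def.{0, 0, 0}
  have := @_root_.Module.Basis.reindexFinsetRange.eq_def.{0, 0, 0}
  have := @_root_.Module.fintypeOfFintype.eq_def.{0, 0, 0}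
  have := @_root_.Module.fintypeOfFintype.eq_1.{0, 0, 0}
  have := @_root_.Module.Basis.sumCoords.eq_def.{0, 0, 0}
  have := @_root_.Module.Basis.equivFun.eq_def.{0, 0, 0}
  have := @_root_.Module.Basis.constr.eq_def.{0, 0, 0, 0, 0}
  have := @_root_.Module.Basis.constr.eq_1.{0, 0, 0, 0, 0}
  have := @_root_.Module.Basis.equiv'.congr_simp.{0, 0, 0, 0, 0}
  have := @_root_.Module.Basis.equiv'.eq_def.{0, 0, 0, 0, 0}
  have := @_root_.Module.Basis.equiv'.eq_1.{0, 0, 0, 0, 0}
  have := @_root_.Module.Basis.equiv.eq_def.{0, 0, 0, 0, 0}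
  have := @_root_.Module.Basis.coord.eq_def.{0, 0, 0}
  have := @_root_.Module.Basis.mapCoeffs.eq_def.{0, 0, 0, 0}
  have := @_root_.Module.Basis.mapCoeffs.eq_1.{0, 0, 0, 0}
  have := @_root_.Module.Basis.reindex.eq_def.{0, 0, 0, 0}
  have := @_root_.Module.Basis.map.eq_def.{0, 0, 0, 0}
  have := @_root_.Module.Basis.ofEquivFun.eq_def.{0, 0, 0}
  have := @_root_.Finset.attachFin.eq_def
  have := @_root_.Finset.attachFin.eq_1
  have := @_root_.Matrix.vecAlt1.eq_def.{0}
  have := @_root_.Matrix.vecTail.eq_def.{0}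
  have := @_root_.Matrix.cons_val.eq_def
  have := @_root_.Matrix.cons_val.eq_1
  have := @_root_.Matrix.vecAlt0.eq_def.{0}
  have := @_root_.Matrix.vecEmpty.eq_def.{0}
  trivial

theorem m13_11 : True := by
  have := @_root_.Matrix.vecAppend.eq_def.{0}
  have := @_root_.Matrix.vecNotation.eq_def
  have := @_root_.Matrix.vecNotation.eq_1
  have := @_root_.PiFin.mkLiteralQ.eq_def
  have := @_root_.PiFin.mkLiteralQ.eq_1
  have := @_root_.Matrix.vecCons.eq_def.{0}
  have := @_root_.Matrix.vecHead.eq_def.{0}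
  have := @_root_.Fin.appendEquiv.eq_def.{0}
  have := @_root_.finProdFinEquiv.eq_def
  have := @_root_.finAddFlip.eq_def
  have := @_root_.Fin.castLEquiv.congr_simp
  have := @_root_.Fin.castLEquiv.eq_def
  have := @_root_.Fin.castLEquiv.eq_1
  have := @_root_.finTwoArrowEquiv.eq_def.{0}
  have := @_root_.finTwoArrowEquiv.eq_1.{0}
  have := @_root_.finSuccEquiv'.eq_def
  have := @_root_.finSuccAboveEquiv.eq_def
  have := @_root_.Equiv.embeddingFinSucc.eq_def.{0}
  have := @_root_.Equiv.embeddingFinSucc.eq_1.{0}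
  have := @_root_.Int.divModEquiv.congr_simp
  have := @_root_.Int.divModEquiv.eq_def
  have := @_root_.Int.divModEquiv.eq_1
  have := @_root_.prodEquivPiFinTwo.eq_def.{0}
  have := @_root_.prodEquivPiFinTwo.eq_1.{0}
  have := @_root_.Nat.divModEquiv.eq_def
  have := @_root_.Nat.divModEquiv.eq_1
  have := @_root_.Fin.succFunEquiv.eq_def.{0}
  have := @_root_.Fin.succFunEquiv.eq_1.{0}
  have := @_root_.finSumNatEquiv.eq_def
  have := @_root_.finSumNatEquiv.eq_1
  trivial

theorem m13_12 : True := by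
  have := @_root_.finSumFinEquiv.eq_def
  have := @_root_.finSumFinEquiv.eq_1
  have := @_root_.finSuccEquiv.eq_def
  have := @_root_.finSuccEquiv.eq_1
  have := @_root_.finSuccEquivLast.eq_def
  have := @_root_.finPiFinEquiv.eq_def
  have := @_root_.finPiFinEquiv.eq_1
  have := @_root_.finFunctionFinEquiv.eq_def
  have := @_root_.finFunctionFinEquiv.eq_1
  have := @_root_.Fin.partialProd.eq_def.{0}
  have := @_root_.Fin.partialSum.eq_def.{0}
  have := @_root_.LinearIndependent.linearCombinationEquiv.eq_def.{0, 0, 0}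
  have := @_root_.LinearIndependent.linearCombinationEquiv.eq_1.{0, 0, 0}
  have := @_root_.LinearIndepOn.eq_def.{0, 0, 0}
  have := @_root_.LinearIndependent.eq_def.{0, 0, 0}
  have := @_root_.LinearIndependent.Maximal.congr_simp.{0, 0, 0}
  have := @_root_.LinearIndependent.Maximal.eq_def.{0, 0, 0}
  have := @_root_.LinearIndependent.Maximal.eq_1.{0, 0, 0}
  have := @_root_.LinearIndependent.repr.eq_def.{0, 0, 0}
  have := @_root_.Fin.instAddMonoidWithOne.congr_simp
  have := @_root_.Fin.instAddMonoidWithOne.eq_def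
  have := @_root_.Fin.instAddMonoidWithOne.eq_1
  have := @_root_.finRotate.eq_def
  have := @_root_.finRotate.eq_1
  have := @_root_.finCycle.eq_def
  have := @_root_.finCycle.eq_1
  have := @_root_.Module.Basis.empty.eq_def.{0, 0, 0}
  have := @_root_.Module.Basis.empty.eq_1.{0, 0, 0}
  have := @_root_.Module.Basis.mk.eq_def.{0, 0, 0}
  have := @_root_.Module.Basis.mk.eq_1.{0, 0, 0}
  trivial

theorem m13_13 : True := by
  have := @_root_.Module.Basis.span.eq_def.{0, 0, 0}
  have := @_root_.Module.Basis.singleton.eq_def.{0, 0}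
  have := @_root_.AddCommGroup.ModEq.eq_def.{0}
  have := @_root_.AddCommGroup.ModEq.eq_1.{0}
  have := @_root_.Nat.ModEq.eq_def
  have := @_root_.Nat.chineseRemainder.eq_def
  have := @_root_.Nat.chineseRemainder.eq_1
  have := @_root_.Nat.chineseRemainder'.congr_simp
  have := @_root_.Nat.chineseRemainder'.eq_def
  have := @_root_.Nat.chineseRemainder'.eq_1
  have := @_root_.ZMod.eq_def
  have := @_root_.Fin.instCommRing.congr_simp
  have := @_root_.Fin.instCommRing.eq_def
  have := @_root_.Fin.instCommRing.eq_1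
  have := @_root_.Nat.equivFinOfCardPos.congr_simp.{0}
  have := @_root_.Nat.equivFinOfCardPos.eq_def.{0}
  have := @_root_.Nat.equivFinOfCardPos.eq_1.{0}
  have := @_root_.ENat.card.eq_def.{0}
  have := @_root_.Nat.card.eq_def.{0}
  have := @_root_.Set.encard.eq_def.{0}
  have := @_root_.Set.ncard.eq_def.{0}
  have := @_root_.Module.rank.eq_def.{0, 0}
  have := @_root_.Module.finrank.eq_def.{0, 0}
  have := @_root_.Submodule.inductionOnRankAux.congr_simp.{0, 0, 0, 0}
  have := @_root_.Submodule.inductionOnRankAux.eq_def.{0, 0, 0, 0}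
  have := @_root_.Submodule.inductionOnRankAux.eq_1.{0, 0, 0, 0}
  have := @_root_.Module.Basis.addSubgroupOfClosure.eq_def.{0, 0, 0}
  have := @_root_.Module.Basis.restrictScalars.eq_def.{0, 0, 0, 0}
  have := @_root_.Finite.equivFin.eq_def.{0}
  have := @_root_.Finite.equivFin.eq_1.{0}
  trivial

theorem m13_14 : True := by
  have := @_root_.Finite.equivFinOfCardEq.congr_simp.{0}
  have := @_root_.Finite.equivFinOfCardEq.eq_def.{0}
  have := @_root_.Finite.equivFinOfCardEq.eq_1.{0}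
  have := @_root_.Subgroup.quotientSubgroupOfEmbeddingOfLE.congr_simp.{0}
  have := @_root_.Subgroup.quotientSubgroupOfEmbeddingOfLE.eq_def.{0}
  have := @_root_.Subgroup.quotientMapOfLE.eq_def.{0}
  have := @_root_.AddMonoidHom.fiberEquivKer.eq_def.{0, 0}
  have := @_root_.AddSubgroup.quotientAddSubgroupOfMapOfLE.congr_simp.{0}
  have := @_root_.AddSubgroup.quotientAddSubgroupOfMapOfLE.eq_def.{0}
  have := @_root_.Subgroup.rightCosetEquivSubgroup.eq_def.{0}
  have := @_root_.Subgroup.groupEquivQuotientProdSubgroup.eq_def.{0}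
  have := @_root_.AddSubgroup.addGroupEquivQuotientProdAddSubgroup.eq_def.{0}
  have := @_root_.MonoidHom.fiberEquivKer.eq_def.{0, 0}
  have := @_root_.AddSubgroup.quotientEquivProdOfLE'.congr_simp.{0}
  have := @_root_.AddSubgroup.quotientEquivProdOfLE'.eq_def.{0}
  have := @_root_.LeftAddCosetEquivalence.eq_def.{0}
  have := @_root_.QuotientGroup.quotientEquivSelf.eq_def.{0}
  have := @_root_.Subgroup.quotientEquivProdOfLE.congr_simp.{0}
  have := @_root_.Subgroup.quotientEquivProdOfLE.eq_def.{0}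
  have := @_root_.Subgroup.quotientiInfEmbedding.eq_def.{0, 0}
  have := @_root_.AddMonoidHom.fiberEquivOfSurjective.congr_simp.{0, 0}
  have := @_root_.AddMonoidHom.fiberEquivOfSurjective.eq_def.{0, 0}
  have := @_root_.AddMonoidHom.fiberEquiv.eq_def.{0, 0}
  have := @_root_.Subgroup.leftCosetEquivSubgroup.eq_def.{0}
  have := @_root_.AddSubgroup.quotientiInfEmbedding.eq_def.{0, 0}
  have := @_root_.RightCosetEquivalence.eq_def.{0}
  have := @_root_.AddSubgroup.quotientEquivProdOfLE.congr_simp.{0}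
  have := @_root_.AddSubgroup.quotientEquivProdOfLE.eq_def.{0}
  have := @_root_.QuotientAddGroup.quotientEquivSelf.eq_def.{0}
  have := @_root_.MonoidHom.fiberEquiv.eq_def.{0, 0}
  trivial

end Cfsg.Rz
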