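import Cfsg.Agent.Rz.M13

/-! Generated file: forces on-demand equation and congruence lemmas to be created once. -/

set_option linter.all false

namespace Cfsg.Rz

theorem m14_0 : True := by
  have := @_root_.MonoidHom.fiberEquivOfSurjective.congr_simp.{0, 0}
  have := @_root_.MonoidHom.fiberEquivOfSurjective.eq_def.{0, 0}
  have := @_root_.AddMonoidHom.fiberEquivKerOfSurjective.congr_simp.{0, 0}
  have := @_root_.AddMonoidHom.fiberEquivKerOfSurjective.eq_def.{0, 0}
  have := @_root_.Subgroup.quotientSubgroupOfMapOfLE.eq_def.{0}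
  have := @_root_.AddSubgroup.rightCosetEquivAddSubgroup.eq_def.{0}
  have := @_root_.Subgroup.quotientEquivProdOfLE'.congr_simp.{0}
  have := @_root_.Subgroup.quotientEquivProdOfLE'.eq_def.{0}
  have := @_root_.MonoidHom.fiberEquivKerOfSurjective.congr_simp.{0, 0}
  have := @_root_.MonoidHom.fiberEquivKerOfSurjective.eq_def.{0, 0}
  have := @_root_.QuotientAddGroup.preimageMkEquivAddSubgroupProdSet.eq_def.{0}
  have := @_root_.AddSubgroup.quotientAddSubgroupOfEmbeddingOfLE.congr_simp.{0}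
  have := @_root_.AddSubgroup.quotientAddSubgroupOfEmbeddingOfLE.eq_def.{0}
  have := @_root_.QuotientGroup.preimageMkEquivSubgroupProdSet.eq_def.{0}
  have := @_root_.AddSubgroup.quotientiInfAddSubgroupOfEmbedding.eq_def.{0, 0}
  have := @_root_.AddSubgroup.quotientMapOfLE.congr_simp.{0}
  have := @_root_.AddSubgroup.quotientMapOfLE.eq_def.{0}
  have := @_root_.Subgroup.quotientiInfSubgroupOfEmbedding.eq_def.{0, 0}
  have := @_root_.LeftCosetEquivalence.eq_def.{0}
  have := @_root_.RightAddCosetEquivalence.eq_def.{0}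
  have := @_root_.AddSubgroup.leftCosetEquivAddSubgroup.eq_def.{0}
  have := @_root_.QuotientAddGroup.quotientInfEquivSumNormalQuotient.eq_def.{0}
  have := @_root_.QuotientGroup.kerLift.eq_def.{0, 0}
  have := @_root_.QuotientGroup.equivQuotientZPowOfEquiv.eq_def.{0}
  have := @_root_.QuotientGroup.homQuotientZPowOfHom.eq_def.{0}
  have := @_root_.QuotientGroup.quotientKerEquivOfSurjective.congr_simp.{0, 0}
  have := @_root_.QuotientGroup.quotientKerEquivOfSurjective.eq_def.{0, 0}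
  have := @_root_.QuotientAddGroup.quotientMapAddSubgroupOfOfLe.congr_simp.{0}
  have := @_root_.QuotientAddGroup.quotientMapAddSubgroupOfOfLe.eq_def.{0}
  have := @_root_.QuotientAddGroup.prodEquiv.eq_def.{0, 0}
  trivial

theorem m14_1 : True := by
  have := @_root_.QuotientGroup.quotientMulEquivOfEq.eq_def.{0}
  have := @_root_.QuotientGroup.quotientInfEquivProdNormalizerQuotient.eq_def.{0}
  have := @_root_.AddMonoidHom.domRestrictHomKerEquiv.eq_def.{0, 0}
  have := @_root_.QuotientAddGroup.kerLift.eq_def.{0, 0}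
  have := @_root_.QuotientGroup.equivQuotientSubgroupOfOfEq.congr_simp.{0}
  have := @_root_.QuotientGroup.equivQuotientSubgroupOfOfEq.eq_def.{0}
  have := @_root_.QuotientGroup.quotientQuotientEquivQuotient.eq_def.{0}
  have := @_root_.QuotientAddGroup.quotientInfEquivSumNormalizerQuotient.eq_def.{0}
  have := @_root_.QuotientAddGroup.homQuotientZSMulOfHom.eq_def.{0}
  have := @_root_.QuotientAddGroup.rangeKerLift.eq_def.{0, 0}
  have := @_root_.MonoidHom.domRestrictHomKerEquiv.eq_def.{0, 0}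
  have := @_root_.QuotientGroup.prodEquiv.eq_def.{0, 0}
  have := @_root_.QuotientGroup.mulEquivPiModRangePowMonoidHom.eq_def.{0, 0}
  have := @_root_.QuotientGroup.quotientBot.eq_def.{0}
  have := @_root_.QuotientAddGroup.quotientQuotientEquivQuotient.congr_simp.{0}
  have := @_root_.QuotientAddGroup.quotientQuotientEquivQuotient.eq_def.{0}
  have := @_root_.QuotientGroup.rangeKerLift.eq_def.{0, 0}
  have := @_root_.QuotientAddGroup.quotientKerEquivRange.eq_def.{0, 0}
  have := @_root_.QuotientAddGroup.addEquivPiModRangeNSMulAddMonoidHom.eq_def.{0, 0}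
  have := @_root_.QuotientAddGroup.quotientKerEquivOfRightInverse.congr_simp.{0, 0}
  have := @_root_.QuotientAddGroup.quotientKerEquivOfRightInverse.eq_def.{0, 0}
  have := @_root_.QuotientAddGroup.equivQuotientAddSubgroupOfOfEq.congr_simp.{0}
  have := @_root_.QuotientAddGroup.equivQuotientAddSubgroupOfOfEq.eq_def.{0}
  have := @_root_.QuotientAddGroup.quotientQuotientEquivQuotientAux.congr_simp.{0}
  have := @_root_.QuotientAddGroup.quotientQuotientEquivQuotientAux.eq_def.{0}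
  have := @_root_.QuotientAddGroup.quotientBot.eq_def.{0}
  have := @_root_.QuotientGroup.quotientMapSubgroupOfOfLe.congr_simp.{0}
  have := @_root_.QuotientGroup.quotientMapSubgroupOfOfLe.eq_def.{0}
  have := @_root_.QuotientAddGroup.quotientAddEquivOfEq.congr_simp.{0}
  have := @_root_.QuotientAddGroup.quotientAddEquivOfEq.eq_def.{0}
  trivial

theorem m14_2 : True := by
  have := @_root_.QuotientAddGroup.prodAddEquiv.eq_def.{0, 0}
  have := @_root_.QuotientGroup.prodMulEquiv.eq_def.{0, 0}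
  have := @_root_.QuotientGroup.comapMk'OrderIso.eq_def.{0}
  have := @_root_.QuotientGroup.quotientKerEquivRange.eq_def.{0, 0}
  have := @_root_.QuotientGroup.quotientKerEquivOfRightInverse.congr_simp.{0, 0}
  have := @_root_.QuotientGroup.quotientKerEquivOfRightInverse.eq_def.{0, 0}
  have := @_root_.QuotientAddGroup.equivQuotientZSMulOfEquiv.eq_def.{0}
  have := @_root_.QuotientGroup.quotientQuotientEquivQuotientAux.eq_def.{0}
  have := @_root_.AddMonoidHom.restrictHomKerEquiv.eq_def.{0, 0}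
  have := @_root_.AddMonoidHom.restrictHomKerEquiv.eq_1.{0, 0}
  have := @_root_.QuotientGroup.quotientInfEquivProdNormalQuotient.eq_def.{0}
  have := @_root_.QuotientAddGroup.comapMk'OrderIso.eq_def.{0}
  have := @_root_.MonoidHom.restrictHomKerEquiv.eq_def.{0, 0}
  have := @_root_.MonoidHom.restrictHomKerEquiv.eq_1.{0, 0}
  have := @_root_.QuotientAddGroup.quotientKerEquivOfSurjective.congr_simp.{0, 0}
  have := @_root_.QuotientAddGroup.quotientKerEquivOfSurjective.eq_def.{0, 0}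
  have := @_root_.AddGroup.fintypeOfKerLeRange.congr_simp.{0, 0, 0}
  have := @_root_.AddGroup.fintypeOfKerLeRange.eq_def.{0, 0, 0}
  have := @_root_.Group.fintypeOfKerLeRange.congr_simp.{0, 0, 0}
  have := @_root_.Group.fintypeOfKerLeRange.eq_def.{0, 0, 0}
  have := @_root_.AddGroup.fintypeOfKerEqRange.congr_simp.{0, 0, 0}
  have := @_root_.AddGroup.fintypeOfKerEqRange.eq_def.{0, 0, 0}
  have := @_root_.Group.fintypeOfDomOfCoker.congr_simp.{0, 0}
  have := @_root_.Group.fintypeOfDomOfCoker.eq_def.{0, 0}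
  have := @_root_.Group.fintypeOfKerEqRange.congr_simp.{0, 0, 0}
  have := @_root_.Group.fintypeOfKerEqRange.eq_def.{0, 0, 0}
  have := @_root_.AddGroup.fintypeOfDomOfCoker.congr_simp.{0, 0}
  have := @_root_.AddGroup.fintypeOfDomOfCoker.eq_def.{0, 0}
  have := @_root_.AddGroup.fintypeOfKerOfCodom.eq_def.{0, 0}
  have := @_root_.Group.fintypeOfKerOfCodom.eq_def.{0, 0}
  trivial

theorem m14_3 : True := by
  have := @_root_.AlgHom.prod.eq_def.{0, 0, 0, 0}
  have := @_root_.AlgHom.prod.eq_1.{0, 0, 0, 0}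
  have := @_root_.AlgEquiv.prodUnique.eq_def.{0, 0, 0}
  have := @_root_.AlgEquiv.prodUnique.eq_1.{0, 0, 0}
  have := @_root_.AlgHom.fst.eq_def.{0, 0, 0}
  have := @_root_.AlgHom.fst.eq_1.{0, 0, 0}
  have := @_root_.AlgHom.snd.eq_def.{0, 0, 0}
  have := @_root_.AlgHom.snd.eq_1.{0, 0, 0}
  have := @_root_.AlgEquiv.prodCongr.eq_def.{0, 0, 0, 0, 0}
  have := @_root_.AlgEquiv.prodCongr.eq_1.{0, 0, 0, 0, 0}
  have := @_root_.AlgEquiv.uniqueProd.eq_def.{0, 0, 0}
  have := @_root_.AlgEquiv.uniqueProd.eq_1.{0, 0, 0}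
  have := @_root_.AlgHom.prodMap.eq_def.{0, 0, 0, 0, 0}
  have := @_root_.AlgHom.prodMap.eq_1.{0, 0, 0, 0, 0}
  have := @_root_.AlgHom.prodEquiv.eq_def.{0, 0, 0, 0}
  have := @_root_.AlgHom.prodEquiv.eq_1.{0, 0, 0, 0}
  have := @_root_.MonoidHom.graph.eq_def.{0, 0}
  have := @_root_.AddMonoidHom.graph.eq_def.{0, 0}
  have := @_root_.MonoidHom.mgraph.eq_def.{0, 0}
  have := @_root_.AddMonoidHom.mgraph.eq_def.{0, 0}
  have := @_root_.LinearMap.kerComplementEquivRange.congr_simp.{0, 0, 0}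
  have := @_root_.LinearMap.kerComplementEquivRange.eq_def.{0, 0, 0}
  have := @_root_.LinearMap.kerComplementEquivRange.eq_1.{0, 0, 0}
  have := @_root_.LinearMap.graph.eq_def.{0, 0, 0}
  have := @_root_.LinearMap.graph.eq_1.{0, 0, 0}
  have := @_root_.LinearEquiv.uniqueProd.eq_def.{0, 0, 0}
  have := @_root_.LinearEquiv.uniqueProd.eq_1.{0, 0, 0}
  have := @_root_.LinearMap.prodMapAlgHom.eq_def.{0, 0, 0}
  have := @_root_.LinearMap.prodMapAlgHom.eq_1.{0, 0, 0}
  have := @_root_.LinearEquiv.skewSwap.eq_def.{0, 0, 0}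
  trivial

theorem m14_4 : True := by
  have := @_root_.LinearEquiv.skewSwap.eq_1.{0, 0, 0}
  have := @_root_.LinearEquiv.skewProd.eq_def.{0, 0, 0, 0, 0}
  have := @_root_.LinearEquiv.skewProd.eq_1.{0, 0, 0, 0, 0}
  have := @_root_.LinearMap.prod.eq_def.{0, 0, 0, 0}
  have := @_root_.LinearMap.prod.eq_1.{0, 0, 0, 0}
  have := @_root_.LinearMap.inr.eq_def.{0, 0, 0}
  have := @_root_.LinearMap.inr.eq_1.{0, 0, 0}
  have := @_root_.LinearEquiv.prodAssoc.eq_def.{0, 0, 0, 0}
  have := @_root_.LinearEquiv.prodAssoc.eq_1.{0, 0, 0, 0}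
  have := @_root_.LinearMap.prodMapRingHom.eq_def.{0, 0, 0}
  have := @_root_.LinearMap.prodMapRingHom.eq_1.{0, 0, 0}
  have := @_root_.LinearMap.snd.eq_def.{0, 0, 0}
  have := @_root_.LinearMap.snd.eq_1.{0, 0, 0}
  have := @_root_.Submodule.snd.eq_def.{0, 0, 0}
  have := @_root_.LinearMap.prodMapLinear.eq_def.{0, 0, 0, 0, 0, 0}
  have := @_root_.LinearMap.prodMapLinear.eq_1.{0, 0, 0, 0, 0, 0}
  have := @_root_.LinearEquiv.prodProdProdComm.eq_def.{0, 0, 0, 0, 0}
  have := @_root_.LinearEquiv.prodProdProdComm.eq_1.{0, 0, 0, 0, 0}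
  have := @_root_.LinearEquiv.prodComm.eq_def.{0, 0, 0}
  have := @_root_.LinearEquiv.prodComm.eq_1.{0, 0, 0}
  have := @_root_.LinearMap.prodEquiv.eq_def.{0, 0, 0, 0, 0}
  have := @_root_.LinearMap.prodEquiv.eq_1.{0, 0, 0, 0, 0}
  have := @_root_.LinearMap.coprodEquiv.eq_def.{0, 0, 0, 0, 0}
  have := @_root_.LinearMap.coprodEquiv.eq_1.{0, 0, 0, 0, 0}
  have := @_root_.Submodule.fst.eq_def.{0, 0, 0}
  have := @_root_.LinearMap.inl.eq_def.{0, 0, 0}
  have := @_root_.LinearMap.inl.eq_1.{0, 0, 0}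
  have := @_root_.Submodule.sndEquiv.eq_def.{0, 0, 0}
  have := @_root_.Submodule.sndEquiv.eq_1.{0, 0, 0}
  have := @_root_.LinearEquiv.prodCongr.eq_def.{0, 0, 0, 0, 0}
  trivial

theorem m14_5 : True := by
  have := @_root_.LinearEquiv.prodCongr.eq_1.{0, 0, 0, 0, 0}
  have := @_root_.Submodule.fstEquiv.eq_def.{0, 0, 0}
  have := @_root_.Submodule.fstEquiv.eq_1.{0, 0, 0}
  have := @_root_.LinearMap.coprod.eq_def.{0, 0, 0, 0}
  have := @_root_.LinearMap.coprod.eq_1.{0, 0, 0, 0}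
  have := @_root_.LinearMap.prodMap.eq_def.{0, 0, 0, 0, 0}
  have := @_root_.LinearMap.prodMap.eq_1.{0, 0, 0, 0, 0}
  have := @_root_.LinearEquiv.prodUnique.eq_def.{0, 0, 0}
  have := @_root_.LinearEquiv.prodUnique.eq_1.{0, 0, 0}
  have := @_root_.LinearMap.fst.eq_def.{0, 0, 0}
  have := @_root_.LinearMap.fst.eq_1.{0, 0, 0}
  have := @_root_.LinearMap.proj.eq_def.{0, 0, 0}
  have := @_root_.LinearMap.proj.eq_1.{0, 0, 0}
  have := @_root_.LinearEquiv.piCongrLeft'.eq_def.{0, 0, 0, 0}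
  have := @_root_.LinearEquiv.piCongrLeft'.eq_1.{0, 0, 0, 0}
  have := @_root_.Fin.consLinearEquiv.eq_def.{0, 0}
  have := @_root_.Fin.consLinearEquiv.eq_1.{0, 0}
  have := @_root_.Submodule.pi.eq_def.{0, 0, 0}
  have := @_root_.Submodule.pi.eq_1.{0, 0, 0}
  have := @_root_.LinearEquiv.piRing.eq_def.{0, 0, 0, 0}
  have := @_root_.LinearEquiv.sumArrowLequivProdArrow.eq_def.{0, 0, 0, 0}
  have := @_root_.LinearEquiv.sumArrowLequivProdArrow.eq_1.{0, 0, 0, 0}
  have := @_root_.LinearMap.const.eq_def.{0, 0, 0}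
  have := @_root_.LinearMap.const.eq_1.{0, 0, 0}
  have := @_root_.LinearMap.diag.congr_simp.{0, 0, 0}
  have := @_root_.LinearMap.diag.eq_def.{0, 0, 0}
  have := @_root_.LinearEquiv.piFinTwo.eq_def.{0, 0}
  have := @_root_.LinearEquiv.piFinTwo.eq_1.{0, 0}
  have := @_root_.LinearMap.single.eq_def.{0, 0, 0}
  have := @_root_.LinearMap.vecCons.eq_def.{0, 0, 0}
  trivial

theorem m14_6 : True := by
  have := @_root_.LinearMap.vecCons.eq_1.{0, 0, 0}
  have := @_root_.LinearMap.vecEmpty₂.eq_def.{0, 0, 0, 0}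
  have := @_root_.LinearMap.vecEmpty₂.eq_1.{0, 0, 0, 0}
  have := @_root_.LinearEquiv.finTwoArrow.eq_def.{0, 0}
  have := @_root_.LinearMap.lsum.eq_def.{0, 0, 0, 0, 0}
  have := @_root_.LinearMap.lsum.eq_1.{0, 0, 0, 0, 0}
  have := @_root_.LinearEquiv.piCurry.eq_def.{0, 0, 0, 0}
  have := @_root_.LinearEquiv.piCurry.eq_1.{0, 0, 0, 0}
  have := @_root_.LinearMap.pi.eq_def.{0, 0, 0, 0}
  have := @_root_.LinearMap.piMap.eq_def.{0, 0, 0, 0}
  have := @_root_.LinearMap.piMap.eq_1.{0, 0, 0, 0}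
  have := @_root_.LinearEquiv.funUnique.eq_def.{0, 0, 0}
  have := @_root_.LinearEquiv.funUnique.eq_1.{0, 0, 0}
  have := @_root_.LinearEquiv.piCongrRight.eq_def.{0, 0, 0, 0}
  have := @_root_.LinearEquiv.piOptionEquivProd.eq_def.{0, 0, 0}
  have := @_root_.LinearEquiv.piOptionEquivProd.eq_1.{0, 0, 0}
  have := @_root_.LinearEquiv.linearMapPi.eq_def.{0, 0, 0, 0, 0}
  have := @_root_.LinearEquiv.linearMapPi.eq_1.{0, 0, 0, 0, 0}
  have := @_root_.LinearMap.compLeft.eq_def.{0, 0, 0, 0}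
  have := @_root_.LinearMap.vecCons₂.eq_def.{0, 0, 0, 0}
  have := @_root_.LinearMap.vecCons₂.eq_1.{0, 0, 0, 0}
  have := @_root_.LinearMap.vecEmpty.eq_def.{0, 0, 0}
  have := @_root_.LinearMap.vecEmpty.eq_1.{0, 0, 0}
  have := @_root_.Function.ExtendByZero.linearMap.eq_def.{0, 0, 0}
  have := @_root_.Function.ExtendByZero.linearMap.eq_1.{0, 0, 0}
  have := @_root_.LinearEquiv.piCongrLeft.eq_def.{0, 0, 0, 0}
  have := @_root_.LinearEquiv.piCongrLeft.eq_1.{0, 0, 0, 0}
  have := @_root_.LinearMap.iInfKerProjEquiv.congr_simp.{0, 0, 0}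
  have := @_root_.LinearMap.iInfKerProjEquiv.eq_def.{0, 0, 0}
  have := @_root_.LinearMap.iInfKerProjEquiv.eq_1.{0, 0, 0}
  trivial

theorem m14_7 : True := by
  have := @_root_.Submodule.quotientRel.eq_def.{0, 0}
  have := @_root_.Submodule.Quotient.mk.eq_def.{0, 0}
  have := @_root_.Submodule.Quotient.mk.eq_1.{0, 0}
  have := @_root_.Submodule.quotEquivOfEq.eq_def.{0, 0}
  have := @_root_.Submodule.quotEquivOfEq.eq_1.{0, 0}
  have := @_root_.Submodule.mkQ.eq_def.{0, 0}
  have := @_root_.Submodule.mapQ.eq_def.{0, 0, 0, 0}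
  have := @_root_.Submodule.comapMkQRelIso.eq_def.{0, 0}
  have := @_root_.Submodule.comapMkQRelIso.eq_1.{0, 0}
  have := @_root_.Submodule.quotEquivOfEqBot.congr_simp.{0, 0}
  have := @_root_.Submodule.quotEquivOfEqBot.eq_def.{0, 0}
  have := @_root_.Submodule.quotEquivOfEqBot.eq_1.{0, 0}
  have := @_root_.Submodule.mapQLinear.eq_def.{0, 0, 0}
  have := @_root_.Submodule.mapQLinear.eq_1.{0, 0, 0}
  have := @_root_.Submodule.comapMkQOrderEmbedding.eq_def.{0, 0}
  have := @_root_.Submodule.comapMkQOrderEmbedding.eq_1.{0, 0}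
  have := @_root_.Submodule.factor.eq_def.{0, 0}
  have := @_root_.Submodule.Quotient.restrictScalarsEquiv.eq_def.{0, 0, 0}
  have := @_root_.Submodule.Quotient.restrictScalarsEquiv.eq_1.{0, 0, 0}
  have := @_root_.Submodule.liftQSpanSingleton.eq_def.{0, 0, 0, 0}
  have := @_root_.Submodule.liftQSpanSingleton.eq_1.{0, 0, 0, 0}
  have := @_root_.Submodule.liftQ.eq_def.{0, 0, 0, 0}
  have := @_root_.Submodule.liftQ.eq_1.{0, 0, 0, 0}
  have := @_root_.Submodule.Quotient.equiv.eq_def.{0, 0, 0, 0}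
  have := @_root_.Submodule.Quotient.equiv.eq_1.{0, 0, 0, 0}
  have := @_root_.Con.ofSubmonoid.congr_simp.{0}
  have := @_root_.Con.ofSubmonoid.eq_def.{0}
  have := @_root_.AddCon.quotientKerEquivOfRightInverse.congr_simp.{0, 0}
  have := @_root_.AddCon.quotientKerEquivOfRightInverse.eq_def.{0, 0}
  have := @_root_.Con.quotientKerEquivOfSurjective.congr_simp.{0, 0}
  trivial

theorem m14_8 : True := by
  have := @_root_.Con.quotientKerEquivOfSurjective.eq_def.{0, 0}
  have := @_root_.AddCon.quotientQuotientEquivQuotient.eq_def.{0}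
  have := @_root_.Con.submonoid.eq_def.{0}
  have := @_root_.Con.congr.congr_simp.{0, 0}
  have := @_root_.Con.congr.eq_def.{0, 0}
  have := @_root_.AddCon.comapQuotientEquivOfSurj.congr_simp.{0, 0}
  have := @_root_.AddCon.comapQuotientEquivOfSurj.eq_def.{0, 0}
  have := @_root_.Con.pi.eq_def.{0, 0}
  have := @_root_.AddCon.comapQuotientEquiv.eq_def.{0, 0}
  have := @_root_.AddCon.prod.eq_def.{0, 0}
  have := @_root_.AddCon.ofAddSubmonoid.congr_simp.{0}
  have := @_root_.AddCon.ofAddSubmonoid.eq_def.{0}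
  have := @_root_.AddCon.addSubmonoid.eq_def.{0}
  have := @_root_.Con.quotientKerEquivRange.eq_def.{0, 0}
  have := @_root_.Con.comapQuotientEquiv.eq_def.{0, 0}
  have := @_root_.Con.comapQuotientEquivOfSurj.congr_simp.{0, 0}
  have := @_root_.Con.comapQuotientEquivOfSurj.eq_def.{0, 0}
  have := @_root_.AddCon.pi.eq_def.{0, 0}
  have := @_root_.AddCon.quotientKerEquivRange.eq_def.{0, 0}
  have := @_root_.AddCon.congr.congr_simp.{0, 0}
  have := @_root_.AddCon.congr.eq_def.{0, 0}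
  have := @_root_.AddCon.quotientKerEquivOfSurjective.congr_simp.{0, 0}
  have := @_root_.AddCon.quotientKerEquivOfSurjective.eq_def.{0, 0}
  have := @_root_.Con.prod.eq_def.{0, 0}
  have := @_root_.Con.quotientKerEquivOfRightInverse.congr_simp.{0, 0}
  have := @_root_.Con.quotientKerEquivOfRightInverse.eq_def.{0, 0}
  have := @_root_.Con.quotientQuotientEquivQuotient.eq_def.{0}
  have := @_root_.IsField.toField.congr_simp.{0}
  have := @_root_.IsField.toField.eq_def.{0}
  have := @_root_.IsField.toField.eq_1.{0}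
  trivial

theorem m14_9 : True := by
  have := @_root_.IsField.mk.congr_simp.{0}
  have := @_root_.IsField.toSemifield.congr_simp.{0}
  have := @_root_.IsField.toSemifield.eq_def.{0}
  have := @_root_.IsField.toSemifield.eq_1.{0}
  have := @_root_.Fintype.toCompleteLattice.eq_def.{0}
  have := @_root_.Fintype.toCompleteLattice.eq_1.{0}
  have := @_root_.Fintype.toOrderTop.congr_simp.{0}
  have := @_root_.Fintype.toOrderTop.eq_def.{0}
  have := @_root_.Fintype.toOrderTop.eq_1.{0}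
  have := @_root_.Fintype.toOrderBot.eq_def.{0}
  have := @_root_.Fintype.toOrderBot.eq_1.{0}
  have := @_root_.Fintype.toCompleteLatticeOfNonempty.congr_simp.{0}
  have := @_root_.Fintype.toCompleteLatticeOfNonempty.eq_def.{0}
  have := @_root_.Fintype.toCompleteLatticeOfNonempty.eq_1.{0}
  have := @_root_.Fintype.toCompleteAtomicBooleanAlgebra.eq_def.{0}
  have := @_root_.Fintype.toCompleteAtomicBooleanAlgebra.eq_1.{0}
  have := @_root_.Fintype.toCompleteLinearOrder.eq_def.{0}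
  have := @_root_.Fintype.toCompleteLinearOrder.eq_1.{0}
  have := @_root_.Fintype.toCompleteBooleanAlgebra.eq_def.{0}
  have := @_root_.Fintype.toCompleteBooleanAlgebra.eq_1.{0}
  have := @_root_.Fintype.toCompleteDistribLattice.eq_def.{0}
  have := @_root_.Fintype.toCompleteDistribLattice.eq_1.{0}
  have := @_root_.Fintype.toBoundedOrder.congr_simp.{0}
  have := @_root_.Fintype.toBoundedOrder.eq_def.{0}
  have := @_root_.Fintype.toBoundedOrder.eq_1.{0}
  have := @_root_.Fintype.toCompleteLinearOrderOfNonempty.congr_simp.{0}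
  have := @_root_.Fintype.toCompleteLinearOrderOfNonempty.eq_def.{0}
  have := @_root_.Fintype.toCompleteLinearOrderOfNonempty.eq_1.{0}
  have := @_root_.disjointed.eq_def.{0, 0}
  have := @_root_.Multiset.Nat.antidiagonal.eq_def
  trivial

theorem m14_10 : True := by
  have := @_root_.Finset.Nat.antidiagonalEquivFin.eq_def
  have := @_root_.Finset.Nat.antidiagonalEquivFin.eq_1
  have := @_root_.Module.eqIdeal.eq_def.{0, 0}
  have := @_root_.Ideal.IsTwoSided.mk.congr_simp.{0}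
  have := @_root_.Ideal.inertia.eq_def.{0, 0}
  have := @_root_.Ideal.inertia.eq_1.{0, 0}
  have := @_root_.Ideal.eq_def.{0}
  have := @_root_.Ideal.eq_1.{0}
  have := @_root_.Ideal.span.eq_def.{0}
  have := @_root_.Ideal.ofRel.eq_def.{0}
  have := @_root_.Ideal.ofRel.eq_1.{0}
  have := @_root_.IsPrincipalIdealRing.mk.congr_simp.{0}
  have := @_root_.Ideal.pi.eq_def.{0, 0}
  have := @_root_.Ideal.pi.eq_1.{0, 0}
  have := @_root_.Ideal.equivFinTwo.eq_def.{0}
  have := @_root_.Ideal.equivFinTwo.eq_1.{0}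
  have := @_root_.Ideal.Quotient.factor.eq_def.{0}
  have := @_root_.Ideal.Quotient.ringCon.congr_simp.{0}
  have := @_root_.Ideal.Quotient.ringCon.eq_def.{0}
  have := @_root_.Ideal.Quotient.ringCon.eq_1.{0}
  have := @_root_.Ideal.Quotient.lift.eq_def.{0, 0}
  have := @_root_.Ideal.Quotient.lift.eq_1.{0, 0}
  have := @_root_.Ideal.quotEquivOfEq.eq_def.{0}
  have := @_root_.Ideal.quotEquivOfEq.eq_1.{0}
  have := @_root_.Ideal.Quotient.mk.eq_def.{0}
  have := @_root_.Ideal.Quotient.mk.eq_1.{0}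
  have := @_root_.Ideal.Quotient.groupWithZero.congr_simp.{0}
  have := @_root_.Ideal.Quotient.groupWithZero.eq_def.{0}
  have := @_root_.Ideal.Quotient.groupWithZero.eq_1.{0}
  have := @_root_.Ideal.Quotient.divisionRing.congr_simp.{0}
  trivial

theorem m14_11 : True := by
  have := @_root_.Ideal.Quotient.divisionRing.eq_def.{0}
  have := @_root_.Ideal.Quotient.divisionRing.eq_1.{0}
  have := @_root_.Ideal.Quotient.field.congr_simp.{0}
  have := @_root_.Ideal.Quotient.field.eq_def.{0}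
  have := @_root_.Ideal.Quotient.field.eq_1.{0}
  have := @_root_.Ideal.piQuotEquiv.eq_def.{0, 0}
  have := @_root_.Ideal.piQuotEquiv.eq_1.{0, 0}
  have := @_root_.LinearMap.iterateMapComap.eq_def.{0, 0, 0}
  have := @_root_.Finsupp.lcoeFun.eq_def.{0, 0, 0}
  have := @_root_.FunOnFinite.linearMap.eq_def.{0, 0, 0, 0}
  have := @_root_.FunOnFinite.linearMap.eq_1.{0, 0, 0, 0}
  have := @_root_.FunOnFinite.map.eq_def.{0, 0, 0}
  have := @_root_.Finsupp.submodule.eq_def.{0, 0, 0}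
  have := @_root_.Finsupp.submodule.eq_1.{0, 0, 0}
  have := @_root_.Finsupp.uniqueLinearEquiv.eq_def.{0, 0, 0}
  have := @_root_.Finsupp.uniqueLinearEquiv.eq_1.{0, 0, 0}
  have := @_root_.LinearMap.prodOfFinsuppNat.eq_def.{0, 0, 0}
  have := @_root_.Finsupp.LinearEquiv.finsuppUnique.eq_def.{0, 0, 0}
  have := @_root_.LinearMap.splittingOfFunOnFintypeSurjective.congr_simp.{0, 0, 0}
  have := @_root_.LinearMap.splittingOfFunOnFintypeSurjective.eq_def.{0, 0, 0}
  have := @_root_.LinearMap.splittingOfFunOnFintypeSurjective.eq_1.{0, 0, 0}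
  have := @_root_.Equiv.addZeroClass.eq_def.{0, 0}
  have := @_root_.Equiv.monoid.eq_def.{0, 0}
  have := @_root_.Equiv.Neg.eq_def.{0, 0}
  have := @_root_.Equiv.commSemigroup.eq_def.{0, 0}
  have := @_root_.Equiv.smul.eq_def.{0, 0, 0}
  have := @_root_.Equiv.mul.eq_def.{0, 0}
  have := @_root_.Equiv.pow.eq_def.{0, 0, 0}
  have := @_root_.Equiv.add.eq_def.{0, 0}
  have := @_root_.Equiv.semigroup.eq_def.{0, 0}
  trivial

theorem m14_12 : True := by
  have := @_root_.Equiv.addMonoid.eq_def.{0, 0}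
  have := @_root_.Equiv.commMonoid.eq_def.{0, 0}
  have := @_root_.Equiv.commGroup.eq_def.{0, 0}
  have := @_root_.Equiv.zero.eq_def.{0, 0}
  have := @_root_.Equiv.addCommSemigroup.eq_def.{0, 0}
  have := @_root_.Equiv.vadd.eq_def.{0, 0, 0}
  have := @_root_.Equiv.one.eq_def.{0, 0}
  have := @_root_.LibraryNote.instance_transfer_via_equivalence.eq_def
  have := @_root_.LibraryNote.instance_transfer_via_equivalence.eq_1
  have := @_root_.Equiv.Inv.eq_def.{0, 0}
  have := @_root_.Equiv.group.eq_def.{0, 0}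
  have := @_root_.Equiv.addGroup.eq_def.{0, 0}
  have := @_root_.Equiv.addEquiv.eq_def.{0, 0}
  have := @_root_.Equiv.sub.eq_def.{0, 0}
  have := @_root_.Equiv.mulOneClass.eq_def.{0, 0}
  have := @_root_.Equiv.addSemigroup.eq_def.{0, 0}
  have := @_root_.Equiv.mulEquiv.eq_def.{0, 0}
  have := @_root_.Equiv.div.eq_def.{0, 0}
  have := @_root_.Equiv.addCommMonoid.eq_def.{0, 0}
  have := @_root_.Equiv.addCommGroup.eq_def.{0, 0}
  have := @_root_.Equiv.addAction.eq_def.{0, 0, 0}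
  have := @_root_.Equiv.mulAction.eq_def.{0, 0, 0}
  have := @_root_.Equiv.mulDistribMulAction.eq_def.{0, 0, 0}
  have := @_root_.Equiv.mulDistribMulAction.eq_1.{0, 0, 0}
  have := @_root_.Shrink.mulEquiv.eq_def.{0, 0}
  have := @_root_.Shrink.addEquiv.eq_def.{0, 0}
  have := @_root_.Equiv.mulActionWithZero.eq_def.{0, 0, 0}
  have := @_root_.Equiv.mulActionWithZero.eq_1.{0, 0, 0}
  have := @_root_.Equiv.smulWithZero.eq_def.{0, 0, 0}
  have := @_root_.Equiv.smulWithZero.eq_1.{0, 0, 0}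
  trivial

theorem m14_13 : True := by
  have := @_root_.Equiv.smulZeroClass.eq_def.{0, 0, 0}
  have := @_root_.Equiv.smulZeroClass.eq_1.{0, 0, 0}
  have := @_root_.Equiv.distribSMul.eq_def.{0, 0, 0}
  have := @_root_.Equiv.distribSMul.eq_1.{0, 0, 0}
  have := @_root_.Equiv.distribMulAction.eq_def.{0, 0, 0}
  have := @_root_.Equiv.distribMulAction.eq_1.{0, 0, 0}
  have := @_root_.Quotient.finLiftOn.congr_simp.{0, 0, 0}
  have := @_root_.Quotient.finLiftOn.eq_def.{0, 0, 0}
  have := @_root_.Quotient.finLiftOn.eq_1.{0, 0, 0}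
  have := @_root_.Quotient.finChoiceEquiv.eq_def.{0, 0}
  have := @_root_.Quotient.finChoiceEquiv.eq_1.{0, 0}
  have := @_root_.Quotient.listChoice.eq_1.{0, 0}
  have := @_root_.Quotient.finHRecOn.eq_def.{0, 0, 0}
  have := @_root_.Quotient.finHRecOn.eq_1.{0, 0, 0}
  have := @_root_.Trunc.finRecOn.congr_simp.{0, 0, 0}
  have := @_root_.Trunc.finRecOn.eq_def.{0, 0, 0}
  have := @_root_.Trunc.finRecOn.eq_1.{0, 0, 0}
  have := @_root_.Trunc.finChoice.eq_def.{0, 0}
  have := @_root_.Trunc.finChoice.eq_1.{0, 0}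
  have := @_root_.Quotient.finRecOn.eq_def.{0, 0, 0}
  have := @_root_.Quotient.finRecOn.eq_1.{0, 0, 0}
  have := @_root_.Quotient.finChoice.eq_def.{0, 0}
  have := @_root_.Quotient.finChoice.eq_1.{0, 0}
  have := @_root_.Trunc.finLiftOn.congr_simp.{0, 0, 0}
  have := @_root_.Trunc.finLiftOn.eq_def.{0, 0, 0}
  have := @_root_.Trunc.finLiftOn.eq_1.{0, 0, 0}
  have := @_root_.Trunc.finChoiceEquiv.eq_def.{0, 0}
  have := @_root_.Trunc.finChoiceEquiv.eq_1.{0, 0}
  have := @_root_.sigmaFinsuppAddEquivDFinsupp.eq_def.{0, 0, 0}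
  have := @_root_.sigmaFinsuppAddEquivDFinsupp.eq_1.{0, 0, 0}
  trivial

theorem m14_14 : True := by
  have := @_root_.sigmaFinsuppEquivDFinsupp.eq_def.{0, 0, 0}
  have := @_root_.sigmaFinsuppEquivDFinsupp.eq_1.{0, 0, 0}
  have := @_root_.finsuppEquivDFinsupp.eq_def.{0, 0}
  have := @_root_.finsuppEquivDFinsupp.eq_1.{0, 0}
  have := @_root_.finsuppAddEquivDFinsupp.eq_def.{0, 0}
  have := @_root_.finsuppAddEquivDFinsupp.eq_1.{0, 0}
  have := @_root_.DFinsupp.toFinsupp.eq_def.{0, 0}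
  have := @_root_.DFinsupp.toFinsupp.eq_1.{0, 0}
  have := @_root_.Finsupp.toDFinsupp.eq_def.{0, 0}
  have := @_root_.Finsupp.toDFinsupp.eq_1.{0, 0}
  have := @_root_.finsuppLequivDFinsupp.eq_def.{0, 0, 0}
  have := @_root_.finsuppLequivDFinsupp.eq_1.{0, 0, 0}
  have := @_root_.sigmaFinsuppLequivDFinsupp.eq_def.{0, 0, 0, 0}
  have := @_root_.sigmaFinsuppLequivDFinsupp.eq_1.{0, 0, 0, 0}
  have := @_root_.Finsupp.sumFinsuppLEquivProdFinsupp.eq_def.{0, 0, 0, 0}
  have := @_root_.Finsupp.sumFinsuppLEquivProdFinsupp.eq_1.{0, 0, 0, 0}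
  have := @_root_.Finsupp.sigmaFinsuppLEquivPiFinsupp.eq_def.{0, 0, 0, 0}
  have := @_root_.Finsupp.sigmaFinsuppLEquivPiFinsupp.eq_1.{0, 0, 0, 0}
  have := @_root_.FinVec.map.eq_def.{0, 0}
  have := @_root_.FinVec.map.eq_1.{0, 0}
  have := @_root_.FinVec.mkSumEqQ.eq_def
  have := @_root_.FinVec.mkSumEqQ.eq_1
  have := @_root_.Fin.prod_univ_ofNat.eq_def
  have := @_root_.Fin.prod_univ_ofNat.eq_1
  have := @_root_.FinVec.mkProdEqQ.eq_def
  have := @_root_.FinVec.mkProdEqQ.eq_1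
  have := @_root_.Fin.sum_univ_ofNat.eq_def
  have := @_root_.Fin.sum_univ_ofNat.eq_1
  have := @_root_.FinVec.etaExpand.eq_def.{0}
  have := @_root_.FinVec.etaExpand.eq_1.{0}
  trivial

end Cfsg.Rz
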