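import Cfsg.Agent.Rz.M14

/-! Generated file: forces on-demand equation and congruence lemmas to be created once. -/

set_option linter.all false

namespace Cfsg.Rz

theorem m15_0 : True := by
  have := @_root_.Submodule.dualRestrict.eq_def.{0, 0}
  have := @_root_.Submodule.dualRestrict.eq_1.{0, 0}
  have := @_root_.Module.mapEvalEquiv.congr_simp.{0, 0}
  have := @_root_.Module.mapEvalEquiv.eq_def.{0, 0}
  have := @_root_.Module.mapEvalEquiv.eq_1.{0, 0}
  have := @_root_.Module.Dual.eval.eq_def.{0, 0}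
  have := @_root_.Module.Dual.eval.eq_1.{0, 0}
  have := @_root_.LinearEquiv.dualMap.eq_def.{0, 0, 0}
  have := @_root_.Submodule.dualCoannihilator.eq_def.{0, 0}
  have := @_root_.Submodule.dualAnnihilator.eq_def.{0, 0}
  have := @_root_.Module.evalEquiv.eq_def.{0, 0}
  have := @_root_.Module.evalEquiv.eq_1.{0, 0}
  have := @_root_.Module.dualPairing.eq_def.{0, 0}
  have := @_root_.Module.dualPairing.eq_1.{0, 0}
  have := @_root_.Module.Dual.eq_def.{0, 0}
  have := @_root_.Module.Dual.eq_1.{0, 0}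
  have := @_root_.LinearMap.dualMap.eq_def.{0, 0, 0}
  have := @_root_.LinearMap.dualMap.eq_1.{0, 0, 0}
  have := @_root_.Module.IsReflexive.mk.congr_simp.{0, 0}
  have := @_root_.Module.Dual.transpose.eq_def.{0, 0, 0}
  have := @_root_.Module.Dual.transpose.eq_1.{0, 0, 0}
  have := @_root_.equiv_linearIndependent.eq_def.{0, 0}
  have := @_root_.equiv_linearIndependent.eq_1.{0, 0}
  have := @_root_.LinearIndepOn.extend.eq_def.{0, 0, 0}
  have := @_root_.LinearIndepOn.extend.eq_1.{0, 0, 0}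
  have := @_root_.AlgHom.fromOpposite.congr_simp.{0, 0, 0}
  have := @_root_.AlgHom.fromOpposite.eq_def.{0, 0, 0}
  have := @_root_.AlgHom.fromOpposite.eq_1.{0, 0, 0}
  have := @_root_.AlgEquiv.moduleEndSelfOp.eq_def.{0, 0}
  have := @_root_.AlgEquiv.moduleEndSelfOp.eq_1.{0, 0}
  trivial

theorem m15_1 : True := by
  have := @_root_.AlgHom.unop.eq_def.{0, 0, 0}
  have := @_root_.AlgHom.unop.eq_1.{0, 0, 0}
  have := @_root_.AlgEquiv.moduleEndSelf.eq_def.{0, 0}
  have := @_root_.AlgEquiv.moduleEndSelf.eq_1.{0, 0}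
  have := @_root_.AlgEquiv.toOpposite.eq_def.{0, 0}
  have := @_root_.AlgEquiv.toOpposite.eq_1.{0, 0}
  have := @_root_.AlgHom.toOpposite.congr_simp.{0, 0, 0}
  have := @_root_.AlgHom.toOpposite.eq_def.{0, 0, 0}
  have := @_root_.AlgHom.toOpposite.eq_1.{0, 0, 0}
  have := @_root_.AlgHom.opComm.eq_def.{0, 0, 0}
  have := @_root_.AlgHom.opComm.eq_1.{0, 0, 0}
  have := @_root_.AlgEquiv.unop.eq_def.{0, 0, 0}
  have := @_root_.AlgEquiv.unop.eq_1.{0, 0, 0}
  have := @_root_.AlgEquiv.op.eq_def.{0, 0, 0}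
  have := @_root_.AlgEquiv.op.eq_1.{0, 0, 0}
  have := @_root_.AlgHom.op.eq_def.{0, 0, 0}
  have := @_root_.AlgHom.op.eq_1.{0, 0, 0}
  have := @_root_.AlgEquiv.opComm.eq_def.{0, 0, 0}
  have := @_root_.AlgEquiv.opComm.eq_1.{0, 0, 0}
  have := @_root_.AlgEquiv.opOp.eq_def.{0, 0}
  have := @_root_.AlgEquiv.opOp.eq_1.{0, 0}
  have := @_root_.AlgEquiv.piCongrRight.eq_def.{0, 0, 0, 0}
  have := @_root_.AlgEquiv.piCongrRight.eq_1.{0, 0, 0, 0}
  have := @_root_.AlgEquiv.piCongrLeft'.eq_def.{0, 0, 0, 0}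
  have := @_root_.AlgEquiv.piCongrLeft'.eq_1.{0, 0, 0, 0}
  have := @_root_.AlgEquiv.funUnique.eq_def.{0, 0, 0}
  have := @_root_.AlgEquiv.funUnique.eq_1.{0, 0, 0}
  have := @_root_.Pi.algHom.eq_def.{0, 0, 0, 0}
  have := @_root_.Pi.algHom.eq_1.{0, 0, 0, 0}
  have := @_root_.AlgEquiv.piCongrLeft.eq_def.{0, 0, 0, 0}
  trivial

theorem m15_2 : True := by
  have := @_root_.AlgEquiv.piCongrLeft.eq_1.{0, 0, 0, 0}
  have := @_root_.Pi.algebraMap.eq_def.{0, 0, 0}
  have := @_root_.Pi.constAlgHom.eq_def.{0, 0, 0}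
  have := @_root_.Pi.constAlgHom.eq_1.{0, 0, 0}
  have := @_root_.AlgEquiv.sumArrowEquivProdArrow.eq_def.{0, 0, 0, 0}
  have := @_root_.AlgEquiv.sumArrowEquivProdArrow.eq_1.{0, 0, 0, 0}
  have := @_root_.AlgHom.compLeft.eq_def.{0, 0, 0, 0}
  have := @_root_.AlgHom.compLeft.eq_1.{0, 0, 0, 0}
  have := @_root_.Pi.evalAlgHom.eq_def.{0, 0, 0}
  have := @_root_.Pi.evalAlgHom.eq_1.{0, 0, 0}
  have := @_root_.AlgHom.pi.eq_def.{0, 0, 0, 0}
  have := @_root_.AlgHom.pi.eq_1.{0, 0, 0, 0}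
  have := @_root_.AlgEquiv.piMulOpposite.eq_def.{0, 0, 0}
  have := @_root_.AlgEquiv.piMulOpposite.eq_1.{0, 0, 0}
  have := @_root_.MonoidAlgebra.ofMagma.eq_def.{0, 0}
  have := @_root_.MonoidAlgebra.ofMagma.eq_1.{0, 0}
  have := @_root_.AddMonoidAlgebra.singleHom.eq_def.{0, 0}
  have := @_root_.AddMonoidAlgebra.singleHom.eq_1.{0, 0}
  have := @_root_.AddMonoidAlgebra.of.eq_def.{0, 0}
  have := @_root_.AddMonoidAlgebra.of.eq_1.{0, 0}
  have := @_root_.MonoidAlgebra.mul'.eq_def.{0, 0}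
  have := @_root_.MonoidAlgebra.mul'.eq_1.{0, 0}
  have := @_root_.MonoidAlgebra.singleOneRingHom.eq_def.{0, 0}
  have := @_root_.MonoidAlgebra.update.eq_def.{0, 0}
  have := @_root_.AddMonoidAlgebra.of'.eq_def.{0, 0}
  have := @_root_.MonoidAlgebra.curryRingEquiv.eq_def.{0, 0, 0}
  have := @_root_.AddMonoidAlgebra.update.eq_def.{0, 0}
  have := @_root_.AddMonoidAlgebra.mul'.eq_def.{0, 0}
  have := @_root_.AddMonoidAlgebra.mul'.eq_1.{0, 0}
  have := @_root_.MonoidAlgebra.coeffAddEquiv.eq_def.{0, 0}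
  trivial

theorem m15_3 : True := by
  have := @_root_.MonoidAlgebra.coeffEquiv.eq_def.{0, 0}
  have := @_root_.AddMonoidAlgebra.curryRingEquiv.eq_def.{0, 0, 0}
  have := @_root_.AddMonoidAlgebra.coeffAddEquiv.eq_def.{0, 0}
  have := @_root_.AddMonoidAlgebra.coeffEquiv.eq_def.{0, 0}
  have := @_root_.AddMonoidAlgebra.single.eq_def.{0, 0}
  have := @_root_.MonoidAlgebra.curryAddEquiv.eq_def.{0, 0, 0}
  have := @_root_.AddMonoidAlgebra.singleZeroRingHom.eq_def.{0, 0}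
  have := @_root_.MonoidAlgebra.singleAddHom.eq_def.{0, 0}
  have := @_root_.MonoidAlgebra.uniqueRingEquiv.eq_def.{0, 0}
  have := @_root_.MonoidAlgebra.single.eq_def.{0, 0}
  have := @_root_.AddMonoidAlgebra.curryAddEquiv.eq_def.{0, 0, 0}
  have := @_root_.AddMonoidAlgebra.singleAddHom.eq_def.{0, 0}
  have := @_root_.AddMonoidAlgebra.uniqueRingEquiv.congr_simp.{0, 0}
  have := @_root_.AddMonoidAlgebra.uniqueRingEquiv.eq_def.{0, 0}
  have := @_root_.MonoidAlgebra.erase.eq_def.{0, 0}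
  have := @_root_.AddMonoidAlgebra.ofMagma.eq_def.{0, 0}
  have := @_root_.AddMonoidAlgebra.ofMagma.eq_1.{0, 0}
  have := @_root_.MonoidAlgebra.singleHom.eq_def.{0, 0}
  have := @_root_.MonoidAlgebra.singleHom.eq_1.{0, 0}
  have := @_root_.MonoidAlgebra.of.eq_def.{0, 0}
  have := @_root_.AddMonoidAlgebra.erase.eq_def.{0, 0}
  have := @_root_.AddChar.doubleDualEmb.eq_def.{0, 0}
  have := @_root_.AddChar.doubleDualEmb.eq_1.{0, 0}
  have := @_root_.AddChar.toAddMonoidHom.eq_def.{0, 0}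
  have := @_root_.AddChar.toAddMonoidHom.eq_1.{0, 0}
  have := @_root_.MonoidHom.compAddChar.eq_def.{0, 0, 0}
  have := @_root_.MonoidHom.compAddChar.eq_1.{0, 0, 0}
  have := @_root_.AddChar.toAddMonoidHomEquiv.eq_def.{0, 0}
  have := @_root_.AddChar.toAddMonoidHomEquiv.eq_1.{0, 0}
  have := @_root_.AddChar.mulShift.eq_def.{0, 0}
  trivial

theorem m15_4 : True := by
  have := @_root_.AddChar.mulShift.eq_1.{0, 0}
  have := @_root_.AddChar.toAddMonoidAddEquiv.eq_def.{0, 0}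
  have := @_root_.AddChar.toAddMonoidAddEquiv.eq_1.{0, 0}
  have := @_root_.AddChar.toMonoidHomEquiv.eq_def.{0, 0}
  have := @_root_.AddChar.toMonoidHomEquiv.eq_1.{0, 0}
  have := @_root_.AddChar.toMonoidHomMulEquiv.eq_def.{0, 0}
  have := @_root_.AddChar.toMonoidHomMulEquiv.eq_1.{0, 0}
  have := @_root_.AddChar.toMonoidHom.eq_def.{0, 0}
  have := @_root_.AddChar.toMonoidHom.eq_1.{0, 0}
  have := @_root_.AddChar.compAddMonoidHom.eq_def.{0, 0, 0}
  have := @_root_.AddChar.compAddMonoidHom.eq_1.{0, 0, 0}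
  have := @_root_.MonoidAlgebra.mapRangeRingHom.eq_def.{0, 0, 0}
  have := @_root_.MonoidAlgebra.mapRangeRingHom.eq_1.{0, 0, 0}
  have := @_root_.MonoidAlgebra.mapRingHom.eq_def.{0, 0, 0}
  have := @_root_.MonoidAlgebra.toAdditive.eq_def.{0, 0}
  have := @_root_.AddMonoidAlgebra.toMultiplicative.eq_def.{0, 0}
  have := @_root_.AddMonoidAlgebra.mapRingHom.eq_def.{0, 0, 0}
  have := @_root_.AddMonoidAlgebra.map.eq_def.{0, 0, 0}
  have := @_root_.MonoidAlgebra.comapDomain.eq_def.{0, 0, 0}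
  have := @_root_.AddMonoidAlgebra.mapDomainRingHom.eq_def.{0, 0, 0}
  have := @_root_.MonoidAlgebra.commRingEquiv.eq_def.{0, 0, 0}
  have := @_root_.MonoidAlgebra.mapAddEquiv.eq_def.{0, 0, 0}
  have := @_root_.MonoidAlgebra.map.eq_def.{0, 0, 0}
  have := @_root_.AddMonoidAlgebra.comapDomainAddMonoidHom.eq_def.{0, 0, 0}
  have := @_root_.MonoidAlgebra.mapDomain.eq_def.{0, 0, 0}
  have := @_root_.MonoidAlgebra.mapDomainAddEquiv.eq_def.{0, 0, 0}
  have := @_root_.MonoidAlgebra.mapDomainRingHom.eq_def.{0, 0, 0}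
  have := @_root_.AddMonoidAlgebra.comapDomain.eq_def.{0, 0, 0}
  have := @_root_.AddMonoidAlgebra.commRingEquiv.eq_def.{0, 0, 0}
  have := @_root_.MonoidAlgebra.mapRangeRingEquiv.eq_def.{0, 0, 0}
  trivial

theorem m15_5 : True := by
  have := @_root_.MonoidAlgebra.mapRangeRingEquiv.eq_1.{0, 0, 0}
  have := @_root_.AddMonoidAlgebra.mapAddEquiv.eq_def.{0, 0, 0}
  have := @_root_.MonoidAlgebra.comapDomainAddMonoidHom.congr_simp.{0, 0, 0}
  have := @_root_.MonoidAlgebra.comapDomainAddMonoidHom.eq_def.{0, 0, 0}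
  have := @_root_.AddMonoidAlgebra.mapDomain.eq_def.{0, 0, 0}
  have := @_root_.AddMonoidAlgebra.mapDomainAddEquiv.eq_def.{0, 0, 0}
  have := @_root_.AddMonoidAlgebra.mapDomainNonUnitalRingHom.eq_def.{0, 0, 0}
  have := @_root_.AddMonoidAlgebra.mapRingEquiv.eq_def.{0, 0, 0}
  have := @_root_.AddMonoidAlgebra.mapDomainRingEquiv.eq_def.{0, 0, 0}
  have := @_root_.MonoidAlgebra.mapDomainNonUnitalRingHom.eq_def.{0, 0, 0}
  have := @_root_.MonoidAlgebra.mapRingEquiv.eq_def.{0, 0, 0}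
  have := @_root_.MonoidAlgebra.mapDomainRingEquiv.eq_def.{0, 0, 0}
  have := @_root_.MonoidAlgebra.mapRangeAddEquiv.eq_def.{0, 0, 0}
  have := @_root_.MonoidAlgebra.mapRangeAddEquiv.eq_1.{0, 0, 0}
  have := @_root_.MonoidAlgebra.liftNCRingHom.congr_simp.{0, 0, 0}
  have := @_root_.MonoidAlgebra.liftNCRingHom.eq_def.{0, 0, 0}
  have := @_root_.AddMonoidAlgebra.liftNC.eq_def.{0, 0, 0}
  have := @_root_.AddMonoidAlgebra.liftNC.eq_1.{0, 0, 0}
  have := @_root_.MonoidAlgebra.liftNC.eq_def.{0, 0, 0}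
  have := @_root_.MonoidAlgebra.liftNC.eq_1.{0, 0, 0}
  have := @_root_.AddMonoidAlgebra.liftNCRingHom.congr_simp.{0, 0, 0}
  have := @_root_.AddMonoidAlgebra.liftNCRingHom.eq_def.{0, 0, 0}
  have := @_root_.MonoidAlgebra.lsingle.eq_def.{0, 0, 0}
  have := @_root_.MonoidAlgebra.submoduleOfSMulMem.congr_simp.{0, 0, 0}
  have := @_root_.MonoidAlgebra.submoduleOfSMulMem.eq_def.{0, 0, 0}
  have := @_root_.MonoidAlgebra.submoduleOfSMulMem.eq_1.{0, 0, 0}
  have := @_root_.AddMonoidAlgebra.coeffLinearEquiv.eq_def.{0, 0, 0}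
  have := @_root_.AddMonoidAlgebra.uniqueLinearEquiv.congr_simp.{0, 0, 0}
  have := @_root_.AddMonoidAlgebra.uniqueLinearEquiv.eq_def.{0, 0, 0}
  have := @_root_.MonoidAlgebra.coeffLinearEquiv.eq_def.{0, 0, 0}
  trivial

theorem m15_6 : True := by
  have := @_root_.MonoidAlgebra.supported.eq_def.{0, 0, 0}
  have := @_root_.MonoidAlgebra.basis.eq_def.{0, 0}
  have := @_root_.MonoidAlgebra.uniqueLinearEquiv.eq_def.{0, 0, 0}
  have := @_root_.AddMonoidAlgebra.supported.eq_def.{0, 0, 0}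
  have := @_root_.AddMonoidAlgebra.basis.eq_def.{0, 0}
  have := @_root_.MonoidAlgebra.singleDistribMulActionHom.eq_def.{0, 0, 0}
  have := @_root_.MonoidAlgebra.supportedEquivFinsupp.eq_def.{0, 0, 0}
  have := @_root_.AddMonoidAlgebra.mapDomainLinearMap.eq_def.{0, 0, 0, 0}
  have := @_root_.AddMonoidAlgebra.supportedEquivFinsupp.eq_def.{0, 0, 0}
  have := @_root_.AddMonoidAlgebra.singleDistribMulActionHom.eq_def.{0, 0, 0}
  have := @_root_.MonoidAlgebra.mapDomainLinearEquiv.eq_def.{0, 0, 0, 0}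
  have := @_root_.MonoidAlgebra.comapDistribMulActionSelf.eq_def.{0, 0}
  have := @_root_.MonoidAlgebra.comapDistribMulActionSelf.eq_1.{0, 0}
  have := @_root_.MonoidAlgebra.mapDomainLinearMap.eq_def.{0, 0, 0, 0}
  have := @_root_.AddMonoidAlgebra.lsingle.eq_def.{0, 0, 0}
  have := @_root_.AddMonoidAlgebra.mapDomainLinearEquiv.eq_def.{0, 0, 0, 0}
  have := @_root_.Finset.image₂.eq_def.{0, 0, 0}
  have := @_root_.Finset.mul.eq_def.{0}
  have := @_root_.Finset.singletonAddHom.eq_def.{0}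
  have := @_root_.Finset.inv.eq_def.{0}
  have := @_root_.Finset.singletonMonoidHom.eq_def.{0}
  have := @_root_.Finset.monoid.eq_def.{0}
  have := @_root_.Finset.addZeroClass.eq_def.{0}
  have := @_root_.Finset.imageAddHom.congr_simp.{0, 0, 0}
  have := @_root_.Finset.imageAddHom.eq_def.{0, 0, 0}
  have := @_root_.Finset.addCommMonoid.eq_def.{0}
  have := @_root_.Finset.addCommSemigroup.eq_def.{0}
  have := @_root_.Finset.zero.eq_def.{0}
  have := @_root_.Finset.imageMulHom.congr_simp.{0, 0, 0}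
  have := @_root_.Finset.imageMulHom.eq_def.{0, 0, 0}
  trivial

theorem m15_7 : True := by
  have := @_root_.Finset.commMonoid.eq_def.{0}
  have := @_root_.Finset.addMonoid.eq_def.{0}
  have := @_root_.Finset.addSemigroup.eq_def.{0}
  have := @_root_.Finset.mulOneClass.eq_def.{0}
  have := @_root_.Finset.singletonMulHom.eq_def.{0}
  have := @_root_.Finset.npow.eq_def.{0}
  have := @_root_.Finset.singletonZeroHom.eq_def.{0}
  have := @_root_.Finset.zsmul.eq_def.{0}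
  have := @_root_.Finset.imageMonoidHom.congr_simp.{0, 0, 0}
  have := @_root_.Finset.imageMonoidHom.eq_def.{0, 0, 0}
  have := @_root_.Finset.commSemigroup.eq_def.{0}
  have := @_root_.Finset.one.eq_def.{0}
  have := @_root_.Finset.imageOneHom.congr_simp.{0, 0, 0}
  have := @_root_.Finset.imageOneHom.eq_def.{0, 0, 0}
  have := @_root_.Finset.nsmul.eq_def.{0}
  have := @_root_.Finset.subtractionMonoid.eq_def.{0}
  have := @_root_.Finset.subtractionCommMonoid.eq_def.{0}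
  have := @_root_.Finset.div.eq_def.{0}
  have := @_root_.Finset.singletonOneHom.eq_def.{0}
  have := @_root_.Finset.imageZeroHom.congr_simp.{0, 0, 0}
  have := @_root_.Finset.imageZeroHom.eq_def.{0, 0, 0}
  have := @_root_.Finset.singletonAddMonoidHom.eq_def.{0}
  have := @_root_.Finset.coeAddMonoidHom.eq_def.{0}
  have := @_root_.Finset.divisionMonoid.eq_def.{0}
  have := @_root_.Finset.coeMonoidHom.eq_def.{0}
  have := @_root_.Finset.neg.eq_def.{0}
  have := @_root_.Finset.imageAddMonoidHom.congr_simp.{0, 0, 0}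
  have := @_root_.Finset.imageAddMonoidHom.eq_def.{0, 0, 0}
  have := @_root_.Finset.sub.eq_def.{0}
  have := @_root_.Finset.add.eq_def.{0}
  trivial

theorem m15_8 : True := by
  have := @_root_.Finset.semigroup.eq_def.{0}
  have := @_root_.Finset.divisionCommMonoid.eq_def.{0}
  have := @_root_.Finset.zpow.eq_def.{0}
  have := @_root_.UniqueAdd.eq_def.{0}
  have := @_root_.UniqueSums.mk.congr_simp.{0}
  have := @_root_.UniqueMul.eq_def.{0}
  have := @_root_.TwoUniqueSums.mk.congr_simp.{0}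
  have := @_root_.TwoUniqueProds.mk.congr_simp.{0}
  have := @_root_.UniqueProds.mk.congr_simp.{0}
  have := @_root_.AddMonoidAlgebra.opRingEquiv.eq_def.{0, 0}
  have := @_root_.MonoidAlgebra.opRingEquiv.eq_def.{0, 0}
  have := @_root_.Multiset.sort.eq_def.{0}
  have := @_root_.Multiset.sort.eq_1.{0}
  have := @_root_.Finset.orderEmbOfFin.eq_def.{0}
  have := @_root_.Fintype.orderIsoFinOfCardEq.congr_simp.{0}
  have := @_root_.Fintype.orderIsoFinOfCardEq.eq_def.{0}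
  have := @_root_.Fintype.orderIsoFinOfCardEq.eq_1.{0}
  have := @_root_.Finset.orderIsoOfFin.eq_def.{0}
  have := @_root_.Finset.orderIsoOfFin.eq_1.{0}
  have := @_root_.Finset.orderEmbOfCardLe.congr_simp.{0}
  have := @_root_.Finset.orderEmbOfCardLe.eq_def.{0}
  have := @_root_.Finset.sort.eq_def.{0}
  have := @_root_.Polynomial.monomial.eq_def.{0}
  have := @_root_.Polynomial.erase.eq_def.{0}
  have := @_root_.Polynomial.X.eq_def.{0}
  have := @_root_.Polynomial.C.eq_def.{0}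
  have := @_root_.Polynomial.C.eq_1.{0}
  have := @_root_.Polynomial.coeff.eq_def.{0}
  have := @_root_.Polynomial.sum.eq_def.{0, 0}
  have := @_root_.Polynomial.toFinsuppIso.eq_def.{0}
  trivial

theorem m15_9 : True := by
  have := @_root_.Polynomial.toFinsuppIso.eq_1.{0}
  have := @_root_.Polynomial.coeffs.eq_def.{0}
  have := @_root_.Polynomial.toFinsuppIsoLinear.eq_def.{0}
  have := @_root_.Polynomial.toFinsuppIsoLinear.eq_1.{0}
  have := @_root_.Polynomial.ofMultiset.eq_def.{0}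
  have := @_root_.Polynomial.ofMultiset.eq_1.{0}
  have := @_root_.Polynomial.support.eq_def.{0}
  have := @_root_.Polynomial.update.eq_def.{0}
  have := @_root_.Module.End.invtSubmodule.eq_def.{0, 0}
  have := @_root_.LinearMap.GeneralLinearGroup.toLinearEquiv.eq_def.{0, 0}
  have := @_root_.LinearMap.GeneralLinearGroup.toLinearEquiv.eq_1.{0, 0}
  have := @_root_.LinearMap.GeneralLinearGroup.ofLinearEquiv.eq_def.{0, 0}
  have := @_root_.LinearMap.GeneralLinearGroup.ofLinearEquiv.eq_1.{0, 0}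
  have := @_root_.LinearMap.GeneralLinearGroup.generalLinearEquiv.eq_def.{0, 0}
  have := @_root_.LinearMap.GeneralLinearGroup.generalLinearEquiv.eq_1.{0, 0}
  have := @_root_.LinearMap.GeneralLinearGroup.congrLinearEquiv.eq_def.{0, 0, 0, 0}
  have := @_root_.LinearMap.GeneralLinearGroup.congrLinearEquiv.eq_1.{0, 0, 0, 0}
  have := @_root_.LinearMap.GeneralLinearGroup.eq_def.{0, 0}
  have := @_root_.LinearMap.GeneralLinearGroup.eq_1.{0, 0}
  have := @_root_.Submodule.projection.eq_def.{0, 0}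
  have := @_root_.LinearMap.equivProdOfSurjectiveOfIsCompl.congr_simp.{0, 0, 0, 0}
  have := @_root_.LinearMap.equivProdOfSurjectiveOfIsCompl.eq_def.{0, 0, 0, 0}
  have := @_root_.LinearMap.equivProdOfSurjectiveOfIsCompl.eq_1.{0, 0, 0, 0}
  have := @_root_.LinearMap.IsProj.codRestrict.congr_simp.{0, 0}
  have := @_root_.LinearMap.IsProj.codRestrict.eq_def.{0, 0}
  have := @_root_.LinearMap.IsProj.codRestrict.eq_1.{0, 0}
  have := @_root_.Submodule.prodEquivOfIsCompl.eq_def.{0, 0}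
  have := @_root_.Submodule.prodEquivOfIsCompl.eq_1.{0, 0}
  have := @_root_.Submodule.IsCompl.projection.congr_simp.{0, 0}
  have := @_root_.Submodule.IsCompl.projection.eq_def.{0, 0}
  trivial

theorem m15_10 : True := by
  have := @_root_.Submodule.IsCompl.projection.eq_1.{0, 0}
  have := @_root_.Submodule.projectionOnto.eq_def.{0, 0}
  have := @_root_.LinearMap.ofIsCompl.eq_def.{0, 0, 0}
  have := @_root_.LinearMap.ofIsComplProdEquiv.congr_simp.{0, 0, 0}
  have := @_root_.LinearMap.ofIsComplProdEquiv.eq_def.{0, 0, 0}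
  have := @_root_.LinearMap.ofIsComplProdEquiv.eq_1.{0, 0, 0}
  have := @_root_.LinearMap.linearProjOfIsCompl.eq_def.{0, 0, 0}
  have := @_root_.Submodule.quotientEquivOfIsCompl.eq_def.{0, 0}
  have := @_root_.Submodule.quotientEquivOfIsCompl.eq_1.{0, 0}
  have := @_root_.LinearMap.IsProj.mk.congr_simp.{0, 0, 0}
  have := @_root_.LinearMap.ofIsComplProd.eq_def.{0, 0, 0}
  have := @_root_.LinearMap.ofIsComplProd.eq_1.{0, 0, 0}
  have := @_root_.Submodule.isComplEquivProj.eq_def.{0, 0}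
  have := @_root_.Submodule.isComplEquivProj.eq_1.{0, 0}
  have := @_root_.Submodule.isIdempotentElemEquiv.eq_def.{0, 0}
  have := @_root_.Submodule.isIdempotentElemEquiv.eq_1.{0, 0}
  have := @_root_.Submodule.linearProjOfIsCompl.congr_simp.{0, 0}
  have := @_root_.Submodule.linearProjOfIsCompl.eq_def.{0, 0}
  have := @_root_.Submodule.linearProjOfIsCompl.eq_1.{0, 0}
  have := @_root_.DFinsupp.basis.eq_def.{0, 0, 0, 0}
  have := @_root_.DFinsupp.basis.eq_1.{0, 0, 0, 0}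
  have := @_root_.Finsupp.basisSingleOne.eq_def.{0, 0}
  have := @_root_.Finsupp.basisSingleOne.eq_1.{0, 0}
  have := @_root_.Finsupp.basis.eq_def.{0, 0, 0, 0}
  have := @_root_.Finsupp.basis.eq_1.{0, 0, 0, 0}
  have := @_root_.Module.piEquiv.congr_simp.{0, 0, 0}
  have := @_root_.Module.piEquiv.eq_def.{0, 0, 0}
  have := @_root_.Pi.basisFun.eq_def.{0, 0}
  have := @_root_.Pi.spanSubset.eq_def.{0, 0}
  have := @_root_.Pi.basis.eq_def.{0, 0, 0, 0}
  trivial

theorem m15_11 : True := by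
  have := @_root_.NonUnitalAlgHom.inverse'.congr_simp.{0, 0, 0, 0}
  have := @_root_.NonUnitalAlgHom.inverse'.eq_def.{0, 0, 0, 0}
  have := @_root_.NonUnitalAlgHom.inverse'.eq_1.{0, 0, 0, 0}
  have := @_root_.NonUnitalAlgHom.fst.eq_def.{0, 0, 0}
  have := @_root_.NonUnitalAlgHom.fst.eq_1.{0, 0, 0}
  have := @_root_.AlgHom.toNonUnitalAlgHom.eq_def.{0, 0, 0}
  have := @_root_.AlgHom.toNonUnitalAlgHom.eq_1.{0, 0, 0}
  have := @_root_.NonUnitalAlgHom.inr.eq_def.{0, 0, 0}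
  have := @_root_.NonUnitalAlgHom.inr.eq_1.{0, 0, 0}
  have := @_root_.NonUnitalAlgHom.toMulHom.eq_def.{0, 0, 0, 0}
  have := @_root_.NonUnitalAlgHom.toMulHom.eq_1.{0, 0, 0, 0}
  have := @_root_.NonUnitalAlgHom.comp.eq_def.{0, 0, 0, 0, 0, 0}
  have := @_root_.NonUnitalAlgHom.comp.eq_1.{0, 0, 0, 0, 0, 0}
  have := @_root_.NonUnitalAlgHomClass.toNonUnitalAlgHom.eq_def.{0, 0, 0, 0}
  have := @_root_.NonUnitalAlgHom.id.eq_def.{0, 0}
  have := @_root_.NonUnitalAlgHom.id.eq_1.{0, 0}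
  have := @_root_.NonUnitalAlgHom.prod.eq_def.{0, 0, 0, 0}
  have := @_root_.NonUnitalAlgHom.prod.eq_1.{0, 0, 0, 0}
  have := @_root_.NonUnitalAlgHom.prodEquiv.eq_def.{0, 0, 0, 0}
  have := @_root_.NonUnitalAlgHom.prodEquiv.eq_1.{0, 0, 0, 0}
  have := @_root_.NonUnitalAlgHom.inl.eq_def.{0, 0, 0}
  have := @_root_.NonUnitalAlgHom.inl.eq_1.{0, 0, 0}
  have := @_root_.NonUnitalAlgHom.inverse.congr_simp.{0, 0, 0}
  have := @_root_.NonUnitalAlgHom.inverse.eq_def.{0, 0, 0}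
  have := @_root_.NonUnitalAlgHom.inverse.eq_1.{0, 0, 0}
  have := @_root_.NonUnitalAlgHom.snd.eq_def.{0, 0, 0}
  have := @_root_.NonUnitalAlgHom.snd.eq_1.{0, 0, 0}
  have := @_root_.NonUnitalAlgSemiHomClass.mk.congr_simp.{0, 0, 0, 0, 0}
  have := @_root_.NonUnitalAlgHomClass.eq_def.{0, 0, 0, 0}
  have := @_root_.NonUnitalAlgHomClass.eq_1.{0, 0, 0, 0}
  trivial

theorem m15_12 : True := by
  have := @_root_.NonUnitalAlgHomClass.toNonUnitalAlgSemiHom.congr_simp.{0, 0, 0, 0, 0}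
  have := @_root_.NonUnitalAlgHomClass.toNonUnitalAlgSemiHom.eq_def.{0, 0, 0, 0, 0}
  have := @_root_.NonUnitalAlgHomClass.toNonUnitalAlgSemiHom.eq_1.{0, 0, 0, 0, 0}
  have := @_root_.NonUnitalAlgHom.restrictScalars.congr_simp.{0, 0, 0, 0}
  have := @_root_.NonUnitalAlgHom.restrictScalars.eq_def.{0, 0, 0, 0}
  have := @_root_.NonUnitalAlgHom.restrictScalars.eq_1.{0, 0, 0, 0}
  have := @_root_.Submodule.map₂.eq_def.{0, 0, 0, 0}
  have := @_root_.Submodule.map₂.eq_1.{0, 0, 0, 0}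
  have := @_root_.TensorProduct.eq_def.{0, 0, 0}
  have := @_root_.TensorProduct.eq_1.{0, 0, 0}
  have := @_root_.TensorProduct.tmul.eq_def.{0, 0, 0}
  have := @_root_.TensorProduct.tmul.eq_1.{0, 0, 0}
  have := @_root_.TensorProduct.CompatibleSMul.mk.congr_simp.{0, 0, 0, 0}
  have := @_root_.TensorProduct.SMul.aux.eq_def.{0, 0, 0, 0}
  have := @_root_.TensorProduct.SMul.aux.eq_1.{0, 0, 0, 0}
  have := @_root_.TensorProduct.mk.eq_def.{0, 0, 0}
  have := @_root_.TensorProduct.mk.eq_1.{0, 0, 0}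
  have := @_root_.TensorProduct.comm.eq_def.{0, 0, 0}
  have := @_root_.TensorProduct.comm.eq_1.{0, 0, 0}
  have := @_root_.TensorProduct.lift.eq_def.{0, 0, 0, 0, 0}
  have := @_root_.TensorProduct.lift.eq_1.{0, 0, 0, 0, 0}
  have := @_root_.TensorProduct.Neg.aux.eq_def.{0, 0, 0}
  have := @_root_.TensorProduct.Neg.aux.eq_1.{0, 0, 0}
  have := @_root_.TensorProduct.uncurry.eq_def.{0, 0, 0, 0, 0}
  have := @_root_.TensorProduct.uncurry.eq_1.{0, 0, 0, 0, 0}
  have := @_root_.TensorProduct.liftAddHom.eq_def.{0, 0, 0, 0}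
  have := @_root_.TensorProduct.liftAddHom.eq_1.{0, 0, 0, 0}
  have := @_root_.TensorProduct.liftAux.eq_def.{0, 0, 0, 0, 0}
  have := @_root_.TensorProduct.mapOfCompatibleSMul.eq_def.{0, 0, 0, 0, 0}
  have := @_root_.TensorProduct.mapOfCompatibleSMul.eq_1.{0, 0, 0, 0, 0}
  trivial

theorem m15_13 : True := by
  have := @_root_.TensorProduct.lcurry.eq_def.{0, 0, 0, 0, 0}
  have := @_root_.TensorProduct.lcurry.eq_1.{0, 0, 0, 0, 0}
  have := @_root_.TensorProduct.lift.equiv.eq_def.{0, 0, 0, 0, 0}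
  have := @_root_.TensorProduct.lift.equiv.eq_1.{0, 0, 0, 0, 0}
  have := @_root_.TensorProduct.equivOfCompatibleSMul.congr_simp.{0, 0, 0, 0, 0}
  have := @_root_.TensorProduct.equivOfCompatibleSMul.eq_def.{0, 0, 0, 0, 0}
  have := @_root_.TensorProduct.curry.eq_def.{0, 0, 0, 0, 0}
  have := @_root_.TensorProduct.curry.eq_1.{0, 0, 0, 0, 0}
  have := @_root_.TensorProduct.mapOfCompatibleSMul'.congr_simp.{0, 0, 0, 0, 0}
  have := @_root_.TensorProduct.mapOfCompatibleSMul'.eq_def.{0, 0, 0, 0, 0}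
  have := @_root_.TensorProduct.mapOfCompatibleSMul'.eq_1.{0, 0, 0, 0, 0}
  have := @_root_.LinearEquiv.rTensor.eq_def.{0, 0, 0, 0}
  have := @_root_.LinearEquiv.rTensor.eq_1.{0, 0, 0, 0}
  have := @_root_.LinearEquiv.lTensor.eq_def.{0, 0, 0, 0}
  have := @_root_.LinearEquiv.lTensor.eq_1.{0, 0, 0, 0}
  have := @_root_.TensorProduct.map₂.eq_def.{0, 0, 0, 0, 0, 0, 0, 0, 0}
  have := @_root_.TensorProduct.map₂.eq_1.{0, 0, 0, 0, 0, 0, 0, 0, 0}
  have := @_root_.LinearMap.lTensor.eq_def.{0, 0, 0, 0}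
  have := @_root_.LinearMap.lTensorHom.eq_def.{0, 0, 0, 0}
  have := @_root_.LinearMap.lTensorHom.eq_1.{0, 0, 0, 0}
  have := @_root_.TensorProduct.lTensorHomToHomLTensor.eq_def.{0, 0, 0, 0, 0}
  have := @_root_.TensorProduct.lTensorHomToHomLTensor.eq_1.{0, 0, 0, 0, 0}
  have := @_root_.TensorProduct.homTensorHomMap.eq_def.{0, 0, 0, 0, 0, 0}
  have := @_root_.TensorProduct.homTensorHomMap.eq_1.{0, 0, 0, 0, 0, 0}
  have := @_root_.LinearMap.rTensorHom.eq_def.{0, 0, 0, 0}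
  have := @_root_.LinearMap.rTensorHom.eq_1.{0, 0, 0, 0}
  have := @_root_.TensorProduct.map.eq_def.{0, 0, 0, 0, 0, 0}
  have := @_root_.TensorProduct.map.eq_1.{0, 0, 0, 0, 0, 0}
  have := @_root_.TensorProduct.rTensorHomToHomRTensor.eq_def.{0, 0, 0, 0, 0}
  have := @_root_.TensorProduct.rTensorHomToHomRTensor.eq_1.{0, 0, 0, 0, 0}
  trivial

theorem m15_14 : True := by
  have := @_root_.TensorProduct.mapIncl.eq_def.{0, 0, 0}
  have := @_root_.LinearMap.rTensor.eq_def.{0, 0, 0, 0}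
  have := @_root_.TensorProduct.mapBilinear.eq_def.{0, 0, 0, 0, 0, 0}
  have := @_root_.TensorProduct.mapBilinear.eq_1.{0, 0, 0, 0, 0, 0}
  have := @_root_.TensorProduct.congr.eq_def.{0, 0, 0, 0, 0, 0}
  have := @_root_.LinearMap.mul'.eq_def.{0, 0}
  have := @_root_.LinearMap.mul''.eq_def.{0, 0}
  have := @_root_.LinearMap.mul''.eq_1.{0, 0}
  have := @_root_.Algebra.lmul.eq_def.{0, 0}
  have := @_root_.Algebra.lmul.eq_1.{0, 0}
  have := @_root_.LinearMap.mul.eq_def.{0, 0}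
  have := @_root_.LinearMap.mul.eq_1.{0, 0}
  have := @_root_.NonUnitalAlgHom.lmul.congr_simp.{0, 0}
  have := @_root_.NonUnitalAlgHom.lmul.eq_def.{0, 0}
  have := @_root_.NonUnitalAlgHom.lmul.eq_1.{0, 0}
  have := @_root_.Submodule.pointwiseSetDistribMulAction.congr_simp.{0, 0}
  have := @_root_.Submodule.pointwiseSetDistribMulAction.eq_def.{0, 0}
  have := @_root_.Submodule.pointwiseSetDistribMulAction.eq_1.{0, 0}
  have := @_root_.Submodule.pointwiseSetMulAction.congr_simp.{0, 0}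
  have := @_root_.Submodule.pointwiseSetMulAction.eq_def.{0, 0}
  have := @_root_.Submodule.pointwiseSetMulAction.eq_1.{0, 0}
  have := @_root_.AddSubmonoid.one.eq_def.{0}
  have := @_root_.AddSubmonoid.one.eq_1.{0}
  have := @_root_.AddSubmonoid.smul.eq_def.{0, 0}
  have := @_root_.AddSubmonoid.smul.eq_1.{0, 0}
  have := @_root_.AddSubmonoid.mul.eq_def.{0}
  have := @_root_.AddSubmonoid.mul.eq_1.{0}
  have := @_root_.AddSubmonoid.semigroup.eq_def.{0}
  have := @_root_.AddSubmonoid.semigroup.eq_1.{0}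
  have := @_root_.AddSubmonoid.monoid.eq_def.{0}
  trivial

end Cfsg.Rz
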