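import Cfsg.Agent.Rz.M15

/-! Generated file: forces on-demand equation and congruence lemmas to be created once. -/

set_option linter.all false

namespace Cfsg.Rz

theorem m16_0 : True := by
  have := @_root_.AddSubmonoid.monoid.eq_1.{0}
  have := @_root_.AddSubmonoid.hasDistribNeg.eq_def.{0}
  have := @_root_.AddSubmonoid.hasDistribNeg.eq_1.{0}
  have := @_root_.AddSubmonoid.mulOneClass.eq_def.{0}
  have := @_root_.AddSubmonoid.mulOneClass.eq_1.{0}
  have := @_root_.SetSemiring.down.eq_def.{0}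
  have := @_root_.SetSemiring.down.eq_1.{0}
  have := @_root_.SetSemiring.imageHom.eq_def.{0, 0}
  have := @_root_.SetSemiring.imageHom.eq_1.{0, 0}
  have := @_root_.SetSemiring.eq_def.{0}
  have := @_root_.SetSemiring.eq_1.{0}
  have := @_root_.SetSemiring.singletonMonoidHom.eq_def.{0}
  have := @_root_.Set.up.eq_def.{0}
  have := @_root_.Set.up.eq_1.{0}
  have := @_root_.Submodule.equivOpposite.eq_def.{0, 0}
  have := @_root_.Submodule.equivOpposite.eq_1.{0, 0}
  have := @_root_.Submodule.mapHom.eq_def.{0, 0, 0}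
  have := @_root_.Submodule.mapHom.eq_1.{0, 0, 0}
  have := @_root_.Submodule.spanSingleton.eq_def.{0, 0}
  have := @_root_.Submodule.spanSingleton.eq_1.{0, 0}
  have := @_root_.Submodule.hasDistribPointwiseNeg.eq_def.{0, 0}
  have := @_root_.Submodule.hasDistribPointwiseNeg.eq_1.{0, 0}
  have := @_root_.Submodule.pointwiseMulSemiringAction.congr_simp.{0, 0, 0}
  have := @_root_.Submodule.pointwiseMulSemiringAction.eq_def.{0, 0, 0}
  have := @_root_.Submodule.pointwiseMulSemiringAction.eq_1.{0, 0, 0}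
  have := @_root_.Submodule.span.ringHom.eq_def.{0, 0}
  have := @_root_.Submodule.span.ringHom.eq_1.{0, 0}
  have := @_root_.IsCoprime.eq_def.{0}
  have := @_root_.Ideal.piOrderIso.congr_simp.{0, 0}
  have := @_root_.Ideal.piOrderIso.eq_def.{0, 0}
  trivial

theorem m16_1 : True := by
  have := @_root_.Ideal.piOrderIso.eq_1.{0, 0}
  have := @_root_.Ideal.map.eq_def.{0, 0, 0}
  have := @_root_.Ideal.relIsoOfSurjective.congr_simp.{0, 0, 0}
  have := @_root_.Ideal.relIsoOfSurjective.eq_def.{0, 0, 0}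
  have := @_root_.Ideal.relIsoOfSurjective.eq_1.{0, 0, 0}
  have := @_root_.Algebra.idealMap.eq_def.{0, 0}
  have := @_root_.Algebra.idealMap.eq_1.{0, 0}
  have := @_root_.Ideal.mapHom.congr_simp.{0, 0, 0}
  have := @_root_.Ideal.mapHom.eq_def.{0, 0, 0}
  have := @_root_.Ideal.mapHom.eq_1.{0, 0, 0}
  have := @_root_.Submodule.annihilator.eq_def.{0, 0}
  have := @_root_.Ideal.comap.eq_def.{0, 0, 0}
  have := @_root_.Ideal.comap.eq_1.{0, 0, 0}
  have := @_root_.Ideal.orderEmbeddingOfSurjective.eq_def.{0, 0, 0}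
  have := @_root_.Ideal.orderEmbeddingOfSurjective.eq_1.{0, 0, 0}
  have := @_root_.Ideal.giMapComap.congr_simp.{0, 0, 0}
  have := @_root_.Ideal.giMapComap.eq_def.{0, 0, 0}
  have := @_root_.Ideal.giMapComap.eq_1.{0, 0, 0}
  have := @_root_.RingEquiv.idealComapOrderIso.eq_def.{0, 0}
  have := @_root_.RingEquiv.idealComapOrderIso.eq_1.{0, 0}
  have := @_root_.Ideal.relIsoOfBijective.eq_def.{0, 0, 0}
  have := @_root_.Ideal.relIsoOfBijective.eq_1.{0, 0, 0}
  have := @_root_.Module.annihilator.eq_def.{0, 0}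
  have := @_root_.Module.annihilator.eq_1.{0, 0}
  have := @_root_.RingHom.liftOfSurjective.eq_def.{0, 0, 0}
  have := @_root_.RingHom.liftOfSurjective.eq_1.{0, 0, 0}
  have := @_root_.RingHom.ker.eq_def.{0, 0, 0}
  have := @_root_.RingHom.liftOfRightInverseAux.eq_def.{0, 0, 0}
  have := @_root_.RingHom.liftOfRightInverse.eq_def.{0, 0, 0}
  have := @_root_.RingHom.liftOfRightInverse.eq_1.{0, 0, 0}
  trivial

theorem m16_2 : True := by
  have := @_root_.Submonoid.isPrimal.congr_simp.{0}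
  have := @_root_.Submonoid.isPrimal.eq_def.{0}
  have := @_root_.Submonoid.isPrimal.eq_1.{0}
  have := @_root_.Module.Basis.unique.congr_simp.{0, 0}
  have := @_root_.Module.Basis.unique.eq_def.{0, 0}
  have := @_root_.Module.Basis.unique.eq_1.{0, 0}
  have := @_root_.Module.Basis.indexEquiv.eq_def.{0, 0, 0, 0}
  have := @_root_.Module.Basis.indexEquiv.eq_1.{0, 0, 0, 0}
  have := @_root_.Submodule.inductionOnRank.congr_simp.{0, 0, 0, 0}
  have := @_root_.Submodule.inductionOnRank.eq_def.{0, 0, 0, 0}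
  have := @_root_.Submodule.inductionOnRank.eq_1.{0, 0, 0, 0}
  have := @_root_.Algebra.IsQuadraticExtension.mk.congr_simp.{0, 0}
  have := @_root_.Set.matrix.eq_def.{0, 0, 0}
  have := @_root_.Set.matrix.eq_1.{0, 0, 0}
  have := @_root_.Matrix.row.eq_def.{0, 0, 0}
  have := @_root_.Matrix.map.eq_def.{0, 0, 0, 0}
  have := @_root_.Matrix.submatrix.eq_def.{0, 0, 0, 0, 0}
  have := @_root_.Matrix.ofAddEquiv.eq_def.{0, 0, 0}
  have := @_root_.Matrix.ofAddEquiv.eq_1.{0, 0, 0}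
  have := @_root_.Matrix.subDownRight.eq_def.{0}
  have := @_root_.Matrix.subDownRight.eq_1.{0}
  have := @_root_.Matrix.subUp.eq_def.{0}
  have := @_root_.Matrix.subUp.eq_1.{0}
  have := @_root_.Matrix.subRight.eq_def.{0}
  have := @_root_.Matrix.subRight.eq_1.{0}
  have := @_root_.Matrix.subLeft.eq_def.{0}
  have := @_root_.Matrix.subLeft.eq_1.{0}
  have := @_root_.Matrix.ofArray.eq_def.{0}
  have := @_root_.Matrix.of.eq_def.{0, 0, 0}
  have := @_root_.Matrix.subUpRight.eq_def.{0}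
  trivial

theorem m16_3 : True := by
  have := @_root_.Matrix.subUpRight.eq_1.{0}
  have := @_root_.Matrix.col.eq_def.{0, 0, 0}
  have := @_root_.Matrix.reindex.eq_def.{0, 0, 0, 0, 0}
  have := @_root_.Matrix.reindex.eq_1.{0, 0, 0, 0, 0}
  have := @_root_.Matrix.eq_def.{0, 0, 0}
  have := @_root_.Matrix.eq_1.{0, 0, 0}
  have := @_root_.Matrix.subDownLeft.eq_def.{0}
  have := @_root_.Matrix.subDownLeft.eq_1.{0}
  have := @_root_.Matrix.transpose.eq_def.{0, 0, 0}
  have := @_root_.Matrix.subDown.eq_def.{0}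
  have := @_root_.Matrix.subDown.eq_1.{0}
  have := @_root_.Matrix.subUpLeft.eq_def.{0}
  have := @_root_.Matrix.subUpLeft.eq_1.{0}
  have := @_root_.Matrix.diag.eq_def.{0, 0}
  have := @_root_.Matrix.diagonal.eq_def.{0, 0}
  have := @_root_.IsStablyFiniteRing.mk.congr_simp.{0}
  have := @_root_.dotProduct.eq_def.{0, 0}
  have := @_root_.Matrix.mulVec.addMonoidHomLeft.eq_def.{0, 0, 0}
  have := @_root_.Matrix.mulVec.addMonoidHomLeft.eq_1.{0, 0, 0}
  have := @_root_.Matrix.vecMul.eq_def.{0, 0, 0}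
  have := @_root_.Matrix.addMonoidHomMulRight.eq_def.{0, 0, 0, 0}
  have := @_root_.Matrix.addMonoidHomMulRight.eq_1.{0, 0, 0, 0}
  have := @_root_.Matrix.vecMulVec.eq_def.{0, 0, 0}
  have := @_root_.Matrix.addMonoidHomMulLeft.eq_def.{0, 0, 0, 0}
  have := @_root_.Matrix.addMonoidHomMulLeft.eq_1.{0, 0, 0, 0}
  have := @_root_.Matrix.mulVec.eq_def.{0, 0, 0}
  have := @_root_.Matrix.ofLinearEquiv.eq_def.{0, 0, 0, 0}
  have := @_root_.Matrix.ofLinearEquiv.eq_1.{0, 0, 0, 0}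
  have := @_root_.Matrix.scalarAlgHom.eq_def.{0, 0, 0}
  have := @_root_.Matrix.scalarAlgHom.eq_1.{0, 0, 0}
  trivial

theorem m16_4 : True := by
  have := @_root_.Equiv.mapMatrix.eq_def.{0, 0, 0, 0}
  have := @_root_.Equiv.mapMatrix.eq_1.{0, 0, 0, 0}
  have := @_root_.AddSubgroup.matrix.eq_def.{0, 0, 0}
  have := @_root_.AddSubgroup.matrix.eq_1.{0, 0, 0}
  have := @_root_.AddSubmonoid.matrix.eq_def.{0, 0, 0}
  have := @_root_.AddSubmonoid.matrix.eq_1.{0, 0, 0}
  have := @_root_.Matrix.diagonalRingHom.eq_def.{0, 0}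
  have := @_root_.Matrix.diagonalRingHom.eq_1.{0, 0}
  have := @_root_.Submodule.matrix.eq_def.{0, 0, 0, 0}
  have := @_root_.Submodule.matrix.eq_1.{0, 0, 0, 0}
  have := @_root_.Matrix.transposeAlgEquiv.eq_def.{0, 0, 0}
  have := @_root_.Matrix.transposeAlgEquiv.eq_1.{0, 0, 0}
  have := @_root_.Matrix.entryAddMonoidHom.eq_def.{0, 0, 0}
  have := @_root_.Matrix.entryAddMonoidHom.eq_1.{0, 0, 0}
  have := @_root_.LinearEquiv.mapMatrix.eq_def.{0, 0, 0, 0, 0, 0}
  have := @_root_.LinearEquiv.mapMatrix.eq_1.{0, 0, 0, 0, 0, 0}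
  have := @_root_.Matrix.diagonalAddMonoidHom.eq_def.{0, 0}
  have := @_root_.Matrix.diagonalAddMonoidHom.eq_1.{0, 0}
  have := @_root_.Subring.matrix.eq_def.{0, 0}
  have := @_root_.Subring.matrix.eq_1.{0, 0}
  have := @_root_.Matrix.piEquiv.eq_def.{0, 0, 0, 0}
  have := @_root_.Matrix.piEquiv.eq_1.{0, 0, 0, 0}
  have := @_root_.Matrix.transposeAddEquiv.eq_def.{0, 0, 0}
  have := @_root_.Matrix.transposeAddEquiv.eq_1.{0, 0, 0}
  have := @_root_.Matrix.diagLinearMap.eq_def.{0, 0, 0}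
  have := @_root_.Matrix.diagLinearMap.eq_1.{0, 0, 0}
  have := @_root_.Matrix.piRingEquiv.eq_def.{0, 0, 0}
  have := @_root_.Matrix.piRingEquiv.eq_1.{0, 0, 0}
  have := @_root_.Matrix.diagAddMonoidHom.eq_def.{0, 0}
  have := @_root_.Matrix.diagAddMonoidHom.eq_1.{0, 0}
  trivial

theorem m16_5 : True := by
  have := @_root_.AddEquiv.mapMatrix.eq_def.{0, 0, 0, 0}
  have := @_root_.AddEquiv.mapMatrix.eq_1.{0, 0, 0, 0}
  have := @_root_.RingHom.mapMatrix.eq_def.{0, 0, 0}
  have := @_root_.RingHom.mapMatrix.eq_1.{0, 0, 0}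
  have := @_root_.AlgEquiv.mapMatrix.eq_def.{0, 0, 0, 0}
  have := @_root_.AlgEquiv.mapMatrix.eq_1.{0, 0, 0, 0}
  have := @_root_.RingEquiv.mopMatrix.eq_def.{0, 0}
  have := @_root_.RingEquiv.mopMatrix.eq_1.{0, 0}
  have := @_root_.Matrix.transposeLinearEquiv.eq_def.{0, 0, 0, 0}
  have := @_root_.Matrix.transposeLinearEquiv.eq_1.{0, 0, 0, 0}
  have := @_root_.LinearMap.mapMatrix.eq_def.{0, 0, 0, 0, 0, 0}
  have := @_root_.LinearMap.mapMatrix.eq_1.{0, 0, 0, 0, 0, 0}
  have := @_root_.Matrix.diagonalAlgHom.eq_def.{0, 0, 0}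
  have := @_root_.Matrix.diagonalAlgHom.eq_1.{0, 0, 0}
  have := @_root_.AlgEquiv.mopMatrix.eq_def.{0, 0, 0}
  have := @_root_.AlgEquiv.mopMatrix.eq_1.{0, 0, 0}
  have := @_root_.RingEquiv.mapMatrix.eq_def.{0, 0, 0}
  have := @_root_.RingEquiv.mapMatrix.eq_1.{0, 0, 0}
  have := @_root_.AlgHom.mapMatrix.eq_def.{0, 0, 0, 0}
  have := @_root_.AlgHom.mapMatrix.eq_1.{0, 0, 0, 0}
  have := @_root_.Matrix.piAddEquiv.eq_def.{0, 0, 0, 0}
  have := @_root_.Matrix.piAddEquiv.eq_1.{0, 0, 0, 0}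
  have := @_root_.Matrix.piLinearEquiv.eq_def.{0, 0, 0, 0, 0}
  have := @_root_.Matrix.piLinearEquiv.eq_1.{0, 0, 0, 0, 0}
  have := @_root_.Matrix.entryAddHom.eq_def.{0, 0, 0}
  have := @_root_.Matrix.entryAddHom.eq_1.{0, 0, 0}
  have := @_root_.Matrix.scalar.eq_def.{0, 0}
  have := @_root_.LinearMap.mapMatrixLinear.eq_def.{0, 0, 0, 0, 0, 0, 0}
  have := @_root_.LinearMap.mapMatrixLinear.eq_1.{0, 0, 0, 0, 0, 0, 0}
  have := @_root_.Matrix.piAlgEquiv.eq_def.{0, 0, 0, 0}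
  trivial

theorem m16_6 : True := by
  have := @_root_.Matrix.piAlgEquiv.eq_1.{0, 0, 0, 0}
  have := @_root_.Subsemiring.matrix.eq_def.{0, 0}
  have := @_root_.Subsemiring.matrix.eq_1.{0, 0}
  have := @_root_.Matrix.entryLinearMap.eq_def.{0, 0, 0, 0}
  have := @_root_.Matrix.entryLinearMap.eq_1.{0, 0, 0, 0}
  have := @_root_.Matrix.transposeRingEquiv.eq_def.{0, 0}
  have := @_root_.Matrix.transposeRingEquiv.eq_1.{0, 0}
  have := @_root_.Matrix.diagonalLinearMap.eq_def.{0, 0, 0}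
  have := @_root_.Matrix.diagonalLinearMap.eq_1.{0, 0, 0}
  have := @_root_.AddMonoidHom.mapMatrix.eq_def.{0, 0, 0, 0}
  have := @_root_.AddMonoidHom.mapMatrix.eq_1.{0, 0, 0, 0}
  have := @_root_.Matrix.liftLinear.eq_def.{0, 0, 0, 0, 0, 0}
  have := @_root_.Matrix.singleAddMonoidHom.eq_def.{0, 0, 0}
  have := @_root_.Matrix.singleAddMonoidHom.eq_1.{0, 0, 0}
  have := @_root_.Matrix.singleLinearMap.eq_def.{0, 0, 0, 0}
  have := @_root_.Matrix.singleLinearMap.eq_1.{0, 0, 0, 0}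
  have := @_root_.Matrix.single.eq_def.{0, 0, 0}
  have := @_root_.Module.Basis.matrix.eq_def.{0, 0, 0, 0, 0}
  have := @_root_.Matrix.stdBasis.eq_def.{0, 0, 0}
  have := @_root_.Sym.equivNatSumOfFintype.eq_def.{0}
  have := @_root_.Sym.equivNatSumOfFintype.eq_1.{0}
  have := @_root_.Multiset.toFinsupp.eq_def.{0}
  have := @_root_.Multiset.toFinsupp.eq_1.{0}
  have := @_root_.Sym.equivNatSum.eq_def.{0}
  have := @_root_.Sym.equivNatSum.eq_1.{0}
  have := @_root_.Finsupp.toMultiset.eq_def.{0}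
  have := @_root_.Finsupp.toMultiset.eq_1.{0}
  have := @_root_.Finsupp.orderIsoMultiset.eq_def.{0}
  have := @_root_.Finsupp.orderIsoMultiset.eq_1.{0}
  have := @_root_.LinearEquiv.ofFinrankEq.eq_def.{0, 0, 0}
  trivial

theorem m16_7 : True := by
  have := @_root_.LinearEquiv.ofFinrankEq.eq_1.{0, 0, 0}
  have := @_root_.LinearEquiv.ofRankEq.congr_simp.{0, 0}
  have := @_root_.LinearEquiv.ofRankEq.eq_def.{0, 0}
  have := @_root_.LinearEquiv.ofRankEq.eq_1.{0, 0}
  have := @_root_.LinearEquiv.smul_id_of_finrank_eq_one.congr_simp.{0, 0}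
  have := @_root_.LinearEquiv.smul_id_of_finrank_eq_one.eq_def.{0, 0}
  have := @_root_.Module.finBasis.eq_def.{0, 0}
  have := @_root_.Module.finBasis.eq_1.{0, 0}
  have := @_root_.Module.basisUnique.eq_def.{0, 0, 0}
  have := @_root_.Module.basisUnique.eq_1.{0, 0, 0}
  have := @_root_.Module.finBasisOfFinrankEq.eq_def.{0, 0}
  have := @_root_.Module.finBasisOfFinrankEq.eq_1.{0, 0}
  have := @_root_.LinearEquiv.ofLiftRankEq.congr_simp.{0, 0, 0}
  have := @_root_.LinearEquiv.ofLiftRankEq.eq_def.{0, 0, 0}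
  have := @_root_.LinearEquiv.ofLiftRankEq.eq_1.{0, 0, 0}
  have := @_root_.Set.iUnionLift.eq_def.{0, 0, 0}
  have := @_root_.Set.iUnionLift.eq_1.{0, 0, 0}
  have := @_root_.Set.liftCover.eq_def.{0, 0, 0}
  have := @_root_.Set.liftCover.eq_1.{0, 0, 0}
  have := @_root_.Submodule.toNonUnitalSubalgebra.congr_simp.{0, 0}
  have := @_root_.Submodule.toNonUnitalSubalgebra.eq_def.{0, 0}
  have := @_root_.Submodule.toNonUnitalSubalgebra.eq_1.{0, 0}
  have := @_root_.NonUnitalSubalgebra.toSubmodule'.eq_def.{0, 0}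
  have := @_root_.NonUnitalSubalgebra.toSubmodule'.eq_1.{0, 0}
  have := @_root_.NonUnitalSubalgebra.comap.congr_simp.{0, 0, 0, 0}
  have := @_root_.NonUnitalSubalgebra.comap.eq_def.{0, 0, 0, 0}
  have := @_root_.NonUnitalSubalgebra.comap.eq_1.{0, 0, 0, 0}
  have := @_root_.NonUnitalSubalgebra.iSupLift.eq_def.{0, 0, 0, 0}
  have := @_root_.NonUnitalSubalgebra.iSupLift.eq_1.{0, 0, 0, 0}
  have := @_root_.NonUnitalAlgHom.range.eq_def.{0, 0, 0, 0}
  trivial

theorem m16_8 : True := by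
  have := @_root_.NonUnitalAlgHom.range.eq_1.{0, 0, 0, 0}
  have := @_root_.nonUnitalSubalgebraOfNonUnitalSubring.eq_def.{0}
  have := @_root_.nonUnitalSubalgebraOfNonUnitalSubring.eq_1.{0}
  have := @_root_.NonUnitalSubalgebra.copy.congr_simp.{0, 0}
  have := @_root_.NonUnitalSubalgebra.copy.eq_def.{0, 0}
  have := @_root_.NonUnitalSubalgebra.copy.eq_1.{0, 0}
  have := @_root_.NonUnitalSubalgebra.toSubmoduleEquiv.eq_def.{0, 0}
  have := @_root_.NonUnitalSubalgebra.toSubmoduleEquiv.eq_1.{0, 0}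
  have := @_root_.NonUnitalSubalgebraClass.subtype.eq_def.{0, 0, 0}
  have := @_root_.NonUnitalSubalgebraClass.subtype.eq_1.{0, 0, 0}
  have := @_root_.NonUnitalSubalgebra.toSubmodule.eq_def.{0, 0}
  have := @_root_.NonUnitalSubalgebra.toSubmodule.eq_1.{0, 0}
  have := @_root_.NonUnitalSubalgebra.toNonUnitalSubring'.eq_def.{0, 0}
  have := @_root_.NonUnitalSubalgebra.toNonUnitalSubring'.eq_1.{0, 0}
  have := @_root_.NonUnitalSubalgebra.toNonUnitalSubring.eq_def.{0, 0}
  have := @_root_.NonUnitalSubalgebra.toNonUnitalSubring.eq_1.{0, 0}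
  have := @_root_.NonUnitalSubalgebra.prod.eq_def.{0, 0, 0}
  have := @_root_.NonUnitalSubalgebra.prod.eq_1.{0, 0, 0}
  have := @_root_.NonUnitalAlgebra.adjoin.eq_def.{0, 0}
  have := @_root_.NonUnitalAlgebra.adjoin.eq_1.{0, 0}
  have := @_root_.NonUnitalSubalgebra.toNonUnitalSubsemiring'.eq_def.{0, 0}
  have := @_root_.NonUnitalSubalgebra.toNonUnitalSubsemiring'.eq_1.{0, 0}
  have := @_root_.NonUnitalAlgHom.codRestrict.congr_simp.{0, 0, 0, 0}
  have := @_root_.NonUnitalAlgHom.codRestrict.eq_def.{0, 0, 0, 0}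
  have := @_root_.NonUnitalAlgHom.codRestrict.eq_1.{0, 0, 0, 0}
  have := @_root_.NonUnitalAlgebra.adjoinNonUnitalCommSemiringOfComm.congr_simp.{0, 0}
  have := @_root_.NonUnitalAlgebra.adjoinNonUnitalCommSemiringOfComm.eq_def.{0, 0}
  have := @_root_.NonUnitalAlgebra.adjoinNonUnitalCommSemiringOfComm.eq_1.{0, 0}
  have := @_root_.NonUnitalSubalgebra.mk.congr_simp.{0, 0}
  have := @_root_.NonUnitalAlgebra.toTop.eq_def.{0, 0}
  trivial

theorem m16_9 : True := by
  have := @_root_.NonUnitalAlgebra.toTop.eq_1.{0, 0}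
  have := @_root_.nonUnitalSubalgebraOfNonUnitalSubsemiring.eq_def.{0}
  have := @_root_.nonUnitalSubalgebraOfNonUnitalSubsemiring.eq_1.{0}
  have := @_root_.NonUnitalSubalgebra.map.eq_def.{0, 0, 0, 0}
  have := @_root_.NonUnitalSubalgebra.map.eq_1.{0, 0, 0, 0}
  have := @_root_.NonUnitalSubalgebra.center.congr_simp.{0, 0}
  have := @_root_.NonUnitalSubalgebra.center.eq_def.{0, 0}
  have := @_root_.NonUnitalSubalgebra.center.eq_1.{0, 0}
  have := @_root_.NonUnitalSubalgebra.inclusion.eq_def.{0, 0}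
  have := @_root_.NonUnitalSubalgebra.inclusion.eq_1.{0, 0}
  have := @_root_.NonUnitalAlgebra.adjoinNonUnitalCommRingOfComm.congr_simp.{0, 0}
  have := @_root_.NonUnitalAlgebra.adjoinNonUnitalCommRingOfComm.eq_def.{0, 0}
  have := @_root_.NonUnitalAlgebra.adjoinNonUnitalCommRingOfComm.eq_1.{0, 0}
  have := @_root_.NonUnitalAlgebra.gi.eq_def.{0, 0}
  have := @_root_.NonUnitalAlgebra.gi.eq_1.{0, 0}
  have := @_root_.NonUnitalSubalgebra.centralizer.eq_def.{0, 0}
  have := @_root_.NonUnitalSubalgebra.centralizer.eq_1.{0, 0}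
  have := @_root_.NonUnitalSubalgebra.ofClass.congr_simp.{0, 0, 0}
  have := @_root_.NonUnitalSubalgebra.ofClass.eq_def.{0, 0, 0}
  have := @_root_.NonUnitalSubalgebra.ofClass.eq_1.{0, 0, 0}
  have := @_root_.NonUnitalAlgHom.rangeRestrict.eq_def.{0, 0, 0, 0}
  have := @_root_.NonUnitalAlgHom.rangeRestrict.eq_1.{0, 0, 0, 0}
  have := @_root_.NonUnitalAlgHom.equalizer.eq_def.{0, 0, 0, 0}
  have := @_root_.NonUnitalAlgHom.equalizer.eq_1.{0, 0, 0, 0}
  have := @_root_.AddCon.orderIsoOp.eq_def.{0}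
  have := @_root_.Con.op.eq_def.{0}
  have := @_root_.AddCon.unop.eq_def.{0}
  have := @_root_.AddCon.op.eq_def.{0}
  have := @_root_.Con.unop.eq_def.{0}
  have := @_root_.Con.orderIsoOp.eq_def.{0}
  trivial

theorem m16_10 : True := by
  have := @_root_.Subalgebra.toAddSubmonoid.eq_def.{0, 0}
  have := @_root_.Subalgebra.toAddSubmonoid.eq_1.{0, 0}
  have := @_root_.AlgHom.range.eq_def.{0, 0, 0}
  have := @_root_.AlgHom.range.eq_1.{0, 0, 0}
  have := @_root_.AlgEquiv.ofLeftInverse.congr_simp.{0, 0, 0}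
  have := @_root_.AlgEquiv.ofLeftInverse.eq_def.{0, 0, 0}
  have := @_root_.AlgEquiv.ofLeftInverse.eq_1.{0, 0, 0}
  have := @_root_.Subalgebra.copy.eq_def.{0, 0}
  have := @_root_.Subalgebra.copy.eq_1.{0, 0}
  have := @_root_.AlgEquiv.ofInjectiveField.eq_def.{0, 0, 0}
  have := @_root_.AlgEquiv.ofInjectiveField.eq_1.{0, 0, 0}
  have := @_root_.Subalgebra.toSubring.eq_def.{0, 0}
  have := @_root_.Subalgebra.toSubring.eq_1.{0, 0}
  have := @_root_.subalgebraOfSubring.eq_def.{0}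
  have := @_root_.subalgebraOfSubring.eq_1.{0}
  have := @_root_.Submodule.toSubalgebra.eq_def.{0, 0}
  have := @_root_.Submodule.toSubalgebra.eq_1.{0, 0}
  have := @_root_.NonUnitalSubalgebra.toSubalgebra.congr_simp.{0, 0}
  have := @_root_.NonUnitalSubalgebra.toSubalgebra.eq_def.{0, 0}
  have := @_root_.NonUnitalSubalgebra.toSubalgebra.eq_1.{0, 0}
  have := @_root_.Subalgebra.toNonUnitalSubalgebra.eq_def.{0, 0}
  have := @_root_.Subalgebra.toNonUnitalSubalgebra.eq_1.{0, 0}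
  have := @_root_.AlgHom.subalgebraMap.eq_def.{0, 0, 0}
  have := @_root_.AlgHom.subalgebraMap.eq_1.{0, 0, 0}
  have := @_root_.AlgHom.equalizer.eq_def.{0, 0, 0}
  have := @_root_.AlgHom.equalizer.eq_1.{0, 0, 0}
  have := @_root_.Subalgebra.toSubmoduleEquiv.eq_def.{0, 0}
  have := @_root_.Subalgebra.toSubmoduleEquiv.eq_1.{0, 0}
  have := @_root_.Subalgebra.toSubmodule.eq_def.{0, 0}
  have := @_root_.Subalgebra.toSubmodule.eq_1.{0, 0}
  trivial

theorem m16_11 : True := by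
  have := @_root_.SubalgebraClass.val.eq_def.{0, 0, 0}
  have := @_root_.Subalgebra.val.eq_def.{0, 0}
  have := @_root_.subalgebraOfSubsemiring.eq_def.{0}
  have := @_root_.subalgebraOfSubsemiring.eq_1.{0}
  have := @_root_.AlgHom.codRestrict.eq_def.{0, 0, 0}
  have := @_root_.AlgHom.codRestrict.eq_1.{0, 0, 0}
  have := @_root_.AlgHom.rangeRestrict.eq_def.{0, 0, 0}
  have := @_root_.AlgHom.rangeRestrict.eq_1.{0, 0, 0}
  have := @_root_.AlgEquiv.ofInjective.eq_def.{0, 0, 0}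
  have := @_root_.AlgEquiv.ofInjective.eq_1.{0, 0, 0}
  have := @_root_.Subalgebra.ofClass.congr_simp.{0, 0, 0}
  have := @_root_.Subalgebra.ofClass.eq_def.{0, 0, 0}
  have := @_root_.Subalgebra.ofClass.eq_1.{0, 0, 0}
  have := @_root_.Subalgebra.centralizer.eq_def.{0, 0}
  have := @_root_.Subalgebra.centralizer.eq_1.{0, 0}
  have := @_root_.Subalgebra.map.eq_def.{0, 0, 0}
  have := @_root_.Subalgebra.map.eq_1.{0, 0, 0}
  have := @_root_.Subalgebra.center.eq_def.{0, 0}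
  have := @_root_.Subalgebra.center.eq_1.{0, 0}
  have := @_root_.Subalgebra.equivMapOfInjective.congr_simp.{0, 0, 0}
  have := @_root_.Subalgebra.equivMapOfInjective.eq_def.{0, 0, 0}
  have := @_root_.Subalgebra.equivMapOfInjective.eq_1.{0, 0, 0}
  have := @_root_.Subalgebra.inclusion.eq_def.{0, 0}
  have := @_root_.Subalgebra.inclusion.eq_1.{0, 0}
  have := @_root_.Subalgebra.comap.eq_def.{0, 0, 0}
  have := @_root_.Subalgebra.comap.eq_1.{0, 0, 0}
  have := @_root_.AlgEquiv.subalgebraMap.eq_def.{0, 0, 0}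
  have := @_root_.AlgEquiv.subalgebraMap.eq_1.{0, 0, 0}
  have := @_root_.Subalgebra.equivOfEq.eq_def.{0, 0}
  have := @_root_.Subalgebra.equivOfEq.eq_1.{0, 0}
  trivial

theorem m16_12 : True := by
  have := @_root_.Subalgebra.saturation.eq_def.{0, 0}
  have := @_root_.Subalgebra.saturation.eq_1.{0, 0}
  have := @_root_.Algebra.botEquiv.congr_simp.{0, 0}
  have := @_root_.Algebra.botEquiv.eq_def.{0, 0}
  have := @_root_.Algebra.botEquiv.eq_1.{0, 0}
  have := @_root_.Algebra.adjoinCommRingOfComm.congr_simp.{0, 0}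
  have := @_root_.Algebra.adjoinCommRingOfComm.eq_def.{0, 0}
  have := @_root_.Algebra.adjoinCommRingOfComm.eq_1.{0, 0}
  have := @_root_.Algebra.subalgebra_adjoin.eq_def
  have := @_root_.Algebra.subalgebra_adjoin.eq_1
  have := @_root_.Algebra.instCoeDepSubtypeMemSubalgebraAdjoinOfCoeAdjoinAux.congr_simp.{0, 0}
  have := @_root_.Algebra.instCoeDepSubtypeMemSubalgebraAdjoinOfCoeAdjoinAux.eq_def.{0, 0}
  have := @_root_.Algebra.instCoeDepSubtypeMemSubalgebraAdjoinOfCoeAdjoinAux.eq_1.{0, 0}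
  have := @_root_.Subalgebra.toNonUnitalSubalgebraOrderEmbedding.eq_def.{0, 0}
  have := @_root_.Subalgebra.toNonUnitalSubalgebraOrderEmbedding.eq_1.{0, 0}
  have := @_root_.Algebra.CoeAdjoinAux.mk.congr_simp.{0}
  have := @_root_.Algebra.toTop.eq_def.{0, 0}
  have := @_root_.Algebra.toTop.eq_1.{0, 0}
  have := @_root_.Algebra.botEquivOfInjective.congr_simp.{0, 0}
  have := @_root_.Algebra.botEquivOfInjective.eq_def.{0, 0}
  have := @_root_.Algebra.botEquivOfInjective.eq_1.{0, 0}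
  have := @_root_.Algebra.gi.eq_def.{0, 0}
  have := @_root_.Algebra.gi.eq_1.{0, 0}
  have := @_root_.Subalgebra.topEquiv.eq_def.{0, 0}
  have := @_root_.Subalgebra.topEquiv.eq_1.{0, 0}
  have := @_root_.Subsemiring.closureEquivAdjoinNat.eq_def.{0}
  have := @_root_.Subsemiring.closureEquivAdjoinNat.eq_1.{0}
  have := @_root_.Algebra.adjoinCommSemiringOfComm.congr_simp.{0, 0}
  have := @_root_.Algebra.adjoinCommSemiringOfComm.eq_def.{0, 0}
  have := @_root_.Algebra.adjoinCommSemiringOfComm.eq_1.{0, 0}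
  trivial

theorem m16_13 : True := by
  have := @_root_.Subring.closureEquivAdjoinInt.eq_def.{0}
  have := @_root_.Subring.closureEquivAdjoinInt.eq_1.{0}
  have := @_root_.Algebra.adjoin.eq_def.{0, 0}
  have := @_root_.Subalgebra.ofRestrictScalars.congr_simp.{0, 0, 0, 0}
  have := @_root_.Subalgebra.ofRestrictScalars.eq_def.{0, 0, 0, 0}
  have := @_root_.Subalgebra.restrictScalars.eq_def.{0, 0, 0}
  have := @_root_.Subalgebra.restrictScalars.eq_1.{0, 0, 0}
  have := @_root_.Matrix.comp.eq_def.{0, 0, 0, 0, 0}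
  have := @_root_.Matrix.compAddEquiv.eq_def.{0, 0, 0, 0, 0}
  have := @_root_.Matrix.compAddEquiv.eq_1.{0, 0, 0, 0, 0}
  have := @_root_.Matrix.compAlgEquiv.eq_def.{0, 0, 0, 0}
  have := @_root_.Matrix.compAlgEquiv.eq_1.{0, 0, 0, 0}
  have := @_root_.Matrix.compLinearEquiv.eq_def.{0, 0, 0, 0, 0, 0}
  have := @_root_.Matrix.compLinearEquiv.eq_1.{0, 0, 0, 0, 0, 0}
  have := @_root_.Matrix.compRingEquiv.eq_def.{0, 0, 0}
  have := @_root_.Matrix.compRingEquiv.eq_1.{0, 0, 0}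
  have := @_root_.starMulOfComm.eq_def.{0}
  have := @_root_.starMulOfComm.eq_1.{0}
  have := @_root_.InvolutiveStar.mk.congr_simp.{0}
  have := @_root_.starRingEquiv.eq_def.{0}
  have := @_root_.starRingEquiv.eq_1.{0}
  have := @_root_.Function.Injective.involutiveStar.congr_simp.{0, 0}
  have := @_root_.Function.Injective.involutiveStar.eq_def.{0, 0}
  have := @_root_.Function.Injective.involutiveStar.eq_1.{0, 0}
  have := @_root_.starMulAut.eq_def.{0}
  have := @_root_.starMulAut.eq_1.{0}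
  have := @_root_.Function.Injective.starMul.congr_simp.{0, 0}
  have := @_root_.Function.Injective.starMul.eq_def.{0, 0}
  have := @_root_.Function.Injective.starMul.eq_1.{0, 0}
  have := @_root_.Function.Injective.starAddMonoid.congr_simp.{0, 0}
  trivial

theorem m16_14 : True := by
  have := @_root_.Function.Injective.starAddMonoid.eq_def.{0, 0}
  have := @_root_.Function.Injective.starAddMonoid.eq_1.{0, 0}
  have := @_root_.TrivialStar.mk.congr_simp.{0}
  have := @_root_.starRingAut.eq_def.{0}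
  have := @_root_.starRingAut.eq_1.{0}
  have := @_root_.StarAddMonoid.mk.congr_simp.{0}
  have := @_root_.starAddEquiv.eq_def.{0}
  have := @_root_.starAddEquiv.eq_1.{0}
  have := @_root_.starRingEnd.eq_def.{0}
  have := @_root_.starRingEnd.eq_1.{0}
  have := @_root_.StarMemClass.mk.congr_simp.{0, 0}
  have := @_root_.Function.Injective.starRing.congr_simp.{0, 0}
  have := @_root_.Function.Injective.starRing.eq_def.{0, 0}
  have := @_root_.Function.Injective.starRing.eq_1.{0, 0}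
  have := @_root_.StarModule.mk.congr_simp.{0, 0}
  have := @_root_.starMulEquiv.eq_def.{0}
  have := @_root_.starMulEquiv.eq_1.{0}
  have := @_root_.Equiv.Perm.star.eq_def.{0}
  have := @_root_.Equiv.Perm.star.eq_1.{0}
  have := @_root_.StarRing.mk.congr_simp.{0}
  have := @_root_.StarHomClass.mk.congr_simp.{0, 0, 0}
  have := @_root_.StarMul.mk.congr_simp.{0}
  have := @_root_.starRingOfComm.eq_def.{0}
  have := @_root_.starRingOfComm.eq_1.{0}
  have := @_root_.IsStarNormal.mk.congr_simp.{0}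
  have := @_root_.IsSelfAdjoint.eq_def.{0}
  have := @_root_.skewAdjoint.eq_def.{0}
  have := @_root_.skewAdjoint.eq_1.{0}
  have := @_root_.selfAdjoint.eq_def.{0}
  have := @_root_.selfAdjoint.eq_1.{0}
  trivial

end Cfsg.Rz
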