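import Cfsg.Agent.Rz.M16

/-! Generated file: forces on-demand equation and congruence lemmas to be created once. -/

set_option linter.all false

namespace Cfsg.Rz

theorem m17_0 : True := by
  have := @_root_.starLinearEquiv.eq_def.{0, 0}
  have := @_root_.starLinearEquiv.eq_1.{0, 0}
  have := @_root_.selfAdjointPart.eq_def.{0, 0}
  have := @_root_.selfAdjointPart.eq_1.{0, 0}
  have := @_root_.skewAdjointPart.eq_def.{0, 0}
  have := @_root_.skewAdjointPart.eq_1.{0, 0}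
  have := @_root_.selfAdjoint.submodule.eq_def.{0, 0}
  have := @_root_.skewAdjoint.submodule.congr_simp.{0, 0}
  have := @_root_.skewAdjoint.submodule.eq_def.{0, 0}
  have := @_root_.skewAdjoint.submodule.eq_1.{0, 0}
  have := @_root_.StarModule.decomposeProdAdjoint.eq_def.{0, 0}
  have := @_root_.StarModule.decomposeProdAdjoint.eq_1.{0, 0}
  have := @_root_.NonUnitalStarRingHomClass.mk.congr_simp.{0, 0, 0}
  have := @_root_.NonUnitalStarRingHom.comp.eq_def.{0, 0, 0}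
  have := @_root_.NonUnitalStarRingHom.comp.eq_1.{0, 0, 0}
  have := @_root_.StarRingEquivClass.mk.congr_simp.{0, 0, 0}
  have := @_root_.StarRingEquiv.symm.eq_def.{0, 0}
  have := @_root_.StarRingEquiv.symm.eq_1.{0, 0}
  have := @_root_.StarRingEquiv.trans.eq_def.{0, 0, 0}
  have := @_root_.StarRingEquiv.trans.eq_1.{0, 0, 0}
  have := @_root_.NonUnitalStarRingHomClass.toNonUnitalStarRingHom.congr_simp.{0, 0, 0}
  have := @_root_.NonUnitalStarRingHomClass.toNonUnitalStarRingHom.eq_def.{0, 0, 0}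
  have := @_root_.NonUnitalStarRingHomClass.toNonUnitalStarRingHom.eq_1.{0, 0, 0}
  have := @_root_.NonUnitalStarRingHom.mk.congr_simp.{0, 0}
  have := @_root_.NonUnitalStarRingHom.id.eq_def.{0}
  have := @_root_.NonUnitalStarRingHom.id.eq_1.{0}
  have := @_root_.StarRingEquiv.ofBijective.congr_simp.{0, 0, 0}
  have := @_root_.StarRingEquiv.ofBijective.eq_def.{0, 0, 0}
  have := @_root_.StarRingEquiv.ofBijective.eq_1.{0, 0, 0}
  have := @_root_.NonUnitalStarRingHom.copy.congr_simp.{0, 0}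
  trivial

theorem m17_1 : True := by
  have := @_root_.NonUnitalStarRingHom.copy.eq_def.{0, 0}
  have := @_root_.NonUnitalStarRingHom.copy.eq_1.{0, 0}
  have := @_root_.StarRingEquivClass.toStarRingEquiv.eq_def.{0, 0, 0}
  have := @_root_.StarRingEquivClass.toStarRingEquiv.eq_1.{0, 0, 0}
  have := @_root_.NonUnitalStarRingHomClass.congr_simp.{0, 0, 0}
  have := @_root_.StarRingEquiv.refl.eq_def.{0}
  have := @_root_.StarRingEquiv.refl.eq_1.{0}
  have := @_root_.StarRingEquiv.ofStarRingHom.congr_simp.{0, 0, 0, 0}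
  have := @_root_.StarRingEquiv.ofStarRingHom.eq_def.{0, 0, 0, 0}
  have := @_root_.StarRingEquiv.ofStarRingHom.eq_1.{0, 0, 0, 0}
  have := @_root_.StarAlgHom.fst.eq_def.{0, 0, 0}
  have := @_root_.StarAlgHom.fst.eq_1.{0, 0, 0}
  have := @_root_.StarAlgEquiv.symm.eq_def.{0, 0, 0}
  have := @_root_.StarAlgEquiv.symm.eq_1.{0, 0, 0}
  have := @_root_.StarAlgHom.prod.eq_def.{0, 0, 0, 0}
  have := @_root_.StarAlgHom.prod.eq_1.{0, 0, 0, 0}
  have := @_root_.StarAlgHom.toNonUnitalStarAlgHom.eq_def.{0, 0, 0}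
  have := @_root_.StarAlgHom.toNonUnitalStarAlgHom.eq_1.{0, 0, 0}
  have := @_root_.StarAlgHom.comp.eq_def.{0, 0, 0, 0}
  have := @_root_.StarAlgHom.comp.eq_1.{0, 0, 0, 0}
  have := @_root_.NonUnitalStarAlgHom.id.eq_def.{0, 0}
  have := @_root_.NonUnitalStarAlgHom.id.eq_1.{0, 0}
  have := @_root_.NonUnitalStarAlgHom.restrictScalars.eq_def.{0, 0, 0, 0}
  have := @_root_.NonUnitalStarAlgHom.restrictScalars.eq_1.{0, 0, 0, 0}
  have := @_root_.NonUnitalStarAlgHom.prod.eq_def.{0, 0, 0, 0}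
  have := @_root_.NonUnitalStarAlgHom.prod.eq_1.{0, 0, 0, 0}
  have := @_root_.StarAlgEquiv.trans.eq_def.{0, 0, 0, 0}
  have := @_root_.StarAlgEquiv.trans.eq_1.{0, 0, 0, 0}
  have := @_root_.NonUnitalStarAlgHom.inr.eq_def.{0, 0, 0}
  have := @_root_.NonUnitalStarAlgHom.inr.eq_1.{0, 0, 0}
  trivial

theorem m17_2 : True := by
  have := @_root_.StarAlgEquiv.toNonUnitalStarAlgHom.eq_def.{0, 0, 0}
  have := @_root_.StarAlgEquiv.toNonUnitalStarAlgHom.eq_1.{0, 0, 0}
  have := @_root_.StarAlgEquiv.arrowCongr.eq_def.{0, 0, 0, 0, 0}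
  have := @_root_.StarAlgEquiv.arrowCongr.eq_1.{0, 0, 0, 0, 0}
  have := @_root_.StarAlgEquivClass.toStarAlgEquiv.eq_def.{0, 0, 0, 0}
  have := @_root_.StarAlgEquivClass.toStarAlgEquiv.eq_1.{0, 0, 0, 0}
  have := @_root_.NonUnitalStarAlgHomClass.toNonUnitalStarAlgHom.eq_def.{0, 0, 0, 0}
  have := @_root_.NonUnitalStarAlgHomClass.toNonUnitalStarAlgHom.eq_1.{0, 0, 0, 0}
  have := @_root_.StarAlgEquiv.ofNonUnitalStarAlgHom.congr_simp.{0, 0, 0}
  have := @_root_.StarAlgEquiv.ofNonUnitalStarAlgHom.eq_def.{0, 0, 0}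
  have := @_root_.StarAlgEquiv.ofNonUnitalStarAlgHom.eq_1.{0, 0, 0}
  have := @_root_.NonUnitalStarAlgHom.snd.eq_def.{0, 0, 0}
  have := @_root_.NonUnitalStarAlgHom.snd.eq_1.{0, 0, 0}
  have := @_root_.StarAlgEquiv.toAlgEquiv.eq_def.{0, 0, 0}
  have := @_root_.StarAlgEquiv.toAlgEquiv.eq_1.{0, 0, 0}
  have := @_root_.Pi.evalStarAlgHom.eq_def.{0, 0, 0}
  have := @_root_.Pi.evalStarAlgHom.eq_1.{0, 0, 0}
  have := @_root_.StarAlgEquiv.ofStarAlgHom.congr_simp.{0, 0, 0}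
  have := @_root_.StarAlgEquiv.ofStarAlgHom.eq_def.{0, 0, 0}
  have := @_root_.StarAlgEquiv.ofStarAlgHom.eq_1.{0, 0, 0}
  have := @_root_.StarAlgHom.ofId.eq_def.{0, 0}
  have := @_root_.StarAlgHom.ofId.eq_1.{0, 0}
  have := @_root_.NonUnitalAlgEquivClass.mk.congr_simp.{0, 0, 0, 0}
  have := @_root_.StarAlgHom.prodEquiv.eq_def.{0, 0, 0, 0}
  have := @_root_.StarAlgHom.prodEquiv.eq_1.{0, 0, 0, 0}
  have := @_root_.StarAlgEquiv.refl.eq_def.{0, 0}
  have := @_root_.StarAlgEquiv.refl.eq_1.{0, 0}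
  have := @_root_.NonUnitalStarAlgHom.copy.congr_simp.{0, 0, 0}
  have := @_root_.NonUnitalStarAlgHom.copy.eq_def.{0, 0, 0}
  have := @_root_.NonUnitalStarAlgHom.copy.eq_1.{0, 0, 0}
  trivial

theorem m17_3 : True := by
  have := @_root_.StarAlgEquiv.toStarAlgHom.eq_def.{0, 0, 0}
  have := @_root_.StarAlgEquiv.toStarAlgHom.eq_1.{0, 0, 0}
  have := @_root_.StarAlgEquiv.arrowCongr'.eq_def.{0, 0, 0, 0, 0}
  have := @_root_.StarAlgEquiv.arrowCongr'.eq_1.{0, 0, 0, 0, 0}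
  have := @_root_.StarAlgHom.snd.eq_def.{0, 0, 0}
  have := @_root_.StarAlgHom.snd.eq_1.{0, 0, 0}
  have := @_root_.NonUnitalStarAlgHom.fst.eq_def.{0, 0, 0}
  have := @_root_.NonUnitalStarAlgHom.fst.eq_1.{0, 0, 0}
  have := @_root_.NonUnitalStarAlgHom.inl.eq_def.{0, 0, 0}
  have := @_root_.NonUnitalStarAlgHom.inl.eq_1.{0, 0, 0}
  have := @_root_.NonUnitalStarAlgHom.prodEquiv.eq_def.{0, 0, 0, 0}
  have := @_root_.NonUnitalStarAlgHom.prodEquiv.eq_1.{0, 0, 0, 0}
  have := @_root_.StarAlgHom.copy.congr_simp.{0, 0, 0}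
  have := @_root_.StarAlgHom.copy.eq_def.{0, 0, 0}
  have := @_root_.StarAlgHom.copy.eq_1.{0, 0, 0}
  have := @_root_.NonUnitalStarAlgHom.comp.eq_def.{0, 0, 0, 0}
  have := @_root_.NonUnitalStarAlgHom.comp.eq_1.{0, 0, 0, 0}
  have := @_root_.StarAlgEquiv.ofAlgEquiv.congr_simp.{0, 0, 0}
  have := @_root_.StarAlgEquiv.ofAlgEquiv.eq_def.{0, 0, 0}
  have := @_root_.StarAlgEquiv.ofAlgEquiv.eq_1.{0, 0, 0}
  have := @_root_.StarAlgEquiv.ofBijective.congr_simp.{0, 0, 0, 0}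
  have := @_root_.StarAlgEquiv.ofBijective.eq_def.{0, 0, 0, 0}
  have := @_root_.StarAlgEquiv.ofBijective.eq_1.{0, 0, 0, 0}
  have := @_root_.StarAlgHom.id.eq_def.{0, 0}
  have := @_root_.StarAlgHom.id.eq_1.{0, 0}
  have := @_root_.StarAlgHomClass.toStarAlgHom.eq_def.{0, 0, 0, 0}
  have := @_root_.StarAlgHomClass.toStarAlgHom.eq_1.{0, 0, 0, 0}
  have := @_root_.Matrix.conjTranspose.eq_def.{0, 0, 0}
  have := @_root_.Matrix.conjTransposeLinearEquiv.congr_simp.{0, 0, 0, 0}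
  have := @_root_.Matrix.conjTransposeLinearEquiv.eq_def.{0, 0, 0, 0}
  trivial

theorem m17_4 : True := by
  have := @_root_.Matrix.conjTransposeLinearEquiv.eq_1.{0, 0, 0, 0}
  have := @_root_.Matrix.conjTransposeAlgEquiv.congr_simp.{0, 0, 0}
  have := @_root_.Matrix.conjTransposeAlgEquiv.eq_def.{0, 0, 0}
  have := @_root_.Matrix.conjTransposeAlgEquiv.eq_1.{0, 0, 0}
  have := @_root_.Matrix.conjTransposeAddEquiv.eq_def.{0, 0, 0}
  have := @_root_.Matrix.conjTransposeAddEquiv.eq_1.{0, 0, 0}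
  have := @_root_.Matrix.conjTransposeRingEquiv.eq_def.{0, 0}
  have := @_root_.Matrix.conjTransposeRingEquiv.eq_1.{0, 0}
  have := @_root_.Matrix.blockDiagonalAddMonoidHom.eq_def.{0, 0, 0, 0}
  have := @_root_.Matrix.blockDiagonalAddMonoidHom.eq_1.{0, 0, 0, 0}
  have := @_root_.Matrix.blockDiagonal'.eq_def.{0, 0, 0, 0}
  have := @_root_.Matrix.toBlocks₂₁.eq_def.{0, 0, 0, 0, 0}
  have := @_root_.Matrix.toBlock.eq_def.{0, 0, 0}
  have := @_root_.Matrix.toBlock.eq_1.{0, 0, 0}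
  have := @_root_.Matrix.toBlocks₁₂.eq_def.{0, 0, 0, 0, 0}
  have := @_root_.Matrix.blockDiagonalRingHom.eq_def.{0, 0, 0}
  have := @_root_.Matrix.blockDiagonalRingHom.eq_1.{0, 0, 0}
  have := @_root_.Matrix.blockDiag'AddMonoidHom.eq_def.{0, 0, 0, 0}
  have := @_root_.Matrix.blockDiag'AddMonoidHom.eq_1.{0, 0, 0, 0}
  have := @_root_.Matrix.blockDiagonal'RingHom.eq_def.{0, 0, 0}
  have := @_root_.Matrix.blockDiagonal'RingHom.eq_1.{0, 0, 0}
  have := @_root_.Matrix.blockDiagAddMonoidHom.eq_def.{0, 0, 0, 0}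
  have := @_root_.Matrix.blockDiagAddMonoidHom.eq_1.{0, 0, 0, 0}
  have := @_root_.Matrix.blockDiagonal'AddMonoidHom.eq_def.{0, 0, 0, 0}
  have := @_root_.Matrix.blockDiagonal'AddMonoidHom.eq_1.{0, 0, 0, 0}
  have := @_root_.Matrix.fromBlocks.eq_def.{0, 0, 0, 0, 0}
  have := @_root_.Matrix.IsTwoBlockDiagonal.eq_def.{0, 0, 0, 0, 0}
  have := @_root_.Matrix.toBlocks₁₁.eq_def.{0, 0, 0, 0, 0}
  have := @_root_.Matrix.toBlocks₁₁.eq_1.{0, 0, 0, 0, 0}
  have := @_root_.Matrix.blockDiagonal.eq_def.{0, 0, 0, 0}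
  trivial

theorem m17_5 : True := by
  have := @_root_.Matrix.toSquareBlock.eq_def.{0, 0, 0}
  have := @_root_.Matrix.toSquareBlock.eq_1.{0, 0, 0}
  have := @_root_.Matrix.blockDiag'.eq_def.{0, 0, 0, 0}
  have := @_root_.Matrix.blockDiag'.eq_1.{0, 0, 0, 0}
  have := @_root_.Matrix.blockDiag.eq_def.{0, 0, 0, 0}
  have := @_root_.Matrix.blockDiag.eq_1.{0, 0, 0, 0}
  have := @_root_.Matrix.toSquareBlockProp.eq_def.{0, 0}
  have := @_root_.Matrix.toSquareBlockProp.eq_1.{0, 0}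
  have := @_root_.Matrix.toBlocks₂₂.eq_def.{0, 0, 0, 0, 0}
  have := @_root_.Module.Basis.finTwoProd.eq_def.{0}
  have := @_root_.Module.Basis.mkFinCons.congr_simp.{0, 0}
  have := @_root_.Module.Basis.mkFinCons.eq_def.{0, 0}
  have := @_root_.Module.Basis.mkFinCons.eq_1.{0, 0}
  have := @_root_.Module.Basis.mkFinConsOfLE.congr_simp.{0, 0}
  have := @_root_.Module.Basis.mkFinConsOfLE.eq_def.{0, 0}
  have := @_root_.Module.Basis.mkFinConsOfLE.eq_1.{0, 0}
  have := @_root_.Module.Basis.mkFinSnocOfLE.congr_simp.{0, 0}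
  have := @_root_.Module.Basis.mkFinSnocOfLE.eq_def.{0, 0}
  have := @_root_.Module.Basis.mkFinSnocOfLE.eq_1.{0, 0}
  have := @_root_.Module.Basis.mkFinSnoc.congr_simp.{0, 0}
  have := @_root_.Module.Basis.mkFinSnoc.eq_def.{0, 0}
  have := @_root_.Module.Basis.mkFinSnoc.eq_1.{0, 0}
  have := @_root_.Module.Basis.prod.eq_def.{0, 0, 0, 0, 0}
  have := @_root_.Module.Basis.groupSMul.congr_simp.{0, 0, 0, 0}
  have := @_root_.Module.Basis.groupSMul.eq_def.{0, 0, 0, 0}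
  have := @_root_.Module.Basis.groupSMul.eq_1.{0, 0, 0, 0}
  have := @_root_.Module.Basis.unitsSMul.eq_def.{0, 0, 0}
  have := @_root_.Module.Basis.isUnitSMul.eq_def.{0, 0, 0}
  have := @_root_.Module.Basis.isUnitSMul.eq_1.{0, 0, 0}
  have := @_root_.Matrix.replicateRow.eq_def.{0, 0, 0}
  trivial

theorem m17_6 : True := by
  have := @_root_.Matrix.updateRow.eq_def.{0, 0, 0}
  have := @_root_.Matrix.replicateCol.eq_def.{0, 0, 0}
  have := @_root_.Matrix.updateCol.eq_def.{0, 0, 0}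
  have := @_root_.Matrix.updateCol.eq_1.{0, 0, 0}
  have := @_root_.Matrix.matrixNotationRx0.eq_def
  have := @_root_.Matrix.matrixNotationRx0.eq_1
  have := @_root_.Matrix.matrixNotation0xC.eq_def
  have := @_root_.Matrix.matrixNotation0xC.eq_1
  have := @_root_.Matrix.matrixNotation.eq_def
  have := @_root_.Matrix.matrixNotation.eq_1
  have := @_root_.Matrix.mkLiteralQ.eq_def
  have := @_root_.Matrix.mkLiteralQ.eq_1
  have := @_root_.matrixRingEquivEndVecMulOpposite.eq_def.{0, 0}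
  have := @_root_.matrixRingEquivEndVecMulOpposite.eq_1.{0, 0}
  have := @_root_.matrixAlgEquivEndVecMulOpposite.eq_def.{0, 0, 0}
  have := @_root_.matrixAlgEquivEndVecMulOpposite.eq_1.{0, 0, 0}
  have := @_root_.endVecRingEquivMatrixEnd.eq_def.{0, 0, 0}
  have := @_root_.dotProductBilin.congr_simp.{0, 0, 0, 0}
  have := @_root_.dotProductBilin.eq_def.{0, 0, 0, 0}
  have := @_root_.dotProductBilin.eq_1.{0, 0, 0, 0}
  have := @_root_.Module.Basis.end.eq_def.{0, 0, 0}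
  have := @_root_.Module.Basis.end.eq_1.{0, 0, 0}
  have := @_root_.Matrix.mulVecLin.eq_def.{0, 0, 0}
  have := @_root_.Matrix.mulVecLin.eq_1.{0, 0, 0}
  have := @_root_.Matrix.mulVecBilin.eq_def.{0, 0, 0, 0, 0}
  have := @_root_.Matrix.mulVecBilin.eq_1.{0, 0, 0, 0, 0}
  have := @_root_.algEquivMatrix.eq_def.{0, 0, 0}
  have := @_root_.algEquivMatrix.eq_1.{0, 0, 0}
  have := @_root_.Matrix.toLin'.eq_def.{0, 0, 0}
  have := @_root_.Matrix.toLin'.eq_1.{0, 0, 0}
  trivial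

theorem m17_7 : True := by
  have := @_root_.Matrix.toLinAlgEquiv'.eq_def.{0, 0}
  have := @_root_.Matrix.toLinearMapRight'.eq_def.{0, 0, 0}
  have := @_root_.Matrix.toLinearMapRight'.eq_1.{0, 0, 0}
  have := @_root_.LinearMap.toMatrixAlgEquiv.eq_def.{0, 0, 0}
  have := @_root_.Algebra.leftMulMatrix.eq_def.{0, 0, 0}
  have := @_root_.Algebra.leftMulMatrix.eq_1.{0, 0, 0}
  have := @_root_.Matrix.toLinearEquivRight'OfInv.congr_simp.{0, 0, 0}
  have := @_root_.Matrix.toLinearEquivRight'OfInv.eq_def.{0, 0, 0}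
  have := @_root_.Matrix.toLinearEquivRight'OfInv.eq_1.{0, 0, 0}
  have := @_root_.LinearMap.toMatrix'.eq_def.{0, 0, 0}
  have := @_root_.Matrix.toLinAlgEquiv.eq_def.{0, 0, 0}
  have := @_root_.Matrix.toLinAlgEquiv.eq_1.{0, 0, 0}
  have := @_root_.LinearMap.toMatrixRight'.eq_def.{0, 0, 0}
  have := @_root_.LinearMap.toMatrixRight'.eq_1.{0, 0, 0}
  have := @_root_.LinearMap.toMatrixAlgEquiv'.eq_def.{0, 0}
  have := @_root_.Matrix.vecMulBilin.eq_def.{0, 0, 0, 0, 0}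
  have := @_root_.Matrix.vecMulBilin.eq_1.{0, 0, 0, 0, 0}
  have := @_root_.Matrix.toLin'OfInv.congr_simp.{0, 0, 0}
  have := @_root_.Matrix.toLin'OfInv.eq_def.{0, 0, 0}
  have := @_root_.Matrix.toLin'OfInv.eq_1.{0, 0, 0}
  have := @_root_.LinearMap.toMatrix.eq_def.{0, 0, 0, 0, 0}
  have := @_root_.vecMulVecBilin.congr_simp.{0, 0, 0, 0, 0}
  have := @_root_.vecMulVecBilin.eq_def.{0, 0, 0, 0, 0}
  have := @_root_.vecMulVecBilin.eq_1.{0, 0, 0, 0, 0}
  have := @_root_.Matrix.vecMulLinear.eq_def.{0, 0, 0}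
  have := @_root_.Matrix.vecMulLinear.eq_1.{0, 0, 0}
  have := @_root_.endVecAlgEquivMatrixEnd.eq_def.{0, 0, 0, 0}
  have := @_root_.endVecAlgEquivMatrixEnd.eq_1.{0, 0, 0, 0}
  have := @_root_.Matrix.toLinOfInv.congr_simp.{0, 0, 0, 0, 0}
  have := @_root_.Matrix.toLinOfInv.eq_def.{0, 0, 0, 0, 0}
  trivial

theorem m17_8 : True := by
  have := @_root_.Matrix.toLinOfInv.eq_1.{0, 0, 0, 0, 0}
  have := @_root_.Module.Basis.linearMap.eq_def.{0, 0, 0, 0, 0}
  have := @_root_.Matrix.toLin.eq_def.{0, 0, 0, 0, 0}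
  have := @_root_.Matrix.toLin.eq_1.{0, 0, 0, 0, 0}
  have := @_root_.algEquivMatrix'.eq_def.{0, 0}
  have := @_root_.algEquivMatrix'.eq_1.{0, 0}
  have := @_root_.Subring.toSubfield.congr_simp.{0}
  have := @_root_.Subring.toSubfield.eq_def.{0}
  have := @_root_.Subring.toSubfield.eq_1.{0}
  have := @_root_.Subfield.subtype.eq_def.{0}
  have := @_root_.Subfield.subtype.eq_1.{0}
  have := @_root_.SubfieldClass.mk.congr_simp.{0, 0}
  have := @_root_.Subfield.toAddSubgroup.eq_def.{0}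
  have := @_root_.Subfield.toAddSubgroup.eq_1.{0}
  have := @_root_.Subfield.copy.congr_simp.{0}
  have := @_root_.Subfield.copy.eq_def.{0}
  have := @_root_.Subfield.copy.eq_1.{0}
  have := @_root_.Field.FG.mk.congr_simp.{0}
  have := @_root_.Subfield.inclusion.congr_simp.{0}
  have := @_root_.Subfield.inclusion.eq_def.{0}
  have := @_root_.Subfield.inclusion.eq_1.{0}
  have := @_root_.Subfield.gi.eq_def.{0}
  have := @_root_.Subfield.gi.eq_1.{0}
  have := @_root_.Subfield.map.eq_def.{0, 0}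
  have := @_root_.Subfield.map.eq_1.{0, 0}
  have := @_root_.Subfield.topEquiv.eq_def.{0}
  have := @_root_.Subfield.topEquiv.eq_1.{0}
  have := @_root_.Subfield.closure.eq_def.{0}
  have := @_root_.Subfield.closure.eq_1.{0}
  have := @_root_.RingEquiv.subfieldCongr.congr_simp.{0}
  trivial

theorem m17_9 : True := by
  have := @_root_.RingEquiv.subfieldCongr.eq_def.{0}
  have := @_root_.RingEquiv.subfieldCongr.eq_1.{0}
  have := @_root_.RingHom.fieldRange.eq_def.{0, 0}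
  have := @_root_.RingHom.fieldRange.eq_1.{0, 0}
  have := @_root_.RingHom.rangeRestrictFieldEquiv.eq_def.{0, 0}
  have := @_root_.RingHom.rangeRestrictFieldEquiv.eq_1.{0, 0}
  have := @_root_.RingHom.rangeRestrictField.eq_def.{0, 0}
  have := @_root_.RingHom.rangeRestrictField.eq_1.{0, 0}
  have := @_root_.Subfield.comap.eq_def.{0, 0}
  have := @_root_.Subfield.comap.eq_1.{0, 0}
  have := @_root_.RingHom.eqLocusField.eq_def.{0, 0}
  have := @_root_.RingHom.eqLocusField.eq_1.{0, 0}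
  have := @_root_.Submonoid.LocalizationMap.lift₀.eq_def.{0, 0, 0}
  have := @_root_.Submonoid.LocalizationMap.lift₀.eq_1.{0, 0, 0}
  have := @_root_.RestrictScalars.lsmul.eq_def.{0, 0, 0}
  have := @_root_.RestrictScalars.eq_def.{0, 0, 0}
  have := @_root_.RestrictScalars.eq_1.{0, 0, 0}
  have := @_root_.Module.restrictScalars.eq_def.{0, 0, 0}
  have := @_root_.Module.restrictScalars.eq_1.{0, 0, 0}
  have := @_root_.RestrictScalars.addEquiv.eq_def.{0, 0, 0}
  have := @_root_.RestrictScalars.addEquiv.eq_1.{0, 0, 0}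
  have := @_root_.RestrictScalars.ringEquiv.eq_def.{0, 0, 0}
  have := @_root_.RestrictScalars.ringEquiv.eq_1.{0, 0, 0}
  have := @_root_.Algebra.restrictScalars.eq_def.{0, 0, 0}
  have := @_root_.Algebra.restrictScalars.eq_1.{0, 0, 0}
  have := @_root_.RestrictScalars.moduleOrig.eq_def.{0, 0, 0}
  have := @_root_.RestrictScalars.moduleOrig.eq_1.{0, 0, 0}
  have := @_root_.Subalgebra.prod.eq_def.{0, 0, 0}
  have := @_root_.Subalgebra.prod.eq_1.{0, 0, 0}
  have := @_root_.Algebra.IsEpi.mk.congr_simp.{0, 0}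
  trivial

theorem m17_10 : True := by
  have := @_root_.TensorProduct.lid'.eq_def.{0, 0, 0}
  have := @_root_.TensorProduct.lid'.eq_1.{0, 0, 0}
  have := @_root_.RingHom.equivRatAlgHom.eq_def.{0, 0}
  have := @_root_.RingHom.equivRatAlgHom.eq_1.{0, 0}
  have := @_root_.RingHom.toRatAlgHom.eq_def.{0, 0}
  have := @_root_.RingHom.toRatAlgHom.eq_1.{0, 0}
  have := @_root_.RingEquiv.toRatAlgEquiv.eq_def.{0, 0}
  have := @_root_.RingEquiv.toRatAlgEquiv.eq_1.{0, 0}
  have := @_root_.RingEquiv.equivRatAlgEquiv.eq_def.{0, 0}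
  have := @_root_.RingEquiv.equivRatAlgEquiv.eq_1.{0, 0}
  have := @_root_.Equiv.nonAssocRing.eq_def.{0, 0}
  have := @_root_.Equiv.nonAssocRing.eq_1.{0, 0}
  have := @_root_.Equiv.nonUnitalCommRing.eq_def.{0, 0}
  have := @_root_.Equiv.nonUnitalCommRing.eq_1.{0, 0}
  have := @_root_.Equiv.nonUnitalSemiring.eq_def.{0, 0}
  have := @_root_.Equiv.nonUnitalSemiring.eq_1.{0, 0}
  have := @_root_.Equiv.nonUnitalRing.eq_def.{0, 0}
  have := @_root_.Equiv.nonUnitalRing.eq_1.{0, 0}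
  have := @_root_.Equiv.nonAssocSemiring.eq_def.{0, 0}
  have := @_root_.Equiv.nonAssocSemiring.eq_1.{0, 0}
  have := @_root_.Equiv.commSemiring.eq_def.{0, 0}
  have := @_root_.Equiv.commSemiring.eq_1.{0, 0}
  have := @_root_.Equiv.addGroupWithOne.eq_def.{0, 0}
  have := @_root_.Equiv.addGroupWithOne.eq_1.{0, 0}
  have := @_root_.Equiv.commRing.eq_def.{0, 0}
  have := @_root_.Equiv.commRing.eq_1.{0, 0}
  have := @_root_.Equiv.addMonoidWithOne.eq_def.{0, 0}
  have := @_root_.Equiv.addMonoidWithOne.eq_1.{0, 0}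
  have := @_root_.Equiv.nonUnitalNonAssocSemiring.eq_def.{0, 0}
  have := @_root_.Equiv.nonUnitalNonAssocSemiring.eq_1.{0, 0}
  trivial

theorem m17_11 : True := by
  have := @_root_.Equiv.semiring.eq_def.{0, 0}
  have := @_root_.Equiv.semiring.eq_1.{0, 0}
  have := @_root_.Equiv.nonUnitalCommSemiring.eq_def.{0, 0}
  have := @_root_.Equiv.nonUnitalCommSemiring.eq_1.{0, 0}
  have := @_root_.Equiv.ringEquiv.eq_def.{0, 0}
  have := @_root_.Equiv.ringEquiv.eq_1.{0, 0}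
  have := @_root_.Equiv.ring.eq_def.{0, 0}
  have := @_root_.Equiv.ring.eq_1.{0, 0}
  have := @_root_.Equiv.nonUnitalNonAssocRing.eq_def.{0, 0}
  have := @_root_.Equiv.nonUnitalNonAssocRing.eq_1.{0, 0}
  have := @_root_.Equiv.algEquiv.eq_def.{0, 0, 0}
  have := @_root_.Equiv.algEquiv.eq_1.{0, 0, 0}
  have := @_root_.Equiv.algebra.eq_def.{0, 0, 0}
  have := @_root_.Equiv.algebra.eq_1.{0, 0, 0}
  have := @_root_.Shrink.ringEquiv.eq_def.{0, 0}
  have := @_root_.Shrink.algEquiv.eq_def.{0, 0, 0}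
  have := @_root_.Shrink.algEquiv.eq_1.{0, 0, 0}
  have := @_root_.Set.star.eq_def.{0}
  have := @_root_.Set.star.eq_1.{0}
  have := @_root_.resolvent.eq_def.{0, 0}
  have := @_root_.resolventSet.eq_def.{0, 0}
  have := @_root_.spectrum.eq_def.{0, 0}
  have := @_root_.IsUnit.subInvSMul.congr_simp.{0, 0}
  have := @_root_.IsUnit.subInvSMul.eq_def.{0, 0}
  have := @_root_.IsUnit.subInvSMul.eq_1.{0, 0}
  have := @_root_.IsStarProjection.mk.congr_simp.{0}
  have := @_root_.NonUnitalStarSubalgebra.copy.congr_simp.{0, 0}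
  have := @_root_.NonUnitalStarSubalgebra.copy.eq_def.{0, 0}
  have := @_root_.NonUnitalStarSubalgebra.copy.eq_1.{0, 0}
  have := @_root_.NonUnitalStarSubalgebra.toNonUnitalSubalgebra'.eq_def.{0, 0}
  trivial

theorem m17_12 : True := by
  have := @_root_.NonUnitalStarSubalgebra.toNonUnitalSubalgebra'.eq_1.{0, 0}
  have := @_root_.StarAlgEquiv.ofInjective'.congr_simp.{0, 0, 0, 0}
  have := @_root_.StarAlgEquiv.ofInjective'.eq_def.{0, 0, 0, 0}
  have := @_root_.StarAlgEquiv.ofInjective'.eq_1.{0, 0, 0, 0}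
  have := @_root_.NonUnitalStarAlgHom.equalizer.congr_simp.{0, 0, 0, 0}
  have := @_root_.NonUnitalStarAlgHom.equalizer.eq_def.{0, 0, 0, 0}
  have := @_root_.NonUnitalStarAlgHom.equalizer.eq_1.{0, 0, 0, 0}
  have := @_root_.NonUnitalStarSubalgebra.toNonUnitalSubring.eq_def.{0, 0}
  have := @_root_.NonUnitalStarSubalgebra.toNonUnitalSubring.eq_1.{0, 0}
  have := @_root_.NonUnitalStarSubalgebra.ofClass.eq_def.{0, 0, 0}
  have := @_root_.NonUnitalStarSubalgebra.ofClass.eq_1.{0, 0, 0}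
  have := @_root_.NonUnitalStarAlgHom.codRestrict.eq_def.{0, 0, 0, 0}
  have := @_root_.NonUnitalStarAlgHom.codRestrict.eq_1.{0, 0, 0, 0}
  have := @_root_.NonUnitalStarSubalgebra.centralizer.eq_def.{0, 0}
  have := @_root_.NonUnitalStarSubalgebra.centralizer.eq_1.{0, 0}
  have := @_root_.NonUnitalStarAlgHom.range.eq_def.{0, 0, 0, 0}
  have := @_root_.NonUnitalStarAlgHom.range.eq_1.{0, 0, 0, 0}
  have := @_root_.NonUnitalStarAlgebra.adjoin.eq_def.{0, 0}
  have := @_root_.NonUnitalStarAlgebra.adjoin.eq_1.{0, 0}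
  have := @_root_.NonUnitalStarSubalgebra.iSupLift.eq_def.{0, 0, 0, 0}
  have := @_root_.NonUnitalStarSubalgebra.iSupLift.eq_1.{0, 0, 0, 0}
  have := @_root_.NonUnitalStarSubalgebraClass.subtype.eq_def.{0, 0, 0}
  have := @_root_.NonUnitalStarSubalgebraClass.subtype.eq_1.{0, 0, 0}
  have := @_root_.NonUnitalStarAlgebra.adjoinNonUnitalCommSemiringOfComm.congr_simp.{0, 0}
  have := @_root_.NonUnitalStarAlgebra.adjoinNonUnitalCommSemiringOfComm.eq_def.{0, 0}
  have := @_root_.NonUnitalStarAlgebra.adjoinNonUnitalCommSemiringOfComm.eq_1.{0, 0}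
  have := @_root_.NonUnitalStarSubalgebra.inclusion.eq_def.{0, 0}
  have := @_root_.NonUnitalStarSubalgebra.inclusion.eq_1.{0, 0}
  have := @_root_.NonUnitalStarSubalgebra.comap.congr_simp.{0, 0, 0, 0}
  have := @_root_.NonUnitalStarSubalgebra.comap.eq_def.{0, 0, 0, 0}
  trivial

theorem m17_13 : True := by
  have := @_root_.NonUnitalStarSubalgebra.comap.eq_1.{0, 0, 0, 0}
  have := @_root_.NonUnitalStarSubalgebra.mk.congr_simp.{0, 0}
  have := @_root_.NonUnitalSubalgebra.starClosure.congr_simp.{0, 0}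
  have := @_root_.NonUnitalSubalgebra.starClosure.eq_def.{0, 0}
  have := @_root_.NonUnitalSubalgebra.starClosure.eq_1.{0, 0}
  have := @_root_.NonUnitalStarAlgHom.rangeRestrict.eq_def.{0, 0, 0, 0}
  have := @_root_.NonUnitalStarAlgHom.rangeRestrict.eq_1.{0, 0, 0, 0}
  have := @_root_.StarAlgEquiv.ofLeftInverse'.congr_simp.{0, 0, 0, 0}
  have := @_root_.StarAlgEquiv.ofLeftInverse'.eq_def.{0, 0, 0, 0}
  have := @_root_.StarAlgEquiv.ofLeftInverse'.eq_1.{0, 0, 0, 0}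
  have := @_root_.NonUnitalStarSubalgebra.prod.eq_def.{0, 0, 0}
  have := @_root_.NonUnitalStarSubalgebra.prod.eq_1.{0, 0, 0}
  have := @_root_.NonUnitalStarSubalgebra.map.eq_def.{0, 0, 0, 0}
  have := @_root_.NonUnitalStarSubalgebra.map.eq_1.{0, 0, 0, 0}
  have := @_root_.NonUnitalStarSubalgebra.center.congr_simp.{0, 0}
  have := @_root_.NonUnitalStarSubalgebra.center.eq_def.{0, 0}
  have := @_root_.NonUnitalStarSubalgebra.center.eq_1.{0, 0}
  have := @_root_.NonUnitalSubalgebra.toNonUnitalStarSubalgebra.congr_simp.{0, 0}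
  have := @_root_.NonUnitalSubalgebra.toNonUnitalStarSubalgebra.eq_def.{0, 0}
  have := @_root_.NonUnitalSubalgebra.toNonUnitalStarSubalgebra.eq_1.{0, 0}
  have := @_root_.NonUnitalStarAlgebra.toTop.eq_def.{0, 0}
  have := @_root_.NonUnitalStarAlgebra.toTop.eq_1.{0, 0}
  have := @_root_.NonUnitalStarAlgebra.gi.eq_def.{0, 0}
  have := @_root_.NonUnitalStarAlgebra.gi.eq_1.{0, 0}
  have := @_root_.NonUnitalStarAlgebra.adjoinNonUnitalCommRingOfComm.congr_simp.{0, 0}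
  have := @_root_.NonUnitalStarAlgebra.adjoinNonUnitalCommRingOfComm.eq_def.{0, 0}
  have := @_root_.NonUnitalStarAlgebra.adjoinNonUnitalCommRingOfComm.eq_1.{0, 0}
  have := @_root_.Unitization.addEquiv.eq_def.{0, 0}
  have := @_root_.Unitization.addEquiv.eq_1.{0, 0}
  have := @_root_.Unitization.inrNonUnitalStarAlgHom.eq_def.{0, 0}
  trivial

theorem m17_14 : True := by
  have := @_root_.Unitization.inrNonUnitalStarAlgHom.eq_1.{0, 0}
  have := @_root_.Unitization.fstHom.eq_def.{0, 0}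
  have := @_root_.Unitization.fstHom.eq_1.{0, 0}
  have := @_root_.Unitization.inrHom.eq_def.{0, 0, 0}
  have := @_root_.Unitization.inrHom.eq_1.{0, 0, 0}
  have := @_root_.Unitization.linearEquiv.eq_def.{0, 0, 0}
  have := @_root_.Unitization.linearEquiv.eq_1.{0, 0, 0}
  have := @_root_.Unitization.starMap.eq_def.{0, 0, 0}
  have := @_root_.Unitization.starMap.eq_1.{0, 0, 0}
  have := @_root_.Unitization.sndHom.eq_def.{0, 0, 0}
  have := @_root_.Unitization.sndHom.eq_1.{0, 0, 0}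
  have := @_root_.Unitization.inlRingHom.eq_def.{0, 0}
  have := @_root_.Unitization.inlRingHom.eq_1.{0, 0}
  have := @_root_.Unitization.lift.eq_def.{0, 0, 0}
  have := @_root_.Unitization.lift.eq_1.{0, 0, 0}
  have := @_root_.Unitization.inrNonUnitalAlgHom.eq_def.{0, 0}
  have := @_root_.Unitization.inrNonUnitalAlgHom.eq_1.{0, 0}
  have := @_root_.Unitization.inl.eq_def.{0, 0}
  have := @_root_.Unitization.inl.eq_1.{0, 0}
  have := @_root_.Unitization.equiv.eq_def.{0, 0}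
  have := @_root_.Unitization.equiv.eq_1.{0, 0}
  have := @_root_.Unitization.inr.eq_def.{0, 0}
  have := @_root_.Unitization.inr.eq_1.{0, 0}
  have := @_root_.Unitization.inrRangeEquiv.eq_def.{0, 0}
  have := @_root_.Unitization.inrRangeEquiv.eq_1.{0, 0}
  have := @_root_.Unitization.starLift.eq_def.{0, 0, 0}
  have := @_root_.Unitization.starLift.eq_1.{0, 0, 0}
  have := @_root_.NonUnitalAlgHom.toAlgHom.eq_def.{0, 0, 0}
  have := @_root_.NonUnitalAlgHom.toAlgHom.eq_1.{0, 0, 0}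
  have := @_root_.NonnegSpectrumClass.mk.congr_simp.{0, 0}
  trivial

end Cfsg.Rz
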