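import Cfsg.Agent.Rz.M17

/-! Generated file: forces on-demand equation and congruence lemmas to be created once. -/

set_option linter.all false

namespace Cfsg.Rz

theorem m18_0 : True := by
  have := @_root_.quasispectrum.eq_def.{0, 0}
  have := @_root_.SpectrumRestricts.eq_def.{0, 0, 0}
  have := @_root_.Unitization.unitsFstOne.eq_def.{0, 0}
  have := @_root_.Unitization.unitsFstOne.eq_1.{0, 0}
  have := @_root_.IsQuasiregular.eq_def.{0}
  have := @_root_.Unitization.unitsFstOne_mulEquiv_quasiregular.eq_def.{0, 0}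
  have := @_root_.Unitization.unitsFstOne_mulEquiv_quasiregular.eq_1.{0, 0}
  have := @_root_.PreQuasiregular.equiv.eq_def.{0}
  have := @_root_.PreQuasiregular.equiv.eq_1.{0}
  have := @_root_.QuasispectrumRestricts.mk.congr_simp.{0, 0, 0}
  have := @_root_.MulEquiv.piUnits.eq_def.{0, 0}
  have := @_root_.AddEquiv.piAddUnits.eq_def.{0, 0}
  have := @_root_.PreQuasiregular.toProd.eq_def.{0, 0}
  have := @_root_.PreQuasiregular.toProd.eq_1.{0, 0}
  have := @_root_.PreQuasiregular.toPi.eq_def.{0, 0}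
  have := @_root_.PreQuasiregular.toPi.eq_1.{0, 0}
  have := @_root_.IsStrictlyPositive.eq_def.{0}
  have := @_root_.IsStrictlyPositive.eq_1.{0}
  have := @_root_.Subalgebra.iSupLift.eq_def.{0, 0, 0, 0}
  have := @_root_.Subalgebra.iSupLift.eq_1.{0, 0, 0, 0}
  have := @_root_.Module.Basis.sumQuot.eq_def.{0, 0, 0, 0}
  have := @_root_.Set.finrank.eq_def.{0, 0}
  have := @_root_.finDimVectorspaceEquiv.congr_simp.{0, 0}
  have := @_root_.finDimVectorspaceEquiv.eq_def.{0, 0}
  have := @_root_.finDimVectorspaceEquiv.eq_1.{0, 0}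
  have := @_root_.Module.Basis.fintypeIndexOfRankLtAleph0.congr_simp.{0, 0, 0}
  have := @_root_.Module.Basis.fintypeIndexOfRankLtAleph0.eq_def.{0, 0, 0}
  have := @_root_.Module.Basis.fintypeIndexOfRankLtAleph0.eq_1.{0, 0, 0}
  have := @_root_.iSupIndep.fintypeNeBotOfFiniteDimensional.congr_simp.{0, 0, 0}
  have := @_root_.iSupIndep.fintypeNeBotOfFiniteDimensional.eq_def.{0, 0, 0}
  trivial

theorem m18_1 : True := by
  have := @_root_.iSupIndep.fintypeNeBotOfFiniteDimensional.eq_1.{0, 0, 0}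
  have := @_root_.Module.Basis.sumExtendIndex.congr_simp.{0, 0, 0}
  have := @_root_.Module.Basis.sumExtendIndex.eq_def.{0, 0, 0}
  have := @_root_.Module.Basis.sumExtendIndex.eq_1.{0, 0, 0}
  have := @_root_.Module.Basis.extendLe.congr_simp.{0, 0}
  have := @_root_.Module.Basis.extendLe.eq_def.{0, 0}
  have := @_root_.Module.Basis.extendLe.eq_1.{0, 0}
  have := @_root_.Module.Basis.extend.eq_def.{0, 0}
  have := @_root_.Module.Basis.ofSpan.congr_simp.{0, 0}
  have := @_root_.Module.Basis.ofSpan.eq_def.{0, 0}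
  have := @_root_.Module.Basis.ofSpan.eq_1.{0, 0}
  have := @_root_.LinearMap.leftInverse.eq_def.{0, 0, 0}
  have := @_root_.Module.Basis.ofVectorSpaceIndex.eq_def.{0, 0}
  have := @_root_.Module.Basis.ofVectorSpaceIndex.eq_1.{0, 0}
  have := @_root_.Module.Basis.ofVectorSpace.eq_def.{0, 0}
  have := @_root_.Module.Basis.ofVectorSpace.eq_1.{0, 0}
  have := @_root_.Module.Basis.sumExtend.eq_def.{0, 0, 0}
  have := @_root_.Module.Basis.sumExtend.eq_1.{0, 0, 0}
  have := @_root_.FiniteDimensional.fintypeBasisIndex.congr_simp.{0, 0, 0}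
  have := @_root_.FiniteDimensional.fintypeBasisIndex.eq_def.{0, 0, 0}
  have := @_root_.FiniteDimensional.fintypeBasisIndex.eq_1.{0, 0, 0}
  have := @_root_.FiniteDimensional.eq_def.{0, 0}
  have := @_root_.divisionRingOfFiniteDimensional.congr_simp.{0, 0}
  have := @_root_.divisionRingOfFiniteDimensional.eq_def.{0, 0}
  have := @_root_.divisionRingOfFiniteDimensional.eq_1.{0, 0}
  have := @_root_.fieldOfFiniteDimensional.congr_simp.{0, 0}
  have := @_root_.fieldOfFiniteDimensional.eq_def.{0, 0}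
  have := @_root_.fieldOfFiniteDimensional.eq_1.{0, 0}
  have := @_root_.LinearEquiv.ofInjectiveEndo.congr_simp.{0, 0}
  have := @_root_.LinearEquiv.ofInjectiveEndo.eq_def.{0, 0}
  trivial

theorem m18_2 : True := by
  have := @_root_.LinearEquiv.ofInjectiveEndo.eq_1.{0, 0}
  have := @_root_.LinearEquiv.ofInjectiveOfFinrankEq.congr_simp.{0, 0, 0}
  have := @_root_.LinearEquiv.ofInjectiveOfFinrankEq.eq_def.{0, 0, 0}
  have := @_root_.LinearEquiv.ofInjectiveOfFinrankEq.eq_1.{0, 0, 0}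
  have := @_root_.basisOfFinrankZero.congr_simp.{0, 0, 0}
  have := @_root_.basisOfFinrankZero.eq_def.{0, 0, 0}
  have := @_root_.basisOfFinrankZero.eq_1.{0, 0, 0}
  have := @_root_.FiniteDimensional.basisSingleton.eq_def.{0, 0, 0}
  have := @_root_.Basis.ofRankEqZero.congr_simp.{0, 0, 0}
  have := @_root_.Basis.ofRankEqZero.eq_def.{0, 0, 0}
  have := @_root_.Basis.ofRankEqZero.eq_1.{0, 0, 0}
  have := @_root_.MonoidAlgebra.uniqueAlgEquiv.eq_def.{0, 0, 0}
  have := @_root_.AddMonoidAlgebra.mapAlgAut.eq_def.{0, 0, 0}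
  have := @_root_.AddMonoidAlgebra.mapAlgAut.eq_1.{0, 0, 0}
  have := @_root_.MonoidAlgebra.mapDomainNonUnitalAlgHom.eq_def.{0, 0, 0, 0}
  have := @_root_.MonoidAlgebra.curryAlgEquiv.eq_def.{0, 0, 0, 0}
  have := @_root_.AddMonoidAlgebra.mapDomainAlgHom.eq_def.{0, 0, 0, 0}
  have := @_root_.AddMonoidAlgebra.mapAlgEquiv.eq_def.{0, 0, 0, 0}
  have := @_root_.AddMonoidAlgebra.liftNCAlgHom.eq_def.{0, 0, 0, 0}
  have := @_root_.AddMonoidAlgebra.liftNCAlgHom.eq_1.{0, 0, 0, 0}
  have := @_root_.MonoidAlgebra.singleOneAlgHom.eq_def.{0, 0, 0}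
  have := @_root_.AddMonoidAlgebra.uniqueAlgEquiv.congr_simp.{0, 0, 0}
  have := @_root_.AddMonoidAlgebra.uniqueAlgEquiv.eq_def.{0, 0, 0}
  have := @_root_.AddMonoidAlgebra.toMultiplicativeAlgEquiv.eq_def.{0, 0, 0}
  have := @_root_.AddMonoidAlgebra.toMultiplicativeAlgEquiv.eq_1.{0, 0, 0}
  have := @_root_.AddMonoidAlgebra.curryAlgEquiv.eq_def.{0, 0, 0, 0}
  have := @_root_.MonoidAlgebra.mapDomainAlgHom.eq_def.{0, 0, 0, 0}
  have := @_root_.MonoidAlgebra.liftMagma.congr_simp.{0, 0, 0}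
  have := @_root_.MonoidAlgebra.liftMagma.eq_def.{0, 0, 0}
  have := @_root_.MonoidAlgebra.liftMagma.eq_1.{0, 0, 0}
  trivial

theorem m18_3 : True := by
  have := @_root_.MonoidAlgebra.toAdditiveAlgEquiv.eq_def.{0, 0, 0}
  have := @_root_.MonoidAlgebra.toAdditiveAlgEquiv.eq_1.{0, 0, 0}
  have := @_root_.MonoidAlgebra.liftNCAlgHom.eq_def.{0, 0, 0, 0}
  have := @_root_.MonoidAlgebra.liftNCAlgHom.eq_1.{0, 0, 0, 0}
  have := @_root_.MonoidAlgebra.equivariantOfLinearOfComm.congr_simp.{0, 0, 0, 0}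
  have := @_root_.MonoidAlgebra.equivariantOfLinearOfComm.eq_def.{0, 0, 0, 0}
  have := @_root_.MonoidAlgebra.equivariantOfLinearOfComm.eq_1.{0, 0, 0, 0}
  have := @_root_.MonoidAlgebra.mapRangeAlgAut.eq_def.{0, 0, 0}
  have := @_root_.MonoidAlgebra.mapRangeAlgAut.eq_1.{0, 0, 0}
  have := @_root_.MonoidAlgebra.mapRangeAlgHom.eq_def.{0, 0, 0, 0}
  have := @_root_.MonoidAlgebra.mapRangeAlgHom.eq_1.{0, 0, 0, 0}
  have := @_root_.AddMonoidAlgebra.liftMagma.congr_simp.{0, 0, 0}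
  have := @_root_.AddMonoidAlgebra.liftMagma.eq_def.{0, 0, 0}
  have := @_root_.AddMonoidAlgebra.liftMagma.eq_1.{0, 0, 0}
  have := @_root_.AddMonoidAlgebra.mapAlgHom.eq_def.{0, 0, 0, 0}
  have := @_root_.AddMonoidAlgebra.domCongrAut.eq_def.{0, 0, 0}
  have := @_root_.AddMonoidAlgebra.domCongrAut.eq_1.{0, 0, 0}
  have := @_root_.MonoidAlgebra.domCongr.eq_def.{0, 0, 0, 0}
  have := @_root_.MonoidAlgebra.commAlgEquiv.eq_def.{0, 0, 0, 0}
  have := @_root_.MonoidAlgebra.lift.eq_def.{0, 0, 0}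
  have := @_root_.MonoidAlgebra.lift.eq_1.{0, 0, 0}
  have := @_root_.MonoidAlgebra.domCongrAut.eq_def.{0, 0, 0}
  have := @_root_.MonoidAlgebra.domCongrAut.eq_1.{0, 0, 0}
  have := @_root_.MonoidAlgebra.mapAlgHom.eq_def.{0, 0, 0, 0}
  have := @_root_.AddMonoidAlgebra.domCongr.eq_def.{0, 0, 0, 0}
  have := @_root_.AddMonoidAlgebra.lift.eq_def.{0, 0, 0}
  have := @_root_.AddMonoidAlgebra.lift.eq_1.{0, 0, 0}
  have := @_root_.AddMonoidAlgebra.commAlgEquiv.eq_def.{0, 0, 0, 0}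
  have := @_root_.MonoidAlgebra.algebraMonoidAlgebra.eq_def.{0, 0, 0}
  have := @_root_.MonoidAlgebra.mapRangeAlgEquiv.eq_def.{0, 0, 0, 0}
  trivial

theorem m18_4 : True := by
  have := @_root_.MonoidAlgebra.mapRangeAlgEquiv.eq_1.{0, 0, 0, 0}
  have := @_root_.AddMonoidAlgebra.singleZeroAlgHom.eq_def.{0, 0, 0}
  have := @_root_.AddMonoidAlgebra.algebraAddMonoidAlgebra.eq_def.{0, 0, 0}
  have := @_root_.AddMonoidAlgebra.mapDomainNonUnitalAlgHom.eq_def.{0, 0, 0, 0}
  have := @_root_.MonoidAlgebra.GroupSMul.linearMap.congr_simp.{0, 0, 0}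
  have := @_root_.MonoidAlgebra.GroupSMul.linearMap.eq_def.{0, 0, 0}
  have := @_root_.MonoidAlgebra.GroupSMul.linearMap.eq_1.{0, 0, 0}
  have := @_root_.MonoidAlgebra.mapAlgEquiv.eq_def.{0, 0, 0, 0}
  have := @_root_.Polynomial.evalRingHom.eq_def.{0}
  have := @_root_.Polynomial.evalRingHom.eq_1.{0}
  have := @_root_.Polynomial.IsRoot.eq_def.{0}
  have := @_root_.Polynomial.eval₂AddMonoidHom.eq_def.{0, 0}
  have := @_root_.Polynomial.eval₂AddMonoidHom.eq_1.{0, 0}
  have := @_root_.Polynomial.map.eq_def.{0, 0}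
  have := @_root_.Polynomial.eval.eq_def.{0}
  have := @_root_.Polynomial.eval₂RingHom.eq_def.{0, 0}
  have := @_root_.Polynomial.eval₂RingHom.eq_1.{0, 0}
  have := @_root_.Polynomial.eval₂RingHom'.congr_simp.{0, 0}
  have := @_root_.Polynomial.eval₂RingHom'.eq_def.{0, 0}
  have := @_root_.Polynomial.eval₂RingHom'.eq_1.{0, 0}
  have := @_root_.Polynomial.eval₂.eq_def.{0, 0}
  have := @_root_.Polynomial.comp.eq_def.{0}
  have := @_root_.Polynomial.mapRingHom.eq_def.{0, 0}
  have := @_root_.Polynomial.mapRingHom.eq_1.{0, 0}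
  have := @_root_.Polynomial.compRingHom.eq_def.{0}
  have := @_root_.Polynomial.compRingHom.eq_1.{0}
  have := @_root_.Nat.minFac.eq_def
  have := @_root_.Nat.decidablePrime'.eq_def
  have := @_root_.Nat.decidablePrime'.eq_1
  have := @_root_.Nat.Prime.eq_def
  trivial

theorem m18_5 : True := by
  have := @_root_.Nat.Prime.eq_1
  have := @_root_.Nat.Primes.eq_def
  have := @_root_.Nat.Primes.eq_1
  have := @_root_.ExpChar.zero.congr_simp.{0}
  have := @_root_.ringChar.eq_def.{0}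
  have := @_root_.ringChar.eq_1.{0}
  have := @_root_.ExpChar.prime.congr_simp.{0}
  have := @_root_.ringExpChar.eq_def.{0}
  have := @_root_.AddMonoidAlgebra.supDegree.eq_def.{0, 0, 0}
  have := @_root_.AddMonoidAlgebra.leadingCoeff.eq_def.{0, 0, 0}
  have := @_root_.AddMonoidAlgebra.Monic.eq_def.{0, 0, 0}
  have := @_root_.AddMonoidAlgebra.infDegree.eq_def.{0, 0, 0}
  have := @_root_.AddMonoidAlgebra.infDegree.eq_1.{0, 0, 0}
  have := @_root_.Polynomial.nextCoeff.eq_def.{0}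
  have := @_root_.Polynomial.leadingCoeff.eq_def.{0}
  have := @_root_.Polynomial.natDegree.eq_def.{0}
  have := @_root_.Polynomial.degree.eq_def.{0}
  have := @_root_.Polynomial.Monic.eq_def.{0}
  have := @_root_.Polynomial.leadingCoeffHom.eq_def.{0}
  have := @_root_.Polynomial.leadingCoeffHom.eq_1.{0}
  have := @_root_.Polynomial.degreeMonoidHom.congr_simp.{0}
  have := @_root_.Polynomial.degreeMonoidHom.eq_def.{0}
  have := @_root_.Polynomial.degreeMonoidHom.eq_1.{0}
  have := @_root_.Polynomial.piEquiv.congr_simp.{0, 0}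
  have := @_root_.Polynomial.piEquiv.eq_def.{0, 0}
  have := @_root_.Polynomial.piEquiv.eq_1.{0, 0}
  have := @_root_.Polynomial.mapEquiv.eq_def.{0, 0}
  have := @_root_.Polynomial.mapEquiv.eq_1.{0, 0}
  have := @_root_.Polynomial.eval₂AlgHom.eq_def.{0, 0, 0}
  have := @_root_.Polynomial.eval₂AlgHom.eq_1.{0, 0, 0}
  trivial

theorem m18_6 : True := by
  have := @_root_.Polynomial.toFinsuppIsoAlg.eq_def.{0}
  have := @_root_.Polynomial.toFinsuppIsoAlg.eq_1.{0}
  have := @_root_.Polynomial.mapAlgHom.eq_def.{0, 0, 0}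
  have := @_root_.Polynomial.mapAlgHom.eq_1.{0, 0, 0}
  have := @_root_.Polynomial.aevalEquiv.eq_def.{0, 0}
  have := @_root_.Polynomial.algEquivCMulXAddC.eq_def.{0}
  have := @_root_.Polynomial.algEquivCMulXAddC.eq_1.{0}
  have := @_root_.Polynomial.aevalTower.eq_def.{0, 0, 0}
  have := @_root_.Polynomial.aevalTower.eq_1.{0, 0, 0}
  have := @_root_.Polynomial.CAlgHom.eq_def.{0, 0}
  have := @_root_.Polynomial.CAlgHom.eq_1.{0, 0}
  have := @_root_.Polynomial.algEquivOfCompEqX.eq_def.{0}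
  have := @_root_.Polynomial.algEquivOfCompEqX.eq_1.{0}
  have := @_root_.Polynomial.mapAlg.eq_def.{0, 0}
  have := @_root_.Polynomial.mapAlg.eq_1.{0, 0}
  have := @_root_.Polynomial.algEquivAevalXAddC.eq_def.{0}
  have := @_root_.Polynomial.aeval.eq_def.{0, 0}
  have := @_root_.Polynomial.mapAlgEquiv.eq_def.{0, 0, 0}
  have := @_root_.Polynomial.mapAlgEquiv.eq_1.{0, 0, 0}
  have := @_root_.Finsupp.antidiagonal'.eq_def.{0}
  have := @_root_.Finsupp.Lex.eq_def.{0, 0}
  have := @_root_.Finsupp.Lex.eq_1.{0, 0}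
  have := @_root_.Finsupp.cons.eq_def.{0}
  have := @_root_.Finsupp.cons.eq_1.{0}
  have := @_root_.Finsupp.tail.eq_def.{0}
  have := @_root_.finTwoArrowEquiv'.eq_def.{0}
  have := @_root_.finTwoArrowEquiv'.eq_1.{0}
  have := @_root_.Polynomial.trailingDegree.eq_def.{0}
  have := @_root_.Polynomial.natTrailingDegree.eq_def.{0}
  have := @_root_.Polynomial.nextCoeffUp.eq_def.{0}
  trivial

theorem m18_7 : True := by
  have := @_root_.Polynomial.trailingCoeff.eq_def.{0}
  have := @_root_.Polynomial.TrailingMonic.eq_def.{0}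
  have := @_root_.Polynomial.TrailingMonic.eq_1.{0}
  have := @_root_.FixedPoints.addSubgroup.eq_def.{0, 0}
  have := @_root_.FixedPoints.addSubgroup.eq_1.{0, 0}
  have := @_root_.FixedPoints.addSubmonoid.eq_def.{0, 0}
  have := @_root_.FixedPoints.addSubmonoid.eq_1.{0, 0}
  have := @_root_.FixedPoints.subring.eq_def.{0, 0}
  have := @_root_.FixedPoints.subring.eq_1.{0, 0}
  have := @_root_.FixedPoints.subalgebra.congr_simp.{0, 0, 0}
  have := @_root_.FixedPoints.subalgebra.eq_def.{0, 0, 0}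
  have := @_root_.FixedPoints.subalgebra.eq_1.{0, 0, 0}
  have := @_root_.FixedPoints.subsemiring.eq_def.{0, 0}
  have := @_root_.FixedPoints.subsemiring.eq_1.{0, 0}
  have := @_root_.RingEquiv.piFinTwo.eq_def.{0}
  have := @_root_.RingEquiv.piFinTwo.eq_1.{0}
  have := @_root_.DoubleQuot.quotQuotEquivQuotOfLE.eq_def.{0}
  have := @_root_.DoubleQuot.quotQuotEquivQuotOfLE.eq_1.{0}
  have := @_root_.Ideal.Quotient.liftₐ.eq_def.{0, 0, 0}
  have := @_root_.Ideal.Quotient.liftₐ.eq_1.{0, 0, 0}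
  have := @_root_.Ideal.quotientEquivAlgOfEq.eq_def.{0, 0}
  have := @_root_.Ideal.quotientEquivAlgOfEq.eq_1.{0, 0}
  have := @_root_.DoubleQuot.quotQuotEquivComm.eq_def.{0}
  have := @_root_.DoubleQuot.quotQuotEquivComm.eq_1.{0}
  have := @_root_.Ideal.quotientMapₐ.eq_def.{0, 0, 0}
  have := @_root_.Ideal.quotientMapₐ.eq_1.{0, 0, 0}
  have := @_root_.DoubleQuot.quotQuotEquivCommₐ.eq_def.{0, 0}
  have := @_root_.DoubleQuot.quotQuotEquivCommₐ.eq_1.{0, 0}
  have := @_root_.Ideal.quotientInfToPiQuotient.eq_def.{0, 0}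
  have := @_root_.DoubleQuot.quotQuotEquivQuotSup.eq_def.{0}
  trivial

theorem m18_8 : True := by
  have := @_root_.DoubleQuot.quotQuotEquivQuotSup.eq_1.{0}
  have := @_root_.Ideal.Quotient.algebraQuotientOfLEComap.congr_simp.{0, 0}
  have := @_root_.Ideal.Quotient.algebraQuotientOfLEComap.eq_def.{0, 0}
  have := @_root_.Ideal.Quotient.algebraQuotientOfLEComap.eq_1.{0, 0}
  have := @_root_.AlgEquiv.quotientBot.eq_def.{0, 0}
  have := @_root_.AlgEquiv.quotientBot.eq_1.{0, 0}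
  have := @_root_.DoubleQuot.liftSupQuotQuotMkₐ.eq_def.{0, 0}
  have := @_root_.DoubleQuot.liftSupQuotQuotMkₐ.eq_1.{0, 0}
  have := @_root_.RingHom.quotientKerEquivOfRightInverse.eq_def.{0, 0}
  have := @_root_.RingHom.quotientKerEquivOfRightInverse.eq_1.{0, 0}
  have := @_root_.Ideal.quotientKerAlgEquivOfSurjective.eq_def.{0, 0, 0}
  have := @_root_.Ideal.quotientKerAlgEquivOfSurjective.eq_1.{0, 0, 0}
  have := @_root_.RingHom.quotientKerEquivRange.eq_def.{0, 0}
  have := @_root_.RingHom.quotientKerEquivRange.eq_1.{0, 0}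
  have := @_root_.Ideal.quotientInfEquivQuotientProd.congr_simp.{0}
  have := @_root_.Ideal.quotientInfEquivQuotientProd.eq_def.{0}
  have := @_root_.Ideal.quotientInfEquivQuotientProd.eq_1.{0}
  have := @_root_.Ideal.Quotient.mkₐ.eq_def.{0, 0}
  have := @_root_.Ideal.Quotient.mkₐ.eq_1.{0, 0}
  have := @_root_.DoubleQuot.quotQuotToQuotSupₐ.eq_def.{0, 0}
  have := @_root_.DoubleQuot.quotQuotToQuotSupₐ.eq_1.{0, 0}
  have := @_root_.Ideal.quotientEquivAlg.eq_def.{0, 0, 0}
  have := @_root_.Ideal.quotientEquivAlg.eq_1.{0, 0, 0}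
  have := @_root_.RingHom.quotientKerEquivRangeS.eq_def.{0, 0}
  have := @_root_.RingHom.quotientKerEquivRangeS.eq_1.{0, 0}
  have := @_root_.Ideal.quotientKerEquivRange.eq_def.{0, 0, 0}
  have := @_root_.Ideal.quotientKerEquivRange.eq_1.{0, 0, 0}
  have := @_root_.DoubleQuot.quotLeftToQuotSup.eq_def.{0}
  have := @_root_.Ideal.quotientEquiv.eq_def.{0, 0}
  have := @_root_.Ideal.quotientEquiv.eq_1.{0, 0}
  trivial

theorem m18_9 : True := by
  have := @_root_.DoubleQuot.quotQuotEquivQuotSupₐ.eq_def.{0, 0}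
  have := @_root_.DoubleQuot.quotQuotEquivQuotSupₐ.eq_1.{0, 0}
  have := @_root_.Ideal.kerLiftAlg.eq_def.{0, 0, 0}
  have := @_root_.Ideal.kerLiftAlg.eq_1.{0, 0, 0}
  have := @_root_.DoubleQuot.quotQuotMk.eq_def.{0}
  have := @_root_.RingHom.kerLift.eq_def.{0, 0}
  have := @_root_.RingHom.kerLift.eq_1.{0, 0}
  have := @_root_.Ideal.powQuotPowSuccLinearEquivMapMkPowSuccPow.eq_def.{0}
  have := @_root_.Ideal.powQuotPowSuccLinearEquivMapMkPowSuccPow.eq_1.{0}
  have := @_root_.DoubleQuot.quotQuotToQuotSup.eq_def.{0}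
  have := @_root_.DoubleQuot.quotQuotToQuotSup.eq_1.{0}
  have := @_root_.Ideal.quotientMap.eq_def.{0, 0}
  have := @_root_.DoubleQuot.quotLeftToQuotSupₐ.eq_def.{0, 0}
  have := @_root_.DoubleQuot.quotLeftToQuotSupₐ.eq_1.{0, 0}
  have := @_root_.DoubleQuot.quotQuotEquivQuotOfLEₐ.eq_def.{0, 0}
  have := @_root_.DoubleQuot.quotQuotEquivQuotOfLEₐ.eq_1.{0, 0}
  have := @_root_.DoubleQuot.liftSupQuotQuotMk.eq_def.{0}
  have := @_root_.DoubleQuot.liftSupQuotQuotMk.eq_1.{0}
  have := @_root_.Ideal.powQuotPowSuccEquivMapMkPowSuccPow.eq_def.{0}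
  have := @_root_.Ideal.powQuotPowSuccEquivMapMkPowSuccPow.eq_1.{0}
  have := @_root_.Ideal.quotientKerAlgEquivOfRightInverse.congr_simp.{0, 0, 0}
  have := @_root_.Ideal.quotientKerAlgEquivOfRightInverse.eq_def.{0, 0, 0}
  have := @_root_.Ideal.quotientKerAlgEquivOfRightInverse.eq_1.{0, 0, 0}
  have := @_root_.Ideal.quotientInfRingEquivPiQuotient.eq_def.{0, 0}
  have := @_root_.Ideal.quotientInfRingEquivPiQuotient.eq_1.{0, 0}
  have := @_root_.AlgHom.liftOfSurjective.eq_def.{0, 0, 0, 0}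
  have := @_root_.AlgHom.liftOfSurjective.eq_1.{0, 0, 0, 0}
  have := @_root_.Ideal.quotientMulEquivQuotientProd.eq_def.{0}
  have := @_root_.Ideal.quotientMulEquivQuotientProd.eq_1.{0}
  have := @_root_.RingHom.quotientKerEquivOfSurjective.eq_def.{0, 0}
  trivial

theorem m18_10 : True := by
  have := @_root_.DoubleQuot.quotQuotMkₐ.eq_def.{0, 0}
  have := @_root_.DoubleQuot.quotQuotMkₐ.eq_1.{0, 0}
  have := @_root_.Ideal.Quotient.factorₐ.eq_def.{0, 0}
  have := @_root_.Ideal.Quotient.factorₐ.eq_1.{0, 0}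
  have := @_root_.RingEquiv.quotientBot.eq_def.{0}
  have := @_root_.RingEquiv.quotientBot.eq_1.{0}
  have := @_root_.Subalgebra.matrix.eq_def.{0, 0, 0}
  have := @_root_.Subalgebra.matrix.eq_1.{0, 0, 0}
  have := @_root_.Subsemiring.addEquivOp.eq_def.{0}
  have := @_root_.Subsemiring.addEquivOp.eq_1.{0}
  have := @_root_.Subsemiring.unop.eq_def.{0}
  have := @_root_.Subsemiring.unop.eq_1.{0}
  have := @_root_.Subsemiring.op.eq_def.{0}
  have := @_root_.Subsemiring.op.eq_1.{0}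
  have := @_root_.Subsemiring.opEquiv.eq_def.{0}
  have := @_root_.Subsemiring.opEquiv.eq_1.{0}
  have := @_root_.Subsemiring.ringEquivOpMop.eq_def.{0}
  have := @_root_.Subsemiring.ringEquivOpMop.eq_1.{0}
  have := @_root_.Subsemiring.mopRingEquivOp.eq_def.{0}
  have := @_root_.Subsemiring.mopRingEquivOp.eq_1.{0}
  have := @_root_.Subring.unop.eq_def.{0}
  have := @_root_.Subring.unop.eq_1.{0}
  have := @_root_.Subring.mopRingEquivOp.eq_def.{0}
  have := @_root_.Subring.mopRingEquivOp.eq_1.{0}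
  have := @_root_.Subring.ringEquivOpMop.eq_def.{0}
  have := @_root_.Subring.ringEquivOpMop.eq_1.{0}
  have := @_root_.Subring.opEquiv.eq_def.{0}
  have := @_root_.Subring.opEquiv.eq_1.{0}
  have := @_root_.Subring.addEquivOp.eq_def.{0}
  have := @_root_.Subring.addEquivOp.eq_1.{0}
  trivial

theorem m18_11 : True := by
  have := @_root_.Subring.op.eq_def.{0}
  have := @_root_.Subring.op.eq_1.{0}
  have := @_root_.Subalgebra.unop.eq_def.{0, 0}
  have := @_root_.Subalgebra.unop.eq_1.{0, 0}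
  have := @_root_.Subalgebra.op.eq_def.{0, 0}
  have := @_root_.Subalgebra.op.eq_1.{0, 0}
  have := @_root_.Subalgebra.mopAlgEquivOp.eq_def.{0, 0}
  have := @_root_.Subalgebra.mopAlgEquivOp.eq_1.{0, 0}
  have := @_root_.Subalgebra.linearEquivOp.eq_def.{0, 0}
  have := @_root_.Subalgebra.linearEquivOp.eq_1.{0, 0}
  have := @_root_.Subalgebra.algEquivOpMop.eq_def.{0, 0}
  have := @_root_.Subalgebra.algEquivOpMop.eq_1.{0, 0}
  have := @_root_.Subalgebra.opEquiv.eq_def.{0, 0}
  have := @_root_.Subalgebra.opEquiv.eq_1.{0, 0}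
  have := @_root_.Subsemiring.nonneg.eq_def.{0}
  have := @_root_.Subsemiring.nonneg.eq_1.{0}
  have := @_root_.Subalgebra.pi.eq_def.{0, 0, 0}
  have := @_root_.Subalgebra.pi.eq_1.{0, 0, 0}
  have := @_root_.Subsemiring.pointwiseMulAction.eq_def.{0, 0}
  have := @_root_.Subsemiring.pointwiseMulAction.eq_1.{0, 0}
  have := @_root_.Subring.pointwiseMulAction.eq_def.{0, 0}
  have := @_root_.Subring.pointwiseMulAction.eq_1.{0, 0}
  have := @_root_.Subalgebra.pointwiseMulAction.congr_simp.{0, 0, 0}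
  have := @_root_.Subalgebra.pointwiseMulAction.eq_def.{0, 0, 0}
  have := @_root_.Subalgebra.pointwiseMulAction.eq_1.{0, 0, 0}
  have := @_root_.StarSubalgebra.comap.eq_def.{0, 0, 0}
  have := @_root_.StarSubalgebra.comap.eq_1.{0, 0, 0}
  have := @_root_.StarAlgebra.gi.eq_def.{0, 0}
  have := @_root_.StarAlgebra.gi.eq_1.{0, 0}
  have := @_root_.StarSubalgebra.subtype.eq_def.{0, 0}
  trivial

theorem m18_12 : True := by
  have := @_root_.StarSubalgebra.subtype.eq_1.{0, 0}
  have := @_root_.StarSubalgebra.ofClass.eq_def.{0, 0, 0}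
  have := @_root_.StarSubalgebra.ofClass.eq_1.{0, 0, 0}
  have := @_root_.StarSubalgebra.centralizer.eq_def.{0, 0}
  have := @_root_.StarSubalgebra.centralizer.eq_1.{0, 0}
  have := @_root_.StarAlgebra.adjoinCommRingOfComm.congr_simp.{0, 0}
  have := @_root_.StarAlgebra.adjoinCommRingOfComm.eq_def.{0, 0}
  have := @_root_.StarAlgebra.adjoinCommRingOfComm.eq_1.{0, 0}
  have := @_root_.StarAlgebra.adjoinCommSemiringOfComm.congr_simp.{0, 0}
  have := @_root_.StarAlgebra.adjoinCommSemiringOfComm.eq_def.{0, 0}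
  have := @_root_.StarAlgebra.adjoinCommSemiringOfComm.eq_1.{0, 0}
  have := @_root_.StarSubalgebra.inclusion.eq_def.{0, 0}
  have := @_root_.StarSubalgebra.inclusion.eq_1.{0, 0}
  have := @_root_.StarAlgebra.adjoin.eq_def.{0, 0}
  have := @_root_.StarAlgebra.adjoin.eq_1.{0, 0}
  have := @_root_.StarAlgHom.equalizer.congr_simp.{0, 0, 0, 0}
  have := @_root_.StarAlgHom.equalizer.eq_def.{0, 0, 0, 0}
  have := @_root_.StarAlgHom.equalizer.eq_1.{0, 0, 0, 0}
  have := @_root_.StarSubalgebra.mk.congr_simp.{0, 0}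
  have := @_root_.StarAlgHom.restrictScalars.eq_def.{0, 0, 0, 0}
  have := @_root_.StarAlgHom.restrictScalars.eq_1.{0, 0, 0, 0}
  have := @_root_.StarAlgHom.rangeRestrict.eq_def.{0, 0, 0}
  have := @_root_.StarAlgHom.rangeRestrict.eq_1.{0, 0, 0}
  have := @_root_.StarSubalgebra.copy.congr_simp.{0, 0}
  have := @_root_.StarSubalgebra.copy.eq_def.{0, 0}
  have := @_root_.StarSubalgebra.copy.eq_1.{0, 0}
  have := @_root_.Subalgebra.starClosure.eq_def.{0, 0}
  have := @_root_.Subalgebra.starClosure.eq_1.{0, 0}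
  have := @_root_.StarAlgHom.codRestrict.eq_def.{0, 0, 0}
  have := @_root_.StarAlgHom.codRestrict.eq_1.{0, 0, 0}
  trivial

theorem m18_13 : True := by
  have := @_root_.StarAlgHom.range.eq_def.{0, 0, 0}
  have := @_root_.StarAlgHom.range.eq_1.{0, 0, 0}
  have := @_root_.StarAlgEquiv.restrictScalars.congr_simp.{0, 0, 0, 0}
  have := @_root_.StarAlgEquiv.restrictScalars.eq_def.{0, 0, 0, 0}
  have := @_root_.StarAlgEquiv.restrictScalars.eq_1.{0, 0, 0, 0}
  have := @_root_.NonUnitalStarSubalgebra.toStarSubalgebra.congr_simp.{0, 0}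
  have := @_root_.NonUnitalStarSubalgebra.toStarSubalgebra.eq_def.{0, 0}
  have := @_root_.NonUnitalStarSubalgebra.toStarSubalgebra.eq_1.{0, 0}
  have := @_root_.StarSubalgebra.toNonUnitalStarSubalgebra.eq_def.{0, 0}
  have := @_root_.StarSubalgebra.toNonUnitalStarSubalgebra.eq_1.{0, 0}
  have := @_root_.StarSubalgebra.map.eq_def.{0, 0, 0}
  have := @_root_.StarSubalgebra.map.eq_1.{0, 0, 0}
  have := @_root_.StarAlgEquiv.ofInjective.congr_simp.{0, 0, 0}
  have := @_root_.StarAlgEquiv.ofInjective.eq_def.{0, 0, 0}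
  have := @_root_.StarAlgEquiv.ofInjective.eq_1.{0, 0, 0}
  have := @_root_.NonUnitalStarSubalgebra.unitization.eq_def.{0, 0, 0}
  have := @_root_.NonUnitalSubalgebra.unitizationAlgEquiv.congr_simp.{0, 0, 0}
  have := @_root_.NonUnitalSubalgebra.unitizationAlgEquiv.eq_def.{0, 0, 0}
  have := @_root_.NonUnitalSubalgebra.unitizationAlgEquiv.eq_1.{0, 0, 0}
  have := @_root_.NonUnitalSubsemiring.unitization.eq_def.{0, 0}
  have := @_root_.NonUnitalStarSubalgebra.unitizationStarAlgEquiv.congr_simp.{0, 0, 0}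
  have := @_root_.NonUnitalStarSubalgebra.unitizationStarAlgEquiv.eq_def.{0, 0, 0}
  have := @_root_.NonUnitalStarSubalgebra.unitizationStarAlgEquiv.eq_1.{0, 0, 0}
  have := @_root_.NonUnitalSubring.unitization.eq_def.{0, 0}
  have := @_root_.NonUnitalSubalgebra.unitization.eq_def.{0, 0, 0}
  have := @_root_.Int.ModEq.eq_def
  have := @_root_.Multiset.lists.eq_def.{0}
  have := @_root_.Multiset.lists.eq_1.{0}
  have := @_root_.MulAction.period.eq_def.{0, 0}
  have := @_root_.Function.minimalPeriod.eq_def.{0}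
  trivial

theorem m18_14 : True := by
  have := @_root_.Function.periodicOrbit.eq_def.{0}
  have := @_root_.Function.ptsOfPeriod.eq_def.{0}
  have := @_root_.Function.ptsOfPeriod.eq_1.{0}
  have := @_root_.Function.IsPeriodicPt.eq_def.{0}
  have := @_root_.Function.periodicPts.eq_def.{0}
  have := @_root_.Function.periodicPts.eq_1.{0}
  have := @_root_.AddAction.period.eq_def.{0, 0}
  have := @_root_.MulAction.stabilizerEquivStabilizer.eq_def.{0, 0}
  have := @_root_.AddAction.stabilizerEquivStabilizer.eq_def.{0, 0}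
  have := @_root_.AddAction.stabilizerEquivStabilizerOfOrbitRel.congr_simp.{0, 0}
  have := @_root_.AddAction.stabilizerEquivStabilizerOfOrbitRel.eq_def.{0, 0}
  have := @_root_.MulAction.stabilizerEquivStabilizerOfOrbitRel.congr_simp.{0, 0}
  have := @_root_.MulAction.stabilizerEquivStabilizerOfOrbitRel.eq_def.{0, 0}
  have := @_root_.MulAction.orbitEquivQuotientStabilizer.eq_def.{0, 0}
  have := @_root_.MulAction.equivSubgroupOrbitsQuotientGroup.congr_simp.{0, 0}
  have := @_root_.MulAction.equivSubgroupOrbitsQuotientGroup.eq_def.{0, 0}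
  have := @_root_.MulAction.equivSubgroupOrbitsSetoidComap.eq_def.{0, 0}
  have := @_root_.AddAction.equivAddSubgroupOrbits.eq_def.{0, 0}
  have := @_root_.AddAction.orbitEquivQuotientStabilizer.eq_def.{0, 0}
  have := @_root_.AddAction.selfEquivSigmaOrbitsQuotientStabilizer'.congr_simp.{0, 0}
  have := @_root_.AddAction.selfEquivSigmaOrbitsQuotientStabilizer'.eq_def.{0, 0}
  have := @_root_.AddAction.equivAddSubgroupOrbitsQuotientAddGroup.congr_simp.{0, 0}
  have := @_root_.AddAction.equivAddSubgroupOrbitsQuotientAddGroup.eq_def.{0, 0}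
  have := @_root_.AddAction.ofQuotientStabilizer.eq_def.{0, 0}
  have := @_root_.Subgroup.quotientCenterEmbedding.congr_simp.{0}
  have := @_root_.Subgroup.quotientCenterEmbedding.eq_def.{0}
  have := @_root_.Subgroup.quotientCenterEmbedding.eq_1.{0}
  have := @_root_.MulAction.QuotientAction.mk.congr_simp.{0, 0}
  have := @_root_.MulAction.selfEquivSigmaOrbitsQuotientStabilizer'.congr_simp.{0, 0}
  have := @_root_.MulAction.selfEquivSigmaOrbitsQuotientStabilizer'.eq_def.{0, 0}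
  trivial

end Cfsg.Rz
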