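import Cfsg.Agent.Rz.M18

/-! Generated file: forces on-demand equation and congruence lemmas to be created once. -/

set_option linter.all false

namespace Cfsg.Rz

theorem m19_0 : True := by
  have := @_root_.AddAction.equivAddSubgroupOrbitsSetoidComap.eq_def.{0, 0}
  have := @_root_.Subgroup.quotientCentralizerEmbedding.eq_def.{0}
  have := @_root_.Subgroup.quotientCentralizerEmbedding.eq_1.{0}
  have := @_root_.MulAction.selfEquivOrbitsQuotientProd'.congr_simp.{0, 0}
  have := @_root_.MulAction.selfEquivOrbitsQuotientProd'.eq_def.{0, 0}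
  have := @_root_.MulAction.ofQuotientStabilizer.eq_def.{0, 0}
  have := @_root_.AddAction.selfEquivOrbitsQuotientProd.congr_simp.{0, 0}
  have := @_root_.AddAction.selfEquivOrbitsQuotientProd.eq_def.{0, 0}
  have := @_root_.MulAction.selfEquivSigmaOrbitsQuotientStabilizer.eq_def.{0, 0}
  have := @_root_.MulActionHom.toQuotient.eq_def.{0}
  have := @_root_.MulActionHom.toQuotient.eq_1.{0}
  have := @_root_.AddAction.orbitProdStabilizerEquivAddGroup.eq_def.{0, 0}
  have := @_root_.AddAction.sigmaFixedByEquivOrbitsProdAddGroup.eq_def.{0, 0}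
  have := @_root_.AddAction.selfEquivOrbitsQuotientProd'.congr_simp.{0, 0}
  have := @_root_.AddAction.selfEquivOrbitsQuotientProd'.eq_def.{0, 0}
  have := @_root_.MulAction.equivSubgroupOrbits.eq_def.{0, 0}
  have := @_root_.MulAction.selfEquivOrbitsQuotientProd.congr_simp.{0, 0}
  have := @_root_.MulAction.selfEquivOrbitsQuotientProd.eq_def.{0, 0}
  have := @_root_.AddAction.QuotientAction.mk.congr_simp.{0, 0}
  have := @_root_.AddAction.selfEquivSigmaOrbitsQuotientStabilizer.eq_def.{0, 0}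
  have := @_root_.MulAction.orbitProdStabilizerEquivGroup.eq_def.{0, 0}
  have := @_root_.MulAction.sigmaFixedByEquivOrbitsProdGroup.eq_def.{0, 0}
  have := @_root_.AddSubgroup.IsFiniteRelIndex.mk.congr_simp.{0}
  have := @_root_.Subgroup.fintypeOfIndexNeZero.congr_simp.{0}
  have := @_root_.Subgroup.fintypeOfIndexNeZero.eq_def.{0}
  have := @_root_.Subgroup.fintypeQuotientOfFiniteIndex.congr_simp.{0}
  have := @_root_.Subgroup.fintypeQuotientOfFiniteIndex.eq_def.{0}
  have := @_root_.AddSubgroup.index.eq_def.{0}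
  have := @_root_.AddSubgroup.FiniteIndex.mk.congr_simp.{0}
  have := @_root_.AddSubgroup.relIndex.eq_def.{0}
  trivial

theorem m19_1 : True := by
  have := @_root_.Subgroup.index.eq_def.{0}
  have := @_root_.Subgroup.relIndex.eq_def.{0}
  have := @_root_.Subgroup.IsFiniteRelIndex.mk.congr_simp.{0}
  have := @_root_.AddSubgroup.fintypeQuotientOfFiniteIndex.congr_simp.{0}
  have := @_root_.AddSubgroup.fintypeQuotientOfFiniteIndex.eq_def.{0}
  have := @_root_.Subgroup.FiniteIndex.mk.congr_simp.{0}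
  have := @_root_.AddSubgroup.fintypeOfIndexNeZero.congr_simp.{0}
  have := @_root_.AddSubgroup.fintypeOfIndexNeZero.eq_def.{0}
  have := @_root_.Nat.primeFactors.eq_def
  have := @_root_.Nat.divisorsAntidiagonalList.eq_def
  have := @_root_.Int.divisors.eq_def
  have := @_root_.Int.divisorsAntidiag.eq_def
  have := @_root_.Nat.divisors.eq_def
  have := @_root_.Nat.properDivisors.eq_def
  have := @_root_.Nat.Perfect.eq_def
  have := @_root_.Nat.divisorsAntidiagonal.eq_def
  have := @_root_.IsOfFinAddOrder.addGroupMultiples.congr_simp.{0}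
  have := @_root_.IsOfFinAddOrder.addGroupMultiples.eq_def.{0}
  have := @_root_.LeftCancelMonoid.groupOfFinite.congr_simp.{0}
  have := @_root_.LeftCancelMonoid.groupOfFinite.eq_def.{0}
  have := @_root_.smulCardAddSubgroup.congr_simp.{0}
  have := @_root_.smulCardAddSubgroup.eq_def.{0}
  have := @_root_.finEquivPowers.congr_simp.{0}
  have := @_root_.finEquivPowers.eq_def.{0}
  have := @_root_.addSubgroupOfIdempotent.congr_simp.{0}
  have := @_root_.addSubgroupOfIdempotent.eq_def.{0}
  have := @_root_.subgroupOfIdempotent.congr_simp.{0}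
  have := @_root_.subgroupOfIdempotent.eq_def.{0}
  have := @_root_.IsOfFinOrder.eq_def.{0}
  have := @_root_.finEquivZPowers.eq_def.{0}
  trivial

theorem m19_2 : True := by
  have := @_root_.multiplesEquivMultiples.congr_simp.{0}
  have := @_root_.multiplesEquivMultiples.eq_def.{0}
  have := @_root_.nsmulCoprime.congr_simp.{0}
  have := @_root_.nsmulCoprime.eq_def.{0}
  have := @_root_.zmultiplesEquivZMultiples.congr_simp.{0}
  have := @_root_.zmultiplesEquivZMultiples.eq_def.{0}
  have := @_root_.IsOfFinOrder.groupPowers.congr_simp.{0}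
  have := @_root_.IsOfFinOrder.groupPowers.eq_def.{0}
  have := @_root_.submonoidOfIdempotent.congr_simp.{0}
  have := @_root_.submonoidOfIdempotent.eq_def.{0}
  have := @_root_.AddLeftCancelMonoid.addGroupOfFinite.congr_simp.{0}
  have := @_root_.AddLeftCancelMonoid.addGroupOfFinite.eq_def.{0}
  have := @_root_.zpowersEquivZPowers.eq_def.{0}
  have := @_root_.IsOfFinAddOrder.eq_def.{0}
  have := @_root_.powCardSubgroup.congr_simp.{0}
  have := @_root_.powCardSubgroup.eq_def.{0}
  have := @_root_.finEquivZMultiples.congr_simp.{0}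
  have := @_root_.finEquivZMultiples.eq_def.{0}
  have := @_root_.IsOfFinOrder.unit.eq_def.{0}
  have := @_root_.powersEquivPowers.congr_simp.{0}
  have := @_root_.powersEquivPowers.eq_def.{0}
  have := @_root_.powCoprime.congr_simp.{0}
  have := @_root_.powCoprime.eq_def.{0}
  have := @_root_.orderOf.eq_def.{0}
  have := @_root_.IsOfFinAddOrder.addUnit.congr_simp.{0}
  have := @_root_.IsOfFinAddOrder.addUnit.eq_def.{0}
  have := @_root_.addSubmonoidOfIdempotent.congr_simp.{0}
  have := @_root_.addSubmonoidOfIdempotent.eq_def.{0}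
  have := @_root_.RightCancelMonoid.groupOfFinite.congr_simp.{0}
  have := @_root_.RightCancelMonoid.groupOfFinite.eq_def.{0}
  trivial

theorem m19_3 : True := by
  have := @_root_.AddRightCancelMonoid.addGroupOfFinite.congr_simp.{0}
  have := @_root_.AddRightCancelMonoid.addGroupOfFinite.eq_def.{0}
  have := @_root_.finEquivMultiples.congr_simp.{0}
  have := @_root_.finEquivMultiples.eq_def.{0}
  have := @_root_.addOrderOf.eq_def.{0}
  have := @_root_.ZMod.finEquiv.congr_simp
  have := @_root_.ZMod.finEquiv.eq_def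
  have := @_root_.ZMod.finEquiv.eq_1
  have := @_root_.ZMod.castHom.eq_def.{0}
  have := @_root_.ZMod.lift.eq_def.{0}
  have := @_root_.ZMod.lift.eq_1.{0}
  have := @_root_.ZMod.ringEquivCongr.eq_def
  have := @_root_.ZMod.ringEquivCongr.eq_1
  have := @_root_.ZMod.chineseRemainder.eq_def
  have := @_root_.ZMod.chineseRemainder.eq_1
  have := @_root_.ZMod.ringEquiv.congr_simp.{0}
  have := @_root_.ZMod.ringEquiv.eq_def.{0}
  have := @_root_.ZMod.ringEquiv.eq_1.{0}
  have := @_root_.ZMod.unitsEquivCoprime.congr_simp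
  have := @_root_.ZMod.unitsEquivCoprime.eq_def
  have := @_root_.ZMod.unitsEquivCoprime.eq_1
  have := @_root_.Nat.residueClassesEquiv.congr_simp
  have := @_root_.Nat.residueClassesEquiv.eq_def
  have := @_root_.ZMod.val.eq_def
  have := @_root_.ZMod.unitOfCoprime.eq_def
  have := @_root_.ZMod.unitOfCoprime.eq_1
  have := @_root_.ZMod.cast.eq_def.{0}
  have := @_root_.ZMod.ringEquivOfPrime.eq_def.{0}
  have := @_root_.ZMod.ringEquivOfPrime.eq_1.{0}
  have := @_root_.ZMod.inv.eq_def
  trivial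

theorem m19_4 : True := by
  have := @_root_.ZMod.inv.eq_1
  have := @_root_.ZMod.algebra'.congr_simp.{0}
  have := @_root_.ZMod.algebra'.eq_def.{0}
  have := @_root_.ZMod.algebra'.eq_1.{0}
  have := @_root_.ZMod.algebra.congr_simp.{0}
  have := @_root_.ZMod.algebra.eq_def.{0}
  have := @_root_.ZMod.algebra.eq_1.{0}
  have := @_root_.ZMod.algebraOfModule.eq_def.{0}
  have := @_root_.ZMod.algebraOfModule.eq_1.{0}
  have := @_root_.Nat.centralBinom.eq_def
  have := @_root_.Nat.digitsAux0.eq_def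
  have := @_root_.Nat.digitsAux1.eq_def
  have := @_root_.Nat.digits.eq_def
  have := @_root_.Nat.digitsAppend.eq_def
  have := @_root_.Nat.digitsAppend.eq_1
  have := @_root_.Nat.divMaxPow.eq_def
  have := @_root_.Nat.maxPowDiv.eq_def
  have := @_root_.Nat.maxPowDiv.eq_1
  have := @_root_.padicValNat.eq_def
  have := @_root_.Nat.factorization.eq_def
  have := @_root_.Nat.factorizationLCMRight.eq_def
  have := @_root_.Nat.factorizationLCMLeft.eq_def
  have := @_root_.Nat.factorizationEquiv.eq_def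
  have := @_root_.Nat.factorizationEquiv.eq_1
  have := @_root_.iterateFrobenius.eq_def.{0}
  have := @_root_.iterateFrobenius.eq_1.{0}
  have := @_root_.frobenius.eq_def.{0}
  have := @_root_.LinearMap.iterateFrobenius.congr_simp.{0, 0}
  have := @_root_.LinearMap.iterateFrobenius.eq_def.{0, 0}
  have := @_root_.LinearMap.iterateFrobenius.eq_1.{0, 0}
  trivial

theorem m19_5 : True := by
  have := @_root_.LinearMap.frobenius.congr_simp.{0, 0}
  have := @_root_.LinearMap.frobenius.eq_def.{0, 0}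
  have := @_root_.LinearMap.frobenius.eq_1.{0, 0}
  have := @_root_.AddMonoidAlgebra.divOfHom.congr_simp.{0, 0}
  have := @_root_.AddMonoidAlgebra.divOfHom.eq_def.{0, 0}
  have := @_root_.AddMonoidAlgebra.divOfHom.eq_1.{0, 0}
  have := @_root_.AddMonoidAlgebra.divOf.eq_def.{0, 0}
  have := @_root_.AddMonoidAlgebra.divOf.eq_1.{0, 0}
  have := @_root_.AddMonoidAlgebra.modOf.eq_def.{0, 0}
  have := @_root_.AddMonoidAlgebra.modOf.eq_1.{0, 0}
  have := @_root_.Polynomial.leval.eq_def.{0}
  have := @_root_.Polynomial.leval.eq_1.{0}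
  have := @_root_.Finsupp.degree.eq_def.{0, 0}
  have := @_root_.Finsupp.weight.eq_def.{0, 0, 0}
  have := @_root_.Finsupp.NonTorsionWeight.mk.congr_simp.{0, 0, 0}
  have := @_root_.Polynomial.rootSet.eq_def.{0, 0}
  have := @_root_.Polynomial.aroots.eq_def.{0, 0}
  have := @_root_.Polynomial.nthRoots.eq_def.{0}
  have := @_root_.Polynomial.nthRootsFinset.eq_def.{0}
  have := @_root_.Polynomial.roots.eq_def.{0}
  have := @_root_.IsRadical.eq_def.{0}
  have := @_root_.nilpotencyClass.eq_def.{0}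
  have := @_root_.Finset.dens.eq_def.{0}
  have := @_root_.BigOperators.bigexpect.eq_def
  have := @_root_.BigOperators.bigexpect.eq_1
  have := @_root_.Finset.expect.eq_def.{0, 0}
  have := @_root_.Fintype.balance.eq_def.{0, 0}
  have := @_root_.Finset.intervalGapsWithin.fst.eq_def.{0}
  have := @_root_.Finset.intervalGapsWithin.eq_def.{0}
  have := @_root_.Finset.intervalGapsWithin.snd.eq_def.{0}
  trivial

theorem m19_6 : True := by
  have := @_root_.Function.Even.eq_def.{0, 0}
  have := @_root_.Function.Odd.eq_def.{0, 0}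
  have := @_root_.Multiset.sym2.eq_def.{0}
  have := @_root_.Multiset.sym2.eq_1.{0}
  have := @_root_.Finset.symInsertEquiv.eq_def.{0}
  have := @_root_.Finset.symInsertEquiv.eq_1.{0}
  have := @_root_.Finset.sym.eq_def.{0}
  have := @_root_.Finset.sym.eq_1.{0}
  have := @_root_.Finset.sym2.eq_def.{0}
  have := @_root_.Finset.sym2.eq_1.{0}
  have := @_root_.Finset.smul.eq_def.{0, 0}
  have := @_root_.Finset.vaddFinset.eq_def.{0, 0}
  have := @_root_.Finset.smulFinset.eq_def.{0, 0}
  have := @_root_.Finset.vadd.eq_def.{0, 0}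
  have := @_root_.Finset.vsub.eq_def.{0, 0}
  have := @_root_.Finset.vsub.eq_1.{0, 0}
  have := @_root_.Finset.Nat.sigmaAntidiagonalTupleEquivTuple.eq_def
  have := @_root_.Finset.Nat.sigmaAntidiagonalTupleEquivTuple.eq_1
  have := @_root_.Multiset.Nat.antidiagonalTuple.eq_def
  have := @_root_.Multiset.Nat.antidiagonalTuple.eq_1
  have := @_root_.Finset.Nat.antidiagonalTuple.eq_def
  have := @_root_.Finset.Nat.antidiagonalTuple.eq_1
  have := @_root_.Equiv.Perm.Disjoint.eq_def.{0}
  have := @_root_.Equiv.Perm.support.eq_def.{0}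
  have := @_root_.Equiv.Perm.IsSwap.eq_def.{0}
  have := @_root_.Equiv.Perm.IsSwap.eq_1.{0}
  have := @_root_.Fintype.chooseX.congr_simp.{0}
  have := @_root_.Fintype.chooseX.eq_def.{0}
  have := @_root_.Fintype.chooseX.eq_1.{0}
  have := @_root_.Fintype.bijInv.eq_def.{0, 0}
  trivial

theorem m19_7 : True := by
  have := @_root_.Fintype.bijInv.eq_1.{0, 0}
  have := @_root_.Function.Embedding.invOfMemRange.eq_def.{0, 0}
  have := @_root_.Function.Injective.invOfMemRange.eq_def.{0, 0}
  have := @_root_.Function.Injective.invOfMemRange.eq_1.{0, 0}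
  have := @_root_.Fintype.choose.congr_simp.{0}
  have := @_root_.Fintype.choose.eq_def.{0}
  have := @_root_.Fintype.choose.eq_1.{0}
  have := @_root_.Equiv.setDiffEquiv.congr_simp.{0}
  have := @_root_.Equiv.setDiffEquiv.eq_def.{0}
  have := @_root_.Equiv.setDiffEquiv.eq_1.{0}
  have := @_root_.Equiv.toCompl.eq_def.{0}
  have := @_root_.Equiv.toCompl.eq_1.{0}
  have := @_root_.Equiv.extendSubtype.eq_def.{0}
  have := @_root_.Equiv.extendSubtype.eq_1.{0}
  have := @_root_.Function.Embedding.toEquivRange.eq_def.{0, 0}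
  have := @_root_.Equiv.Perm.viaFintypeEmbedding.eq_def.{0, 0}
  have := @_root_.Equiv.Perm.subtypePermOfFintype.congr_simp.{0}
  have := @_root_.Equiv.Perm.subtypePermOfFintype.eq_def.{0}
  have := @_root_.Equiv.Perm.subtypePermOfFintype.eq_1.{0}
  have := @_root_.fintypePerm.eq_def.{0}
  have := @_root_.fintypePerm.eq_1.{0}
  have := @_root_.permsOfFinset.eq_def.{0}
  have := @_root_.permsOfFinset.eq_1.{0}
  have := @_root_.Equiv.Perm.signAux3.congr_simp.{0}
  have := @_root_.Equiv.Perm.signAux3.eq_def.{0}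
  have := @_root_.Equiv.Perm.signAux3.eq_1.{0}
  have := @_root_.Equiv.Perm.finPairsLT.eq_def
  have := @_root_.Equiv.Perm.truncSwapFactors.eq_def.{0}
  have := @_root_.Equiv.Perm.truncSwapFactors.eq_1.{0}
  have := @_root_.Equiv.Perm.swapFactorsAux.congr_simp.{0}
  trivial

theorem m19_8 : True := by
  have := @_root_.Equiv.Perm.swapFactorsAux.eq_def.{0}
  have := @_root_.Equiv.Perm.swapFactorsAux.eq_1.{0}
  have := @_root_.Equiv.Perm.signAux.eq_def
  have := @_root_.Equiv.Perm.modSwap.eq_def.{0}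
  have := @_root_.Equiv.Perm.modSwap.eq_1.{0}
  have := @_root_.Equiv.Perm.swapFactors.eq_def.{0}
  have := @_root_.Equiv.Perm.swapFactors.eq_1.{0}
  have := @_root_.Equiv.Perm.ofSign.eq_def.{0}
  have := @_root_.Equiv.Perm.signBijAux.eq_def
  have := @_root_.Equiv.Perm.sign.eq_def.{0}
  have := @_root_.Equiv.Perm.sign.eq_1.{0}
  have := @_root_.Equiv.Perm.IsCycle.eq_def.{0}
  have := @_root_.Equiv.Perm.SameCycle.eq_def.{0}
  have := @_root_.Equiv.Perm.SameCycle.setoid.eq_def.{0}
  have := @_root_.Equiv.Perm.SameCycle.setoid.eq_1.{0}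
  have := @_root_.Equiv.Perm.subtypePermOfSupport.eq_def.{0}
  have := @_root_.Equiv.Perm.IsCycle.zpowersEquivSupport.eq_def.{0}
  have := @_root_.Equiv.Perm.IsCycle.zpowersEquivSupport.eq_1.{0}
  have := @_root_.Equiv.Perm.subtypePerm_of_support_le.congr_simp.{0}
  have := @_root_.Equiv.Perm.subtypePerm_of_support_le.eq_def.{0}
  have := @_root_.Equiv.Perm.subtypePerm_of_support_le.eq_1.{0}
  have := @_root_.Equiv.Perm.IsCycleOn.eq_def.{0}
  have := @_root_.Subgroup.noncommPiCoprod.congr_simp.{0, 0}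
  have := @_root_.Subgroup.noncommPiCoprod.eq_def.{0, 0}
  have := @_root_.MonoidHom.noncommPiCoprodEquiv.eq_def.{0, 0, 0}
  have := @_root_.AddMonoidHom.noncommPiCoprodEquiv.eq_def.{0, 0, 0}
  have := @_root_.MonoidHom.noncommPiCoprod.eq_def.{0, 0, 0}
  have := @_root_.AddSubgroup.noncommPiCoprod.congr_simp.{0, 0}
  have := @_root_.AddSubgroup.noncommPiCoprod.eq_def.{0, 0}
  have := @_root_.AddMonoidHom.noncommPiCoprod.congr_simp.{0, 0, 0}
  trivial

theorem m19_9 : True := by
  have := @_root_.AddMonoidHom.noncommPiCoprod.eq_def.{0, 0, 0}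
  have := @_root_.Equiv.Perm.cycleFactorsFinset.eq_def.{0}
  have := @_root_.Equiv.Perm.cycleFactors.eq_def.{0}
  have := @_root_.Equiv.Perm.cycleFactors.eq_1.{0}
  have := @_root_.Equiv.Perm.cycleFactorsAux.congr_simp.{0}
  have := @_root_.Equiv.Perm.cycleFactorsAux.eq_def.{0}
  have := @_root_.Equiv.Perm.cycleFactorsAux.eq_1.{0}
  have := @_root_.Equiv.Perm.truncCycleFactors.eq_def.{0}
  have := @_root_.Equiv.Perm.truncCycleFactors.eq_1.{0}
  have := @_root_.Equiv.Perm.cycleOf.eq_def.{0}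
  have := @_root_.Equiv.Perm.cycleOf.eq_1.{0}
  have := @_root_.Equiv.Perm.cycleFactorsAux.go.congr_simp.{0}
  have := @_root_.Equiv.Perm.cycleFactorsAux.go.eq_def.{0}
  have := @_root_.Equiv.Perm.cycleFactorsAux.go.eq_1.{0}
  have := @_root_.Equiv.Perm.partition.eq_def.{0}
  have := @_root_.Equiv.Perm.partition.eq_1.{0}
  have := @_root_.Equiv.Perm.VectorsProdEqOne.vectorEquiv.eq_def.{0}
  have := @_root_.Equiv.Perm.VectorsProdEqOne.vectorEquiv.eq_1.{0}
  have := @_root_.Equiv.Perm.IsThreeCycle.eq_def.{0}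
  have := @_root_.Equiv.Perm.VectorsProdEqOne.rotate.eq_def.{0}
  have := @_root_.Equiv.Perm.VectorsProdEqOne.rotate.eq_1.{0}
  have := @_root_.Equiv.Perm.vectorsProdEqOne.eq_def.{0}
  have := @_root_.Equiv.Perm.vectorsProdEqOne.eq_1.{0}
  have := @_root_.Equiv.Perm.VectorsProdEqOne.equivVector.eq_def.{0}
  have := @_root_.Equiv.Perm.VectorsProdEqOne.equivVector.eq_1.{0}
  have := @_root_.Equiv.Perm.cycleType.eq_def.{0}
  have := @_root_.Equiv.Perm.decomposeOption.eq_def.{0}
  have := @_root_.Equiv.Perm.decomposeOption.eq_1.{0}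
  have := @_root_.Fin.cycleIcc.eq_def
  have := @_root_.Fin.cycleRange.eq_def
  trivial

theorem m19_10 : True := by
  have := @_root_.Equiv.Perm.decomposeFin.eq_def
  have := @_root_.Matrix.detp.eq_def.{0, 0}
  have := @_root_.Matrix.Nonsingular.eq_def.{0, 0}
  have := @_root_.Matrix.IsDetpBalanced.eq_def.{0, 0}
  have := @_root_.Matrix.adjp.eq_def.{0, 0}
  have := @_root_.Matrix.detMonoidHom.eq_def.{0, 0}
  have := @_root_.Matrix.detMonoidHom.eq_1.{0, 0}
  have := @_root_.Matrix.detRowAlternating.eq_def.{0, 0}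
  have := @_root_.Matrix.detRowAlternating.eq_1.{0, 0}
  have := @_root_.Matrix.det.eq_def.{0, 0}
  have := @_root_.Matrix.reindexAlgEquiv.eq_def.{0, 0, 0, 0}
  have := @_root_.Matrix.reindexAlgEquiv.eq_1.{0, 0, 0, 0}
  have := @_root_.Matrix.reindexRingEquiv.eq_def.{0, 0, 0}
  have := @_root_.Matrix.reindexRingEquiv.eq_1.{0, 0, 0}
  have := @_root_.Matrix.reindexLinearEquiv.eq_def.{0, 0, 0, 0, 0, 0}
  have := @_root_.Matrix.reindexLinearEquiv.eq_1.{0, 0, 0, 0, 0, 0}
  have := @_root_.Matrix.reindexAddEquiv.eq_def.{0, 0, 0, 0, 0}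
  have := @_root_.Matrix.reindexAddEquiv.eq_1.{0, 0, 0, 0, 0}
  have := @_root_.AddMonoidHom.toRatLinearMap.eq_def.{0, 0}
  have := @_root_.AddMonoidHom.toRatLinearMap.eq_1.{0, 0}
  have := @_root_.toBoolRing.eq_def.{0}
  have := @_root_.toBoolRing.eq_1.{0}
  have := @_root_.ofBoolAlg.eq_def.{0}
  have := @_root_.ofBoolAlg.eq_1.{0}
  have := @_root_.toBoolAlg.eq_def.{0}
  have := @_root_.toBoolAlg.eq_1.{0}
  have := @_root_.GeneralizedBooleanAlgebra.toNonUnitalCommRing.eq_def.{0}
  have := @_root_.GeneralizedBooleanAlgebra.toNonUnitalCommRing.eq_1.{0}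
  have := @_root_.BooleanAlgebra.toBooleanRing.eq_def.{0}
  have := @_root_.BooleanAlgebra.toBooleanRing.eq_1.{0}
  trivial

theorem m19_11 : True := by
  have := @_root_.BooleanRing.sup.eq_def.{0}
  have := @_root_.BooleanRing.sup.eq_1.{0}
  have := @_root_.ofBoolRing.eq_def.{0}
  have := @_root_.ofBoolRing.eq_1.{0}
  have := @_root_.RingEquiv.asBoolRingAsBoolAlg.eq_def.{0}
  have := @_root_.RingEquiv.asBoolRingAsBoolAlg.eq_1.{0}
  have := @_root_.BooleanRing.mk.congr_simp.{0}
  have := @_root_.BoundedLatticeHom.asBoolRing.eq_def.{0, 0}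
  have := @_root_.BoundedLatticeHom.asBoolRing.eq_1.{0, 0}
  have := @_root_.OrderIso.asBoolAlgAsBoolRing.eq_def.{0}
  have := @_root_.OrderIso.asBoolAlgAsBoolRing.eq_1.{0}
  have := @_root_.BooleanRing.toBooleanAlgebra.eq_def.{0}
  have := @_root_.BooleanRing.toBooleanAlgebra.eq_1.{0}
  have := @_root_.BooleanRing.inf.eq_def.{0}
  have := @_root_.BooleanRing.inf.eq_1.{0}
  have := @_root_.RingHom.asBoolAlg.eq_def.{0, 0}
  have := @_root_.RingHom.asBoolAlg.eq_1.{0, 0}
  have := @_root_.AsBoolRing.eq_def.{0}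
  have := @_root_.AsBoolRing.eq_1.{0}
  have := @_root_.AsBoolAlg.eq_def.{0}
  have := @_root_.AsBoolAlg.eq_1.{0}
  have := @_root_.Localization.Away.monoidOf.eq_def.{0}
  have := @_root_.AddSubmonoid.LocalizationMap.awayToAwayRight.eq_def.{0, 0, 0}
  have := @_root_.AddSubmonoid.LocalizationMap.awayToAwayRight.eq_1.{0, 0, 0}
  have := @_root_.Submonoid.LocalizationMap.AwayMap.invSelf.eq_def.{0, 0}
  have := @_root_.Submonoid.LocalizationMap.AwayMap.invSelf.eq_1.{0, 0}
  have := @_root_.Localization.Away.invSelf.eq_def.{0}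
  have := @_root_.AddLocalization.Away.eq_def.{0}
  have := @_root_.AddSubmonoid.LocalizationMap.AwayMap.eq_def.{0, 0}
  have := @_root_.AddSubmonoid.LocalizationMap.AwayMap.lift.congr_simp.{0, 0, 0}
  trivial

theorem m19_12 : True := by
  have := @_root_.AddSubmonoid.LocalizationMap.AwayMap.lift.eq_def.{0, 0, 0}
  have := @_root_.AddSubmonoid.LocalizationMap.AwayMap.lift.eq_1.{0, 0, 0}
  have := @_root_.AddLocalization.Away.addEquivOfQuotient.eq_def.{0, 0}
  have := @_root_.Submonoid.LocalizationMap.AwayMap.eq_def.{0, 0}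
  have := @_root_.Submonoid.LocalizationMap.AwayMap.lift.congr_simp.{0, 0, 0}
  have := @_root_.Submonoid.LocalizationMap.AwayMap.lift.eq_def.{0, 0, 0}
  have := @_root_.Submonoid.LocalizationMap.AwayMap.lift.eq_1.{0, 0, 0}
  have := @_root_.AddSubmonoid.LocalizationMap.AwayMap.negSelf.eq_def.{0, 0}
  have := @_root_.AddSubmonoid.LocalizationMap.AwayMap.negSelf.eq_1.{0, 0}
  have := @_root_.Localization.Away.eq_def.{0}
  have := @_root_.AddLocalization.Away.addMonoidOf.eq_def.{0}
  have := @_root_.Submonoid.LocalizationMap.awayToAwayRight.eq_def.{0, 0, 0}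
  have := @_root_.Submonoid.LocalizationMap.awayToAwayRight.eq_1.{0, 0, 0}
  have := @_root_.Localization.Away.mulEquivOfQuotient.eq_def.{0, 0}
  have := @_root_.AddLocalization.Away.negSelf.eq_def.{0}
  have := @_root_.Module.jacobson.eq_def.{0, 0}
  have := @_root_.Ring.jacobson.eq_def.{0}
  have := @_root_.Ideal.IsLocal.mk.congr_simp.{0}
  have := @_root_.TwoSidedIdeal.jacobson.eq_def.{0}
  have := @_root_.Ideal.jacobson.eq_def.{0}
  have := @_root_.IsLocalRing.of_is_unit_or_is_unit_of_add_one.congr_simp.{0}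
  have := @_root_.IsLocalRing.nonunitsAddSubmonoid.congr_simp.{0}
  have := @_root_.IsLocalRing.nonunitsAddSubmonoid.eq_def.{0}
  have := @_root_.IsLocalRing.nonunitsAddSubmonoid.eq_1.{0}
  have := @_root_.IsLocalRing.maximalIdeal.eq_def.{0}
  have := @_root_.IsLocalRing.maximalIdeal.eq_1.{0}
  have := @_root_.Bifunctor.mapEquiv.eq_def.{0, 0, 0}
  have := @_root_.Bifunctor.mapEquiv.eq_1.{0, 0, 0}
  have := @_root_.ofAddUnits_addUnits_gci.eq_def.{0}
  have := @_root_.Subgroup.ofUnitsEquivType.eq_def.{0}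
  trivial

theorem m19_13 : True := by
  have := @_root_.Submonoid.unitsEquivUnitsType.eq_def.{0}
  have := @_root_.ofUnits_units_gci.eq_def.{0}
  have := @_root_.Subgroup.unitsEquivSelf.eq_def.{0}
  have := @_root_.Subgroup.ofUnits.eq_def.{0}
  have := @_root_.AddSubmonoid.addUnitsEquivAddUnitsType.eq_def.{0}
  have := @_root_.AddSubgroup.addUnit_of_mem_ofAddUnits.congr_simp.{0}
  have := @_root_.AddSubgroup.addUnit_of_mem_ofAddUnits.eq_def.{0}
  have := @_root_.Subgroup.unit_of_mem_ofUnits.congr_simp.{0}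
  have := @_root_.Subgroup.unit_of_mem_ofUnits.eq_def.{0}
  have := @_root_.AddSubgroup.ofAddUnitsTopEquiv.eq_def.{0}
  have := @_root_.AddSubmonoid.addUnitsEquivIsAddUnitAddSubmonoid.eq_def.{0}
  have := @_root_.AddSubgroup.addUnitsEquivSelf.eq_def.{0}
  have := @_root_.AddSubgroup.ofAddUnits.eq_def.{0}
  have := @_root_.AddSubmonoid.addUnits.eq_def.{0}
  have := @_root_.Submonoid.unitsEquivIsUnitSubmonoid.eq_def.{0}
  have := @_root_.Subgroup.ofUnitsTopEquiv.eq_def.{0}
  have := @_root_.AddSubgroup.ofAddUnitsEquivType.eq_def.{0}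
  have := @_root_.Submonoid.units.eq_def.{0}
  have := @_root_.Units.posSubgroup.eq_def.{0}
  have := @_root_.Units.posSubgroup.eq_1.{0}
  have := @_root_.encodeMultiset.eq_def.{0}
  have := @_root_.decodeMultiset.eq_def.{0}
  have := @_root_.Encodable.fintypeEquivFin.eq_def.{0}
  have := @_root_.Encodable.fintypeEquivFin.eq_1.{0}
  have := @_root_.Denumerable.raise'Finset.eq_def
  have := @_root_.Encodable.sortedUniv.eq_def.{0}
  have := @_root_.Encodable.sortedUniv.eq_1.{0}
  have := @_root_.Encodable.fintypeArrow.eq_def.{0, 0}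
  have := @_root_.Encodable.fintypeArrow.eq_1.{0, 0}
  have := @_root_.Encodable.fintypePi.eq_def.{0, 0}
  trivial

theorem m19_14 : True := by
  have := @_root_.Encodable.fintypePi.eq_1.{0, 0}
  have := @_root_.Module.DualBases.mk.congr_simp.{0, 0, 0}
  have := @_root_.Module.Basis.toDualFlip.congr_simp.{0, 0, 0}
  have := @_root_.Module.Basis.toDualFlip.eq_def.{0, 0, 0}
  have := @_root_.Module.Basis.toDualFlip.eq_1.{0, 0, 0}
  have := @_root_.Module.DualBases.coeffs.eq_def.{0, 0, 0}
  have := @_root_.Module.DualBases.coeffs.eq_1.{0, 0, 0}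
  have := @_root_.Module.DualBases.basis.eq_def.{0, 0, 0}
  have := @_root_.Module.DualBases.basis.eq_1.{0, 0, 0}
  have := @_root_.Module.DualBases.lc.eq_def.{0, 0, 0}
  have := @_root_.Module.Basis.toDual.eq_def.{0, 0, 0}
  have := @_root_.Module.Basis.toDualEquiv.eq_def.{0, 0, 0}
  have := @_root_.Module.Basis.toDualEquiv.eq_1.{0, 0, 0}
  have := @_root_.Module.Basis.dualBasis.eq_def.{0, 0, 0}
  have := @_root_.evalUseFiniteInstance.eq_def
  have := @_root_.evalUseFiniteInstance.eq_1
  have := @_root_.HasRankNullity.mk.congr_simp.{0, 0}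
  have := @_root_.LinearMap.linearEquivOfInjective.eq_def.{0, 0, 0}
  have := @_root_.LinearMap.linearEquivOfInjective.eq_1.{0, 0, 0}
  have := @_root_.basisOfPiSpaceOfLinearIndependent.eq_def.{0, 0}
  have := @_root_.basisOfLinearIndependentOfCardEqFinrank'.congr_simp.{0, 0, 0}
  have := @_root_.basisOfLinearIndependentOfCardEqFinrank'.eq_def.{0, 0, 0}
  have := @_root_.basisOfLinearIndependentOfCardEqFinrank'.eq_1.{0, 0, 0}
  have := @_root_.FiniteDimensional.LinearEquiv.quotEquivOfEquiv.congr_simp.{0, 0, 0}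
  have := @_root_.FiniteDimensional.LinearEquiv.quotEquivOfEquiv.eq_def.{0, 0, 0}
  have := @_root_.FiniteDimensional.LinearEquiv.quotEquivOfEquiv.eq_1.{0, 0, 0}
  have := @_root_.setBasisOfLinearIndependentOfCardEqFinrank.congr_simp.{0, 0}
  have := @_root_.setBasisOfLinearIndependentOfCardEqFinrank.eq_def.{0, 0}
  have := @_root_.FiniteDimensional.LinearEquiv.quotEquivOfQuotEquiv.congr_simp.{0, 0}
  have := @_root_.FiniteDimensional.LinearEquiv.quotEquivOfQuotEquiv.eq_def.{0, 0}
  trivial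

end Cfsg.Rz
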