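import Cfsg.Agent.Rz.M19

/-! Generated file: forces on-demand equation and congruence lemmas to be created once. -/

set_option linter.all false

namespace Cfsg.Rz

theorem m20_0 : True := by
  have := @_root_.FiniteDimensional.LinearEquiv.quotEquivOfQuotEquiv.eq_1.{0, 0}
  have := @_root_.finsetBasisOfLinearIndependentOfCardEqFinrank.congr_simp.{0, 0}
  have := @_root_.finsetBasisOfLinearIndependentOfCardEqFinrank.eq_def.{0, 0}
  have := @_root_.basisOfLinearIndependentOfCardEqFinrank.eq_def.{0, 0, 0}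
  have := @_root_.basisOfLinearIndependentOfCardEqFinrank.eq_1.{0, 0, 0}
  have := @_root_.Subspace.quotDualEquivAnnihilator.congr_simp.{0, 0}
  have := @_root_.Subspace.quotDualEquivAnnihilator.eq_def.{0, 0}
  have := @_root_.Subspace.quotDualEquivAnnihilator.eq_1.{0, 0}
  have := @_root_.Subspace.dualEquivDual.eq_def.{0, 0}
  have := @_root_.Subspace.dualEquivDual.eq_1.{0, 0}
  have := @_root_.TensorProduct.AlgebraTensorModule.dualDistrib.eq_def.{0, 0, 0, 0}
  have := @_root_.TensorProduct.AlgebraTensorModule.dualDistrib.eq_1.{0, 0, 0, 0}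
  have := @_root_.Subspace.orderIsoFiniteCodimDim.eq_def.{0, 0}
  have := @_root_.Subspace.orderIsoFiniteCodimDim.eq_1.{0, 0}
  have := @_root_.Subspace.dualAnnihilatorGci.eq_def.{0, 0}
  have := @_root_.Subspace.dualAnnihilatorGci.eq_1.{0, 0}
  have := @_root_.Subspace.quotEquivAnnihilator.congr_simp.{0, 0}
  have := @_root_.Subspace.quotEquivAnnihilator.eq_def.{0, 0}
  have := @_root_.Subspace.quotEquivAnnihilator.eq_1.{0, 0}
  have := @_root_.Subspace.dualQuotDistrib.congr_simp.{0, 0}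
  have := @_root_.Subspace.dualQuotDistrib.eq_def.{0, 0}
  have := @_root_.Subspace.dualQuotDistrib.eq_1.{0, 0}
  have := @_root_.TensorProduct.dualDistrib.eq_def.{0, 0, 0}
  have := @_root_.Submodule.dualPairing.eq_def.{0, 0}
  have := @_root_.Submodule.dualPairing.eq_1.{0, 0}
  have := @_root_.Submodule.dualQuotEquivDualAnnihilator.eq_def.{0, 0}
  have := @_root_.Submodule.dualQuotEquivDualAnnihilator.eq_1.{0, 0}
  have := @_root_.Subspace.quotAnnihilatorEquiv.eq_def.{0, 0}
  have := @_root_.Subspace.quotAnnihilatorEquiv.eq_1.{0, 0}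
  have := @_root_.Submodule.dualCopairing.eq_def.{0, 0}
  trivial

theorem m20_1 : True := by
  have := @_root_.Submodule.dualCopairing.eq_1.{0, 0}
  have := @_root_.Module.dualProdDualEquivDual.eq_def.{0, 0, 0}
  have := @_root_.Module.dualProdDualEquivDual.eq_1.{0, 0, 0}
  have := @_root_.Subspace.dualLift.eq_def.{0, 0}
  have := @_root_.Subspace.dualLift.eq_1.{0, 0}
  have := @_root_.Submodule.quotDualCoannihilatorToDual.eq_def.{0, 0}
  have := @_root_.Submodule.quotDualCoannihilatorToDual.eq_1.{0, 0}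
  have := @_root_.Subspace.orderIsoFiniteDimensional.congr_simp.{0, 0}
  have := @_root_.Subspace.orderIsoFiniteDimensional.eq_def.{0, 0}
  have := @_root_.Subspace.orderIsoFiniteDimensional.eq_1.{0, 0}
  have := @_root_.rootableByOfPowLeftSurj.congr_simp.{0, 0}
  have := @_root_.rootableByOfPowLeftSurj.eq_def.{0, 0}
  have := @_root_.divisibleByOfSMulRightSurj.congr_simp.{0, 0}
  have := @_root_.divisibleByOfSMulRightSurj.eq_def.{0, 0}
  have := @_root_.AddGroup.divisibleByNatOfDivisibleByInt.eq_def.{0}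
  have := @_root_.Group.rootableByIntOfRootableByNat.eq_def.{0}
  have := @_root_.AddGroup.divisibleByIntOfDivisibleByNat.eq_def.{0}
  have := @_root_.RootableBy.mk.congr_simp.{0, 0}
  have := @_root_.Group.rootableByNatOfRootableByInt.eq_def.{0}
  have := @_root_.Function.Surjective.divisibleBy.congr_simp.{0, 0, 0}
  have := @_root_.Function.Surjective.divisibleBy.eq_def.{0, 0, 0}
  have := @_root_.Function.Surjective.rootableBy.congr_simp.{0, 0, 0}
  have := @_root_.Function.Surjective.rootableBy.eq_def.{0, 0, 0}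
  have := @_root_.AddCommGroup.divisibleByIntOfSMulTopEqTop.congr_simp.{0}
  have := @_root_.AddCommGroup.divisibleByIntOfSMulTopEqTop.eq_def.{0}
  have := @_root_.AddCommGroup.divisibleByIntOfSMulTopEqTop.eq_1.{0}
  have := @_root_.DivisibleBy.mk.congr_simp.{0, 0}
  have := @_root_.Int.negOnePow.eq_def
  have := @_root_.Int.negOnePow.eq_1
  have := @_root_.Function.Antiperiodic.eq_def.{0, 0}
  trivial

theorem m20_2 : True := by
  have := @_root_.Function.Periodic.lift.eq_def.{0, 0}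
  have := @_root_.Function.Periodic.lift.eq_1.{0, 0}
  have := @_root_.Function.Periodic.eq_def.{0, 0}
  have := @_root_.Units.opEquiv.eq_def.{0}
  have := @_root_.AddUnits.opEquiv.eq_def.{0}
  have := @_root_.AddAut.mulRight.eq_def.{0}
  have := @_root_.AddAut.mulRight.eq_1.{0}
  have := @_root_.AddAut.mulLeft.eq_def.{0}
  have := @_root_.AddAut.mulLeft.eq_1.{0}
  have := @_root_.Nat.recOnPrimePow.eq_def.{0}
  have := @_root_.Nat.recOnPrimePow.eq_1.{0}
  have := @_root_.Nat.recOnMul.eq_def.{0}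
  have := @_root_.Nat.recOnMul.eq_1.{0}
  have := @_root_.Nat.recOnPosPrimePosCoprime.eq_def.{0}
  have := @_root_.Nat.recOnPosPrimePosCoprime.eq_1.{0}
  have := @_root_.Nat.recOnPrimeCoprime.eq_def.{0}
  have := @_root_.Nat.recOnPrimeCoprime.eq_1.{0}
  have := @_root_.Nat.CountSet.fintype.eq_def
  have := @_root_.Nat.CountSet.fintype.eq_1
  have := @_root_.Nat.count.eq_def
  have := @_root_.Nat.totient.eq_def
  have := @_root_.FiniteInter.finiteInterClosure.inter.congr_simp.{0}
  have := @_root_.FiniteInter.mk.congr_simp.{0}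
  have := @_root_.FiniteInter.finiteInterClosure.below.inter.congr_simp.{0}
  have := @_root_.FiniteInter.finiteInterClosure.basic.congr_simp.{0}
  have := @_root_.SetM.run.eq_def.{0}
  have := @_root_.SetM.run.eq_1.{0}
  have := @_root_.Set.monad.eq_def.{0}
  have := @_root_.Set.monad.eq_1.{0}
  have := @_root_.SetM.eq_def.{0}
  trivial

theorem m20_3 : True := by
  have := @_root_.SetM.eq_1.{0}
  have := @_root_.Set.boolIndicator.eq_def.{0}
  have := @_root_.PartialEquiv.trans'.eq_def.{0, 0, 0}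
  have := @_root_.PartialEquiv.trans'.eq_1.{0, 0, 0}
  have := @_root_.PartialEquiv.copy.congr_simp.{0, 0}
  have := @_root_.PartialEquiv.copy.eq_def.{0, 0}
  have := @_root_.PartialEquiv.copy.eq_1.{0, 0}
  have := @_root_.Equiv.transPartialEquiv.eq_def.{0, 0, 0}
  have := @_root_.Equiv.transPartialEquiv.eq_1.{0, 0, 0}
  have := @_root_.PartialEquiv.refl.eq_def.{0}
  have := @_root_.PartialEquiv.refl.eq_1.{0}
  have := @_root_.PartialEquiv.IsImage.restr.eq_def.{0, 0}
  have := @_root_.PartialEquiv.IsImage.restr.eq_1.{0, 0}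
  have := @_root_.PartialEquiv.transEquiv.eq_def.{0, 0, 0}
  have := @_root_.PartialEquiv.transEquiv.eq_1.{0, 0, 0}
  have := @_root_.PartialEquiv.toEquiv.eq_def.{0, 0}
  have := @_root_.PartialEquiv.toEquiv.eq_1.{0, 0}
  have := @_root_.Equiv.toPartialEquiv.eq_def.{0, 0}
  have := @_root_.PartialEquiv.IsImage.eq_def.{0, 0}
  have := @_root_.PartialEquiv.ofSet.eq_def.{0}
  have := @_root_.PartialEquiv.ofSet.eq_1.{0}
  have := @_root_.PartialEquiv.pi.eq_def.{0, 0, 0}
  have := @_root_.PartialEquiv.pi.eq_1.{0, 0, 0}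
  have := @_root_.Set.InjOn.toPartialEquiv.eq_def.{0, 0}
  have := @_root_.PartialEquiv.single.eq_def.{0, 0}
  have := @_root_.PartialEquiv.single.eq_1.{0, 0}
  have := @_root_.PartialEquiv.restr.eq_def.{0, 0}
  have := @_root_.PartialEquiv.restr.eq_1.{0, 0}
  have := @_root_.PartialEquiv.EqOnSource.eq_def.{0, 0}
  have := @_root_.Set.BijOn.toPartialEquiv.eq_def.{0, 0}
  trivial

theorem m20_4 : True := by
  have := @_root_.Set.BijOn.toPartialEquiv.eq_1.{0, 0}
  have := @_root_.PartialEquiv.symm.eq_def.{0, 0}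
  have := @_root_.Equiv.toPartialEquivOfImageEq.eq_def.{0, 0}
  have := @_root_.Equiv.toPartialEquivOfImageEq.eq_1.{0, 0}
  have := @_root_.PartialEquiv.trans.eq_def.{0, 0, 0}
  have := @_root_.PartialEquiv.trans.eq_1.{0, 0, 0}
  have := @_root_.PartialEquiv.piecewise.eq_def.{0, 0}
  have := @_root_.PartialEquiv.piecewise.eq_1.{0, 0}
  have := @_root_.PartialEquiv.disjointUnion.congr_simp.{0, 0}
  have := @_root_.PartialEquiv.disjointUnion.eq_def.{0, 0}
  have := @_root_.PartialEquiv.disjointUnion.eq_1.{0, 0}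
  have := @_root_.PartialEquiv.prod.eq_def.{0, 0, 0, 0}
  have := @_root_.MulSemiringAction.toRingAut.eq_def.{0, 0}
  have := @_root_.MulSemiringAction.toRingAut.eq_1.{0, 0}
  have := @_root_.nilradical.eq_def.{0}
  have := @_root_.Matrix.IsSymm.eq_def.{0, 0}
  have := @_root_.Matrix.mvPolynomialX.eq_def.{0, 0, 0}
  have := @_root_.Matrix.adjugate.eq_def.{0, 0}
  have := @_root_.Matrix.cramerMap.congr_simp.{0, 0}
  have := @_root_.Matrix.cramerMap.eq_def.{0, 0}
  have := @_root_.Matrix.cramerMap.eq_1.{0, 0}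
  have := @_root_.Matrix.cramer.eq_def.{0, 0}
  have := @_root_.Matrix.cramer.eq_1.{0, 0}
  have := @_root_.Matrix.Pivot.listTransvecCol.eq_def.{0}
  have := @_root_.Matrix.TransvectionStruct.reindexEquiv.eq_def.{0, 0, 0}
  have := @_root_.Matrix.TransvectionStruct.sumInl.eq_def.{0, 0, 0}
  have := @_root_.Matrix.TransvectionStruct.inv.eq_def.{0, 0}
  have := @_root_.Matrix.TransvectionStruct.inv.eq_1.{0, 0}
  have := @_root_.Matrix.Pivot.listTransvecRow.eq_def.{0}
  have := @_root_.Matrix.TransvectionStruct.toMatrix.eq_def.{0, 0}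
  trivial

theorem m20_5 : True := by
  have := @_root_.Matrix.transvection.eq_def.{0, 0}
  have := @_root_.Matrix.invertibleAddMulMul.eq_def.{0, 0, 0}
  have := @_root_.Matrix.invertibleAddMulMul.eq_1.{0, 0, 0}
  have := @_root_.Matrix.transposeInvertibleEquivInvertible.eq_def.{0, 0}
  have := @_root_.Matrix.transposeInvertibleEquivInvertible.eq_1.{0, 0}
  have := @_root_.Matrix.invertibleOfInvertibleTranspose.eq_def.{0, 0}
  have := @_root_.Matrix.invertibleOfInvertibleTranspose.eq_1.{0, 0}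
  have := @_root_.Matrix.invertibleOfInvertibleConjTranspose.eq_def.{0, 0}
  have := @_root_.Matrix.invertibleOfInvertibleConjTranspose.eq_1.{0, 0}
  have := @_root_.Matrix.invertibleAddMulMul'.eq_def.{0, 0, 0}
  have := @_root_.Matrix.invertibleAddMulMul'.eq_1.{0, 0, 0}
  have := @_root_.Matrix.traceAddMonoidHom.eq_def.{0, 0}
  have := @_root_.Matrix.traceAddMonoidHom.eq_1.{0, 0}
  have := @_root_.Matrix.trace.eq_def.{0, 0}
  have := @_root_.Matrix.traceLinearMap.eq_def.{0, 0, 0}
  have := @_root_.Matrix.traceLinearMap.eq_1.{0, 0, 0}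
  have := @_root_.Matrix.kroneckerBilinear.eq_def.{0, 0, 0, 0, 0, 0}
  have := @_root_.Matrix.kroneckerBilinear.eq_1.{0, 0, 0, 0, 0, 0}
  have := @_root_.Matrix.kroneckerTMulBilinear.eq_def.{0, 0, 0, 0, 0, 0, 0, 0}
  have := @_root_.Matrix.kroneckerTMulBilinear.eq_1.{0, 0, 0, 0, 0, 0, 0, 0}
  have := @_root_.Matrix.kronecker.eq_def.{0, 0, 0, 0, 0}
  have := @_root_.Matrix.kroneckerMap.eq_def.{0, 0, 0, 0, 0, 0, 0}
  have := @_root_.Matrix.kroneckerMap.eq_1.{0, 0, 0, 0, 0, 0, 0}
  have := @_root_.Matrix.kroneckerTMul.eq_def.{0, 0, 0, 0, 0, 0, 0}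
  have := @_root_.Matrix.kroneckerMapBilinear.eq_def.{0, 0, 0, 0, 0, 0, 0, 0, 0}
  have := @_root_.Matrix.kroneckerMapBilinear.eq_1.{0, 0, 0, 0, 0, 0, 0, 0, 0}
  have := @_root_.Matrix.invertibleOfSubmatrixEquivInvertible.eq_def.{0, 0, 0}
  have := @_root_.Matrix.invertibleOfSubmatrixEquivInvertible.eq_1.{0, 0, 0}
  have := @_root_.Matrix.invertibleOfDiagonalInvertible.eq_def.{0, 0}
  have := @_root_.Matrix.invertibleOfDiagonalInvertible.eq_1.{0, 0}
  trivial

theorem m20_6 : True := by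
  have := @_root_.Matrix.submatrixEquivInvertibleEquivInvertible.eq_def.{0, 0, 0}
  have := @_root_.Matrix.submatrixEquivInvertibleEquivInvertible.eq_1.{0, 0, 0}
  have := @_root_.Matrix.invertibleOfIsUnitDet.congr_simp.{0, 0}
  have := @_root_.Matrix.invertibleOfIsUnitDet.eq_def.{0, 0}
  have := @_root_.Matrix.invertibleOfIsUnitDet.eq_1.{0, 0}
  have := @_root_.Matrix.detInvertibleOfLeftInverse.congr_simp.{0, 0}
  have := @_root_.Matrix.detInvertibleOfLeftInverse.eq_def.{0, 0}
  have := @_root_.Matrix.detInvertibleOfLeftInverse.eq_1.{0, 0}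
  have := @_root_.Matrix.invertibleEquivDetInvertible.eq_def.{0, 0}
  have := @_root_.Matrix.invertibleEquivDetInvertible.eq_1.{0, 0}
  have := @_root_.Matrix.unitOfDetInvertible.eq_def.{0, 0}
  have := @_root_.Matrix.unitOfDetInvertible.eq_1.{0, 0}
  have := @_root_.Matrix.invertibleOfDetInvertible.eq_def.{0, 0}
  have := @_root_.Matrix.invertibleOfDetInvertible.eq_1.{0, 0}
  have := @_root_.Matrix.diagonalInvertibleEquivInvertible.eq_def.{0, 0}
  have := @_root_.Matrix.diagonalInvertibleEquivInvertible.eq_1.{0, 0}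
  have := @_root_.Matrix.submatrixEquivInvertible.eq_def.{0, 0, 0}
  have := @_root_.Matrix.submatrixEquivInvertible.eq_1.{0, 0, 0}
  have := @_root_.Matrix.diagonalInvertible.eq_def.{0, 0}
  have := @_root_.Matrix.diagonalInvertible.eq_1.{0, 0}
  have := @_root_.Matrix.detInvertibleOfInvertible.eq_def.{0, 0}
  have := @_root_.Matrix.detInvertibleOfInvertible.eq_1.{0, 0}
  have := @_root_.Matrix.detInvertibleOfRightInverse.congr_simp.{0, 0}
  have := @_root_.Matrix.detInvertibleOfRightInverse.eq_def.{0, 0}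
  have := @_root_.Matrix.detInvertibleOfRightInverse.eq_1.{0, 0}
  have := @_root_.Matrix.nonsingInvUnit.congr_simp.{0, 0}
  have := @_root_.Matrix.nonsingInvUnit.eq_def.{0, 0}
  have := @_root_.Matrix.nonsingInvUnit.eq_1.{0, 0}
  have := @_root_.Matrix.BlockTriangular.invertibleToBlock.congr_simp.{0, 0, 0}
  have := @_root_.Matrix.BlockTriangular.invertibleToBlock.eq_def.{0, 0, 0}
  trivial

theorem m20_7 : True := by
  have := @_root_.Matrix.BlockTriangular.invertibleToBlock.eq_1.{0, 0, 0}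
  have := @_root_.Matrix.IsLowerTriangular.eq_def.{0, 0}
  have := @_root_.Matrix.IsLowerTriangular.eq_1.{0, 0}
  have := @_root_.Matrix.BlockTriangular.eq_def.{0, 0, 0}
  have := @_root_.Matrix.blockTriangularSubsemiring.eq_def.{0, 0, 0}
  have := @_root_.Matrix.blockTriangularSubsemiring.eq_1.{0, 0, 0}
  have := @_root_.Matrix.blockTriangularSubalgebra.eq_def.{0, 0, 0, 0}
  have := @_root_.Matrix.blockTriangularSubalgebra.eq_1.{0, 0, 0, 0}
  have := @_root_.Matrix.IsUpperTriangular.eq_def.{0, 0}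
  have := @_root_.Matrix.IsUpperTriangular.eq_1.{0, 0}
  have := @_root_.Matrix.charmatrix.eq_def.{0, 0}
  have := @_root_.Matrix.charpoly.eq_def.{0, 0}
  have := @_root_.Matrix.fromBlocksZero₁₂InvertibleEquiv.eq_def.{0, 0, 0}
  have := @_root_.Matrix.fromBlocksZero₁₂InvertibleEquiv.eq_1.{0, 0, 0}
  have := @_root_.Matrix.invertibleOfFromBlocks₂₂Invertible.eq_def.{0, 0, 0}
  have := @_root_.Matrix.invertibleOfFromBlocks₂₂Invertible.eq_1.{0, 0, 0}
  have := @_root_.Matrix.fromBlocksZero₂₁Invertible.eq_def.{0, 0, 0}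
  have := @_root_.Matrix.fromBlocksZero₂₁Invertible.eq_1.{0, 0, 0}
  have := @_root_.Matrix.invertibleEquivFromBlocks₂₂Invertible.eq_def.{0, 0, 0}
  have := @_root_.Matrix.invertibleEquivFromBlocks₂₂Invertible.eq_1.{0, 0, 0}
  have := @_root_.Matrix.fromBlocks₁₁Invertible.eq_def.{0, 0, 0}
  have := @_root_.Matrix.fromBlocks₁₁Invertible.eq_1.{0, 0, 0}
  have := @_root_.Matrix.invertibleOfFromBlocks₁₁Invertible.eq_def.{0, 0, 0}
  have := @_root_.Matrix.invertibleOfFromBlocks₁₁Invertible.eq_1.{0, 0, 0}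
  have := @_root_.Matrix.fromBlocksZero₁₂Invertible.eq_def.{0, 0, 0}
  have := @_root_.Matrix.fromBlocksZero₁₂Invertible.eq_1.{0, 0, 0}
  have := @_root_.Matrix.invertibleOfFromBlocksZero₁₂Invertible.eq_def.{0, 0, 0}
  have := @_root_.Matrix.invertibleOfFromBlocksZero₁₂Invertible.eq_1.{0, 0, 0}
  have := @_root_.Matrix.fromBlocksZero₂₁InvertibleEquiv.eq_def.{0, 0, 0}
  have := @_root_.Matrix.fromBlocksZero₂₁InvertibleEquiv.eq_1.{0, 0, 0}
  trivial

theorem m20_8 : True := by
  have := @_root_.Matrix.fromBlocks₂₂Invertible.eq_def.{0, 0, 0}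
  have := @_root_.Matrix.fromBlocks₂₂Invertible.eq_1.{0, 0, 0}
  have := @_root_.Matrix.invertibleEquivFromBlocks₁₁Invertible.eq_def.{0, 0, 0}
  have := @_root_.Matrix.invertibleEquivFromBlocks₁₁Invertible.eq_1.{0, 0, 0}
  have := @_root_.Matrix.invertibleOfFromBlocksZero₂₁Invertible.eq_def.{0, 0, 0}
  have := @_root_.Matrix.invertibleOfFromBlocksZero₂₁Invertible.eq_1.{0, 0, 0}
  have := @_root_.Matrix.charpolyRev.eq_def.{0, 0}
  have := @_root_.Matrix.Represents.eq_def.{0, 0, 0}
  have := @_root_.Matrix.Represents.eq_1.{0, 0, 0}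
  have := @_root_.PiToModule.fromEnd.eq_def.{0, 0, 0}
  have := @_root_.PiToModule.fromEnd.eq_1.{0, 0, 0}
  have := @_root_.PiToModule.fromMatrix.eq_def.{0, 0, 0}
  have := @_root_.PiToModule.fromMatrix.eq_1.{0, 0, 0}
  have := @_root_.Matrix.isRepresentation.toEnd.congr_simp.{0, 0, 0}
  have := @_root_.Matrix.isRepresentation.toEnd.eq_def.{0, 0, 0}
  have := @_root_.Matrix.isRepresentation.toEnd.eq_1.{0, 0, 0}
  have := @_root_.Matrix.isRepresentation.eq_def.{0, 0, 0}
  have := @_root_.Matrix.isRepresentation.eq_1.{0, 0, 0}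
  have := @_root_.RingHom.IsIntegral.eq_def.{0, 0}
  have := @_root_.RingHom.IsIntegral.eq_1.{0, 0}
  have := @_root_.RingHom.IsIntegralElem.eq_def.{0, 0}
  have := @_root_.IsIntegral.eq_def.{0, 0}
  have := @_root_.Algebra.IsIntegral.mk.congr_simp.{0, 0}
  have := @_root_.integralClosure.eq_def.{0, 0}
  have := @_root_.integralClosure.eq_1.{0, 0}
  have := @_root_.IsIntegralClosure.mk.congr_simp.{0, 0, 0}
  have := @_root_.IsIntegralClosure.mk'.eq_def.{0, 0, 0}
  have := @_root_.IsIntegralClosure.lift.eq_def.{0, 0, 0, 0}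
  have := @_root_.AlgEquiv.mapIntegralClosure.eq_def.{0, 0, 0}
  have := @_root_.AlgEquiv.mapIntegralClosure.eq_1.{0, 0, 0}
  trivial

theorem m20_9 : True := by
  have := @_root_.AlgHom.mapIntegralClosure.eq_def.{0, 0, 0}
  have := @_root_.AlgHom.mapIntegralClosure.eq_1.{0, 0, 0}
  have := @_root_.IsIntegralClosure.equiv.eq_def.{0, 0, 0, 0}
  have := @_root_.IsLocalRing.ResidueField.eq_def.{0}
  have := @_root_.IsLocalRing.ResidueField.eq_1.{0}
  have := @_root_.IsLocalRing.residue.eq_def.{0}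
  have := @_root_.IsLocalRing.ResidueField.lift.congr_simp.{0, 0}
  have := @_root_.IsLocalRing.ResidueField.lift.eq_def.{0, 0}
  have := @_root_.IsLocalRing.ResidueField.lift.eq_1.{0, 0}
  have := @_root_.IsLocalRing.ResidueField.mapAlgHom'.congr_simp.{0, 0, 0}
  have := @_root_.IsLocalRing.ResidueField.mapAlgHom'.eq_def.{0, 0, 0}
  have := @_root_.IsLocalRing.ResidueField.mapAlgHom'.eq_1.{0, 0, 0}
  have := @_root_.IsLocalRing.ResidueField.mapAlgHom.congr_simp.{0, 0, 0}
  have := @_root_.IsLocalRing.ResidueField.mapAlgHom.eq_def.{0, 0, 0}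
  have := @_root_.IsLocalRing.ResidueField.mapAlgHom.eq_1.{0, 0, 0}
  have := @_root_.IsLocalRing.ResidueField.mapAlgEquiv.eq_def.{0, 0, 0}
  have := @_root_.IsLocalRing.ResidueField.mapAlgEquiv.eq_1.{0, 0, 0}
  have := @_root_.IsLocalRing.ResidueField.mapAlgEquiv'.eq_def.{0, 0, 0}
  have := @_root_.IsLocalRing.ResidueField.mapAlgEquiv'.eq_1.{0, 0, 0}
  have := @_root_.IsLocalRing.ResidueField.mapEquiv.eq_def.{0, 0}
  have := @_root_.IsLocalRing.ResidueField.mapEquiv.eq_1.{0, 0}
  have := @_root_.IsLocalRing.ResidueField.map.eq_def.{0, 0}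
  have := @_root_.IsLocalRing.ResidueField.map.eq_1.{0, 0}
  have := @_root_.IsLocalRing.ResidueField.mapAut.eq_def.{0}
  have := @_root_.IsLocalRing.ResidueField.mapAut.eq_1.{0}
  have := @_root_.Ideal.residueFieldAlgEquiv.congr_simp.{0, 0, 0}
  have := @_root_.Ideal.residueFieldAlgEquiv.eq_def.{0, 0, 0}
  have := @_root_.Ideal.residueFieldAlgEquiv.eq_1.{0, 0, 0}
  have := @_root_.Ideal.residueFieldRingEquiv.congr_simp.{0, 0}
  have := @_root_.Ideal.residueFieldRingEquiv.eq_def.{0, 0}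
  trivial

theorem m20_10 : True := by
  have := @_root_.Ideal.residueFieldRingEquiv.eq_1.{0, 0}
  have := @_root_.Ideal.ResidueField.map.eq_def.{0, 0}
  have := @_root_.Ideal.ResidueField.map.eq_1.{0, 0}
  have := @_root_.Ideal.algEquivResidueFieldOfField.eq_def.{0}
  have := @_root_.Ideal.algEquivResidueFieldOfField.eq_1.{0}
  have := @_root_.Ideal.residueFieldAlgEquiv'.congr_simp.{0, 0, 0}
  have := @_root_.Ideal.residueFieldAlgEquiv'.eq_def.{0, 0, 0}
  have := @_root_.Ideal.residueFieldAlgEquiv'.eq_1.{0, 0, 0}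
  have := @_root_.Ideal.ResidueField.liftₐ.eq_def.{0, 0, 0}
  have := @_root_.Ideal.ResidueField.liftₐ.eq_1.{0, 0, 0}
  have := @_root_.Ideal.ResidueField.eq_def.{0}
  have := @_root_.Ideal.ResidueField.eq_1.{0}
  have := @_root_.Ideal.ResidueField.lift.eq_def.{0, 0}
  have := @_root_.Ideal.ResidueField.mapₐ.eq_def.{0, 0, 0}
  have := @_root_.Ideal.ResidueField.mapₐ.eq_1.{0, 0, 0}
  have := @_root_.ZMod.AddAutEquivUnits.eq_def
  have := @_root_.ZMod.AddAutEquivUnits.eq_1
  have := @_root_.AddMonoid.exponent.eq_def.{0}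
  have := @_root_.Monoid.ExponentExists.eq_def.{0}
  have := @_root_.AddMonoid.ExponentExists.eq_def.{0}
  have := @_root_.commMonoidOfExponentTwo.congr_simp.{0}
  have := @_root_.commMonoidOfExponentTwo.eq_def.{0}
  have := @_root_.addCommMonoidOfExponentTwo.congr_simp.{0}
  have := @_root_.addCommMonoidOfExponentTwo.eq_def.{0}
  have := @_root_.Monoid.exponent.eq_def.{0}
  have := @_root_.MulAction.zpowersQuotientStabilizerEquiv.eq_def.{0, 0}
  have := @_root_.MulAction.zpowersQuotientStabilizerEquiv.eq_1.{0, 0}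
  have := @_root_.AddAction.orbitZMultiplesEquiv.eq_def.{0, 0}
  have := @_root_.AddAction.orbitZMultiplesEquiv.eq_1.{0, 0}
  have := @_root_.Int.quotientZMultiplesEquivZMod.eq_def
  trivial

theorem m20_11 : True := by
  have := @_root_.Int.quotientZMultiplesEquivZMod.eq_1
  have := @_root_.AddAction.zmultiplesQuotientStabilizerEquiv.eq_def.{0, 0}
  have := @_root_.AddAction.zmultiplesQuotientStabilizerEquiv.eq_1.{0, 0}
  have := @_root_.MulAction.orbitZPowersEquiv.eq_def.{0, 0}
  have := @_root_.MulAction.orbitZPowersEquiv.eq_1.{0, 0}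
  have := @_root_.Int.quotientZMultiplesNatEquivZMod.eq_def
  have := @_root_.Int.quotientZMultiplesNatEquivZMod.eq_1
  have := @_root_.Subgroup.quotientEquivSigmaZMod.eq_def.{0}
  have := @_root_.Subgroup.quotientEquivSigmaZMod.eq_1.{0}
  have := @_root_.IsAddCyclic.addCommGroup.congr_simp.{0}
  have := @_root_.IsAddCyclic.addCommGroup.eq_def.{0}
  have := @_root_.MulDistribMulAction.toMonoidHomZModOfIsCyclic.congr_simp.{0, 0}
  have := @_root_.MulDistribMulAction.toMonoidHomZModOfIsCyclic.eq_def.{0, 0}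
  have := @_root_.MulDistribMulAction.toMonoidHomZModOfIsCyclic.eq_1.{0, 0}
  have := @_root_.IsCyclic.commGroup.congr_simp.{0}
  have := @_root_.IsCyclic.commGroup.eq_def.{0}
  have := @_root_.IsSimpleAddGroup.mk.congr_simp.{0}
  have := @_root_.IsSimpleGroup.mk.congr_simp.{0}
  have := @_root_.intEquivOfZMultiplesEqTop.eq_def.{0}
  have := @_root_.intEquivOfZMultiplesEqTop.eq_1.{0}
  have := @_root_.addEquivOfPrimeCardEq.congr_simp.{0, 0}
  have := @_root_.addEquivOfPrimeCardEq.eq_def.{0, 0}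
  have := @_root_.zmodAddCyclicAddEquiv.congr_simp.{0}
  have := @_root_.zmodAddCyclicAddEquiv.eq_def.{0}
  have := @_root_.zmodAddCyclicAddEquiv.eq_1.{0}
  have := @_root_.addEquivOfAddOrderOfEq.congr_simp.{0, 0}
  have := @_root_.addEquivOfAddOrderOfEq.eq_def.{0, 0}
  have := @_root_.addCommGroupOfAddCyclicCenterQuotient.congr_simp.{0, 0}
  have := @_root_.addCommGroupOfAddCyclicCenterQuotient.eq_def.{0, 0}
  have := @_root_.zmodAddEquivOfGenerator.eq_def.{0}
  trivial

theorem m20_12 : True := by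
  have := @_root_.zmodAddEquivOfGenerator.eq_1.{0}
  have := @_root_.intCyclicAddEquiv.congr_simp.{0}
  have := @_root_.intCyclicAddEquiv.eq_def.{0}
  have := @_root_.intCyclicAddEquiv.eq_1.{0}
  have := @_root_.commGroupOfCyclicCenterQuotient.congr_simp.{0, 0}
  have := @_root_.commGroupOfCyclicCenterQuotient.eq_def.{0, 0}
  have := @_root_.zmodCyclicMulEquiv.eq_def.{0}
  have := @_root_.zmodCyclicMulEquiv.eq_1.{0}
  have := @_root_.zmodMulEquivOfGenerator.congr_simp.{0}
  have := @_root_.zmodMulEquivOfGenerator.eq_def.{0}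
  have := @_root_.zmodMulEquivOfGenerator.eq_1.{0}
  have := @_root_.intEquivOfZPowersEqTop.eq_def.{0}
  have := @_root_.intCyclicMulEquiv.congr_simp.{0}
  have := @_root_.intCyclicMulEquiv.eq_def.{0}
  have := @_root_.intCyclicMulEquiv.eq_1.{0}
  have := @_root_.addEquivOfAddCyclicCardEq.congr_simp.{0, 0}
  have := @_root_.addEquivOfAddCyclicCardEq.eq_def.{0, 0}
  have := @_root_.addEquivOfAddCyclicCardEq.eq_1.{0, 0}
  have := @_root_.mulEquivOfCyclicCardEq.congr_simp.{0, 0}
  have := @_root_.mulEquivOfCyclicCardEq.eq_def.{0, 0}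
  have := @_root_.mulEquivOfCyclicCardEq.eq_1.{0, 0}
  have := @_root_.addMonoidHomOfForallMemZMultiples.congr_simp.{0, 0}
  have := @_root_.addMonoidHomOfForallMemZMultiples.eq_def.{0, 0}
  have := @_root_.monoidHomOfForallMemZpowers.eq_def.{0, 0}
  have := @_root_.mulEquivOfOrderOfEq.eq_def.{0, 0}
  have := @_root_.mulEquivOfPrimeCardEq.congr_simp.{0, 0}
  have := @_root_.mulEquivOfPrimeCardEq.eq_def.{0, 0}
  have := @_root_.IsCyclic.mulAutMulEquiv.congr_simp.{0}
  have := @_root_.IsCyclic.mulAutMulEquiv.eq_def.{0}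
  have := @_root_.IsCyclic.mulAutMulEquiv.eq_1.{0}
  trivial

theorem m20_13 : True := by
  have := @_root_.IsPGroup.commGroupOfCardEqPrimeSq.congr_simp.{0}
  have := @_root_.IsPGroup.commGroupOfCardEqPrimeSq.eq_def.{0}
  have := @_root_.IsPGroup.commGroupOfCardEqPrimeSq.eq_1.{0}
  have := @_root_.IsPGroup.powEquiv'.eq_def.{0}
  have := @_root_.IsPGroup.powEquiv'.eq_1.{0}
  have := @_root_.IsPGroup.eq_def.{0}
  have := @_root_.IsPGroup.powEquiv.congr_simp.{0}
  have := @_root_.IsPGroup.powEquiv.eq_def.{0}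
  have := @_root_.IsPGroup.powEquiv.eq_1.{0}
  have := @_root_.Sylow.ofCard.congr_simp.{0}
  have := @_root_.Sylow.ofCard.eq_def.{0}
  have := @_root_.Sylow.ofCard.eq_1.{0}
  have := @_root_.Sylow.equivProdPrimeFactors.congr_simp.{0}
  have := @_root_.Sylow.equivProdPrimeFactors.eq_def.{0}
  have := @_root_.Sylow.equivProdPrimeFactors.eq_1.{0}
  have := @_root_.Sylow.equivSMul.eq_def.{0}
  have := @_root_.Sylow.equivSMul.eq_1.{0}
  have := @_root_.Sylow.subtype.eq_def.{0}
  have := @_root_.Sylow.subtype.eq_1.{0}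
  have := @_root_.IsPGroup.toSylow.congr_simp.{0}
  have := @_root_.IsPGroup.toSylow.eq_def.{0}
  have := @_root_.IsPGroup.toSylow.eq_1.{0}
  have := @_root_.Sylow.mapSurjective.congr_simp.{0, 0}
  have := @_root_.Sylow.mapSurjective.eq_def.{0, 0}
  have := @_root_.Sylow.mapSurjective.eq_1.{0, 0}
  have := @_root_.Sylow.equivQuotientNormalizer.congr_simp.{0}
  have := @_root_.Sylow.equivQuotientNormalizer.eq_def.{0}
  have := @_root_.Sylow.equivQuotientNormalizer.eq_1.{0}
  have := @_root_.Sylow.mk.congr_simp.{0}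
  have := @_root_.Sylow.comapOfInjective.congr_simp.{0, 0}
  trivial

theorem m20_14 : True := by
  have := @_root_.Sylow.comapOfInjective.eq_def.{0, 0}
  have := @_root_.Sylow.comapOfInjective.eq_1.{0, 0}
  have := @_root_.Sylow.comapOfKerIsPGroup.congr_simp.{0, 0}
  have := @_root_.Sylow.comapOfKerIsPGroup.eq_def.{0, 0}
  have := @_root_.Sylow.comapOfKerIsPGroup.eq_1.{0, 0}
  have := @_root_.Sylow.directProductOfNormal.congr_simp.{0}
  have := @_root_.Sylow.directProductOfNormal.eq_def.{0}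
  have := @_root_.Sylow.directProductOfNormal.eq_1.{0}
  have := @_root_.Sylow.equiv.congr_simp.{0}
  have := @_root_.Sylow.equiv.eq_def.{0}
  have := @_root_.Sylow.equiv.eq_1.{0}
  have := @_root_.Sylow.fixedPointsMulLeftCosetsEquivQuotient.congr_simp.{0}
  have := @_root_.Sylow.fixedPointsMulLeftCosetsEquivQuotient.eq_def.{0}
  have := @_root_.Sylow.fixedPointsMulLeftCosetsEquivQuotient.eq_1.{0}
  have := @_root_.Sylow.unique_of_normal.congr_simp.{0}
  have := @_root_.Sylow.unique_of_normal.eq_def.{0}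
  have := @_root_.Sylow.unique_of_normal.eq_1.{0}
  have := @_root_.AddGroup.rank.congr_simp.{0}
  have := @_root_.AddGroup.rank.eq_def.{0}
  have := @_root_.Group.rank.congr_simp.{0}
  have := @_root_.Group.rank.eq_def.{0}
  have := @_root_.Torsion.ofTorsion.eq_def.{0}
  have := @_root_.Torsion.ofTorsion.eq_1.{0}
  have := @_root_.IsMulTorsion.eq_def.{0}
  have := @_root_.AddMonoid.IsTorsion.torsionAddEquiv.congr_simp.{0}
  have := @_root_.AddMonoid.IsTorsion.torsionAddEquiv.eq_def.{0}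
  have := @_root_.AddMonoid.IsTorsion.torsionAddEquiv.eq_1.{0}
  have := @_root_.AddCommMonoid.addTorsion.eq_def.{0}
  have := @_root_.IsTorsion.addGroup.congr_simp.{0}
  have := @_root_.IsTorsion.addGroup.eq_def.{0}
  trivial

end Cfsg.Rz
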