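import Cfsg.Agent.Rz.M20

/-! Generated file: forces on-demand equation and congruence lemmas to be created once. -/

set_option linter.all false

namespace Cfsg.Rz

theorem m21_0 : True := by
  have := @_root_.IsTorsion.addGroup.eq_1.{0}
  have := @_root_.AddCommGroup.torsion.eq_def.{0}
  have := @_root_.IsAddTorsion.addGroup.congr_simp.{0}
  have := @_root_.IsAddTorsion.addGroup.eq_def.{0}
  have := @_root_.AddCommMonoid.primaryComponent.eq_def.{0}
  have := @_root_.AddCommGroup.freeRank.congr_simp.{0}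
  have := @_root_.AddCommGroup.freeRank.eq_def.{0}
  have := @_root_.IsMulTorsion.torsionMulEquiv.congr_simp.{0}
  have := @_root_.IsMulTorsion.torsionMulEquiv.eq_def.{0}
  have := @_root_.AddMonoid.IsTorsion.eq_def.{0}
  have := @_root_.AddMonoid.IsTorsion.eq_1.{0}
  have := @_root_.Monoid.IsTorsion.eq_def.{0}
  have := @_root_.Monoid.IsTorsion.eq_1.{0}
  have := @_root_.IsTorsion.group.congr_simp.{0}
  have := @_root_.IsTorsion.group.eq_def.{0}
  have := @_root_.IsTorsion.group.eq_1.{0}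
  have := @_root_.Monoid.IsTorsion.torsionMulEquiv.congr_simp.{0}
  have := @_root_.Monoid.IsTorsion.torsionMulEquiv.eq_def.{0}
  have := @_root_.Monoid.IsTorsion.torsionMulEquiv.eq_1.{0}
  have := @_root_.CommGroup.torsion.eq_def.{0}
  have := @_root_.IsAddTorsion.torsionAddEquiv.congr_simp.{0}
  have := @_root_.IsAddTorsion.torsionAddEquiv.eq_def.{0}
  have := @_root_.IsAddTorsion.eq_def.{0}
  have := @_root_.CommMonoid.torsion.eq_def.{0}
  have := @_root_.CommGroup.freeRank.congr_simp.{0}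
  have := @_root_.CommGroup.freeRank.eq_def.{0}
  have := @_root_.CommGroup.primaryComponent.eq_def.{0}
  have := @_root_.AddCommMonoid.Torsion.ofTorsion.eq_def.{0}
  have := @_root_.IsMulTorsion.group.congr_simp.{0}
  have := @_root_.IsMulTorsion.group.eq_def.{0}
  trivial

theorem m21_1 : True := by
  have := @_root_.AddCommGroup.primaryComponent.eq_def.{0}
  have := @_root_.CommMonoid.Torsion.ofTorsion.eq_def.{0}
  have := @_root_.CommMonoid.primaryComponent.eq_def.{0}
  have := @_root_.IsSimpleOrder.instFintypeOfDecidableEq.congr_simp.{0}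
  have := @_root_.IsSimpleOrder.instFintypeOfDecidableEq.eq_def.{0}
  have := @_root_.IsSimpleOrder.instFintypeOfDecidableEq.eq_1.{0}
  have := @_root_.JordanHolderLattice.Iso.linearEquiv.congr_simp.{0, 0}
  have := @_root_.JordanHolderLattice.Iso.linearEquiv.eq_def.{0, 0}
  have := @_root_.JordanHolderLattice.Iso.linearEquiv.eq_1.{0, 0}
  have := @_root_.IsSemisimpleModule.mk.congr_simp.{0, 0}
  have := @_root_.IsSimpleModule.mk.congr_simp.{0, 0}
  have := @_root_.IsSemisimpleRing.eq_def.{0}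
  have := @_root_.Module.Basis.toMatrix.eq_def.{0, 0, 0, 0}
  have := @_root_.Module.Basis.invertibleToMatrix.eq_def.{0, 0, 0}
  have := @_root_.Module.Basis.invertibleToMatrix.eq_1.{0, 0, 0}
  have := @_root_.Module.Basis.toMatrixEquiv.eq_def.{0, 0, 0}
  have := @_root_.Module.Basis.toMatrixEquiv.eq_1.{0, 0, 0}
  have := @_root_.Matrix.SeparatingLeft.eq_def.{0, 0, 0}
  have := @_root_.Matrix.SeparatingLeft.eq_1.{0, 0, 0}
  have := @_root_.Matrix.SeparatingRight.eq_def.{0, 0, 0}
  have := @_root_.Matrix.SeparatingRight.eq_1.{0, 0, 0}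
  have := @_root_.Matrix.Nondegenerate.mk.congr_simp.{0, 0, 0}
  have := @_root_.rootsOfUnity.mkOfPowEq.eq_def.{0}
  have := @_root_.IsCyclic.monoidHomMulEquivRootsOfUnityOfGenerator.congr_simp.{0, 0}
  have := @_root_.IsCyclic.monoidHomMulEquivRootsOfUnityOfGenerator.eq_def.{0, 0}
  have := @_root_.IsCyclic.monoidHomMulEquivRootsOfUnityOfGenerator.eq_1.{0, 0}
  have := @_root_.rootsOfUnityEquivNthRoots.congr_simp.{0}
  have := @_root_.rootsOfUnityEquivNthRoots.eq_def.{0}
  have := @_root_.rootsOfUnityEquivNthRoots.eq_1.{0}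
  have := @_root_.rootsOfUnityUnitsMulEquiv.eq_def.{0}
  trivial

theorem m21_2 : True := by
  have := @_root_.rootsOfUnityUnitsMulEquiv.eq_1.{0}
  have := @_root_.rootsOfUnity.eq_def.{0}
  have := @_root_.rootsOfUnity.eq_1.{0}
  have := @_root_.restrictRootsOfUnity.eq_def.{0, 0, 0}
  have := @_root_.restrictRootsOfUnity.eq_1.{0, 0, 0}
  have := @_root_.MulEquiv.restrictRootsOfUnity.eq_def.{0, 0}
  have := @_root_.MulEquiv.restrictRootsOfUnity.eq_1.{0, 0}
  have := @_root_.Matrix.SpecialLinearGroup.toLin'.eq_def.{0, 0}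
  have := @_root_.ModularGroup.S.eq_def
  have := @_root_.Matrix.SpecialLinearGroup.transpose.eq_def.{0, 0}
  have := @_root_.Matrix.SpecialLinearGroup.transpose.eq_1.{0, 0}
  have := @_root_.Matrix.SpecialLinearGroup.map.eq_def.{0, 0, 0}
  have := @_root_.Matrix.SpecialLinearGroup.map.eq_1.{0, 0, 0}
  have := @_root_.Matrix.SpecialLinearGroup.diag2n.eq_def.{0, 0}
  have := @_root_.Matrix.SpecialLinearGroup.diag2n.eq_1.{0, 0}
  have := @_root_.Matrix.SpecialLinearGroup.center_equiv_rootsOfUnity'.eq_def.{0, 0}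
  have := @_root_.Matrix.SpecialLinearGroup.center_equiv_rootsOfUnity'.eq_1.{0, 0}
  have := @_root_.Matrix.SpecialLinearGroup.coeMonoidHom.eq_def.{0, 0}
  have := @_root_.Matrix.SpecialLinearGroup.coeMonoidHom.eq_1.{0, 0}
  have := @_root_.Matrix.SpecialLinearGroup.transvection.eq_def.{0, 0}
  have := @_root_.Matrix.SpecialLinearGroup.transvection.eq_1.{0, 0}
  have := @_root_.ModularGroup.T.eq_def
  have := @_root_.Matrix.SpecialLinearGroup.diag2.eq_def.{0}
  have := @_root_.Matrix.SpecialLinearGroup.diag2.eq_1.{0}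
  have := @_root_.Matrix.SpecialLinearGroup.eq_def.{0, 0}
  have := @_root_.Matrix.SpecialLinearGroup.eq_1.{0, 0}
  have := @_root_.Matrix.TransvectionStruct.toSpecialLinearGroup.eq_def.{0, 0}
  have := @_root_.Matrix.TransvectionStruct.toSpecialLinearGroup.eq_1.{0, 0}
  have := @_root_.Matrix.SpecialLinearGroup.center_equiv_rootsOfUnity.eq_def.{0, 0}
  have := @_root_.Matrix.SpecialLinearGroup.center_equiv_rootsOfUnity.eq_1.{0, 0}
  trivial

theorem m21_3 : True := by
  have := @_root_.Matrix.GeneralLinearGroup.det.eq_def.{0, 0}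
  have := @_root_.Matrix.GeneralLinearGroup.scalar.eq_def.{0, 0}
  have := @_root_.Matrix.GeneralLinearGroup.scalar.eq_1.{0, 0}
  have := @_root_.Matrix.GeneralLinearGroup.eq_def.{0, 0}
  have := @_root_.Matrix.GeneralLinearGroup.eq_1.{0, 0}
  have := @_root_.Matrix.SpecialLinearGroup.mapGL.eq_def.{0, 0, 0}
  have := @_root_.Matrix.GeneralLinearGroup.mk'.eq_def.{0, 0}
  have := @_root_.Matrix.GeneralLinearGroup.mk'.eq_1.{0, 0}
  have := @_root_.Matrix.GeneralLinearGroup.mk''.congr_simp.{0, 0}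
  have := @_root_.Matrix.GeneralLinearGroup.mk''.eq_def.{0, 0}
  have := @_root_.Matrix.GeneralLinearGroup.mk''.eq_1.{0, 0}
  have := @_root_.Matrix.GeneralLinearGroup.kronecker.eq_def.{0, 0, 0}
  have := @_root_.Matrix.GeneralLinearGroup.kronecker.eq_1.{0, 0, 0}
  have := @_root_.Matrix.SpecialLinearGroup.toGL.eq_def.{0, 0}
  have := @_root_.Matrix.GeneralLinearGroup.toLin'.eq_def.{0, 0, 0}
  have := @_root_.Matrix.SpecialLinearGroup.toGLPos.eq_def.{0, 0}
  have := @_root_.Matrix.SpecialLinearGroup.toGLPos.eq_1.{0, 0}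
  have := @_root_.Matrix.GeneralLinearGroup.mkOfDetNeZero.eq_def.{0, 0}
  have := @_root_.Matrix.GeneralLinearGroup.mkOfDetNeZero.eq_1.{0, 0}
  have := @_root_.Matrix.GLPos.congr_simp.{0, 0}
  have := @_root_.Matrix.GLPos.eq_def.{0, 0}
  have := @_root_.Matrix.GLPos.eq_1.{0, 0}
  have := @_root_.Matrix.GeneralLinearGroup.toLin.eq_def.{0, 0}
  have := @_root_.Matrix.GeneralLinearGroup.map.eq_def.{0, 0, 0}
  have := @_root_.Matrix.toLinearEquiv.congr_simp.{0, 0, 0}
  have := @_root_.Matrix.toLinearEquiv.eq_def.{0, 0, 0}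
  have := @_root_.Matrix.toLinearEquiv.eq_1.{0, 0, 0}
  have := @_root_.Matrix.toLinearEquiv'.eq_def.{0, 0}
  have := @_root_.Matrix.toLinearEquiv'.eq_1.{0, 0}
  have := @_root_.pairSelfAdjointMatricesSubmodule.eq_def.{0, 0}
  trivial

theorem m21_4 : True := by
  have := @_root_.Matrix.toLinearMapₛₗ₂'.eq_def.{0, 0, 0, 0, 0, 0, 0, 0}
  have := @_root_.LinearMap.toMatrix₂'.eq_def.{0, 0, 0, 0, 0, 0}
  have := @_root_.LinearMap.toMatrix₂'.eq_1.{0, 0, 0, 0, 0, 0}
  have := @_root_.selfAdjointMatricesSubmodule.eq_def.{0, 0}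
  have := @_root_.Matrix.toLinearMapₛₗ₂.eq_def.{0, 0, 0, 0, 0, 0}
  have := @_root_.Matrix.toLinearMapₛₗ₂.eq_1.{0, 0, 0, 0, 0, 0}
  have := @_root_.Matrix.IsAdjointPair.eq_def.{0, 0, 0}
  have := @_root_.Matrix.toLinearMap₂'Aux.eq_def.{0, 0, 0, 0, 0, 0, 0}
  have := @_root_.LinearMap.toMatrix₂Aux.eq_def.{0, 0, 0, 0, 0, 0, 0, 0, 0, 0}
  have := @_root_.LinearMap.toMatrix₂Aux.eq_1.{0, 0, 0, 0, 0, 0, 0, 0, 0, 0}
  have := @_root_.skewAdjointMatricesSubmodule.eq_def.{0, 0}
  have := @_root_.LinearMap.toMatrixₛₗ₂'.eq_def.{0, 0, 0, 0, 0, 0, 0, 0}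
  have := @_root_.LinearMap.toMatrix₂.eq_def.{0, 0, 0, 0, 0, 0}
  have := @_root_.Matrix.IsSkewAdjoint.eq_def.{0, 0}
  have := @_root_.Matrix.toLinearMap₂.eq_def.{0, 0, 0, 0, 0, 0}
  have := @_root_.Matrix.toLinearMap₂.eq_1.{0, 0, 0, 0, 0, 0}
  have := @_root_.Matrix.IsSelfAdjoint.eq_def.{0, 0}
  have := @_root_.Matrix.toLinearMap₂'.eq_def.{0, 0, 0, 0, 0, 0}
  have := @_root_.Matrix.toLinearMap₂'.eq_1.{0, 0, 0, 0, 0, 0}
  have := @_root_.AddMonoidHom.mulRight₃.eq_def.{0}
  have := @_root_.AddMonoidHom.mulRight₃.eq_1.{0}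
  have := @_root_.associator.eq_def.{0}
  have := @_root_.AddMonoidHom.mulLeft₃.eq_def.{0}
  have := @_root_.AddMonoidHom.mulLeft₃.eq_1.{0}
  have := @_root_.AddMonoidHom.associator.eq_def.{0}
  have := @_root_.monoEquivOfFin.eq_def.{0}
  have := @_root_.monoEquivOfFin.eq_1.{0}
  have := @_root_.finSumEquivOfFinset.congr_simp.{0}
  have := @_root_.finSumEquivOfFinset.eq_def.{0}
  have := @_root_.finSumEquivOfFinset.eq_1.{0}
  trivial

theorem m21_5 : True := by
  have := @_root_.Set.powersetCard.ofCard.eq_def.{0}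
  have := @_root_.Set.powersetCard.ofCard.eq_1.{0}
  have := @_root_.Set.powersetCard.disjUnion.eq_def.{0}
  have := @_root_.Set.powersetCard.disjUnion.eq_1.{0}
  have := @_root_.Set.powersetCard.prodEquiv.eq_def.{0}
  have := @_root_.Set.powersetCard.prodEquiv.eq_1.{0}
  have := @_root_.Set.powersetCard.ofSingleton.eq_def.{0}
  have := @_root_.Set.powersetCard.ofSingleton.eq_1.{0}
  have := @_root_.Set.powersetCard.ofFinEmb.eq_def.{0}
  have := @_root_.Set.powersetCard.map.eq_def.{0, 0}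
  have := @_root_.Set.powersetCard.eq_def.{0}
  have := @_root_.Set.powersetCard.compl.eq_def.{0}
  have := @_root_.Set.powersetCard.compl.eq_1.{0}
  have := @_root_.Set.powersetCard.ofFinEmbEquiv.eq_def.{0}
  have := @_root_.Set.powersetCard.ofFinEmbEquiv.eq_1.{0}
  have := @_root_.Set.powersetCard.orderIsoOfFin.eq_def.{0}
  have := @_root_.Set.powersetCard.orderIsoOfFin.eq_1.{0}
  have := @_root_.Set.powersetCard.permOfDisjoint.eq_def.{0}
  have := @_root_.WithOne.mapMulHom.eq_def.{0, 0}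
  have := @_root_.WithZero.mapAddHom.eq_def.{0, 0}
  have := @_root_.WithZero.coeAddHom.eq_def.{0}
  have := @_root_.AddEquiv.withZeroCongr.eq_def.{0, 0}
  have := @_root_.WithZero.lift.eq_def.{0, 0}
  have := @_root_.WithOne.coeMulHom.eq_def.{0}
  have := @_root_.WithOne.lift.eq_def.{0, 0}
  have := @_root_.MulEquiv.withOneCongr.eq_def.{0, 0}
  have := @_root_.Subfield.extendScalars.orderIso.eq_def.{0}
  have := @_root_.Subfield.extendScalars.orderIso.eq_1.{0}
  have := @_root_.AlgHom.fieldRange.eq_def.{0, 0, 0}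
  have := @_root_.AlgHom.fieldRange.eq_1.{0, 0, 0}
  trivial

theorem m21_6 : True := by
  have := @_root_.AlgHom.equivFieldRange.eq_def.{0, 0, 0}
  have := @_root_.AlgHom.equivFieldRange.eq_1.{0, 0, 0}
  have := @_root_.Subfield.extendScalars.eq_def.{0}
  have := @_root_.Subfield.extendScalars.eq_1.{0}
  have := @_root_.invertibleOfCoprime.congr_simp.{0}
  have := @_root_.invertibleOfCoprime.eq_def.{0}
  have := @_root_.invertibleOfCoprime.eq_1.{0}
  have := @_root_.invertibleOfCharPNotDvd.congr_simp.{0}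
  have := @_root_.invertibleOfCharPNotDvd.eq_def.{0}
  have := @_root_.invertibleOfCharPNotDvd.eq_1.{0}
  have := @_root_.invertibleOfRingCharNotDvd.congr_simp.{0}
  have := @_root_.invertibleOfRingCharNotDvd.eq_def.{0}
  have := @_root_.invertibleOfRingCharNotDvd.eq_1.{0}
  have := @_root_.MixedCharZero.mk.congr_simp.{0}
  have := @_root_.IsDivSequence.eq_def.{0, 0}
  have := @_root_.IsDivSequence.eq_1.{0, 0}
  have := @_root_.Nat.IsStrongDvdSequence.eq_def
  have := @_root_.IsDvdSequence.eq_def.{0, 0}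
  have := @_root_.Nat.fib.eq_def
  have := @_root_.Nat.fastFib.eq_def
  have := @_root_.Nat.fastFibAux.eq_def
  have := @_root_.NonUnitalSubsemiring.corner.eq_def.{0}
  have := @_root_.NonUnitalSubsemiring.corner.eq_1.{0}
  have := @_root_.CompleteOrthogonalIdempotents.mk.congr_simp.{0, 0}
  have := @_root_.Subsemigroup.corner.eq_def.{0}
  have := @_root_.OrthogonalIdempotents.mk.congr_simp.{0, 0}
  have := @_root_.AlgEquiv.prodQuotientOfIsIdempotentElem.congr_simp.{0, 0}
  have := @_root_.AlgEquiv.prodQuotientOfIsIdempotentElem.eq_def.{0, 0}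
  have := @_root_.AlgEquiv.prodQuotientOfIsIdempotentElem.eq_1.{0, 0}
  have := @_root_.NonUnitalRing.corner.eq_def.{0}
  trivial

theorem m21_7 : True := by
  have := @_root_.NonUnitalRing.corner.eq_1.{0}
  have := @_root_.CompleteOrthogonalIdempotents.ringEquivOfIsMulCentral.congr_simp.{0, 0}
  have := @_root_.CompleteOrthogonalIdempotents.ringEquivOfIsMulCentral.eq_def.{0, 0}
  have := @_root_.CompleteOrthogonalIdempotents.ringEquivOfIsMulCentral.eq_1.{0, 0}
  have := @_root_.CompleteOrthogonalIdempotents.ringEquivOfComm.eq_def.{0, 0}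
  have := @_root_.CompleteOrthogonalIdempotents.ringEquivOfComm.eq_1.{0, 0}
  have := @_root_.IsIdempotentElem.Corner.congr_simp.{0}
  have := @_root_.IsIdempotentElem.Corner.eq_def.{0}
  have := @_root_.IsIdempotentElem.Corner.eq_1.{0}
  have := @_root_.Module.End.HasEigenvalue.eq_def.{0, 0}
  have := @_root_.Module.End.HasEigenvalue.eq_1.{0, 0}
  have := @_root_.Module.End.genEigenrange.eq_def.{0, 0}
  have := @_root_.Module.End.UnifEigenvalues.val.eq_def.{0, 0}
  have := @_root_.Module.End.UnifEigenvalues.val.eq_1.{0, 0}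
  have := @_root_.Module.End.HasUnifEigenvalue.eq_def.{0, 0}
  have := @_root_.Module.End.Eigenvalues.val.eq_def.{0, 0}
  have := @_root_.Module.End.Eigenvalues.val.eq_1.{0, 0}
  have := @_root_.Module.End.genEigenspace.eq_def.{0, 0}
  have := @_root_.Module.End.Eigenvalues.eq_def.{0, 0}
  have := @_root_.Module.End.Eigenvalues.eq_1.{0, 0}
  have := @_root_.Module.End.maxUnifEigenspaceIndex.eq_def.{0, 0}
  have := @_root_.Module.End.maxUnifEigenspaceIndex.eq_1.{0, 0}
  have := @_root_.Module.End.maxGenEigenspace.eq_def.{0, 0}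
  have := @_root_.Module.End.maxGenEigenspaceIndex.eq_def.{0, 0}
  have := @_root_.Module.End.maxGenEigenspaceIndex.eq_1.{0, 0}
  have := @_root_.Module.End.UnifEigenvalues.eq_def.{0, 0}
  have := @_root_.Module.End.UnifEigenvalues.eq_1.{0, 0}
  have := @_root_.Module.End.eigenspace.eq_def.{0, 0}
  have := @_root_.Module.End.HasGenEigenvalue.eq_def.{0, 0}
  have := @_root_.Module.End.HasGenEigenvalue.eq_1.{0, 0}
  trivial

theorem m21_8 : True := by
  have := @_root_.Module.End.HasGenEigenvector.eq_def.{0, 0}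
  have := @_root_.Module.End.HasGenEigenvector.eq_1.{0, 0}
  have := @_root_.Module.End.HasUnifEigenvector.eq_def.{0, 0}
  have := @_root_.Module.End.HasUnifEigenvector.eq_1.{0, 0}
  have := @_root_.Module.End.HasEigenvector.eq_def.{0, 0}
  have := @_root_.Module.End.HasEigenvector.eq_1.{0, 0}
  have := @_root_.TwoSidedIdeal.matrix.eq_def.{0, 0}
  have := @_root_.TwoSidedIdeal.matrix.eq_1.{0, 0}
  have := @_root_.TwoSidedIdeal.equivMatrix.eq_def.{0, 0}
  have := @_root_.TwoSidedIdeal.equivMatrix.eq_1.{0, 0}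
  have := @_root_.RingCon.ofMatrix.congr_simp.{0, 0}
  have := @_root_.RingCon.ofMatrix.eq_def.{0, 0}
  have := @_root_.RingCon.ofMatrix.eq_1.{0, 0}
  have := @_root_.Ideal.matrix.eq_def.{0, 0}
  have := @_root_.Ideal.matrix.eq_1.{0, 0}
  have := @_root_.RingCon.matrix.eq_def.{0, 0}
  have := @_root_.RingCon.matrix.eq_1.{0, 0}
  have := @_root_.TwoSidedIdeal.orderIsoMatrix.congr_simp.{0, 0}
  have := @_root_.TwoSidedIdeal.orderIsoMatrix.eq_def.{0, 0}
  have := @_root_.TwoSidedIdeal.orderIsoMatrix.eq_1.{0, 0}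
  have := @_root_.LinearMap.trace.eq_def.{0, 0}
  have := @_root_.LinearMap.traceAux.eq_def.{0, 0, 0}
  have := @_root_.LinearMap.traceAux.eq_1.{0, 0, 0}
  have := @_root_.Group.ofLeftAxioms.congr_simp.{0}
  have := @_root_.Group.ofLeftAxioms.eq_def.{0}
  have := @_root_.AddGroup.ofRightAxioms.congr_simp.{0}
  have := @_root_.AddGroup.ofRightAxioms.eq_def.{0}
  have := @_root_.Group.ofRightAxioms.congr_simp.{0}
  have := @_root_.Group.ofRightAxioms.eq_def.{0}
  have := @_root_.AddGroup.ofLeftAxioms.congr_simp.{0}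
  trivial

theorem m21_9 : True := by
  have := @_root_.AddGroup.ofLeftAxioms.eq_def.{0}
  have := @_root_.CommRing.ofMinimalAxioms.congr_simp.{0}
  have := @_root_.CommRing.ofMinimalAxioms.eq_def.{0}
  have := @_root_.CommRing.ofMinimalAxioms.eq_1.{0}
  have := @_root_.Ring.ofMinimalAxioms.congr_simp.{0}
  have := @_root_.Ring.ofMinimalAxioms.eq_def.{0}
  have := @_root_.Ring.ofMinimalAxioms.eq_1.{0}
  have := @_root_.Field.ofMinimalAxioms.congr_simp.{0}
  have := @_root_.Field.ofMinimalAxioms.eq_def.{0}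
  have := @_root_.Field.ofMinimalAxioms.eq_1.{0}
  have := @_root_.Equiv.nnratCast.eq_def.{0, 0}
  have := @_root_.Equiv.nnratCast.eq_1.{0, 0}
  have := @_root_.Equiv.ratCast.eq_def.{0, 0}
  have := @_root_.Equiv.ratCast.eq_1.{0, 0}
  have := @_root_.Equiv.field.eq_def.{0, 0}
  have := @_root_.Equiv.field.eq_1.{0, 0}
  have := @_root_.Equiv.divisionRing.eq_def.{0, 0}
  have := @_root_.Equiv.divisionRing.eq_1.{0, 0}
  have := @_root_.FreeGroup.reduce.eq_def.{0}
  have := @_root_.FreeGroup.Red.enum.eq_def.{0}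
  have := @_root_.FreeGroup.Red.enum.eq_1.{0}
  have := @_root_.FreeAddGroup.reduce.churchRosser.congr_simp.{0}
  have := @_root_.FreeAddGroup.reduce.churchRosser.eq_def.{0}
  have := @_root_.FreeGroup.toWord.eq_def.{0}
  have := @_root_.FreeAddGroup.norm.congr_simp.{0}
  have := @_root_.FreeAddGroup.norm.eq_def.{0}
  have := @_root_.FreeGroup.norm.congr_simp.{0}
  have := @_root_.FreeGroup.norm.eq_def.{0}
  have := @_root_.FreeAddGroup.reduce.eq_def.{0}
  have := @_root_.FreeGroup.reduce.churchRosser.congr_simp.{0}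
  trivial

theorem m21_10 : True := by
  have := @_root_.FreeGroup.reduce.churchRosser.eq_def.{0}
  have := @_root_.FreeAddGroup.toWord.eq_def.{0}
  have := @_root_.IsIntegrallyClosedIn.eq_def.{0, 0}
  have := @_root_.IsIntegrallyClosedIn.eq_1.{0, 0}
  have := @_root_.IsIntegrallyClosed.eq_def.{0}
  have := @_root_.IsIntegrallyClosed.eq_1.{0}
  have := @_root_.Equidecomp.symm.eq_def.{0, 0}
  have := @_root_.Equidecomp.symm.eq_1.{0, 0}
  have := @_root_.Equidecomp.IsDecompOn.eq_def.{0, 0}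
  have := @_root_.Equidecomp.trans.eq_def.{0, 0}
  have := @_root_.Equidecomp.trans.eq_1.{0, 0}
  have := @_root_.Equidecomp.witness.eq_def.{0, 0}
  have := @_root_.Equidecomp.witness.eq_1.{0, 0}
  have := @_root_.Equidecomp.restr.eq_def.{0, 0}
  have := @_root_.Equidecomp.restr.eq_1.{0, 0}
  have := @_root_.Equidecomp.refl.eq_def.{0, 0}
  have := @_root_.Equidecomp.refl.eq_1.{0, 0}
  have := @_root_.Equidecomp.mk.congr_simp.{0, 0}
  have := @_root_.Finset.addActionFinset.eq_def.{0, 0}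
  have := @_root_.Finset.addAction.eq_def.{0, 0}
  have := @_root_.Finset.mulActionFinset.eq_def.{0, 0}
  have := @_root_.Finset.mulAction.eq_def.{0, 0}
  have := @_root_.fwdDiff_aux.shiftₗ.eq_def.{0, 0}
  have := @_root_.fwdDiff_aux.fwdDiffₗ.eq_def.{0, 0}
  have := @_root_.fwdDiff_aux.fwdDiffₗ.eq_1.{0, 0}
  have := @_root_.fwdDiff.eq_def.{0, 0}
  have := @_root_.SubMulAction.closure.eq_def.{0, 0}
  have := @_root_.SubMulAction.FG.eq_def.{0, 0}
  have := @_root_.SubAddAction.closure.eq_def.{0, 0}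
  have := @_root_.SubAddAction.FG.eq_def.{0, 0}
  trivial

theorem m21_11 : True := by
  have := @_root_.AddSemigroupIdeal.FG.eq_def.{0}
  have := @_root_.SemigroupIdeal.eq_def.{0}
  have := @_root_.AddSemigroupIdeal.eq_def.{0}
  have := @_root_.SemigroupIdeal.FG.eq_def.{0}
  have := @_root_.SemigroupIdeal.closure.eq_def.{0}
  have := @_root_.AddSemigroupIdeal.closure.eq_def.{0}
  have := @_root_.IsAddIndecomposable.eq_def.{0, 0}
  have := @_root_.IsMulIndecomposable.eq_def.{0, 0}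
  have := @_root_.IsAddIndecomposable.baseOf.eq_def.{0, 0, 0}
  have := @_root_.IsMulIndecomposable.baseOf.eq_def.{0, 0, 0}
  have := @_root_.NatPowAssoc.mk.congr_simp.{0}
  have := @_root_.PNatPowAssoc.mk.congr_simp.{0}
  have := @_root_.Submonoid.square.eq_def.{0}
  have := @_root_.Subgroup.square.eq_def.{0}
  have := @_root_.AddSubsemigroup.even.eq_def.{0}
  have := @_root_.AddSubgroup.even.eq_def.{0}
  have := @_root_.AddSubmonoid.even.eq_def.{0}
  have := @_root_.Subsemigroup.square.eq_def.{0}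
  have := @_root_.AddSubmonoid.AddSaturated.eq_def.{0}
  have := @_root_.AddSubmonoid.giSaturation.eq_def.{0}
  have := @_root_.AddSubmonoid.saturation.eq_def.{0}
  have := @_root_.Submonoid.saturation.eq_def.{0}
  have := @_root_.Submonoid.giSaturation.eq_def.{0}
  have := @_root_.SaturatedSubmonoid.mk.congr_simp.{0}
  have := @_root_.Submonoid.MulSaturated.eq_def.{0}
  have := @_root_.SaturatedAddSubmonoid.mk.congr_simp.{0}
  have := @_root_.Submonoid.IsMulPointed.eq_def.{0}
  have := @_root_.Submonoid.mulSupport.eq_def.{0}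
  have := @_root_.AddSubmonoid.IsSpanning.eq_def.{0}
  have := @_root_.AddSubmonoid.IsPointed.eq_def.{0}
  trivial

theorem m21_12 : True := by
  have := @_root_.Submonoid.IsMulSpanning.eq_def.{0}
  have := @_root_.AddSubmonoid.support.eq_def.{0}
  have := @_root_.translate.eq_def.{0, 0}
  have := @_root_.translate.eq_1.{0, 0}
  have := @_root_.Subgroup.centerUnitsEquivUnitsCenter.eq_def.{0}
  have := @_root_.Subgroup.centerUnitsEquivUnitsCenter.eq_1.{0}
  have := @_root_.Finset.distribMulAction.eq_def.{0, 0}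
  have := @_root_.Finset.distribMulAction.eq_1.{0, 0}
  have := @_root_.Finset.smulZeroClass.eq_def.{0, 0}
  have := @_root_.Finset.smulZeroClass.eq_1.{0, 0}
  have := @_root_.Finset.distribSMul.eq_def.{0, 0}
  have := @_root_.Finset.distribSMul.eq_1.{0, 0}
  have := @_root_.Finset.mulDistribMulAction.eq_def.{0, 0}
  have := @_root_.Finset.mulDistribMulAction.eq_1.{0, 0}
  have := @_root_.MonoidWithZeroHom.fst.eq_def.{0, 0}
  have := @_root_.MonoidWithZeroHom.inr.eq_def.{0, 0}
  have := @_root_.MonoidWithZeroHom.inl.eq_def.{0, 0}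
  have := @_root_.MonoidWithZeroHom.snd.eq_def.{0, 0}
  have := @_root_.MonoidWithZeroHom.valueMonoid.eq_def.{0, 0}
  have := @_root_.MonoidWithZeroHom.ValueGroup₀.restrict₀.eq_def.{0, 0}
  have := @_root_.MonoidWithZeroHom.ValueGroup₀.embedding.eq_def.{0, 0}
  have := @_root_.MonoidWithZeroHom.ValueMonoid₀.eq_def.{0, 0}
  have := @_root_.MonoidWithZeroHom.ValueMonoid₀.eq_1.{0, 0}
  have := @_root_.MonoidWithZeroHom.ValueGroup₀.mk.eq_def.{0, 0}
  have := @_root_.MonoidWithZeroHom.ValueGroup₀.eq_def.{0, 0}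
  have := @_root_.MonoidWithZeroHom.ValueGroup₀.eq_1.{0, 0}
  have := @_root_.MonoidWithZeroHom.valueGroup.eq_def.{0, 0}
  have := @_root_.MonoidWithZeroHom.valueGroup.mk.eq_def.{0, 0}
  have := @_root_.Equiv.mulZeroOneClass.eq_def.{0, 0}
  have := @_root_.Equiv.mulZeroOneClass.eq_1.{0, 0}
  trivial

theorem m21_13 : True := by
  have := @_root_.Equiv.semigroupWithZero.eq_def.{0, 0}
  have := @_root_.Equiv.semigroupWithZero.eq_1.{0, 0}
  have := @_root_.Equiv.commMonoidWithZero.eq_def.{0, 0}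
  have := @_root_.Equiv.commMonoidWithZero.eq_1.{0, 0}
  have := @_root_.Equiv.mulZeroClass.eq_def.{0, 0}
  have := @_root_.Equiv.mulZeroClass.eq_1.{0, 0}
  have := @_root_.Equiv.monoidWithZero.eq_def.{0, 0}
  have := @_root_.Equiv.monoidWithZero.eq_1.{0, 0}
  have := @_root_.IsSemiprimaryRing.mk.congr_simp.{0}
  have := @_root_.dotProductEquiv.eq_def.{0, 0}
  have := @_root_.dotProductEquiv.eq_1.{0, 0}
  have := @_root_.Matrix.indexEquivOfInv.congr_simp.{0, 0, 0}
  have := @_root_.Matrix.indexEquivOfInv.eq_def.{0, 0, 0}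
  have := @_root_.Matrix.indexEquivOfInv.eq_1.{0, 0, 0}
  have := @_root_.LinearMap.equivOfIsUnitDet.eq_def.{0, 0}
  have := @_root_.LinearEquiv.det.eq_def.{0, 0}
  have := @_root_.LinearEquiv.det.eq_1.{0, 0}
  have := @_root_.Module.Basis.det.eq_def.{0, 0, 0}
  have := @_root_.Module.Basis.det.eq_1.{0, 0, 0}
  have := @_root_.equivOfPiLEquivPi.congr_simp.{0, 0, 0}
  have := @_root_.equivOfPiLEquivPi.eq_def.{0, 0, 0}
  have := @_root_.equivOfPiLEquivPi.eq_1.{0, 0, 0}
  have := @_root_.LinearEquiv.ofIsUnitDet.eq_def.{0, 0, 0, 0}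
  have := @_root_.LinearEquiv.ofIsUnitDet.eq_1.{0, 0, 0, 0}
  have := @_root_.LinearMap.equivOfDetNeZero.congr_simp.{0, 0}
  have := @_root_.LinearMap.equivOfDetNeZero.eq_def.{0, 0}
  have := @_root_.LinearMap.equivOfDetNeZero.eq_1.{0, 0}
  have := @_root_.LinearMap.det.eq_def.{0, 0}
  have := @_root_.LinearMap.detAux.eq_def.{0, 0, 0}
  have := @_root_.IsNilpotent.exp.eq_def.{0}
  trivial

theorem m21_14 : True := by
  have := @_root_.IsInvariantSubring.mk.congr_simp.{0, 0}
  have := @_root_.IsInvariantSubring.subtypeHom.eq_def.{0, 0}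
  have := @_root_.IsInvariantSubring.subtypeHom.eq_1.{0, 0}
  have := @_root_.IsNoetherian.finsetBasis.eq_def.{0, 0}
  have := @_root_.IsNoetherian.finsetBasisIndex.congr_simp.{0, 0}
  have := @_root_.IsNoetherian.finsetBasisIndex.eq_def.{0, 0}
  have := @_root_.IsNoetherian.finsetBasisIndex.eq_1.{0, 0}
  have := @_root_.IsNoetherian.fintypeBasisIndex.congr_simp.{0, 0, 0}
  have := @_root_.IsNoetherian.fintypeBasisIndex.eq_def.{0, 0, 0}
  have := @_root_.IsNoetherian.fintypeBasisIndex.eq_1.{0, 0, 0}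
  have := @_root_.minpoly.algEquiv.congr_simp.{0, 0}
  have := @_root_.minpoly.algEquiv.eq_def.{0, 0}
  have := @_root_.PowerBasis.equivAdjoinSimple.eq_def.{0, 0}
  have := @_root_.Multiset.mapEquiv.eq_def.{0, 0}
  have := @_root_.Multiset.mapEquiv.eq_1.{0, 0}
  have := @_root_.Multiset.cast.eq_def.{0}
  have := @_root_.Multiset.cast.eq_1.{0}
  have := @_root_.Multiset.mapEquivAux.eq_def.{0, 0}
  have := @_root_.Multiset.mapEquivAux.eq_1.{0, 0}
  have := @_root_.Multiset.toEnumFinset.eq_def.{0}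
  have := @_root_.Multiset.toEnumFinset.eq_1.{0}
  have := @_root_.Multiset.consEquiv.eq_def.{0}
  have := @_root_.Multiset.mkToType.eq_def.{0}
  have := @_root_.Multiset.mkToType.eq_1.{0}
  have := @_root_.Multiset.coeEmbedding.eq_def.{0}
  have := @_root_.Multiset.coeEmbedding.eq_1.{0}
  have := @_root_.Multiset.coeEquiv.eq_def.{0}
  have := @_root_.Multiset.coeEquiv.eq_1.{0}
  have := @_root_.Multiset.ToType.eq_def.{0}
  have := @_root_.Multiset.ToType.eq_1.{0}
  trivial

end Cfsg.Rz
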