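import Cfsg.Agent.Rz.M21

/-! Generated file: forces on-demand equation and congruence lemmas to be created once. -/

set_option linter.all false

namespace Cfsg.Rz

theorem m22_0 : True := by
  have := @_root_.Multiset.mapEquiv_aux.eq_def.{0, 0}
  have := @_root_.Multiset.mapEquiv_aux.eq_1.{0, 0}
  have := @_root_.Submodule.tensorEquivSpan.congr_simp.{0, 0, 0}
  have := @_root_.Submodule.tensorEquivSpan.eq_def.{0, 0, 0}
  have := @_root_.Submodule.tensorEquivSpan.eq_1.{0, 0, 0}
  have := @_root_.Submodule.tensorToSpan.eq_def.{0, 0, 0}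
  have := @_root_.Submodule.tensorSpanEquivSpan.congr_simp.{0, 0, 0}
  have := @_root_.Submodule.tensorSpanEquivSpan.eq_def.{0, 0, 0}
  have := @_root_.Submodule.tensorSpanEquivSpan.eq_1.{0, 0, 0}
  have := @_root_.Submodule.factorPowSucc.eq_def.{0, 0}
  have := @_root_.Submodule.factorPowSucc.eq_1.{0, 0}
  have := @_root_.Ideal.Quotient.factorPowSucc.eq_def.{0}
  have := @_root_.Ideal.Quotient.factorPowSucc.eq_1.{0}
  have := @_root_.Submodule.factorPow.eq_def.{0, 0}
  have := @_root_.Ideal.Quotient.factorPow.eq_def.{0}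
  have := @_root_.Ideal.Quotient.factorPow.eq_1.{0}
  have := @_root_.Submodule.powSMulQuotInclusion.eq_def.{0, 0}
  have := @_root_.AddValuation.toValuation.eq_def.{0, 0}
  have := @_root_.AddValuation.toValuation.eq_1.{0, 0}
  have := @_root_.AddValuation.map.congr_simp.{0, 0, 0}
  have := @_root_.AddValuation.map.eq_def.{0, 0, 0}
  have := @_root_.AddValuation.map.eq_1.{0, 0, 0}
  have := @_root_.Valuation.ofAddValuation.eq_def.{0, 0}
  have := @_root_.Valuation.ofAddValuation.eq_1.{0, 0}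
  have := @_root_.Valuation.congr.eq_def.{0, 0, 0}
  have := @_root_.Valuation.congr.eq_1.{0, 0, 0}
  have := @_root_.AddValuation.ofValuation.eq_def.{0, 0}
  have := @_root_.AddValuation.ofValuation.eq_1.{0, 0}
  have := @_root_.AddValuation.toPreorder.eq_def.{0, 0}
  have := @_root_.AddValuation.toPreorder.eq_1.{0, 0}
  trivial

theorem m22_1 : True := by
  have := @_root_.AddValuation.comap.eq_def.{0, 0, 0}
  have := @_root_.AddValuation.comap.eq_1.{0, 0, 0}
  have := @_root_.Valuation.IsEquiv.eq_def.{0, 0, 0}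
  have := @_root_.Valuation.supp.eq_def.{0, 0}
  have := @_root_.Valuation.supp.eq_1.{0, 0}
  have := @_root_.Valuation.comap.eq_def.{0, 0, 0}
  have := @_root_.Valuation.comap.eq_1.{0, 0, 0}
  have := @_root_.AddValuation.supp.eq_def.{0, 0}
  have := @_root_.AddValuation.supp.eq_1.{0, 0}
  have := @_root_.AddValuation.IsEquiv.eq_def.{0, 0, 0}
  have := @_root_.AddValuation.IsEquiv.eq_1.{0, 0, 0}
  have := @_root_.Valuation.toPreorder.eq_def.{0, 0}
  have := @_root_.Valuation.toPreorder.eq_1.{0, 0}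
  have := @_root_.Valuation.restrict.eq_def.{0, 0}
  have := @_root_.Valuation.restrict.eq_1.{0, 0}
  have := @_root_.Valuation.IsTrivialOn.mk.congr_simp.{0, 0, 0}
  have := @_root_.Valuation.leAddSubgroup.eq_def.{0, 0}
  have := @_root_.Valuation.leAddSubgroup.eq_1.{0, 0}
  have := @_root_.Valuation.IsNontrivial.mk.congr_simp.{0, 0}
  have := @_root_.Valuation.IsEquiv.orderMonoidIso.eq_def.{0, 0, 0}
  have := @_root_.Valuation.map.eq_def.{0, 0, 0}
  have := @_root_.Valuation.map.eq_1.{0, 0, 0}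
  have := @_root_.AddValuation.of.eq_def.{0, 0}
  have := @_root_.AddValuation.of.eq_1.{0, 0}
  have := @_root_.Valuation.IsEquiv.valueGroup₀Fun.eq_def.{0, 0, 0}
  have := @_root_.AddValuation.eq_def.{0, 0}
  have := @_root_.AddValuation.eq_1.{0, 0}
  have := @_root_.ValuationClass.mk.congr_simp.{0, 0, 0}
  have := @_root_.Valuation.toAddValuation.eq_def.{0, 0}
  have := @_root_.Valuation.toAddValuation.eq_1.{0, 0}
  trivial

theorem m22_2 : True := by
  have := @_root_.Valuation.ltAddSubgroup.eq_def.{0, 0}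
  have := @_root_.IsJacobsonRing.mk.congr_simp.{0}
  have := @_root_.IsLocalization.orderIsoOfMaximal.congr_simp.{0, 0}
  have := @_root_.IsLocalization.orderIsoOfMaximal.eq_def.{0, 0}
  have := @_root_.IsLocalization.orderIsoOfMaximal.eq_1.{0, 0}
  have := @_root_.IsSumSq.below.sq_add.congr_simp.{0}
  have := @_root_.Subsemiring.sumSq.eq_def.{0}
  have := @_root_.Subsemiring.sumSq.eq_1.{0}
  have := @_root_.IsSumSq.sq_add.congr_simp.{0}
  have := @_root_.NonUnitalSubsemiring.sumSq.eq_def.{0}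
  have := @_root_.AddSubmonoid.sumSq.eq_def.{0}
  have := @_root_.AddSubmonoid.sumSq.eq_1.{0}
  have := @_root_.basisOfTopLeSpanOfCardEqFinrank.eq_def.{0, 0, 0}
  have := @_root_.basisOfTopLeSpanOfCardEqFinrank.eq_1.{0, 0, 0}
  have := @_root_.finsetBasisOfTopLeSpanOfCardEqFinrank.congr_simp.{0, 0}
  have := @_root_.finsetBasisOfTopLeSpanOfCardEqFinrank.eq_def.{0, 0}
  have := @_root_.finsetBasisOfTopLeSpanOfCardEqFinrank.eq_1.{0, 0}
  have := @_root_.setBasisOfTopLeSpanOfCardEqFinrank.congr_simp.{0, 0}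
  have := @_root_.setBasisOfTopLeSpanOfCardEqFinrank.eq_def.{0, 0}
  have := @_root_.setBasisOfTopLeSpanOfCardEqFinrank.eq_1.{0, 0}
  have := @_root_.Representation.leftRegular.eq_def.{0, 0}
  have := @_root_.Representation.leftRegular.eq_1.{0, 0}
  have := @_root_.Representation.finsuppLEquivFreeAsModule.eq_def.{0, 0, 0}
  have := @_root_.Representation.finsuppLEquivFreeAsModule.eq_1.{0, 0, 0}
  have := @_root_.Representation.linHom.eq_def.{0, 0, 0, 0}
  have := @_root_.Representation.linHom.eq_1.{0, 0, 0, 0}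
  have := @_root_.Representation.prod.eq_def.{0, 0, 0, 0}
  have := @_root_.Representation.prod.eq_1.{0, 0, 0, 0}
  have := @_root_.Representation.IsTrivial.mk.congr_simp.{0, 0, 0}
  have := @_root_.Representation.ofDistribMulAction.eq_def.{0, 0, 0}
  trivial

theorem m22_3 : True := by
  have := @_root_.Representation.ofDistribMulAction.eq_1.{0, 0, 0}
  have := @_root_.Representation.tprod.eq_def.{0, 0, 0, 0}
  have := @_root_.Representation.tprod.eq_1.{0, 0, 0, 0}
  have := @_root_.Representation.directSum.eq_def.{0, 0, 0, 0}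
  have := @_root_.Representation.directSum.eq_1.{0, 0, 0, 0}
  have := @_root_.Representation.dual.eq_def.{0, 0, 0}
  have := @_root_.Representation.dual.eq_1.{0, 0, 0}
  have := @_root_.Representation.asAlgebraHom.eq_def.{0, 0, 0}
  have := @_root_.Representation.asAlgebraHom.eq_1.{0, 0, 0}
  have := @_root_.Representation.norm.eq_def.{0, 0, 0}
  have := @_root_.Representation.quotient.congr_simp.{0, 0, 0}
  have := @_root_.Representation.quotient.eq_def.{0, 0, 0}
  have := @_root_.Representation.quotient.eq_1.{0, 0, 0}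
  have := @_root_.Representation.trivial.eq_def.{0, 0, 0}
  have := @_root_.Representation.trivial.eq_1.{0, 0, 0}
  have := @_root_.Representation.ofModule'.congr_simp.{0, 0, 0}
  have := @_root_.Representation.ofModule'.eq_def.{0, 0, 0}
  have := @_root_.Representation.ofModule'.eq_1.{0, 0, 0}
  have := @_root_.Representation.subrepresentation.congr_simp.{0, 0, 0}
  have := @_root_.Representation.subrepresentation.eq_def.{0, 0, 0}
  have := @_root_.Representation.subrepresentation.eq_1.{0, 0, 0}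
  have := @_root_.Representation.ofMulActionSelfAsModuleEquiv.eq_def.{0, 0}
  have := @_root_.Representation.ofMulActionSelfAsModuleEquiv.eq_1.{0, 0}
  have := @_root_.Representation.freeAsModuleBasis.eq_def.{0, 0, 0}
  have := @_root_.Representation.freeAsModuleBasis.eq_1.{0, 0, 0}
  have := @_root_.Representation.asGroupHom.eq_def.{0, 0, 0}
  have := @_root_.Representation.ofModule.eq_def.{0, 0, 0}
  have := @_root_.Representation.diagonal.eq_def.{0, 0}
  have := @_root_.Representation.diagonal.eq_1.{0, 0}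
  have := @_root_.Representation.asModuleEquiv.eq_def.{0, 0, 0}
  trivial

theorem m22_4 : True := by
  have := @_root_.Representation.asModuleEquiv.eq_1.{0, 0, 0}
  have := @_root_.Representation.free.eq_def.{0, 0, 0}
  have := @_root_.Representation.free.eq_1.{0, 0, 0}
  have := @_root_.Representation.eq_def.{0, 0, 0}
  have := @_root_.Representation.eq_1.{0, 0, 0}
  have := @_root_.Representation.finsupp.eq_def.{0, 0, 0, 0}
  have := @_root_.Representation.finsupp.eq_1.{0, 0, 0, 0}
  have := @_root_.Representation.ofQuotient.eq_def.{0, 0, 0}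
  have := @_root_.Representation.ofQuotient.eq_1.{0, 0, 0}
  have := @_root_.Representation.asModule.eq_def.{0, 0, 0}
  have := @_root_.Representation.asModule.eq_1.{0, 0, 0}
  have := @_root_.Representation.ofMulAction.eq_def.{0, 0, 0}
  have := @_root_.Representation.ofMulAction.eq_1.{0, 0, 0}
  have := @_root_.Representation.ofMulDistribMulAction.eq_def.{0, 0}
  have := @_root_.Representation.ofMulDistribMulAction.eq_1.{0, 0}
  have := @_root_.Representation.invtSubmodule.eq_def.{0, 0, 0}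
  have := @_root_.Representation.mapSubmodule.eq_def.{0, 0, 0}
  have := @_root_.Representation.mapSubmodule.eq_1.{0, 0, 0}
  have := @_root_.Matrix.toBilin'Aux.eq_def.{0, 0}
  have := @_root_.LinearMap.BilinForm.toMatrix'.eq_def.{0, 0}
  have := @_root_.skewAdjointMatricesSubmodule'.eq_def.{0, 0}
  have := @_root_.skewAdjointMatricesSubmodule'.eq_1.{0, 0}
  have := @_root_.selfAdjointMatricesSubmodule'.eq_def.{0, 0}
  have := @_root_.selfAdjointMatricesSubmodule'.eq_1.{0, 0}
  have := @_root_.LinearMap.BilinForm.toMatrix.eq_def.{0, 0, 0}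
  have := @_root_.LinearMap.BilinForm.toMatrixAux.eq_def.{0, 0, 0}
  have := @_root_.Matrix.toBilin.eq_def.{0, 0, 0}
  have := @_root_.Matrix.toBilin'.eq_def.{0, 0}
  have := @_root_.Matrix.toBilin'.eq_1.{0, 0}
  have := @_root_.BilinForm.toMatrixAux.eq_def.{0, 0, 0}
  trivial

theorem m22_5 : True := by
  have := @_root_.BilinForm.toMatrixAux.eq_1.{0, 0, 0}
  have := @_root_.BilinForm.toMatrix.eq_def.{0, 0, 0}
  have := @_root_.BilinForm.toMatrix.eq_1.{0, 0, 0}
  have := @_root_.Matrix.hadamard.eq_def.{0, 0, 0}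
  have := @_root_.Matrix.hadamard.eq_1.{0, 0, 0}
  have := @_root_.Matrix.IsHermitian.eq_def.{0, 0}
  have := @_root_.Matrix.vec.eq_def.{0, 0, 0}
  have := @_root_.Matrix.PosDef.eq_def.{0, 0}
  have := @_root_.Matrix.PosSemidef.eq_def.{0, 0}
  have := @_root_.LinearMap.charpoly.eq_def.{0, 0}
  have := @_root_.Matrix.charpoly.univ.eq_def.{0, 0}
  have := @_root_.LinearMap.toMvPolynomial.eq_def.{0, 0, 0, 0, 0}
  have := @_root_.LinearMap.nilRankAux.congr_simp.{0, 0, 0, 0}
  have := @_root_.LinearMap.nilRankAux.eq_def.{0, 0, 0, 0}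
  have := @_root_.LinearMap.nilRankAux.eq_1.{0, 0, 0, 0}
  have := @_root_.LinearMap.IsNilRegular.congr_simp.{0, 0, 0}
  have := @_root_.LinearMap.IsNilRegular.eq_def.{0, 0, 0}
  have := @_root_.LinearMap.nilRank.eq_def.{0, 0, 0}
  have := @_root_.LinearMap.nilRank.eq_1.{0, 0, 0}
  have := @_root_.Matrix.toMvPolynomial.eq_def.{0, 0, 0}
  have := @_root_.LinearMap.polyCharpolyAux.eq_def.{0, 0, 0, 0, 0}
  have := @_root_.LinearMap.polyCharpoly.eq_def.{0, 0, 0, 0}
  have := @_root_.LinearMap.rank.eq_def.{0, 0, 0}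
  have := @_root_.Matrix.cRank.eq_def.{0, 0, 0}
  have := @_root_.Matrix.rank.eq_def.{0, 0, 0}
  have := @_root_.Matrix.eRank.eq_def.{0, 0, 0}
  have := @_root_.AddMonoidAlgebra.grade.eq_def.{0, 0}
  have := @_root_.AddMonoidAlgebra.grade.eq_1.{0, 0}
  have := @_root_.AddMonoidAlgebra.gradeBy.eq_def.{0, 0, 0}
  have := @_root_.AddMonoidAlgebra.gradeBy.eq_1.{0, 0, 0}
  trivial

theorem m22_6 : True := by
  have := @_root_.AddMonoidAlgebra.decomposeAux.eq_def.{0, 0, 0}
  have := @_root_.AddMonoidAlgebra.decomposeAux.eq_1.{0, 0, 0}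
  have := @_root_.Cycle.formPerm.eq_def.{0}
  have := @_root_.Cycle.formPerm.eq_1.{0}
  have := @_root_.Equiv.Perm.toList.eq_def.{0}
  have := @_root_.Equiv.Perm.isoCycle.eq_def.{0}
  have := @_root_.Equiv.Perm.isoCycle.eq_1.{0}
  have := @_root_.Equiv.Perm.isoCycle'.eq_def.{0}
  have := @_root_.Equiv.Perm.isoCycle'.eq_1.{0}
  have := @_root_.Equiv.Perm.toCycle.eq_def.{0}
  have := @_root_.BirdDet.get.eq_def.{0}
  have := @_root_.BirdDet.get.eq_1.{0}
  have := @_root_.BirdDet.Spec.stepEntry.eq_def.{0}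
  have := @_root_.BirdDet.Spec.stepEntry.eq_1.{0}
  have := @_root_.BirdDet.stepEntry.eq_def.{0}
  have := @_root_.BirdDet.stepEntry.eq_1.{0}
  have := @_root_.BirdDet.sumFrom.eq_def.{0}
  have := @_root_.BirdDet.sumFrom.eq_1.{0}
  have := @_root_.BirdDet.birdDet.eq_def.{0}
  have := @_root_.BirdDet.birdDet.eq_1.{0}
  have := @_root_.BirdDet.Spec.birdDet.eq_def.{0}
  have := @_root_.BirdDet.Spec.birdDet.eq_1.{0}
  have := @_root_.CartanMatrix.E₈.eq_def
  have := @_root_.CartanMatrix.D.eq_def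
  have := @_root_.CartanMatrix.E₆.eq_def
  have := @_root_.CartanMatrix.F₄.eq_def
  have := @_root_.CartanMatrix.C.eq_def
  have := @_root_.CartanMatrix.G₂.eq_def
  have := @_root_.CartanMatrix.A.eq_def
  have := @_root_.CartanMatrix.B.eq_def
  trivial

theorem m22_7 : True := by
  have := @_root_.Matrix.IsSimplyLaced.eq_def.{0}
  have := @_root_.CartanMatrix.E₇.eq_def
  have := @_root_.LinearMap.IsRightQuasiInverse.eq_def.{0, 0, 0}
  have := @_root_.LinearMap.IsLeftQuasiInverse.eq_def.{0, 0, 0}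
  have := @_root_.LinearMap.IsQuasiInverse.eq_def.{0, 0, 0}
  have := @_root_.LinearMap.HasFiniteRange.eq_def.{0, 0, 0}
  have := @_root_.LinearMap.finiteRange.eq_def.{0, 0, 0}
  have := @_root_.LinearMap.finiteRange.eq_1.{0, 0, 0}
  have := @_root_.LinearMap.HasNoetherianRange.eq_def.{0, 0, 0}
  have := @_root_.LinearMap.FiniteRangeSetoid.setoid.eq_def.{0, 0, 0}
  have := @_root_.LinearMap.FiniteRangeSetoid.setoid.eq_1.{0, 0, 0}
  have := @_root_.LinearMap.index.eq_def.{0, 0, 0}
  have := @_root_.LinearMap.index.eq_1.{0, 0, 0}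
  have := @_root_.PiTensorProduct.map₂.eq_def.{0, 0, 0, 0, 0}
  have := @_root_.PiTensorProduct.tprod.eq_def.{0, 0, 0}
  have := @_root_.PiTensorProduct.tprod.eq_1.{0, 0, 0}
  have := @_root_.PiTensorProduct.liftAddHom.congr_simp.{0, 0, 0, 0}
  have := @_root_.PiTensorProduct.liftAddHom.eq_def.{0, 0, 0, 0}
  have := @_root_.PiTensorProduct.piTensorHomMapFun₂.eq_def.{0, 0, 0, 0, 0}
  have := @_root_.PiTensorProduct.tprodCoeff.eq_def.{0, 0, 0}
  have := @_root_.PiTensorProduct.congr.eq_def.{0, 0, 0, 0}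
  have := @_root_.PiTensorProduct.eq_def.{0, 0, 0}
  have := @_root_.PiTensorProduct.eq_1.{0, 0, 0}
  have := @_root_.PiTensorProduct.lift.eq_def.{0, 0, 0, 0}
  have := @_root_.PiTensorProduct.lift.eq_1.{0, 0, 0, 0}
  have := @_root_.PiTensorProduct.isEmptyEquiv.eq_def.{0, 0, 0}
  have := @_root_.PiTensorProduct.isEmptyEquiv.eq_1.{0, 0, 0}
  have := @_root_.PiTensorProduct.mapIncl.eq_def.{0, 0, 0}
  have := @_root_.PiTensorProduct.tmulEquivDep.eq_def.{0, 0, 0, 0}
  have := @_root_.PiTensorProduct.mapMultilinear.eq_def.{0, 0, 0, 0}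
  trivial

theorem m22_8 : True := by
  have := @_root_.PiTensorProduct.mapMultilinear.eq_1.{0, 0, 0, 0}
  have := @_root_.PiTensorProduct.subsingletonEquiv.eq_def.{0, 0, 0}
  have := @_root_.PiTensorProduct.subsingletonEquiv.eq_1.{0, 0, 0}
  have := @_root_.PiTensorProduct.tmulEquiv.eq_def.{0, 0, 0, 0}
  have := @_root_.PiTensorProduct.mapMonoidHom.eq_def.{0, 0, 0}
  have := @_root_.PiTensorProduct.mapMonoidHom.eq_1.{0, 0, 0}
  have := @_root_.PiTensorProduct.piTensorHomMap.eq_def.{0, 0, 0, 0}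
  have := @_root_.PiTensorProduct.piTensorHomMap₂.eq_def.{0, 0, 0, 0, 0}
  have := @_root_.PiTensorProduct.map.eq_def.{0, 0, 0, 0}
  have := @_root_.PiTensorProduct.map.eq_1.{0, 0, 0, 0}
  have := @_root_.PiTensorProduct.liftAux.eq_def.{0, 0, 0, 0}
  have := @_root_.PiTensorProduct.lifts.eq_def.{0, 0, 0}
  have := @_root_.PiTensorProduct.Eqv.of_zero.congr_simp.{0, 0, 0}
  have := @_root_.PiTensorProduct.reindex.eq_def.{0, 0, 0, 0}
  have := @_root_.PrimeSpectrum.preimageEquivFiber.eq_def.{0, 0}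
  have := @_root_.Ideal.Fiber.algEquivAux₂.eq_def.{0, 0}
  have := @_root_.Ideal.Fiber.algEquivAux₂.eq_1.{0, 0}
  have := @_root_.Ideal.Fiber.localizationAlgEquivQuotient.congr_simp.{0, 0}
  have := @_root_.Ideal.Fiber.localizationAlgEquivQuotient.eq_def.{0, 0}
  have := @_root_.Ideal.Fiber.localizationAlgEquivQuotient.eq_1.{0, 0}
  have := @_root_.Ideal.Fiber.algEquivAux₁.eq_def.{0, 0}
  have := @_root_.Ideal.Fiber.algEquivAux₁.eq_1.{0, 0}
  have := @_root_.PrimeSpectrum.preimageHomeomorphFiber.eq_def.{0, 0}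
  have := @_root_.Ideal.Fiber.congr_simp.{0, 0}
  have := @_root_.Ideal.Fiber.eq_def.{0, 0}
  have := @_root_.Ideal.Fiber.eq_1.{0, 0}
  have := @_root_.PrimeSpectrum.preimageOrderIsoFiber.eq_def.{0, 0}
  have := @_root_.Fiber.algEquivQuotient.eq_def.{0, 0}
  have := @_root_.Fiber.algEquivQuotient.eq_1.{0, 0}
  have := @_root_.Ideal.Fiber.algEquivQuotient.eq_def.{0, 0}
  trivial

theorem m22_9 : True := by
  have := @_root_.Ideal.Fiber.algEquivQuotient.eq_1.{0, 0}
  have := @_root_.PrimeSpectrum.primesOverOrderIsoFiber.eq_def.{0, 0}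
  have := @_root_.Equiv.Perm.viaEmbeddingHom.eq_def.{0, 0}
  have := @_root_.Equiv.Perm.viaEmbeddingHom.eq_1.{0, 0}
  have := @_root_.Equiv.Perm.viaEmbedding.eq_def.{0, 0}
  have := @_root_.Equiv.Perm.viaEmbedding.eq_1.{0, 0}
  have := @_root_.IsSolvable.eq_def.{0}
  have := @_root_.IsSolvable.eq_1.{0}
  have := @_root_.Group.IsSolvable.mk.congr_simp.{0}
  have := @_root_.derivedSeries.eq_def.{0}
  have := @_root_.derivedSeries.eq_1.{0}
  have := @_root_.fixingSubgroup.eq_def.{0, 0}
  have := @_root_.fixingAddSubmonoid.eq_def.{0, 0}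
  have := @_root_.fixingSubmonoid.eq_def.{0, 0}
  have := @_root_.fixingAddSubgroup.eq_def.{0, 0}
  have := @_root_.IsGalois.normalAutEquivQuotient.congr_simp.{0, 0}
  have := @_root_.IsGalois.normalAutEquivQuotient.eq_def.{0, 0}
  have := @_root_.IsGalois.normalAutEquivQuotient.eq_1.{0, 0}
  have := @_root_.IsGalois.mk.congr_simp.{0, 0}
  have := @_root_.ZMod.valMinAbs.eq_def
  have := @_root_.ZMod.valMinAbs.eq_1
  have := @_root_.FiniteField.frobeniusAlgEquivOfAlgebraic.eq_def.{0, 0}
  have := @_root_.FiniteField.frobeniusAlgEquivOfAlgebraic.eq_1.{0, 0}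
  have := @_root_.FiniteField.frobeniusAlgHom.eq_def.{0, 0}
  have := @_root_.FiniteField.frobeniusAlgHom.eq_1.{0, 0}
  have := @_root_.Subfield.fintypeBot.congr_simp.{0}
  have := @_root_.Subfield.fintypeBot.eq_def.{0}
  have := @_root_.Subfield.fintypeBot.eq_1.{0}
  have := @_root_.FiniteField.frobeniusAlgEquiv.congr_simp.{0, 0}
  have := @_root_.FiniteField.frobeniusAlgEquiv.eq_def.{0, 0}
  trivial

theorem m22_10 : True := by
  have := @_root_.FiniteField.frobeniusAlgEquiv.eq_1.{0, 0}
  have := @_root_.Int.natAbsHom.eq_def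
  have := @_root_.Int.natAbsHom.eq_1
  have := @_root_.Int.quotientSpanNatEquivZMod.eq_def
  have := @_root_.Int.quotientSpanNatEquivZMod.eq_1
  have := @_root_.ZMod.equivPi.congr_simp
  have := @_root_.ZMod.equivPi.eq_def
  have := @_root_.ZMod.equivPi.eq_1
  have := @_root_.Int.quotientSpanEquivZMod.eq_def
  have := @_root_.Int.quotientSpanEquivZMod.eq_1
  have := @_root_.ZMod.prodEquivPi.congr_simp.{0}
  have := @_root_.ZMod.prodEquivPi.eq_def.{0}
  have := @_root_.ZMod.prodEquivPi.eq_1.{0}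
  have := @_root_.Submodule.piQuotientLift.eq_def.{0, 0, 0, 0}
  have := @_root_.Submodule.quotientPiLift.eq_def.{0, 0, 0, 0}
  have := @_root_.Submodule.quotientPiLift.eq_1.{0, 0, 0, 0}
  have := @_root_.Submodule.quotientPi_aux.toFun.eq_def.{0, 0, 0}
  have := @_root_.Submodule.quotientPi.eq_def.{0, 0, 0}
  have := @_root_.Submodule.quotientPi.eq_1.{0, 0, 0}
  have := @_root_.Submodule.quotientPi_aux.invFun.eq_def.{0, 0, 0}
  have := @_root_.Submonoid.fromCommLeftInv.eq_def.{0}
  have := @_root_.AddSubmonoid.fromCommLeftNeg.eq_def.{0}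
  have := @_root_.AddSubmonoid.leftNeg.eq_def.{0}
  have := @_root_.Submonoid.leftInv.eq_def.{0}
  have := @_root_.AddSubmonoid.leftNegEquiv.congr_simp.{0}
  have := @_root_.AddSubmonoid.leftNegEquiv.eq_def.{0}
  have := @_root_.Submonoid.leftInvEquiv.eq_def.{0}
  have := @_root_.Submonoid.fromLeftInv.eq_def.{0}
  have := @_root_.AddSubmonoid.fromLeftNeg.eq_def.{0}
  have := @_root_.Function.updateFinset.eq_def.{0, 0}
  trivial

theorem m22_11 : True := by
  have := @_root_.memPartition.eq_def.{0}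
  have := @_root_.memPartition.eq_1.{0}
  have := @_root_.Subgroup.LeftTransversal.eq_def.{0}
  have := @_root_.Subgroup.IsComplement.eq_def.{0}
  have := @_root_.AddSubgroup.RightTransversal.eq_def.{0}
  have := @_root_.Subgroup.IsComplement'.QuotientMulEquiv.congr_simp.{0}
  have := @_root_.Subgroup.IsComplement'.QuotientMulEquiv.eq_def.{0}
  have := @_root_.Subgroup.IsComplement'.QuotientMulEquiv.eq_1.{0}
  have := @_root_.AddSubgroup.IsComplement.rightQuotientEquiv.congr_simp.{0}
  have := @_root_.AddSubgroup.IsComplement.rightQuotientEquiv.eq_def.{0}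
  have := @_root_.AddSubgroup.IsComplement.leftQuotientEquiv.congr_simp.{0}
  have := @_root_.AddSubgroup.IsComplement.leftQuotientEquiv.eq_def.{0}
  have := @_root_.Subgroup.IsComplement.equiv.eq_def.{0}
  have := @_root_.Subgroup.IsComplement.toLeftFun.congr_simp.{0}
  have := @_root_.Subgroup.IsComplement.toLeftFun.eq_def.{0}
  have := @_root_.Subgroup.IsComplement.toRightFun.eq_def.{0}
  have := @_root_.Subgroup.IsComplement.leftQuotientEquiv.eq_def.{0}
  have := @_root_.Subgroup.IsComplement.rightQuotientEquiv.congr_simp.{0}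
  have := @_root_.Subgroup.IsComplement.rightQuotientEquiv.eq_def.{0}
  have := @_root_.AddSubgroup.IsComplement.toLeftFun.congr_simp.{0}
  have := @_root_.AddSubgroup.IsComplement.toLeftFun.eq_def.{0}
  have := @_root_.AddSubgroup.IsComplement.toRightFun.congr_simp.{0}
  have := @_root_.AddSubgroup.IsComplement.toRightFun.eq_def.{0}
  have := @_root_.Subgroup.RightTransversal.eq_def.{0}
  have := @_root_.AddSubgroup.LeftTransversal.eq_def.{0}
  have := @_root_.AddSubgroup.IsComplement.eq_def.{0}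
  have := @_root_.Subgroup.IsComplement'.eq_def.{0}
  have := @_root_.AddSubgroup.IsComplement'.eq_def.{0}
  have := @_root_.Complex.ofRealHom.eq_def
  have := @_root_.Complex.ofRealHom.eq_1
  trivial

theorem m22_12 : True := by
  have := @_root_.Complex.reAddGroupHom.eq_def
  have := @_root_.Complex.reAddGroupHom.eq_1
  have := @_root_.Complex.Rectangle.eq_def
  have := @_root_.Complex.I_pow_eq_pow_mod'.eq_def
  have := @_root_.Complex.I_pow_eq_pow_mod'.eq_1
  have := @_root_.Complex.SMul.instSMulRealComplex.eq_def.{0}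
  have := @_root_.Complex.SMul.instSMulRealComplex.eq_1.{0}
  have := @_root_.Complex.reProdIm.eq_def
  have := @_root_.Complex.equivRealProd.eq_def
  have := @_root_.Complex.mulAux.eq_def.{0}
  have := @_root_.Complex.mulAux.eq_1.{0}
  have := @_root_.Complex.normSq.eq_def
  have := @_root_.Complex.imAddGroupHom.eq_def
  have := @_root_.Complex.imAddGroupHom.eq_1
  have := @_root_.Complex.equivRealProdAddHom.eq_def
  have := @_root_.Complex.equivRealProdAddHom.eq_1
  have := @_root_.Complex.ofReal.eq_def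
  have := @_root_.Complex.I.eq_def
  have := @_root_.Complex.I.eq_1
  have := @_root_.Complex.limAux.eq_def
  have := @_root_.Complex.cauSeqNorm.eq_def
  have := @_root_.Complex.cauSeqNorm.eq_1
  have := @_root_.Complex.cauSeqConj.eq_def
  have := @_root_.Complex.cauSeqIm.eq_def
  have := @_root_.Complex.cauSeqRe.eq_def
  have := @_root_.StarMulEquiv.refl.eq_def.{0}
  have := @_root_.StarMulEquiv.refl.eq_1.{0}
  have := @_root_.StarMonoidHom.comp.eq_def.{0, 0, 0}
  have := @_root_.StarMonoidHom.comp.eq_1.{0, 0, 0}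
  have := @_root_.StarMonoidHom.ofClass.congr_simp.{0, 0, 0}
  trivial

theorem m22_13 : True := by
  have := @_root_.StarMonoidHom.ofClass.eq_def.{0, 0, 0}
  have := @_root_.StarMonoidHom.ofClass.eq_1.{0, 0, 0}
  have := @_root_.StarMulEquiv.ofBijective.congr_simp.{0, 0}
  have := @_root_.StarMulEquiv.ofBijective.eq_def.{0, 0}
  have := @_root_.StarMulEquiv.ofBijective.eq_1.{0, 0}
  have := @_root_.StarMulEquiv.trans.eq_def.{0, 0, 0}
  have := @_root_.StarMulEquiv.trans.eq_1.{0, 0, 0}
  have := @_root_.StarMulEquiv.symm.eq_def.{0, 0}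
  have := @_root_.StarMulEquiv.symm.eq_1.{0, 0}
  have := @_root_.StarMulEquiv.ofClass.congr_simp.{0, 0, 0}
  have := @_root_.StarMulEquiv.ofClass.eq_def.{0, 0, 0}
  have := @_root_.StarMulEquiv.ofClass.eq_1.{0, 0, 0}
  have := @_root_.StarMulEquiv.ofStarMonoidHom.congr_simp.{0, 0}
  have := @_root_.StarMulEquiv.ofStarMonoidHom.eq_def.{0, 0}
  have := @_root_.StarMulEquiv.ofStarMonoidHom.eq_1.{0, 0}
  have := @_root_.StarMonoidHom.copy.congr_simp.{0, 0}
  have := @_root_.StarMonoidHom.copy.eq_def.{0, 0}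
  have := @_root_.StarMonoidHom.copy.eq_1.{0, 0}
  have := @_root_.StarMonoidHom.id.eq_def.{0}
  have := @_root_.StarMonoidHom.id.eq_1.{0}
  have := @_root_.StarMulEquiv.toStarMonoidHom.eq_def.{0, 0}
  have := @_root_.StarMulEquiv.toStarMonoidHom.eq_1.{0, 0}
  have := @_root_.Unitary.map.eq_def.{0, 0}
  have := @_root_.Unitary.map.eq_1.{0, 0}
  have := @_root_.Unitary.mapEquiv.eq_def.{0, 0}
  have := @_root_.Unitary.mapEquiv.eq_1.{0, 0}
  have := @_root_.unitary.eq_def.{0}
  have := @_root_.unitarySubgroup.eq_def.{0}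
  have := @_root_.unitarySubgroup.eq_1.{0}
  have := @_root_.Unitary.toUnits.eq_def.{0}
  trivial

theorem m22_14 : True := by
  have := @_root_.Unitary.toUnits.eq_1.{0}
  have := @_root_.unitarySubgroupUnitsEquiv.eq_def.{0}
  have := @_root_.unitarySubgroupUnitsEquiv.eq_1.{0}
  have := @_root_.Complex.conjLIE.eq_def
  have := @_root_.Complex.conjLIE.eq_1
  have := @_root_.Complex.conjCAE.eq_def
  have := @_root_.Complex.conjCAE.eq_1
  have := @_root_.Complex.ofRealLI.eq_def
  have := @_root_.RCLike.complexRingEquiv.eq_def.{0}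
  have := @_root_.RCLike.complexRingEquiv.eq_1.{0}
  have := @_root_.RCLike.complexLinearIsometryEquiv.congr_simp.{0}
  have := @_root_.RCLike.complexLinearIsometryEquiv.eq_def.{0}
  have := @_root_.RCLike.complexLinearIsometryEquiv.eq_1.{0}
  have := @_root_.Complex.ofRealCLM.eq_def
  have := @_root_.Complex.ofRealCLM.eq_1
  have := @_root_.Complex.equivRealProdCLM.eq_def
  have := @_root_.Complex.equivRealProdCLM.eq_1
  have := @_root_.Complex.imCLM.eq_def
  have := @_root_.Complex.imCLM.eq_1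
  have := @_root_.Complex.conjCLE.eq_def
  have := @_root_.Complex.conjCLE.eq_1
  have := @_root_.Complex.slitPlane.eq_def
  have := @_root_.Complex.reCLM.eq_def
  have := @_root_.Complex.reCLM.eq_1
  have := @_root_.Nat.nthRoot.eq_def
  have := @_root_.Equiv.codRestrict.eq_def.{0, 0}
  have := @_root_.Equiv.codRestrict.eq_1.{0, 0}
  have := @_root_.Equiv.uniqueEmbeddingEquivResult.eq_def.{0, 0}
  have := @_root_.Equiv.uniqueEmbeddingEquivResult.eq_1.{0, 0}
  have := @_root_.Equiv.prodEmbeddingDisjointEquivSigmaEmbeddingRestricted.eq_def.{0, 0, 0}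
  trivial

end Cfsg.Rz
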