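import Cfsg.Agent.Rz.M22

/-! Generated file: forces on-demand equation and congruence lemmas to be created once. -/

set_option linter.all false

namespace Cfsg.Rz

theorem m23_0 : True := by
  have := @_root_.Equiv.prodEmbeddingDisjointEquivSigmaEmbeddingRestricted.eq_1.{0, 0, 0}
  have := @_root_.Equiv.sumEmbeddingEquivProdEmbeddingDisjoint.eq_def.{0, 0, 0}
  have := @_root_.Equiv.sumEmbeddingEquivProdEmbeddingDisjoint.eq_1.{0, 0, 0}
  have := @_root_.Equiv.sumEmbeddingEquivSigmaEmbeddingRestricted.eq_def.{0, 0, 0}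
  have := @_root_.Equiv.sumEmbeddingEquivSigmaEmbeddingRestricted.eq_1.{0, 0, 0}
  have := @_root_.Matrix.etaExpand.eq_def.{0}
  have := @_root_.Matrix.dotProductᵣ.eq_def.{0}
  have := @_root_.Matrix.vecMulᵣ.eq_def.{0}
  have := @_root_.Matrix.mulVecᵣ.eq_def.{0}
  have := @_root_.Matrix.mulᵣ.eq_def.{0}
  have := @_root_.Set.smulAntidiagonal.eq_def.{0, 0}
  have := @_root_.Set.vaddAntidiagonal.eq_def.{0, 0}
  have := @_root_.Finset.SMulAntidiagonal.eq_def.{0, 0}
  have := @_root_.Finset.VAddAntidiagonal.eq_def.{0, 0}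
  have := @_root_.MonoidAlgebra.instSMulForallOfIsLeftCancelSMulOfSMulWithZero.congr_simp.{0, 0, 0, 0}
  have := @_root_.MonoidAlgebra.instSMulForallOfIsLeftCancelSMulOfSMulWithZero.eq_def.{0, 0, 0, 0}
  have := @_root_.AddMonoidAlgebra.instVAddForallOfIsLeftCancelVAddOfVAddWithZero.congr_simp.{0, 0, 0, 0}
  have := @_root_.AddMonoidAlgebra.instVAddForallOfIsLeftCancelVAddOfVAddWithZero.eq_def.{0, 0, 0, 0}
  have := @_root_.DirectSum.toAddMonoidAlgebra.eq_def.{0, 0}
  have := @_root_.addMonoidAlgebraAddEquivDirectSum.eq_def.{0, 0}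
  have := @_root_.addMonoidAlgebraAddEquivDirectSum.eq_1.{0, 0}
  have := @_root_.addMonoidAlgebraAlgEquivDirectSum.eq_def.{0, 0, 0}
  have := @_root_.addMonoidAlgebraAlgEquivDirectSum.eq_1.{0, 0, 0}
  have := @_root_.addMonoidAlgebraEquivDirectSum.eq_def.{0, 0}
  have := @_root_.addMonoidAlgebraEquivDirectSum.eq_1.{0, 0}
  have := @_root_.AddMonoidAlgebra.toDirectSum.eq_def.{0, 0}
  have := @_root_.AddMonoidAlgebra.toDirectSum.eq_1.{0, 0}
  have := @_root_.addMonoidAlgebraRingEquivDirectSum.eq_def.{0, 0}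
  have := @_root_.addMonoidAlgebraRingEquivDirectSum.eq_1.{0, 0}
  have := @_root_.Multiset.multinomial.eq_def
  trivial

theorem m23_1 : True := by
  have := @_root_.Multiset.multinomial.eq_1
  have := @_root_.Multiset.evalMultinomial.eq_def
  have := @_root_.Multiset.evalMultinomial.eq_1
  have := @_root_.Nat.multinomial.eq_def.{0}
  have := @_root_.Multiset.countPerms.eq_def.{0}
  have := @_root_.Finsupp.multinomial.eq_def.{0}
  have := @_root_.MonomialOrder.lex.eq_def.{0}
  have := @_root_.MonomialOrder.lex.eq_1.{0}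
  have := @_root_.MonomialOrder.acm.eq_def.{0, 0}
  have := @_root_.MonomialOrder.acm.eq_1.{0, 0}
  have := @_root_.MonomialOrder.mk.congr_simp.{0, 0}
  have := @_root_.MonomialOrder.toWithBotSyn.eq_def.{0, 0}
  have := @_root_.MonomialOrder.toWithBotSyn.eq_1.{0, 0}
  have := @_root_.MonomialOrder.lo.eq_def.{0, 0}
  have := @_root_.MonomialOrder.lo.eq_1.{0, 0}
  have := @_root_.MonomialOrder.degLex.eq_def.{0}
  have := @_root_.MonomialOrder.degLex.eq_1.{0}
  have := @_root_.toDegLex.eq_def.{0}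
  have := @_root_.toDegLex.eq_1.{0}
  have := @_root_.Finsupp.DegLex.eq_def.{0}
  have := @_root_.Finsupp.DegLex.eq_1.{0}
  have := @_root_.DegLex.eq_def.{0}
  have := @_root_.DegLex.eq_1.{0}
  have := @_root_.ofDegLex.eq_def.{0}
  have := @_root_.ofDegLex.eq_1.{0}
  have := @_root_.Nat.MinSqFacProp.eq_def
  have := @_root_.Nat.minSqFac.eq_def
  have := @_root_.Nat.minSqFac.eq_1
  have := @_root_.Nat.Primes.prodNatEquiv.eq_def
  have := @_root_.Nat.Primes.prodNatEquiv.eq_1
  trivial

theorem m23_2 : True := by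
  have := @_root_.Set.antidiagonal.eq_def.{0}
  have := @_root_.Set.mulAntidiagonal.eq_def.{0}
  have := @_root_.Finset.antidiagonal.eq_def.{0}
  have := @_root_.Finset.mulAntidiagonal.eq_def.{0}
  have := @_root_.Finset.addAntidiagonal.congr_simp.{0}
  have := @_root_.Finset.addAntidiagonal.eq_def.{0}
  have := @_root_.Finset.addAntidiagonal.eq_1.{0}
  have := @_root_.Subring.orderedSubtype.eq_def.{0}
  have := @_root_.Subring.orderedSubtype.eq_1.{0}
  have := @_root_.ValuationSubring.pointwiseHasSMul.eq_def.{0, 0}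
  have := @_root_.ValuationSubring.pointwiseHasSMul.eq_1.{0, 0}
  have := @_root_.ValuationSubring.mapOfLE.eq_def.{0}
  have := @_root_.ValuationSubring.mapOfLE.eq_1.{0}
  have := @_root_.ValuationSubring.pointwiseMulAction.eq_def.{0, 0}
  have := @_root_.ValuationSubring.pointwiseMulAction.eq_1.{0, 0}
  have := @_root_.ValuationSubring.mk.congr_simp.{0}
  have := @_root_.ValuationSubring.subtype.eq_def.{0}
  have := @_root_.ValuationSubring.subtype.eq_1.{0}
  have := @_root_.ValuationSubring.unitsModPrincipalUnitsEquivResidueFieldUnits.eq_def.{0}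
  have := @_root_.ValuationSubring.unitsModPrincipalUnitsEquivResidueFieldUnits.eq_1.{0}
  have := @_root_.ValuationSubring.principalUnitGroupEquiv.eq_def.{0}
  have := @_root_.ValuationSubring.principalUnitGroupEquiv.eq_1.{0}
  have := @_root_.ValuationSubring.comap.eq_def.{0, 0}
  have := @_root_.ValuationSubring.comap.eq_1.{0, 0}
  have := @_root_.Valuation.valuationSubring.eq_def.{0, 0}
  have := @_root_.Valuation.valuationSubring.eq_1.{0, 0}
  have := @_root_.ValuationSubring.inclusion.eq_def.{0}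
  have := @_root_.ValuationSubring.inclusion.eq_1.{0}
  have := @_root_.ValuationSubring.unitGroupMulEquiv.eq_def.{0}
  have := @_root_.ValuationSubring.unitGroupMulEquiv.eq_1.{0}
  trivial

theorem m23_3 : True := by
  have := @_root_.ValuationSubring.idealOfLE.eq_def.{0}
  have := @_root_.ValuationSubring.unitGroupOrderEmbedding.eq_def.{0}
  have := @_root_.ValuationSubring.unitGroupOrderEmbedding.eq_1.{0}
  have := @_root_.ValuationSubring.primeSpectrumOrderEquiv.eq_def.{0}
  have := @_root_.ValuationSubring.primeSpectrumOrderEquiv.eq_1.{0}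
  have := @_root_.ValuationSubring.ofPrime.eq_def.{0}
  have := @_root_.ValuationSubring.ofPrime.eq_1.{0}
  have := @_root_.ValuationSubring.valuation.eq_def.{0}
  have := @_root_.ValuationSubring.valuation.eq_1.{0}
  have := @_root_.ValuationSubring.principalUnitGroupOrderEmbedding.eq_def.{0}
  have := @_root_.ValuationSubring.principalUnitGroupOrderEmbedding.eq_1.{0}
  have := @_root_.ValuationSubring.ofLE.congr_simp.{0}
  have := @_root_.ValuationSubring.ofLE.eq_def.{0}
  have := @_root_.ValuationSubring.ofLE.eq_1.{0}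
  have := @_root_.ValuationSubring.ofSubring.congr_simp.{0}
  have := @_root_.ValuationSubring.ofSubring.eq_def.{0}
  have := @_root_.ValuationSubring.ofSubring.eq_1.{0}
  have := @_root_.ValuationSubring.nonunits.eq_def.{0}
  have := @_root_.ValuationSubring.nonunits.eq_1.{0}
  have := @_root_.ValuationSubring.primeSpectrumEquiv.eq_def.{0}
  have := @_root_.ValuationSubring.primeSpectrumEquiv.eq_1.{0}
  have := @_root_.ValuationSubring.nonunitsOrderEmbedding.eq_def.{0}
  have := @_root_.ValuationSubring.nonunitsOrderEmbedding.eq_1.{0}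
  have := @_root_.ValuationSubring.unitGroupToResidueFieldUnits.eq_def.{0}
  have := @_root_.ValuationSubring.principalUnitGroup.eq_def.{0}
  have := @_root_.ValuationSubring.principalUnitGroup.eq_1.{0}
  have := @_root_.ValuationSubring.ValueGroup.eq_def.{0}
  have := @_root_.ValuationSubring.ValueGroup.eq_1.{0}
  have := @_root_.ValuationSubring.unitGroup.eq_def.{0}
  have := @_root_.ValuationSubring.unitGroup.eq_1.{0}
  trivial

theorem m23_4 : True := by
  have := @_root_.conjnegRingHom.eq_def.{0, 0}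
  have := @_root_.conjnegRingHom.eq_1.{0, 0}
  have := @_root_.conjneg.eq_def.{0, 0}
  have := @_root_.conjneg.eq_1.{0, 0}
  have := @_root_.Polynomial.cardPowDegree.eq_def.{0}
  have := @_root_.Polynomial.IsMonicOfDegree.mk.congr_simp.{0}
  have := @_root_.Finsupp.fun₀.eq_def
  have := @_root_.Finsupp.fun₀.eq_1
  have := @_root_.Finsupp.fun₀.matchAlts.eq_def
  have := @_root_.Finsupp.fun₀.matchAlts.eq_1
  have := @_root_.Finsupp.fun₀.formatter.eq_def
  have := @_root_.Finsupp.fun₀.formatter.eq_1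
  have := @_root_.Finsupp.fun₀.matchAlts.formatter.eq_def
  have := @_root_.Finsupp.fun₀.matchAlts.formatter.eq_1
  have := @_root_.Finsupp.fun₀.parenthesizer.eq_def
  have := @_root_.Finsupp.fun₀.parenthesizer.eq_1
  have := @_root_.Finsupp.Internal.stxUpdate₀.eq_def
  have := @_root_.Finsupp.Internal.stxUpdate₀.eq_1
  have := @_root_.Finsupp.fun₀.matchAlts.parenthesizer.eq_def
  have := @_root_.Finsupp.fun₀.matchAlts.parenthesizer.eq_1
  have := @_root_.Finsupp.Internal.stxSingle₀.eq_def
  have := @_root_.Finsupp.Internal.stxSingle₀.eq_1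
  have := @_root_.CentroidHom.centerToCentroid.eq_def.{0}
  have := @_root_.CentroidHom.centerToCentroid.eq_1.{0}
  have := @_root_.CentroidHom.toEnd.eq_def.{0}
  have := @_root_.CentroidHom.toEnd.eq_1.{0}
  have := @_root_.CentroidHomClass.mk.congr_simp.{0, 0}
  have := @_root_.CentroidHom.comp.eq_def.{0}
  have := @_root_.CentroidHom.comp.eq_1.{0}
  have := @_root_.CentroidHom.id.eq_def.{0}
  trivial

theorem m23_5 : True := by
  have := @_root_.CentroidHom.id.eq_1.{0}
  have := @_root_.CentroidHom.copy.congr_simp.{0}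
  have := @_root_.CentroidHom.copy.eq_def.{0}
  have := @_root_.CentroidHom.copy.eq_1.{0}
  have := @_root_.CentroidHom.centerToCentroidCenter.eq_def.{0}
  have := @_root_.CentroidHom.centerToCentroidCenter.eq_1.{0}
  have := @_root_.Module.toCentroidHom.congr_simp.{0, 0}
  have := @_root_.Module.toCentroidHom.eq_def.{0, 0}
  have := @_root_.Module.toCentroidHom.eq_1.{0, 0}
  have := @_root_.CentroidHom.centerIsoCentroid.eq_def.{0}
  have := @_root_.CentroidHom.centerIsoCentroid.eq_1.{0}
  have := @_root_.CentroidHom.commRing.congr_simp.{0}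
  have := @_root_.CentroidHom.commRing.eq_def.{0}
  have := @_root_.CentroidHom.commRing.eq_1.{0}
  have := @_root_.CentroidHom.toEndRingHom.eq_def.{0}
  have := @_root_.CentroidHom.toEndRingHom.eq_1.{0}
  have := @_root_.IsSumNonzeroSq.below.sq_add.congr_simp.{0}
  have := @_root_.AddSubsemigroup.sumNonzeroSq.eq_def.{0}
  have := @_root_.AddSubsemigroup.sumNonzeroSq.eq_1.{0}
  have := @_root_.IsSumNonzeroSq.sq.congr_simp.{0}
  have := @_root_.IsSumNonzeroSq.sq_add.congr_simp.{0}
  have := @_root_.IsFormallyReal.mk.congr_simp.{0}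
  have := @_root_.Set.hasDistribNeg.eq_def.{0}
  have := @_root_.Set.hasDistribNeg.eq_1.{0}
  have := @_root_.Finset.distribNeg.eq_def.{0}
  have := @_root_.Finset.distribNeg.eq_1.{0}
  have := @_root_.IsSemireal.mk.congr_simp.{0}
  have := @_root_.AddSubgroup.mul.eq_def.{0}
  have := @_root_.AddSubgroup.mul.eq_1.{0}
  have := @_root_.Polynomial.int.congr_simp.{0}
  trivial

theorem m23_6 : True := by
  have := @_root_.Polynomial.int.eq_def.{0}
  have := @_root_.Polynomial.int.eq_1.{0}
  have := @_root_.RingQuot.Rel.below.mul_left.congr_simp.{0}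
  have := @_root_.RingQuot.ringQuotToIdealQuotient.eq_def.{0}
  have := @_root_.RingQuot.algEquivQuotAlgEquiv.eq_def.{0, 0, 0}
  have := @_root_.RingQuot.algEquivQuotAlgEquiv.eq_1.{0, 0, 0}
  have := @_root_.RingQuot.Rel.below.mul_right.congr_simp.{0}
  have := @_root_.RingQuot.mkRingHom.eq_def.{0}
  have := @_root_.RingQuot.Rel.add_left.congr_simp.{0}
  have := @_root_.RingQuot.preLiftAlgHom.eq_def.{0, 0, 0}
  have := @_root_.RingQuot.Rel.mul_right.congr_simp.{0}
  have := @_root_.RingQuot.Rel.below.add_left.congr_simp.{0}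
  have := @_root_.RingQuot.idealQuotientToRingQuot.eq_def.{0}
  have := @_root_.RingQuot.idealQuotientToRingQuot.eq_1.{0}
  have := @_root_.RingQuot.smul.eq_def.{0, 0}
  have := @_root_.RingQuot.smul.eq_1.{0, 0}
  have := @_root_.RingQuot.ringCon.eq_def.{0}
  have := @_root_.RingQuot.ringCon.eq_1.{0}
  have := @_root_.RingQuot.intCast.eq_def.{0}
  have := @_root_.RingQuot.intCast.eq_1.{0}
  have := @_root_.RingQuot.liftAlgHom.eq_def.{0, 0, 0}
  have := @_root_.RingQuot.preLift.eq_def.{0, 0}
  have := @_root_.RingQuot.equivQuotEquiv.eq_def.{0, 0}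
  have := @_root_.RingQuot.equivQuotEquiv.eq_1.{0, 0}
  have := @_root_.RingQuot.ringQuotEquivIdealQuotient.eq_def.{0}
  have := @_root_.RingQuot.ringQuotEquivIdealQuotient.eq_1.{0}
  have := @_root_.RingQuot.natCast.eq_def.{0}
  have := @_root_.RingQuot.Rel.of.congr_simp.{0}
  have := @_root_.RingQuot.lift.eq_def.{0, 0}
  have := @_root_.RingQuot.mkAlgHom.eq_def.{0, 0}
  trivial

theorem m23_7 : True := by
  have := @_root_.RingQuot.Rel.mul_left.congr_simp.{0}
  have := @_root_.IsCHSHTuple.mk.congr_simp.{0}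
  have := @_root_.NonUnitalStarSubsemiring.copy.congr_simp.{0}
  have := @_root_.NonUnitalStarSubsemiring.copy.eq_def.{0}
  have := @_root_.NonUnitalStarSubsemiring.copy.eq_1.{0}
  have := @_root_.NonUnitalStarSubsemiring.mk.congr_simp.{0}
  have := @_root_.SubStarSemigroup.mk.congr_simp.{0}
  have := @_root_.NonUnitalStarSubsemiring.ofClass.congr_simp.{0, 0}
  have := @_root_.NonUnitalStarSubsemiring.ofClass.eq_def.{0, 0}
  have := @_root_.NonUnitalStarSubsemiring.ofClass.eq_1.{0, 0}
  have := @_root_.NonUnitalStarSubsemiring.center.eq_def.{0}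
  have := @_root_.NonUnitalStarSubsemiring.center.eq_1.{0}
  have := @_root_.StarSubsemiring.ofClass.congr_simp.{0, 0}
  have := @_root_.StarSubsemiring.ofClass.eq_def.{0, 0}
  have := @_root_.StarSubsemiring.ofClass.eq_1.{0, 0}
  have := @_root_.StarSubsemiring.center.eq_def.{0}
  have := @_root_.StarSubsemiring.center.eq_1.{0}
  have := @_root_.SubStarSemigroup.center.eq_def.{0}
  have := @_root_.SubStarSemigroup.center.eq_1.{0}
  have := @_root_.StarSubsemiring.copy.congr_simp.{0}
  have := @_root_.StarSubsemiring.copy.eq_def.{0}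
  have := @_root_.StarSubsemiring.copy.eq_1.{0}
  have := @_root_.StarSubsemiring.mk.congr_simp.{0}
  have := @_root_.CentroidHom.starCenterToCentroidCenter.eq_def.{0}
  have := @_root_.CentroidHom.starCenterToCentroidCenter.eq_1.{0}
  have := @_root_.CentroidHom.starRingOfCommCentroidHom.congr_simp.{0}
  have := @_root_.CentroidHom.starRingOfCommCentroidHom.eq_def.{0}
  have := @_root_.CentroidHom.starRingOfCommCentroidHom.eq_1.{0}
  have := @_root_.CentroidHom.starCenterIsoCentroid.eq_def.{0}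
  have := @_root_.CentroidHom.starCenterIsoCentroid.eq_1.{0}
  trivial

theorem m23_8 : True := by
  have := @_root_.CentroidHom.centerStarEmbedding.eq_def.{0}
  have := @_root_.CentroidHom.centerStarEmbedding.eq_1.{0}
  have := @_root_.CentroidHom.starCenterToCentroid.eq_def.{0}
  have := @_root_.CentroidHom.starCenterToCentroid.eq_1.{0}
  have := @_root_.FreeAlgebra.starHom.eq_def.{0, 0}
  have := @_root_.FreeAlgebra.starHom.eq_1.{0, 0}
  have := @_root_.LinearMap.convIntrinsicStarRing.congr_simp.{0, 0, 0}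
  have := @_root_.LinearMap.convIntrinsicStarRing.eq_def.{0, 0, 0}
  have := @_root_.LinearMap.convIntrinsicStarRing.eq_1.{0, 0, 0}
  have := @_root_.RingQuot.starRing.congr_simp.{0}
  have := @_root_.RingQuot.starRing.eq_def.{0}
  have := @_root_.RingQuot.starRing.eq_1.{0}
  have := @_root_.Equiv.involutiveStar.eq_def.{0, 0}
  have := @_root_.Equiv.involutiveStar.eq_1.{0, 0}
  have := @_root_.Equiv.star.eq_def.{0, 0}
  have := @_root_.Equiv.star.eq_1.{0, 0}
  have := @_root_.Equiv.starAddMonoid.eq_def.{0, 0}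
  have := @_root_.Equiv.starAddMonoid.eq_1.{0, 0}
  have := @_root_.Equiv.starMul.eq_def.{0, 0}
  have := @_root_.Equiv.starMul.eq_1.{0, 0}
  have := @_root_.Equiv.starRing.eq_def.{0, 0}
  have := @_root_.Equiv.starRing.eq_1.{0, 0}
  have := @_root_.Unitary.conjStarAlgAut.eq_def.{0, 0}
  have := @_root_.Unitary.conjStarAlgAut.eq_1.{0, 0}
  have := @_root_.Function.Coequalizer.eq_def.{0, 0}
  have := @_root_.Function.Coequalizer.eq_1.{0, 0}
  have := @_root_.Function.Coequalizer.mk.eq_def.{0, 0}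
  have := @_root_.Function.Coequalizer.mk.eq_1.{0, 0}
  have := @_root_.Function.Coequalizer.desc.congr_simp.{0, 0, 0}
  have := @_root_.Function.Coequalizer.desc.eq_def.{0, 0, 0}
  trivial

theorem m23_9 : True := by
  have := @_root_.Function.Coequalizer.desc.eq_1.{0, 0, 0}
  have := @_root_.Nat.evenOddRec.eq_def.{0}
  have := @_root_.Nat.evenOddRec.eq_1.{0}
  have := @_root_.Nat.evenOddStrongRec.eq_def.{0}
  have := @_root_.Nat.evenOddStrongRec.eq_1.{0}
  have := @_root_.WithZeroMulInt.toNNReal.eq_def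
  have := @_root_.LinearOrderedCommGroup.multiplicative_int_orderMonoidIso_of_isLeast_one_lt.congr_simp.{0}
  have := @_root_.LinearOrderedCommGroup.multiplicative_int_orderMonoidIso_of_isLeast_one_lt.eq_def.{0}
  have := @_root_.LinearOrderedCommGroup.multiplicative_int_orderMonoidIso_of_isLeast_one_lt.eq_1.{0}
  have := @_root_.LinearOrderedCommGroup.closure_equiv_closure.congr_simp.{0, 0}
  have := @_root_.LinearOrderedCommGroup.closure_equiv_closure.eq_def.{0, 0}
  have := @_root_.LinearOrderedAddCommGroup.int_orderAddMonoidIso_of_isLeast_pos.congr_simp.{0}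
  have := @_root_.LinearOrderedAddCommGroup.int_orderAddMonoidIso_of_isLeast_pos.eq_def.{0}
  have := @_root_.LinearOrderedAddCommGroup.int_orderAddMonoidIso_of_isLeast_pos.eq_1.{0}
  have := @_root_.LinearOrderedAddCommGroup.closure_equiv_closure.congr_simp.{0, 0}
  have := @_root_.LinearOrderedAddCommGroup.closure_equiv_closure.eq_def.{0, 0}
  have := @_root_.Finset.finsupp.eq_def.{0, 0}
  have := @_root_.Finset.finsupp.eq_1.{0, 0}
  have := @_root_.Finsupp.pi.eq_def.{0, 0}
  have := @_root_.Finsupp.rangeIcc.eq_def.{0, 0}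
  have := @_root_.Finsupp.rangeIcc.eq_1.{0, 0}
  have := @_root_.Finsupp.rangeSingleton.eq_def.{0, 0}
  have := @_root_.Finsupp.rangeSingleton.eq_1.{0, 0}
  have := @_root_.Module.Basis.ofSplitExact.eq_def.{0, 0, 0, 0, 0, 0, 0}
  have := @_root_.IsAlmostIntegral.eq_def.{0, 0}
  have := @_root_.IsAlmostIntegral.eq_1.{0, 0}
  have := @_root_.completeIntegralClosure.eq_def.{0, 0}
  have := @_root_.completeIntegralClosure.eq_1.{0, 0}
  have := @_root_.Polynomial.residueFieldMapCAlgEquiv.eq_def.{0}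
  have := @_root_.Polynomial.fiberEquivQuotient.eq_def.{0, 0}
  trivial

theorem m23_10 : True := by
  have := @_root_.LocalSubring.map.congr_simp.{0, 0}
  have := @_root_.LocalSubring.map.eq_def.{0, 0}
  have := @_root_.LocalSubring.map.eq_1.{0, 0}
  have := @_root_.LocalSubring.range.congr_simp.{0, 0}
  have := @_root_.LocalSubring.range.eq_def.{0, 0}
  have := @_root_.LocalSubring.range.eq_1.{0, 0}
  have := @_root_.LocalSubring.mk.congr_simp.{0}
  have := @_root_.LocalSubring.ofPrimeEquiv.eq_def.{0}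
  have := @_root_.LocalSubring.ofPrimeEquiv.eq_1.{0}
  have := @_root_.LocalSubring.ofPrime.congr_simp.{0}
  have := @_root_.LocalSubring.ofPrime.eq_def.{0}
  have := @_root_.LocalSubring.ofPrime.eq_1.{0}
  have := @_root_.LocalSubring.copy.congr_simp.{0}
  have := @_root_.LocalSubring.copy.eq_def.{0}
  have := @_root_.LocalSubring.copy.eq_1.{0}
  have := @_root_.padicValInt.eq_def
  have := @_root_.padicValRat.eq_def
  have := @_root_.CompleteLattice.MulticoequalizerDiagram.multispanIndex.eq_def.{0, 0}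
  have := @_root_.CompleteLattice.MulticoequalizerDiagram.multispanIndex.eq_1.{0, 0}
  have := @_root_.CompleteLattice.MulticoequalizerDiagram.multicofork.eq_def.{0, 0}
  have := @_root_.CompleteLattice.MulticoequalizerDiagram.multicofork.eq_1.{0, 0}
  have := @_root_.Lattice.BicartSq.mk.congr_simp.{0}
  have := @_root_.CompleteLattice.MulticoequalizerDiagram.mk.congr_simp.{0, 0}
  have := @_root_.Matrix.planeConformalMatrix.eq_def.{0}
  have := @_root_.Matrix.planeConformalMatrix.eq_1.{0}
  have := @_root_.Matrix.ProjectiveSpecialLinearGroup.congr_simp.{0, 0}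
  have := @_root_.Matrix.ProjectiveSpecialLinearGroup.eq_def.{0, 0}
  have := @_root_.Matrix.ProjectiveSpecialLinearGroup.eq_1.{0, 0}
  have := @_root_.Matrix.ProjGenLinGroup.congr_simp.{0, 0}
  have := @_root_.Matrix.ProjGenLinGroup.eq_def.{0, 0}
  trivial

theorem m23_11 : True := by
  have := @_root_.Matrix.ProjGenLinGroup.eq_1.{0, 0}
  have := @_root_.Matrix.ProjectiveSpecialLinearGroup.toPGL.eq_def.{0, 0}
  have := @_root_.Matrix.ProjectiveSpecialLinearGroup.toPGL.eq_1.{0, 0}
  have := @_root_.Matrix.SpecialLinearGroup.toPGL.eq_def.{0, 0}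
  have := @_root_.Matrix.SpecialLinearGroup.toPGL.eq_1.{0, 0}
  have := @_root_.Matrix.ProjGenLinGroup.mulActionOfGL.congr_simp.{0, 0, 0}
  have := @_root_.Matrix.ProjGenLinGroup.mulActionOfGL.eq_def.{0, 0, 0}
  have := @_root_.Matrix.ProjGenLinGroup.mulActionOfGL.eq_1.{0, 0, 0}
  have := @_root_.Matrix.ProjGenLinGroup.mk.eq_def.{0, 0}
  have := @_root_.Matrix.ProjGenLinGroup.mk.eq_1.{0, 0}
  have := @_root_.Matrix.ProjectiveSpecialLinearGroup.isoPSLOfAlgClosed.congr_simp.{0, 0}
  have := @_root_.Matrix.ProjectiveSpecialLinearGroup.isoPSLOfAlgClosed.eq_def.{0, 0}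
  have := @_root_.Matrix.ProjectiveSpecialLinearGroup.isoPSLOfAlgClosed.eq_1.{0, 0}
  have := @_root_.Matrix.ProjGenLinGroup.lift.congr_simp.{0, 0, 0}
  have := @_root_.Matrix.ProjGenLinGroup.lift.eq_def.{0, 0, 0}
  have := @_root_.Matrix.ProjGenLinGroup.lift.eq_1.{0, 0, 0}
  have := @_root_.Matrix.ProjectiveSpecialLinearGroup.isoPSLOfAlgClosedOfNonempty.congr_simp.{0, 0}
  have := @_root_.Matrix.ProjectiveSpecialLinearGroup.isoPSLOfAlgClosedOfNonempty.eq_def.{0, 0}
  have := @_root_.Matrix.ProjectiveSpecialLinearGroup.isoPSLOfAlgClosedOfNonempty.eq_1.{0, 0}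
  have := @_root_.Matrix.ProjGenLinGroup.signDet.congr_simp.{0, 0}
  have := @_root_.Matrix.ProjGenLinGroup.signDet.eq_def.{0, 0}
  have := @_root_.Matrix.ProjGenLinGroup.signDet.eq_1.{0, 0}
  have := @_root_.Matrix.ProjGenLinGroup.map.eq_def.{0, 0, 0}
  have := @_root_.Matrix.ProjGenLinGroup.map.eq_1.{0, 0, 0}
  have := @_root_.Matrix.discr.eq_def.{0, 0}
  have := @_root_.Matrix.GeneralLinearGroup.IsElliptic.eq_def.{0}
  have := @_root_.Matrix.GeneralLinearGroup.IsElliptic.eq_1.{0}
  have := @_root_.Matrix.GeneralLinearGroup.upperRightHom.eq_def.{0}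
  have := @_root_.Matrix.GeneralLinearGroup.upperRightHom.eq_1.{0}
  have := @_root_.Matrix.GeneralLinearGroup.IsParabolic.eq_def.{0}
  trivial

theorem m23_12 : True := by
  have := @_root_.Matrix.GeneralLinearGroup.fixpointPolynomial.eq_def.{0}
  have := @_root_.Matrix.GeneralLinearGroup.IsHyperbolic.eq_def.{0}
  have := @_root_.Matrix.GeneralLinearGroup.IsHyperbolic.eq_1.{0}
  have := @_root_.Matrix.IsHyperbolic.eq_def.{0}
  have := @_root_.Matrix.IsElliptic.eq_def.{0}
  have := @_root_.Matrix.IsParabolic.eq_def.{0}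
  have := @_root_.Matrix.parabolicEigenvalue.eq_def.{0}
  have := @_root_.PEquiv.toMatrix.eq_def.{0, 0, 0}
  have := @_root_.Matrix.permMatrixHom.eq_def.{0, 0}
  have := @_root_.Matrix.permMatrixHom.eq_1.{0, 0}
  have := @_root_.Equiv.Perm.permMatrix.eq_def.{0, 0}
  have := @_root_.Matrix.rowStochastic.eq_def.{0, 0}
  have := @_root_.Matrix.colStochastic.eq_def.{0, 0}
  have := @_root_.SimpleGraph.IsCompleteBetween.eq_def.{0}
  have := @_root_.SimpleGraph.mk'.eq_def.{0}
  have := @_root_.SimpleGraph.mk'.eq_1.{0}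
  have := @_root_.SimpleGraph.incidenceSetEquivNeighborSet.eq_def.{0}
  have := @_root_.SimpleGraph.incidenceSetEquivNeighborSet.eq_1.{0}
  have := @_root_.SimpleGraph.commonNeighbors.eq_def.{0}
  have := @_root_.aesop_graph?.eq_def
  have := @_root_.aesop_graph?.eq_1
  have := @_root_.SimpleGraph.IsIsolated.eq_def.{0}
  have := @_root_.SimpleGraph.neighborSet.eq_def.{0}
  have := @_root_.SimpleGraph.otherVertexOfIncident.eq_def.{0}
  have := @_root_.SimpleGraph.completeGraph.eq_def.{0}
  have := @_root_.SimpleGraph.completeGraph.eq_1.{0}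
  have := @_root_.SimpleGraph.IsUniversal.eq_def.{0}
  have := @_root_.SimpleGraph.fromRel.eq_def.{0}
  have := @_root_.SimpleGraph.IsSubgraph.eq_def.{0}
  have := @_root_.SimpleGraph.IsSubgraph.eq_1.{0}
  trivial

theorem m23_13 : True := by
  have := @_root_.SimpleGraph.edgeSet.eq_def.{0}
  have := @_root_.SimpleGraph.edgeSet.eq_1.{0}
  have := @_root_.SimpleGraph.emptyGraph.eq_def.{0}
  have := @_root_.SimpleGraph.emptyGraph.eq_1.{0}
  have := @_root_.SimpleGraph.support.eq_def.{0}
  have := @_root_.SimpleGraph.support.eq_1.{0}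
  have := @_root_.aesop_graph.eq_def
  have := @_root_.aesop_graph.eq_1
  have := @_root_.SimpleGraph.fromEdgeSet.eq_def.{0}
  have := @_root_.SimpleGraph.fromEdgeSet.eq_1.{0}
  have := @_root_.SimpleGraph.edgeSetEmbedding.eq_def.{0}
  have := @_root_.SimpleGraph.incidenceSet.eq_def.{0}
  have := @_root_.completeBipartiteGraph.eq_def.{0, 0}
  have := @_root_.completeBipartiteGraph.eq_1.{0, 0}
  have := @_root_.Tuple.graphEquiv₁.eq_def.{0}
  have := @_root_.Tuple.graphEquiv₁.eq_1.{0}
  have := @_root_.Tuple.sort.eq_def.{0}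
  have := @_root_.Tuple.graph.eq_def.{0}
  have := @_root_.Tuple.graphEquiv₂.eq_def.{0}
  have := @_root_.Tuple.graphEquiv₂.eq_1.{0}
  have := @_root_.Tuple.graph.proj.eq_def.{0}
  have := @_root_.IsPrimitiveRoot.mk.congr_simp.{0}
  have := @_root_.primitiveRoots.eq_def.{0}
  have := @_root_.IsPrimitiveRoot.primitiveRootsPowEquiv.congr_simp.{0}
  have := @_root_.IsPrimitiveRoot.primitiveRootsPowEquiv.eq_def.{0}
  have := @_root_.IsPrimitiveRoot.primitiveRootsPowEquiv.eq_1.{0}
  have := @_root_.IsPrimitiveRoot.toRootsOfUnity.eq_def.{0}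
  have := @_root_.IsPrimitiveRoot.toRootsOfUnity.eq_1.{0}
  have := @_root_.IsPrimitiveRoot.primitiveRootsPowEquivOfCoprime.congr_simp.{0}
  have := @_root_.IsPrimitiveRoot.primitiveRootsPowEquivOfCoprime.eq_def.{0}
  trivial

theorem m23_14 : True := by
  have := @_root_.IsPrimitiveRoot.primitiveRootsPowEquivOfCoprime.eq_1.{0}
  have := @_root_.rootsOfUnityEquivOfPrimitiveRoots.eq_def.{0, 0, 0}
  have := @_root_.rootsOfUnityEquivOfPrimitiveRoots.eq_1.{0, 0, 0}
  have := @_root_.IsPrimitiveRoot.autToPow.eq_def.{0, 0}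
  have := @_root_.IsPrimitiveRoot.autToPow.eq_1.{0, 0}
  have := @_root_.IsPrimitiveRoot.zmodEquivZPowers.eq_def.{0}
  have := @_root_.IsCyclotomicExtension.mk.congr_simp.{0, 0}
  have := @_root_.CyclotomicField.eq_def.{0}
  have := @_root_.CyclotomicField.eq_1.{0}
  have := @_root_.IsCyclotomicExtension.algEquiv.congr_simp.{0, 0, 0}
  have := @_root_.IsCyclotomicExtension.algEquiv.eq_def.{0, 0, 0}
  have := @_root_.IsCyclotomicExtension.algEquiv.eq_1.{0, 0, 0}
  have := @_root_.CyclotomicRing.eq_def.{0, 0}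
  have := @_root_.IsCyclotomicExtension.zeta.eq_def.{0, 0}
  have := @_root_.IsCyclotomicExtension.zeta.eq_1.{0, 0}
  have := @_root_.IsPrimitiveRoot.subOnePowerBasis.eq_def.{0, 0}
  have := @_root_.IsPrimitiveRoot.subOnePowerBasis.eq_1.{0, 0}
  have := @_root_.IsPrimitiveRoot.powerBasis.eq_def.{0, 0}
  have := @_root_.IsPrimitiveRoot.powerBasis.eq_1.{0, 0}
  have := @_root_.IsPrimitiveRoot.embeddingsEquivPrimitiveRoots.eq_def.{0, 0, 0}
  have := @_root_.IsPrimitiveRoot.embeddingsEquivPrimitiveRoots.eq_1.{0, 0, 0}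
  have := @_root_.FiniteField.algEquivOfCardEq.congr_simp.{0, 0}
  have := @_root_.FiniteField.algEquivOfCardEq.eq_def.{0, 0}
  have := @_root_.FiniteField.algEquivOfCardEq.eq_1.{0, 0}
  have := @_root_.GaloisField.eq_def
  have := @_root_.GaloisField.eq_1
  have := @_root_.GaloisField.algEquivGaloisField.congr_simp.{0}
  have := @_root_.GaloisField.algEquivGaloisField.eq_def.{0}
  have := @_root_.GaloisField.algEquivGaloisField.eq_1.{0}
  have := @_root_.GaloisField.algEquivGaloisFieldOfFintype.congr_simp.{0}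
  trivial

end Cfsg.Rz
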