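import Cfsg.Agent.Rz.M23

/-! Generated file: forces on-demand equation and congruence lemmas to be created once. -/

set_option linter.all false

namespace Cfsg.Rz

theorem m24_0 : True := by
  have := @_root_.GaloisField.algEquivGaloisFieldOfFintype.eq_def.{0}
  have := @_root_.GaloisField.algEquivGaloisFieldOfFintype.eq_1.{0}
  have := @_root_.GaloisField.equivZmodP.eq_def
  have := @_root_.GaloisField.equivZmodP.eq_1
  have := @_root_.FiniteField.ringEquivOfCardEq.congr_simp.{0, 0}
  have := @_root_.FiniteField.ringEquivOfCardEq.eq_def.{0, 0}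
  have := @_root_.FiniteField.ringEquivOfCardEq.eq_1.{0, 0}
  have := @_root_.ZMod.unitOfIsCoprime.eq_def
  have := @_root_.ZMod.unitOfIsCoprime.eq_1
  have := @_root_.ZMod.unitsMap.eq_def
  have := @_root_.HasEnoughRootsOfUnity.mk.congr_simp.{0}
  have := @_root_.Int.range.eq_def
  have := @_root_.Module.Basis.mulOpposite.eq_def.{0, 0, 0}
  have := @_root_.Module.Basis.mulOpposite.eq_1.{0, 0, 0}
  have := @_root_.Int.log.eq_def.{0}
  have := @_root_.Int.zpowLogGi.eq_def.{0}
  have := @_root_.Int.zpowLogGi.eq_1.{0}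
  have := @_root_.Int.clog.eq_def.{0}
  have := @_root_.Int.clogZPowGi.eq_def.{0}
  have := @_root_.Int.clogZPowGi.eq_1.{0}
  have := @_root_.Finset.box.eq_def.{0}
  have := @_root_.Int.fib.eq_def
  have := @_root_.SemidirectProduct.map.eq_def.{0, 0, 0, 0}
  have := @_root_.SemidirectProduct.equivProd.eq_def.{0, 0}
  have := @_root_.SemidirectProduct.equivProd.eq_1.{0, 0}
  have := @_root_.SemidirectProduct.inr.eq_def.{0, 0}
  have := @_root_.SemidirectProduct.inr.eq_1.{0, 0}
  have := @_root_.SemidirectProduct.inl.eq_def.{0, 0}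
  have := @_root_.SemidirectProduct.inl.eq_1.{0, 0}
  have := @_root_.instDecidableEqSemidirectProduct.decEq.eq_def.{0, 0}
  trivial

theorem m24_1 : True := by
  have := @_root_.instDecidableEqSemidirectProduct.decEq.eq_1.{0, 0}
  have := @_root_.SemidirectProduct.lift.eq_def.{0, 0, 0}
  have := @_root_.SemidirectProduct.mulEquivProd.eq_def.{0, 0}
  have := @_root_.SemidirectProduct.mulEquivProd.eq_1.{0, 0}
  have := @_root_.SemidirectProduct.mulEquivSubgroup.congr_simp.{0}
  have := @_root_.SemidirectProduct.mulEquivSubgroup.eq_def.{0}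
  have := @_root_.SemidirectProduct.mulEquivSubgroup.eq_1.{0}
  have := @_root_.SemidirectProduct.congr'.eq_def.{0, 0, 0, 0}
  have := @_root_.SemidirectProduct.congr'.eq_1.{0, 0, 0, 0}
  have := @_root_.SemidirectProduct.congr.congr_simp.{0, 0, 0, 0}
  have := @_root_.SemidirectProduct.congr.eq_def.{0, 0, 0, 0}
  have := @_root_.SemidirectProduct.congr.eq_1.{0, 0, 0, 0}
  have := @_root_.SemidirectProduct.monoidHomSubgroup.eq_def.{0}
  have := @_root_.SemidirectProduct.monoidHomSubgroup.eq_1.{0}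
  have := @_root_.SemidirectProduct.rightHom.eq_def.{0, 0}
  have := @_root_.DMatrix.row.eq_def.{0, 0}
  have := @_root_.DMatrix.row.eq_1.{0, 0}
  have := @_root_.DMatrix.map.eq_def.{0, 0, 0, 0}
  have := @_root_.DMatrix.map.eq_1.{0, 0, 0, 0}
  have := @_root_.DMatrix.eq_def.{0, 0, 0}
  have := @_root_.DMatrix.eq_1.{0, 0, 0}
  have := @_root_.DMatrix.transpose.eq_def.{0, 0, 0}
  have := @_root_.DMatrix.transpose.eq_1.{0, 0, 0}
  have := @_root_.DMatrix.col.eq_def.{0, 0}
  have := @_root_.DMatrix.col.eq_1.{0, 0}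
  have := @_root_.AddMonoidHom.mapDMatrix.eq_def.{0, 0, 0, 0}
  have := @_root_.AddMonoidHom.mapDMatrix.eq_1.{0, 0, 0, 0}
  have := @_root_.EckmannHilton.addCommMonoid.congr_simp.{0}
  have := @_root_.EckmannHilton.addCommMonoid.eq_def.{0}
  have := @_root_.EckmannHilton.IsUnital.mk.congr_simp.{0}
  trivial

theorem m24_2 : True := by
  have := @_root_.EckmannHilton.commGroup.congr_simp.{0}
  have := @_root_.EckmannHilton.commGroup.eq_def.{0}
  have := @_root_.EckmannHilton.commMonoid.congr_simp.{0}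
  have := @_root_.EckmannHilton.commMonoid.eq_def.{0}
  have := @_root_.EckmannHilton.addCommGroup.congr_simp.{0}
  have := @_root_.EckmannHilton.addCommGroup.eq_def.{0}
  have := @_root_.AddMonoid.minOrder.eq_def.{0}
  have := @_root_.Monoid.minOrder.eq_def.{0}
  have := @_root_.Set.EquitableOn.eq_def.{0, 0}
  have := @_root_.SimpleGraph.Walk.edgeSet.eq_def.{0}
  have := @_root_.SimpleGraph.Walk.nil'.eq_def.{0}
  have := @_root_.SimpleGraph.Walk.nil'.eq_1.{0}
  have := @_root_.SimpleGraph.Walk.edges.eq_def.{0}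
  have := @_root_.SimpleGraph.Walk.ofDarts.eq_def.{0}
  have := @_root_.SimpleGraph.Walk.ofDarts.eq_1.{0}
  have := @_root_.SimpleGraph.Adj.toWalk.eq_def.{0}
  have := @_root_.SimpleGraph.Adj.toWalk.eq_1.{0}
  have := @_root_.SimpleGraph.Walk.cons'.eq_def.{0}
  have := @_root_.SimpleGraph.Walk.cons'.eq_1.{0}
  have := @_root_.SimpleGraph.Walk.darts.eq_def.{0}
  have := @_root_.SimpleGraph.Walk.darts.eq_1.{0}
  have := @_root_.SimpleGraph.instDecidableEqWalk.decEq.eq_def.{0}
  have := @_root_.SimpleGraph.instDecidableEqWalk.decEq.eq_1.{0}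
  have := @_root_.SimpleGraph.Walk.notNilRec.eq_def.{0, 0}
  have := @_root_.SimpleGraph.Walk.notNilRec.eq_1.{0, 0}
  have := @_root_.SimpleGraph.Walk.brecOn.go.eq_def.{0, 0}
  have := @_root_.SimpleGraph.Walk.brecOn.go.eq_1.{0, 0}
  have := @_root_.SimpleGraph.Walk.ofSupport.eq_def.{0}
  have := @_root_.SimpleGraph.Walk.ofSupport.eq_1.{0}
  have := @_root_.SimpleGraph.Walk.snd.eq_def.{0}
  trivial

theorem m24_3 : True := by
  have := @_root_.SimpleGraph.Walk.snd.eq_1.{0}
  have := @_root_.SimpleGraph.Walk.lastDart.eq_def.{0}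
  have := @_root_.SimpleGraph.Walk.lastDart.eq_1.{0}
  have := @_root_.SimpleGraph.Walk.penultimate.eq_def.{0}
  have := @_root_.SimpleGraph.Walk.firstDart.eq_def.{0}
  have := @_root_.SimpleGraph.Walk.firstDart.eq_1.{0}
  have := @_root_.SimpleGraph.Walk.append.eq_def.{0}
  have := @_root_.SimpleGraph.Walk.append.eq_1.{0}
  have := @_root_.SimpleGraph.Walk.tail.eq_def.{0}
  have := @_root_.SimpleGraph.Walk.reverseAux.eq_def.{0}
  have := @_root_.SimpleGraph.Walk.reverseAux.eq_1.{0}
  have := @_root_.SimpleGraph.Walk.concatRec.eq_def.{0, 0}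
  have := @_root_.SimpleGraph.Walk.copy.eq_def.{0}
  have := @_root_.SimpleGraph.Walk.concat.eq_def.{0}
  have := @_root_.SimpleGraph.Walk.reverse.eq_def.{0}
  have := @_root_.SimpleGraph.Walk.dropLast.eq_def.{0}
  have := @_root_.SimpleGraph.Walk.induce.eq_def.{0}
  have := @_root_.SimpleGraph.Walk.induce.eq_1.{0}
  have := @_root_.SimpleGraph.Walk.toDeleteEdges.congr_simp.{0}
  have := @_root_.SimpleGraph.Walk.toDeleteEdges.eq_def.{0}
  have := @_root_.SimpleGraph.Walk.toDeleteEdges.eq_1.{0}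
  have := @_root_.SimpleGraph.Walk.toDeleteEdge.congr_simp.{0}
  have := @_root_.SimpleGraph.Walk.toDeleteEdge.eq_def.{0}
  have := @_root_.SimpleGraph.Walk.toDeleteEdge.eq_1.{0}
  have := @_root_.SimpleGraph.Walk.mapLe.eq_def.{0}
  have := @_root_.SimpleGraph.Walk.mapLe.eq_1.{0}
  have := @_root_.SimpleGraph.Walk.IsSubwalk.eq_def.{0}
  have := @_root_.SimpleGraph.Walk.rotate.eq_def.{0}
  have := @_root_.SimpleGraph.CliqueFreeOn.eq_def.{0}
  have := @_root_.SimpleGraph.completeMultipartiteGraph.topEmbedding.eq_def.{0, 0}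
  trivial

theorem m24_4 : True := by
  have := @_root_.SimpleGraph.completeMultipartiteGraph.topEmbedding.eq_1.{0, 0}
  have := @_root_.SimpleGraph.topEmbeddingOfNotCliqueFree.congr_simp.{0}
  have := @_root_.SimpleGraph.topEmbeddingOfNotCliqueFree.eq_def.{0}
  have := @_root_.SimpleGraph.topEmbeddingOfNotCliqueFree.eq_1.{0}
  have := @_root_.SimpleGraph.IsMaximumClique.mk.congr_simp.{0}
  have := @_root_.SimpleGraph.cliqueSet.eq_def.{0}
  have := @_root_.SimpleGraph.cliqueSet.eq_1.{0}
  have := @_root_.SimpleGraph.indepSetFinset.congr_simp.{0}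
  have := @_root_.SimpleGraph.indepSetFinset.eq_def.{0}
  have := @_root_.SimpleGraph.indepSetFinset.eq_1.{0}
  have := @_root_.SimpleGraph.IsNIndepSet.mk.congr_simp.{0}
  have := @_root_.SimpleGraph.indepSetSet.eq_def.{0}
  have := @_root_.SimpleGraph.indepSetSet.eq_1.{0}
  have := @_root_.SimpleGraph.CliqueFree.eq_def.{0}
  have := @_root_.SimpleGraph.indepNum.eq_def.{0}
  have := @_root_.SimpleGraph.cliqueNum.eq_def.{0}
  have := @_root_.SimpleGraph.cliqueFinset.eq_def.{0}
  have := @_root_.SimpleGraph.IndepSetFreeOn.eq_def.{0}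
  have := @_root_.SimpleGraph.IndepSetFreeOn.eq_1.{0}
  have := @_root_.SimpleGraph.IndepSetFree.eq_def.{0}
  have := @_root_.SimpleGraph.IsIndepSet.eq_def.{0}
  have := @_root_.SimpleGraph.IsClique.eq_def.{0}
  have := @_root_.SimpleGraph.IsClique.eq_1.{0}
  have := @_root_.SimpleGraph.IsNClique.mk.congr_simp.{0}
  have := @_root_.SimpleGraph.IsMaximumIndepSet.mk.congr_simp.{0}
  have := @_root_.Finset.slice.eq_def.{0}
  have := @_root_.Set.Sized.eq_def.{0}
  have := @_root_.Nat.bitIndices.eq_def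
  have := @_root_.Set.hasSups.eq_def.{0}
  have := @_root_.Set.hasSups.eq_1.{0}
  trivial

theorem m24_5 : True := by
  have := @_root_.Set.hasInfs.eq_def.{0}
  have := @_root_.Set.hasInfs.eq_1.{0}
  have := @_root_.Finset.diffs.eq_def.{0}
  have := @_root_.Finset.disjSups.eq_def.{0}
  have := @_root_.Finset.compls.eq_def.{0}
  have := @_root_.Finset.hasInfs.eq_def.{0}
  have := @_root_.Finset.hasInfs.eq_1.{0}
  have := @_root_.Finset.hasSups.eq_def.{0}
  have := @_root_.Finset.hasSups.eq_1.{0}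
  have := @_root_.SimpleGraph.IsBridge.eq_def.{0}
  have := @_root_.SimpleGraph.Iso.connectedComponentEquiv.eq_def.{0, 0}
  have := @_root_.SimpleGraph.Iso.connectedComponentEquiv.eq_1.{0, 0}
  have := @_root_.SimpleGraph.connectedComponentMk.eq_def.{0}
  have := @_root_.SimpleGraph.Reachable.eq_def.{0}
  have := @_root_.SimpleGraph.Connected.mk.congr_simp.{0}
  have := @_root_.SimpleGraph.ConnectedComponent.eq_def.{0}
  have := @_root_.SimpleGraph.ConnectedComponent.eq_1.{0}
  have := @_root_.SimpleGraph.ConnectedComponent.toSimpleGraph.eq_def.{0}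
  have := @_root_.SimpleGraph.ConnectedComponent.toSimpleGraph_hom.eq_def.{0}
  have := @_root_.SimpleGraph.ConnectedComponent.recOn.congr_simp.{0, 0}
  have := @_root_.SimpleGraph.ConnectedComponent.recOn.eq_def.{0, 0}
  have := @_root_.SimpleGraph.ConnectedComponent.recOn.eq_1.{0, 0}
  have := @_root_.SimpleGraph.ConnectedComponent.isoEquivSupp.eq_def.{0, 0}
  have := @_root_.SimpleGraph.ConnectedComponent.isoEquivSupp.eq_1.{0, 0}
  have := @_root_.SimpleGraph.ConnectedComponent.map.eq_def.{0, 0}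
  have := @_root_.SimpleGraph.ConnectedComponent.map.eq_1.{0, 0}
  have := @_root_.SimpleGraph.homOfConnectedComponents.eq_def.{0, 0}
  have := @_root_.SimpleGraph.homOfConnectedComponents.eq_1.{0, 0}
  have := @_root_.SimpleGraph.ConnectedComponent.supp.eq_def.{0}
  have := @_root_.SimpleGraph.ConnectedComponent.lift.congr_simp.{0, 0}
  trivial

theorem m24_6 : True := by
  have := @_root_.SimpleGraph.ConnectedComponent.lift.eq_def.{0, 0}
  have := @_root_.SimpleGraph.ConnectedComponent.lift.eq_1.{0, 0}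
  have := @_root_.SimpleGraph.Preconnected.eq_def.{0}
  have := @_root_.SimpleGraph.reachableSetoid.eq_def.{0}
  have := @_root_.SimpleGraph.reachableSetoid.eq_1.{0}
  have := @_root_.IndexedPartition.proj.eq_def.{0, 0}
  have := @_root_.IndexedPartition.proj.eq_1.{0, 0}
  have := @_root_.Setoid.mkClasses.congr_simp.{0}
  have := @_root_.Setoid.mkClasses.eq_def.{0}
  have := @_root_.Setoid.mkClasses.eq_1.{0}
  have := @_root_.Setoid.quotientEquivClasses.eq_def.{0}
  have := @_root_.Setoid.quotientEquivClasses.eq_1.{0}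
  have := @_root_.Setoid.Partitions.eq_def.{0}
  have := @_root_.Setoid.Partitions.eq_1.{0}
  have := @_root_.IndexedPartition.setoid.eq_def.{0, 0}
  have := @_root_.IndexedPartition.setoid.eq_1.{0, 0}
  have := @_root_.IndexedPartition.out.eq_def.{0, 0}
  have := @_root_.IndexedPartition.out.eq_1.{0, 0}
  have := @_root_.IndexedPartition.mk.congr_simp.{0, 0}
  have := @_root_.IndexedPartition.mk'.congr_simp.{0, 0}
  have := @_root_.IndexedPartition.mk'.eq_def.{0, 0}
  have := @_root_.IndexedPartition.mk'.eq_1.{0, 0}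
  have := @_root_.IndexedPartition.piecewise.eq_def.{0, 0, 0}
  have := @_root_.IndexedPartition.piecewise.eq_1.{0, 0, 0}
  have := @_root_.Setoid.IsPartition.finpartition.congr_simp.{0}
  have := @_root_.Setoid.IsPartition.finpartition.eq_def.{0}
  have := @_root_.Setoid.IsPartition.finpartition.eq_1.{0}
  have := @_root_.Setoid.IsPartition.eq_def.{0}
  have := @_root_.Setoid.IsPartition.eq_1.{0}
  have := @_root_.Setoid.setoidOfDisjointUnion.congr_simp.{0}
  trivial

theorem m24_7 : True := by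
  have := @_root_.Setoid.setoidOfDisjointUnion.eq_def.{0}
  have := @_root_.Setoid.setoidOfDisjointUnion.eq_1.{0}
  have := @_root_.IndexedPartition.equivQuotient.eq_def.{0, 0}
  have := @_root_.IndexedPartition.equivQuotient.eq_1.{0, 0}
  have := @_root_.Setoid.Partition.orderIso.eq_def.{0}
  have := @_root_.Setoid.Partition.orderIso.eq_1.{0}
  have := @_root_.IndexedPartition.Quotient.eq_def.{0, 0}
  have := @_root_.IndexedPartition.Quotient.eq_1.{0, 0}
  have := @_root_.IndexedPartition.coarserPartition.congr_simp.{0, 0, 0}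
  have := @_root_.IndexedPartition.coarserPartition.eq_def.{0, 0, 0}
  have := @_root_.IndexedPartition.coarserPartition.eq_1.{0, 0, 0}
  have := @_root_.Setoid.Partitions.toSet.eq_def.{0}
  have := @_root_.Setoid.Partitions.toSet.eq_1.{0}
  have := @_root_.Setoid.classes.eq_def.{0}
  have := @_root_.SimpleGraph.Walk.IsChord.eq_def.{0}
  have := @_root_.SimpleGraph.Walk.IsChordless.eq_def.{0}
  have := @_root_.SimpleGraph.Subgraph.Preconnected.mk.congr_simp.{0}
  have := @_root_.SimpleGraph.Subgraph.Connected.mk.congr_simp.{0}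
  have := @_root_.SimpleGraph.ConnectedComponent.toSubgraph.eq_def.{0}
  have := @_root_.SimpleGraph.ConnectedComponent.toSubgraph.eq_1.{0}
  have := @_root_.SimpleGraph.IsEdgeReachable.eq_def.{0}
  have := @_root_.SimpleGraph.IsEdgeConnected.eq_def.{0}
  have := @_root_.SimpleGraph.dist.eq_def.{0}
  have := @_root_.SimpleGraph.ball.eq_def.{0}
  have := @_root_.SimpleGraph.edist.eq_def.{0}
  have := @_root_.SimpleGraph.walkLengthTwoEquivCommonNeighbors.eq_def.{0}
  have := @_root_.SimpleGraph.walkLengthTwoEquivCommonNeighbors.eq_1.{0}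
  have := @_root_.SimpleGraph.finsetWalkLengthLT.eq_def.{0}
  have := @_root_.SimpleGraph.oddComponents.eq_def.{0}
  have := @_root_.SimpleGraph.oddComponents.eq_1.{0}
  trivial

theorem m24_8 : True := by
  have := @_root_.SimpleGraph.ConnectedComponent.Represents.eq_def.{0}
  have := @_root_.SimpleGraph.ConnectedComponent.Represents.eq_1.{0}
  have := @_root_.SimpleGraph.radius.eq_def.{0}
  have := @_root_.SimpleGraph.diam.eq_def.{0}
  have := @_root_.SimpleGraph.eccent.eq_def.{0}
  have := @_root_.SimpleGraph.center.eq_def.{0}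
  have := @_root_.SimpleGraph.center.eq_1.{0}
  have := @_root_.SimpleGraph.ediam.eq_def.{0}
  have := @_root_.Nat.ppred.eq_def
  have := @_root_.Nat.ppred.eq_1
  have := @_root_.Nat.psub'.eq_def
  have := @_root_.Function.Fiber.mkSelf.eq_def.{0, 0}
  have := @_root_.Function.Fiber.mkSelf.eq_1.{0, 0}
  have := @_root_.Function.Fiber.image.eq_def.{0, 0}
  have := @_root_.Function.Fiber.image.eq_1.{0, 0}
  have := @_root_.Function.Fiber.preimage.eq_def.{0, 0}
  have := @_root_.Function.Fiber.preimage.eq_1.{0, 0}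
  have := @_root_.Function.Fiber.mk.eq_def.{0, 0}
  have := @_root_.Function.Fiber.eq_def.{0, 0}
  have := @_root_.Function.Fiber.eq_1.{0, 0}
  have := @_root_.Nat.Upto.zero.eq_def
  have := @_root_.Nat.Upto.zero.eq_1
  have := @_root_.Nat.Upto.succ.congr_simp
  have := @_root_.Nat.Upto.succ.eq_def
  have := @_root_.Nat.Upto.succ.eq_1
  have := @_root_.Nat.Upto.eq_def
  have := @_root_.Nat.Upto.eq_1
  have := @_root_.Nat.Upto.GT.eq_def
  have := @_root_.Nat.Upto.GT.eq_1
  have := @_root_.Fin2.brecOn.go.eq_def.{0}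
  trivial

theorem m24_9 : True := by
  have := @_root_.Fin2.brecOn.go.eq_1.{0}
  have := @_root_.Fin2.cases'.eq_def.{0}
  have := @_root_.Fin2.cases'.eq_1.{0}
  have := @_root_.Fin2.toFin.eq_def
  have := @_root_.Fin2.toFin.eq_1
  have := @_root_.Fin2.elim0.eq_def.{0}
  have := @_root_.Fin2.equivFin.eq_def
  have := @_root_.Fin2.equivFin.eq_1
  have := @_root_.Fin2.optOfNat.eq_def
  have := @_root_.Fin2.optOfNat.eq_1
  have := @_root_.Fin2.toNat.eq_def
  have := @_root_.Fin2.toNat.eq_1
  have := @_root_.Fin2.remapLeft.eq_def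
  have := @_root_.Fin2.remapLeft.eq_1
  have := @_root_.Fin2.IsLT.mk.congr_simp
  have := @_root_.Fin2.ofNat'.eq_def
  have := @_root_.Fin2.ofNat'.eq_1
  have := @_root_.Fin2.ofFin.eq_def
  have := @_root_.Fin2.ofFin.eq_1
  have := @_root_.Flag.rangeFin.congr_simp.{0}
  have := @_root_.Flag.rangeFin.eq_def.{0}
  have := @_root_.Flag.rangeFin.eq_1.{0}
  have := @_root_.Function.fromTypes_succ_equiv.eq_def.{0}
  have := @_root_.Function.fromTypes_succ_equiv.eq_1.{0}
  have := @_root_.Function.fromTypes_zero_equiv.eq_def.{0}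
  have := @_root_.Function.fromTypes_zero_equiv.eq_1.{0}
  have := @_root_.Function.fromTypes_cons_equiv.eq_def.{0}
  have := @_root_.Function.fromTypes_cons_equiv.eq_1.{0}
  have := @_root_.Function.fromTypes_nil_equiv.eq_def.{0}
  have := @_root_.Function.fromTypes_nil_equiv.eq_1.{0}
  trivial

theorem m24_10 : True := by
  have := @_root_.Function.FromTypes.const.eq_def.{0}
  have := @_root_.Function.FromTypes.const.eq_1.{0}
  have := @_root_.Function.FromTypes.eq_def.{0}
  have := @_root_.Function.FromTypes.eq_1.{0}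
  have := @_root_.Function.OfArity.eq_def.{0}
  have := @_root_.Function.OfArity.eq_1.{0}
  have := @_root_.Function.FromTypes.fromTypes_fin_const_equiv.eq_def.{0}
  have := @_root_.Function.FromTypes.fromTypes_fin_const_equiv.eq_1.{0}
  have := @_root_.Function.OfArity.const.eq_def.{0}
  have := @_root_.Function.OfArity.const.eq_1.{0}
  have := @_root_.Function.OfArity.curry.eq_def.{0}
  have := @_root_.Function.OfArity.curry.eq_1.{0}
  have := @_root_.Function.FromTypes.uncurry.eq_def.{0}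
  have := @_root_.Function.FromTypes.uncurry.eq_1.{0}
  have := @_root_.Function.OfArity.curryEquiv.eq_def.{0}
  have := @_root_.Function.OfArity.curryEquiv.eq_1.{0}
  have := @_root_.Function.FromTypes.curryEquiv.eq_def.{0}
  have := @_root_.Function.FromTypes.curryEquiv.eq_1.{0}
  have := @_root_.Function.FromTypes.curry.eq_def.{0}
  have := @_root_.Function.FromTypes.curry.eq_1.{0}
  have := @_root_.Function.OfArity.uncurry.eq_def.{0}
  have := @_root_.Function.OfArity.uncurry.eq_1.{0}
  have := @_root_.Fin.Embedding.cons.congr_simp.{0}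
  have := @_root_.Fin.Embedding.cons.eq_def.{0}
  have := @_root_.Fin.Embedding.cons.eq_1.{0}
  have := @_root_.Fin.Embedding.append.eq_def.{0}
  have := @_root_.Fin.Embedding.tail.eq_def.{0}
  have := @_root_.Fin.Embedding.tail.eq_1.{0}
  have := @_root_.Fin.Embedding.init.eq_def.{0}
  have := @_root_.Function.Embedding.embFinTwo.congr_simp.{0}
  trivial

theorem m24_11 : True := by
  have := @_root_.Function.Embedding.embFinTwo.eq_def.{0}
  have := @_root_.Function.Embedding.embFinTwo.eq_1.{0}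
  have := @_root_.Function.Embedding.twoEmbeddingEquiv.eq_def.{0}
  have := @_root_.Function.Embedding.twoEmbeddingEquiv.eq_1.{0}
  have := @_root_.Fin.Embedding.snoc.eq_def.{0}
  have := @_root_.Fin.take.eq_def.{0}
  have := @_root_.FinEnum.ofEquiv.eq_def.{0, 0}
  have := @_root_.FinEnum.ofEquiv.eq_1.{0, 0}
  have := @_root_.FinEnum.ofSurjective.congr_simp.{0, 0}
  have := @_root_.FinEnum.ofSurjective.eq_def.{0, 0}
  have := @_root_.FinEnum.ofSurjective.eq_1.{0, 0}
  have := @_root_.FinEnum.ofInjective.congr_simp.{0, 0}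
  have := @_root_.FinEnum.ofInjective.eq_def.{0, 0}
  have := @_root_.FinEnum.ofInjective.eq_1.{0, 0}
  have := @_root_.FinEnum.ofList.congr_simp.{0}
  have := @_root_.FinEnum.ofList.eq_def.{0}
  have := @_root_.FinEnum.ofList.eq_1.{0}
  have := @_root_.FinEnum.ofUnique.eq_def.{0}
  have := @_root_.FinEnum.ofUnique.eq_1.{0}
  have := @_root_.FinEnum.ofIsEmpty.congr_simp.{0}
  have := @_root_.FinEnum.ofIsEmpty.eq_def.{0}
  have := @_root_.FinEnum.ofIsEmpty.eq_1.{0}
  have := @_root_.FinEnum.toList.eq_def.{0}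
  have := @_root_.FinEnum.ofNodupList.congr_simp.{0}
  have := @_root_.FinEnum.ofNodupList.eq_def.{0}
  have := @_root_.FinEnum.ofNodupList.eq_1.{0}
  have := @_root_.FinEnum.insertNone.eq_def.{0}
  have := @_root_.FinEnum.insertNone.eq_1.{0}
  have := @_root_.FinEnum.recOnEmptyOption.eq_def.{0, 0}
  have := @_root_.FinEnum.recOnEmptyOption.eq_1.{0, 0}
  trivial

theorem m24_12 : True := by
  have := @_root_.FinEnum.recEmptyOption.eq_1.{0, 0}
  have := @_root_.Finmap.lookup.eq_def.{0, 0}
  have := @_root_.Finmap.lookup.eq_1.{0, 0}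
  have := @_root_.Finmap.sdiff.eq_def.{0, 0}
  have := @_root_.Finmap.sdiff.eq_1.{0, 0}
  have := @_root_.Finmap.any.eq_def.{0, 0}
  have := @_root_.Finmap.any.eq_1.{0, 0}
  have := @_root_.Finmap.union.eq_def.{0, 0}
  have := @_root_.Finmap.liftOn₂.eq_def.{0, 0, 0}
  have := @_root_.Finmap.liftOn₂.eq_1.{0, 0, 0}
  have := @_root_.Finmap.extract.eq_def.{0, 0}
  have := @_root_.Finmap.keysLookupEquiv.eq_def.{0, 0}
  have := @_root_.Finmap.keysLookupEquiv.eq_1.{0, 0}
  have := @_root_.Finmap.liftOn.eq_def.{0, 0, 0}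
  have := @_root_.Finmap.liftOn.eq_1.{0, 0, 0}
  have := @_root_.Finmap.singleton.eq_def.{0, 0}
  have := @_root_.Finmap.replace.eq_def.{0, 0}
  have := @_root_.Finmap.all.eq_def.{0, 0}
  have := @_root_.Finmap.all.eq_1.{0, 0}
  have := @_root_.Finmap.Disjoint.eq_def.{0, 0}
  have := @_root_.Finmap.foldl.congr_simp.{0, 0, 0}
  have := @_root_.Finmap.foldl.eq_def.{0, 0, 0}
  have := @_root_.Finmap.foldl.eq_1.{0, 0, 0}
  have := @_root_.Finmap.erase.eq_def.{0, 0}
  have := @_root_.Multiset.keys.eq_def.{0, 0}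
  have := @_root_.Finmap.insert.eq_def.{0, 0}
  have := @_root_.Finmap.keys.eq_def.{0, 0}
  have := @_root_.AList.toFinmap.eq_def.{0, 0}
  have := @_root_.Multiset.NodupKeys.eq_def.{0, 0}
  have := @_root_.Multiset.NodupKeys.eq_1.{0, 0}
  trivial

theorem m24_13 : True := by
  have := @_root_.Multiset.traverse.eq_def.{0}
  have := @_root_.Finset.traverse.congr_simp.{0}
  have := @_root_.Finset.traverse.eq_def.{0}
  have := @_root_.Nat.divisorsHom.eq_def
  have := @_root_.Nat.divisorsHom.eq_1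
  have := @_root_.Part.toFinset.eq_def.{0}
  have := @_root_.Finset.pimage.eq_def.{0, 0}
  have := @_root_.AList.lookupFinsupp.eq_def.{0, 0}
  have := @_root_.Finsupp.toAList.eq_def.{0, 0}
  have := @_root_.Finsupp.neLocus.eq_def.{0, 0}
  have := @_root_.Finsupp.pointwiseScalar.eq_def.{0, 0, 0}
  have := @_root_.Finsupp.pointwiseScalar.eq_1.{0, 0, 0}
  have := @_root_.Finsupp.vaddAntidiagonal.congr_simp.{0, 0}
  have := @_root_.Finsupp.vaddAntidiagonal.eq_def.{0, 0}
  have := @_root_.Finsupp.vaddAntidiagonal.eq_1.{0, 0}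
  have := @_root_.Finsupp.embSigma.eq_def.{0, 0, 0}
  have := @_root_.Int.bit.eq_def
  have := @_root_.Int.bit.eq_1
  have := @_root_.Int.div2.eq_def
  have := @_root_.Int.div2.eq_1
  have := @_root_.Int.bodd.eq_def
  have := @_root_.Int.bitCasesOn.eq_def.{0}
  have := @_root_.Int.bitCasesOn.eq_1.{0}
  have := @_root_.Int.land.eq_def
  have := @_root_.Int.land.eq_1
  have := @_root_.Int.xor.eq_def
  have := @_root_.Int.bitwise.eq_def
  have := @_root_.Int.natBitwise.eq_def
  have := @_root_.Int.lor.eq_def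
  have := @_root_.Int.lnot.eq_def
  trivial

theorem m24_14 : True := by
  have := @_root_.Int.ldiff.eq_def
  have := @_root_.mulLinearMap.congr_simp.{0, 0, 0, 0, 0}
  have := @_root_.mulLinearMap.eq_def.{0, 0, 0, 0, 0}
  have := @_root_.mulLinearMap.eq_1.{0, 0, 0, 0, 0}
  have := @_root_.mulRightLinearMap.eq_def.{0, 0, 0, 0, 0}
  have := @_root_.mulRightLinearMap.eq_1.{0, 0, 0, 0, 0}
  have := @_root_.mulLeftLinearMap.eq_def.{0, 0, 0, 0, 0}
  have := @_root_.mulLeftLinearMap.eq_1.{0, 0, 0, 0, 0}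
  have := @_root_.Matrix.fromCols.eq_def.{0, 0, 0, 0}
  have := @_root_.Matrix.toCols₂.eq_def.{0, 0, 0, 0}
  have := @_root_.Matrix.toCols₂.eq_1.{0, 0, 0, 0}
  have := @_root_.Matrix.toRows₁.eq_def.{0, 0, 0, 0}
  have := @_root_.Matrix.toRows₁.eq_1.{0, 0, 0, 0}
  have := @_root_.Matrix.toRows₂.eq_def.{0, 0, 0, 0}
  have := @_root_.Matrix.toRows₂.eq_1.{0, 0, 0, 0}
  have := @_root_.Matrix.toCols₁.eq_def.{0, 0, 0, 0}
  have := @_root_.Matrix.toCols₁.eq_1.{0, 0, 0, 0}
  have := @_root_.Matrix.fromRows.eq_def.{0, 0, 0, 0}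
  have := @_root_.Matrix.dualNumberEquiv.eq_def
  have := @_root_.Matrix.dualNumberEquiv.eq_1
  have := @_root_.Multiset.IsDershowitzMannaLT.eq_def.{0}
  have := @_root_.Multiset.IsDershowitzMannaLT.eq_1.{0}
  have := @_root_.Nat.chineseRemainderOfMultiset.eq_def.{0}
  have := @_root_.Nat.chineseRemainderOfMultiset.eq_1.{0}
  have := @_root_.Nat.chineseRemainderOfFinset.eq_def.{0}
  have := @_root_.Nat.dist.eq_def
  have := @_root_.Nat.floorRoot.eq_def
  have := @_root_.Nat.ceilRoot.eq_def
  have := @_root_.Nat.greatestFib.eq_def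
  have := @_root_.Nat.zeckendorfEquiv.eq_def
  trivial

end Cfsg.Rz
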