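import Cfsg.Agent.Rz.M24

/-! Generated file: forces on-demand equation and congruence lemmas to be created once. -/

set_option linter.all false

namespace Cfsg.Rz

theorem m25_0 : True := by
  have := @_root_.Nat.zeckendorfEquiv.eq_1
  have := @_root_.Nat.giCountNth.congr_simp
  have := @_root_.Nat.giCountNth.eq_def
  have := @_root_.Nat.giCountNth.eq_1
  have := @_root_.Nat.nth.eq_def
  have := @_root_.Set.fintypeBind.eq_def.{0}
  have := @_root_.Set.fintypeBind.eq_1.{0}
  have := @_root_.Set.FiniteExhaustion.prod.eq_def.{0, 0}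
  have := @_root_.Set.FiniteExhaustion.prod.eq_1.{0, 0}
  have := @_root_.Set.FiniteExhaustion.mk.congr_simp.{0}
  have := @_root_.Set.Countable.finiteExhaustion.congr_simp.{0}
  have := @_root_.Set.Countable.finiteExhaustion.eq_def.{0}
  have := @_root_.Set.Countable.finiteExhaustion.eq_1.{0}
  have := @_root_.Set.opEquiv.eq_def.{0}
  have := @_root_.Set.opEquiv.eq_1.{0}
  have := @_root_.Set.op.eq_def.{0}
  have := @_root_.Set.op.eq_1.{0}
  have := @_root_.Set.unop.eq_def.{0}
  have := @_root_.Set.unop.eq_1.{0}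
  have := @_root_.Set.opEquiv_self.eq_def.{0}
  have := @_root_.Set.opEquiv_self.eq_1.{0}
  have := @_root_.Sigma.LE.fiber.congr_simp.{0, 0}
  have := @_root_.Sigma.LT.fiber.congr_simp.{0, 0}
  have := @_root_.Function.subtypeNeLift.eq_def.{0, 0}
  have := @_root_.Function.subtypeNeLift.eq_1.{0, 0}
  have := @_root_.Finset.sumLexLift.eq_def.{0, 0, 0, 0, 0, 0}
  have := @_root_.Finset.sumLift₂.eq_def.{0, 0, 0, 0, 0, 0}
  have := @_root_.Sum.Lex.inrLatticeHom.eq_def.{0, 0}
  have := @_root_.Sum.Lex.inrLatticeHom.eq_1.{0, 0}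
  have := @_root_.Sum.Lex.inlLatticeHom.eq_def.{0, 0}
  trivial

theorem m25_1 : True := by
  have := @_root_.Sum.Lex.inlLatticeHom.eq_1.{0, 0}
  have := @_root_.Function.HasCompactFixedSupport.eq_def.{0}
  have := @_root_.Function.HasCompactFixedSupport.eq_1.{0}
  have := @_root_.Function.fixedSupport.eq_def.{0}
  have := @_root_.Function.fixedSupport.eq_1.{0}
  have := @_root_.FiniteField.Extension.eq_def.{0}
  have := @_root_.FiniteField.Extension.eq_1.{0}
  have := @_root_.FiniteField.Extension.frob.eq_def.{0}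
  have := @_root_.FiniteField.algEquivExtension.eq_def.{0, 0}
  have := @_root_.FiniteField.algEquivExtension.eq_1.{0, 0}
  have := @_root_.MvPolynomial.R.eq_def.{0}
  have := @_root_.MvPolynomial.R.eq_1.{0}
  have := @_root_.MvPolynomial.evalᵢ.eq_def.{0}
  have := @_root_.MvPolynomial.evalₗ.eq_def.{0, 0}
  have := @_root_.MvPolynomial.evalₗ.eq_1.{0, 0}
  have := @_root_.MvPolynomial.indicator.eq_def.{0, 0}
  have := @_root_.AddSubgroup.Commensurable.eq_def.{0}
  have := @_root_.Subgroup.quotConjEquiv.eq_def.{0}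
  have := @_root_.Subgroup.quotConjEquiv.eq_1.{0}
  have := @_root_.Subgroup.Commensurable.commensurator.eq_def.{0}
  have := @_root_.Subgroup.Commensurable.commensurator.eq_1.{0}
  have := @_root_.Subgroup.Commensurable.eq_def.{0}
  have := @_root_.Subgroup.Commensurable.commensurator'.eq_def.{0}
  have := @_root_.Subgroup.Commensurable.commensurator'.eq_1.{0}
  have := @_root_.IsKleinFour.mk.congr_simp.{0}
  have := @_root_.IsAddKleinFour.mk.congr_simp.{0}
  have := @_root_.IsKleinFour.mulEquiv.congr_simp.{0, 0}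
  have := @_root_.IsKleinFour.mulEquiv.eq_def.{0, 0}
  have := @_root_.IsAddKleinFour.addEquiv.congr_simp.{0, 0}
  have := @_root_.IsAddKleinFour.addEquiv.eq_def.{0, 0}
  trivial

theorem m25_2 : True := by
  have := @_root_.IsAddKleinFour.addEquiv'.congr_simp.{0, 0}
  have := @_root_.IsAddKleinFour.addEquiv'.eq_def.{0, 0}
  have := @_root_.IsKleinFour.mulEquiv'.congr_simp.{0, 0}
  have := @_root_.IsKleinFour.mulEquiv'.eq_def.{0, 0}
  have := @_root_.instDecidableEqDihedralGroup.decEq.eq_def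
  have := @_root_.instDecidableEqDihedralGroup.decEq.eq_1
  have := @_root_.DihedralGroup.equivSum.eq_def
  have := @_root_.DihedralGroup.equivSum.eq_1
  have := @_root_.DihedralGroup.oddCommuteEquiv.congr_simp
  have := @_root_.DihedralGroup.oddCommuteEquiv.eq_def
  have := @_root_.DihedralGroup.oddCommuteEquiv.eq_1
  have := @_root_.commProb.eq_def.{0}
  have := @_root_.DihedralGroup.Product.eq_def
  have := @_root_.DihedralGroup.Product.eq_1
  have := @_root_.Monoid.coprodCon.eq_def.{0, 0}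
  have := @_root_.MulEquiv.coprodComm.eq_def.{0, 0}
  have := @_root_.Monoid.Coprod.liftEquiv.eq_def.{0, 0, 0}
  have := @_root_.AddMonoid.Coprod.lift.eq_def.{0, 0, 0}
  have := @_root_.AddMonoid.Coprod.eq_def.{0, 0}
  have := @_root_.AddEquiv.coprodAssoc.eq_def.{0, 0, 0}
  have := @_root_.AddMonoid.coprodCon.eq_def.{0, 0}
  have := @_root_.AddMonoid.Coprod.liftEquiv.eq_def.{0, 0, 0}
  have := @_root_.MulEquiv.coprodCongr.eq_def.{0, 0, 0, 0}
  have := @_root_.MulEquiv.punitCoprod.eq_def.{0, 0}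
  have := @_root_.AddEquiv.coprodPUnit.eq_def.{0, 0}
  have := @_root_.AddMonoid.Coprod.clift.congr_simp.{0, 0, 0}
  have := @_root_.AddMonoid.Coprod.clift.eq_def.{0, 0, 0}
  have := @_root_.Monoid.Coprod.snd.eq_def.{0, 0}
  have := @_root_.AddEquiv.coprodComm.eq_def.{0, 0}
  have := @_root_.Monoid.Coprod.clift.congr_simp.{0, 0, 0}
  trivial

theorem m25_3 : True := by
  have := @_root_.Monoid.Coprod.clift.eq_def.{0, 0, 0}
  have := @_root_.MulEquiv.coprodAssoc.eq_def.{0, 0, 0}
  have := @_root_.Monoid.Coprod.map.eq_def.{0, 0, 0, 0}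
  have := @_root_.AddMonoid.Coprod.toProd.eq_def.{0, 0}
  have := @_root_.AddMonoid.Coprod.snd.eq_def.{0, 0}
  have := @_root_.AddMonoid.Coprod.map.eq_def.{0, 0, 0, 0}
  have := @_root_.Monoid.Coprod.toProd.eq_def.{0, 0}
  have := @_root_.Monoid.Coprod.inr.eq_def.{0, 0}
  have := @_root_.Monoid.Coprod.swap.eq_def.{0, 0}
  have := @_root_.Monoid.Coprod.eq_def.{0, 0}
  have := @_root_.AddMonoid.Coprod.mk.eq_def.{0, 0}
  have := @_root_.AddMonoid.Coprod.fst.eq_def.{0, 0}
  have := @_root_.AddMonoid.Coprod.inr.eq_def.{0, 0}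
  have := @_root_.Monoid.Coprod.inl.eq_def.{0, 0}
  have := @_root_.Monoid.Coprod.mk.eq_def.{0, 0}
  have := @_root_.AddEquiv.coprodCongr.eq_def.{0, 0, 0, 0}
  have := @_root_.AddMonoid.Coprod.swap.eq_def.{0, 0}
  have := @_root_.AddEquiv.punitCoprod.eq_def.{0, 0}
  have := @_root_.Monoid.Coprod.fst.eq_def.{0, 0}
  have := @_root_.MulEquiv.coprodPUnit.eq_def.{0, 0}
  have := @_root_.AddMonoid.Coprod.inl.eq_def.{0, 0}
  have := @_root_.Monoid.Coprod.lift.eq_def.{0, 0, 0}
  have := @_root_.FreeGroupBasis.ofLift.congr_simp.{0}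
  have := @_root_.FreeGroupBasis.ofLift.eq_def.{0}
  have := @_root_.IsFreeAddGroup.addEquiv.eq_def.{0}
  have := @_root_.IsFreeAddGroup.Generators.congr_simp.{0}
  have := @_root_.IsFreeAddGroup.Generators.eq_def.{0}
  have := @_root_.FreeGroupBasis.ofUniqueLift.congr_simp.{0}
  have := @_root_.FreeGroupBasis.ofUniqueLift.eq_def.{0}
  have := @_root_.IsFreeGroup.Generators.congr_simp.{0}
  trivial

theorem m25_4 : True := by
  have := @_root_.IsFreeGroup.Generators.eq_def.{0}
  have := @_root_.IsFreeAddGroup.basis.eq_def.{0}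
  have := @_root_.FreeAddGroupBasis.ofLift.congr_simp.{0}
  have := @_root_.FreeAddGroupBasis.ofLift.eq_def.{0}
  have := @_root_.IsFreeAddGroup.of.eq_def.{0}
  have := @_root_.IsFreeGroup.mk.congr_simp.{0}
  have := @_root_.FreeAddGroupBasis.reindex.eq_def.{0, 0, 0}
  have := @_root_.IsFreeGroup.of.eq_def.{0}
  have := @_root_.IsFreeGroup.mulEquiv.eq_def.{0}
  have := @_root_.FreeGroupBasis.map.eq_def.{0, 0, 0}
  have := @_root_.FreeAddGroupBasis.lift.eq_def.{0, 0, 0}
  have := @_root_.IsFreeAddGroup.toFreeAddGroup.eq_def.{0}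
  have := @_root_.FreeGroupBasis.reindex.eq_def.{0, 0, 0}
  have := @_root_.IsFreeAddGroup.lift.eq_def.{0, 0}
  have := @_root_.FreeAddGroupBasis.map.eq_def.{0, 0, 0}
  have := @_root_.FreeGroupBasis.lift.eq_def.{0, 0, 0}
  have := @_root_.FreeAddGroupBasis.ofUniqueLift.congr_simp.{0}
  have := @_root_.FreeAddGroupBasis.ofUniqueLift.eq_def.{0}
  have := @_root_.IsFreeGroup.lift.eq_def.{0, 0}
  have := @_root_.IsFreeAddGroup.mk.congr_simp.{0}
  have := @_root_.FreeAddGroupBasis.ofFreeAddGroup.eq_def.{0}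
  have := @_root_.IsFreeGroup.basis.eq_def.{0}
  have := @_root_.FreeGroupBasis.ofFreeGroup.eq_def.{0}
  have := @_root_.IsFreeGroup.toFreeGroup.eq_def.{0}
  have := @_root_.Monoid.CoprodI.eq_def.{0, 0}
  have := @_root_.Monoid.CoprodI.eq_1.{0, 0}
  have := @_root_.Monoid.CoprodI.Word.rcons.eq_def.{0, 0}
  have := @_root_.Monoid.CoprodI.Word.equiv.eq_def.{0, 0}
  have := @_root_.Monoid.CoprodI.Word.equiv.eq_1.{0, 0}
  have := @_root_.Monoid.CoprodI.Word.fstIdx.eq_def.{0, 0}
  trivial

theorem m25_5 : True := by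
  have := @_root_.Monoid.CoprodI.NeWord.mulHead.eq_def.{0, 0}
  have := @_root_.Monoid.CoprodI.FreeGroupBasis.coprodI.eq_def.{0, 0, 0}
  have := @_root_.Monoid.CoprodI.FreeGroupBasis.coprodI.eq_1.{0, 0, 0}
  have := @_root_.Monoid.CoprodI.NeWord.brecOn.go.eq_def.{0, 0, 0}
  have := @_root_.Monoid.CoprodI.NeWord.brecOn.go.eq_1.{0, 0, 0}
  have := @_root_.Monoid.CoprodI.of.eq_def.{0, 0}
  have := @_root_.Monoid.CoprodI.of.eq_1.{0, 0}
  have := @_root_.Monoid.CoprodI.Word.empty.eq_def.{0, 0}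
  have := @_root_.freeGroupEquivCoprodI.eq_def.{0}
  have := @_root_.freeGroupEquivCoprodI.eq_1.{0}
  have := @_root_.Monoid.CoprodI.Word.equivPair.eq_def.{0, 0}
  have := @_root_.Monoid.CoprodI.lift.eq_def.{0, 0, 0}
  have := @_root_.Monoid.CoprodI.Word.consRecOn.eq_def.{0, 0, 0}
  have := @_root_.Monoid.CoprodI.Word.consRecOn.eq_1.{0, 0, 0}
  have := @_root_.Monoid.CoprodI.NeWord.prod.eq_def.{0, 0}
  have := @_root_.Monoid.CoprodI.Word.cons.eq_def.{0, 0}
  have := @_root_.Monoid.CoprodI.Word.prod.eq_def.{0, 0}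
  have := @_root_.Monoid.CoprodI.NeWord.toWord.eq_def.{0, 0}
  have := @_root_.CoxeterMatrix.I.eq_def
  have := @_root_.CoxeterMatrix.I.eq_1
  have := @_root_.CoxeterMatrix.F₄.eq_def
  have := @_root_.CoxeterMatrix.F₄.eq_1
  have := @_root_.CoxeterMatrix.H₄.eq_def
  have := @_root_.CoxeterMatrix.H₄.eq_1
  have := @_root_.CoxeterMatrix.H₃.eq_def
  have := @_root_.CoxeterMatrix.H₃.eq_1
  have := @_root_.CoxeterMatrix.E₇.eq_def
  have := @_root_.CoxeterMatrix.E₇.eq_1
  have := @_root_.CoxeterMatrix.Bₙ.eq_def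
  have := @_root_.CoxeterMatrix.Bₙ.eq_1
  trivial

theorem m25_6 : True := by
  have := @_root_.CoxeterMatrix.D.eq_def
  have := @_root_.CoxeterMatrix.D.eq_1
  have := @_root_.CoxeterMatrix.mk.congr_simp.{0}
  have := @_root_.CoxeterMatrix.G₂.eq_def
  have := @_root_.CoxeterMatrix.G₂.eq_1
  have := @_root_.CoxeterMatrix.A.eq_def
  have := @_root_.CoxeterMatrix.A.eq_1
  have := @_root_.CoxeterMatrix.reindex.eq_def.{0, 0}
  have := @_root_.CoxeterMatrix.reindex.eq_1.{0, 0}
  have := @_root_.CoxeterMatrix.E₈.eq_def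
  have := @_root_.CoxeterMatrix.E₈.eq_1
  have := @_root_.CoxeterMatrix.B.eq_def
  have := @_root_.CoxeterMatrix.B.eq_1
  have := @_root_.CoxeterMatrix.Aₙ.eq_def
  have := @_root_.CoxeterMatrix.Aₙ.eq_1
  have := @_root_.CoxeterMatrix.Dₙ.eq_def
  have := @_root_.CoxeterMatrix.Dₙ.eq_1
  have := @_root_.CoxeterMatrix.I₂ₙ.eq_def
  have := @_root_.CoxeterMatrix.I₂ₙ.eq_1
  have := @_root_.CoxeterMatrix.E₆.eq_def
  have := @_root_.CoxeterMatrix.E₆.eq_1
  have := @_root_.PresentedGroup.map.congr_simp.{0, 0}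
  have := @_root_.PresentedGroup.map.eq_def.{0, 0}
  have := @_root_.PresentedGroup.map.eq_1.{0, 0}
  have := @_root_.PresentedGroup.mk.eq_def.{0}
  have := @_root_.PresentedGroup.mk.eq_1.{0}
  have := @_root_.PresentedGroup.of.eq_def.{0}
  have := @_root_.PresentedGroup.eq_def.{0}
  have := @_root_.PresentedGroup.eq_1.{0}
  have := @_root_.PresentedGroup.equivPresentedGroup.eq_def.{0, 0}
  trivial

theorem m25_7 : True := by
  have := @_root_.PresentedGroup.equivPresentedGroup.eq_1.{0, 0}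
  have := @_root_.PresentedGroup.coprodPresentations.eq_def.{0, 0}
  have := @_root_.PresentedGroup.coprodPresentations.eq_1.{0, 0}
  have := @_root_.PresentedGroup.toGroup.eq_def.{0, 0}
  have := @_root_.PresentedGroup.toGroup.eq_1.{0, 0}
  have := @_root_.PresentedGroup.toCoprod.eq_def.{0, 0}
  have := @_root_.PresentedGroup.toCoprod.eq_1.{0, 0}
  have := @_root_.CoxeterMatrix.IsLiftable.eq_def.{0, 0}
  have := @_root_.CoxeterSystem.lift.eq_def.{0, 0, 0}
  have := @_root_.CoxeterSystem.lift.eq_1.{0, 0, 0}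
  have := @_root_.CoxeterMatrix.simple.eq_def.{0}
  have := @_root_.CoxeterMatrix.simple.eq_1.{0}
  have := @_root_.CoxeterSystem.simple.eq_def.{0, 0}
  have := @_root_.CoxeterSystem.braidWord.eq_def.{0}
  have := @_root_.CoxeterSystem.braidWord.eq_1.{0}
  have := @_root_.CoxeterMatrix.reindexGroupEquiv.eq_def.{0, 0}
  have := @_root_.CoxeterMatrix.reindexGroupEquiv.eq_1.{0, 0}
  have := @_root_.CoxeterSystem.wordProd.eq_def.{0, 0}
  have := @_root_.IsCoxeterGroup.mk.congr_simp.{0}
  have := @_root_.CoxeterMatrix.relation.eq_def.{0}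
  have := @_root_.CoxeterMatrix.relationsSet.eq_def.{0}
  have := @_root_.CoxeterSystem.map.eq_def.{0, 0, 0}
  have := @_root_.CoxeterSystem.map.eq_1.{0, 0, 0}
  have := @_root_.CoxeterMatrix.Group.eq_def.{0}
  have := @_root_.CoxeterMatrix.Group.eq_1.{0}
  have := @_root_.CoxeterMatrix.toCoxeterSystem.eq_def.{0}
  have := @_root_.CoxeterMatrix.toCoxeterSystem.eq_1.{0}
  have := @_root_.CoxeterSystem.reindex.eq_def.{0, 0, 0}
  have := @_root_.CoxeterSystem.reindex.eq_1.{0, 0, 0}
  have := @_root_.CoxeterSystem.lengthParity.eq_def.{0, 0}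
  trivial

theorem m25_8 : True := by
  have := @_root_.CoxeterSystem.lengthParity.eq_1.{0, 0}
  have := @_root_.CoxeterSystem.IsRightDescent.eq_def.{0, 0}
  have := @_root_.CoxeterSystem.length.eq_def.{0, 0}
  have := @_root_.CoxeterSystem.length.eq_1.{0, 0}
  have := @_root_.CoxeterSystem.IsReduced.eq_def.{0, 0}
  have := @_root_.CoxeterSystem.IsLeftDescent.eq_def.{0, 0}
  have := @_root_.CoxeterSystem.IsLeftInversion.eq_def.{0, 0}
  have := @_root_.CoxeterSystem.IsRightInversion.eq_def.{0, 0}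
  have := @_root_.CoxeterSystem.IsReflection.eq_def.{0, 0}
  have := @_root_.CoxeterSystem.IsReflection.eq_1.{0, 0}
  have := @_root_.DivisibleHull.coe.eq_def.{0}
  have := @_root_.DivisibleHull.coe.eq_1.{0}
  have := @_root_.DivisibleHull.mk.eq_def.{0}
  have := @_root_.DivisibleHull.coeAddMonoidHom.eq_def.{0}
  have := @_root_.DivisibleHull.coeAddMonoidHom.eq_1.{0}
  have := @_root_.DivisibleHull.eq_def.{0}
  have := @_root_.DivisibleHull.eq_1.{0}
  have := @_root_.DivisibleHull.liftOn.eq_def.{0, 0}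
  have := @_root_.DivisibleHull.liftOn.eq_1.{0, 0}
  have := @_root_.DivisibleHull.coeOrderAddMonoidHom.eq_def.{0}
  have := @_root_.DivisibleHull.coeOrderAddMonoidHom.eq_1.{0}
  have := @_root_.DivisibleHull.archimedeanClassOrderIso.eq_def.{0}
  have := @_root_.DivisibleHull.archimedeanClassOrderIso.eq_1.{0}
  have := @_root_.DivisibleHull.liftOn₂.congr_simp.{0, 0}
  have := @_root_.DivisibleHull.liftOn₂.eq_def.{0, 0}
  have := @_root_.DivisibleHull.liftOn₂.eq_1.{0, 0}
  have := @_root_.DoubleCoset.Quotient.eq_def.{0}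
  have := @_root_.DoubleCoset.Quotient.eq_1.{0}
  have := @_root_.DoubleCoset.quotToDoubleCoset.eq_def.{0}
  have := @_root_.DoubleCoset.doubleCoset.eq_def.{0}
  trivial

theorem m25_9 : True := by
  have := @_root_.DoubleCoset.setoid.eq_def.{0}
  have := @_root_.DoubleCoset.setoid.eq_1.{0}
  have := @_root_.DoubleCoset.mk.eq_def.{0}
  have := @_root_.DoubleCoset.mk.eq_1.{0}
  have := @_root_.CommGroup.subgroupOrderIsoSubgroupMonoidHom.eq_def.{0, 0}
  have := @_root_.CommGroup.monoidHomMonoidHomEquiv.eq_def.{0, 0}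
  have := @_root_.CommGroup.monoidHomMonoidHomEquiv.eq_1.{0, 0}
  have := @_root_.FiniteIndexNormalAddSubgroup.comap.eq_def.{0, 0}
  have := @_root_.FiniteIndexNormalAddSubgroup.ofAddSubgroup.congr_simp.{0}
  have := @_root_.FiniteIndexNormalAddSubgroup.ofAddSubgroup.eq_def.{0}
  have := @_root_.FiniteIndexNormalAddSubgroup.mk.congr_simp.{0}
  have := @_root_.FiniteIndexNormalSubgroup.mk.congr_simp.{0}
  have := @_root_.FiniteIndexNormalSubgroup.comap.eq_def.{0, 0}
  have := @_root_.FiniteIndexNormalSubgroup.ofSubgroup.congr_simp.{0}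
  have := @_root_.FiniteIndexNormalSubgroup.ofSubgroup.eq_def.{0}
  have := @_root_.MonoidHom.transferSylow.congr_simp.{0}
  have := @_root_.MonoidHom.transferSylow.eq_def.{0}
  have := @_root_.MonoidHom.transferSylow.eq_1.{0}
  have := @_root_.Subgroup.transferTransversal.eq_def.{0}
  have := @_root_.Subgroup.transferTransversal.eq_1.{0}
  have := @_root_.MonoidHom.transfer.eq_def.{0, 0}
  have := @_root_.AddMonoidHom.transfer.congr_simp.{0, 0}
  have := @_root_.AddMonoidHom.transfer.eq_def.{0, 0}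
  have := @_root_.Subgroup.transferFunction.eq_def.{0}
  have := @_root_.Subgroup.transferFunction.eq_1.{0}
  have := @_root_.AddSubgroup.leftTransversals.diff.congr_simp.{0, 0}
  have := @_root_.AddSubgroup.leftTransversals.diff.eq_def.{0, 0}
  have := @_root_.Subgroup.leftTransversals.diff.congr_simp.{0, 0}
  have := @_root_.Subgroup.leftTransversals.diff.eq_def.{0, 0}
  have := @_root_.Subgroup.transferSet.eq_def.{0}
  trivial

theorem m25_10 : True := by
  have := @_root_.Subgroup.transferSet.eq_1.{0}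
  have := @_root_.MonoidHom.transferCenterPow.eq_def.{0}
  have := @_root_.MonoidHom.transferCenterPow.eq_1.{0}
  have := @_root_.Subgroup.cardCommutatorBound.eq_def
  have := @_root_.Subgroup.cardCommutatorBound.eq_1
  have := @_root_.AddSubgroup.IsFinitelyNormallyGenerated.eq_def.{0}
  have := @_root_.Subgroup.IsFinitelyNormallyGenerated.eq_def.{0}
  have := @_root_.Group.IsFinitelyPresented.mk.congr_simp.{0}
  have := @_root_.AddGroup.IsFinitelyPresented.mk.congr_simp.{0}
  have := @_root_.Subgroup.IsNormalClosureFG.eq_def.{0}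
  have := @_root_.Subgroup.IsNormalClosureFG.eq_1.{0}
  have := @_root_.MonoidHom.FixedPointFree.eq_def.{0}
  have := @_root_.MonoidHom.FixedPointFree.eq_1.{0}
  have := @_root_.MonoidHom.FixedPointFree.commGroupOfInvolutive.congr_simp.{0, 0}
  have := @_root_.MonoidHom.FixedPointFree.commGroupOfInvolutive.eq_def.{0, 0}
  have := @_root_.MonoidHom.FixedPointFree.commGroupOfInvolutive.eq_1.{0, 0}
  have := @_root_.MonoidHom.commutatorMap.eq_def.{0}
  have := @_root_.MonoidHom.commutatorMap.eq_1.{0}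
  have := @_root_.Subgroup.transferFocal.quotientKerMulEquivQuotientFocalSubroupOf.congr_simp.{0}
  have := @_root_.Subgroup.transferFocal.quotientKerMulEquivQuotientFocalSubroupOf.eq_def.{0}
  have := @_root_.Subgroup.transferFocal.quotientKerMulEquivQuotientFocalSubroupOf.eq_1.{0}
  have := @_root_.Subgroup.focalSubgroup.eq_def.{0}
  have := @_root_.AddSubgroup.focalAddSubgroup.eq_def.{0}
  have := @_root_.Subgroup.transferFocal.congr_simp.{0}
  have := @_root_.Subgroup.transferFocal.eq_def.{0}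
  have := @_root_.AddSubgroup.transferFocal.congr_simp.{0}
  have := @_root_.AddSubgroup.transferFocal.eq_def.{0}
  have := @_root_.AddSubgroup.focalAddSubgroupOf.eq_def.{0}
  have := @_root_.Subgroup.focalSubgroupOf.eq_def.{0}
  have := @_root_.upperCentralSeriesAux.eq_def.{0}
  trivial

theorem m25_11 : True := by
  have := @_root_.upperCentralSeriesAux.eq_1.{0}
  have := @_root_.Subgroup.IsAscendingCentralSeries.eq_def.{0}
  have := @_root_.Group.IsNilpotent.mk.congr_simp.{0}
  have := @_root_.Group.nilpotencyClass.eq_def.{0}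
  have := @_root_.commGroupOfNilpotencyClass.congr_simp.{0}
  have := @_root_.commGroupOfNilpotencyClass.eq_def.{0}
  have := @_root_.addCommGroupOfNilpotencyClass.congr_simp.{0}
  have := @_root_.addCommGroupOfNilpotencyClass.eq_def.{0}
  have := @_root_.AddSubgroup.IsDescendingCentralSeries.eq_def.{0}
  have := @_root_.AddSubgroup.upperCentralSeriesStep.eq_def.{0}
  have := @_root_.AddSubgroup.lowerCentralSeries.eq_def.{0}
  have := @_root_.AddSubgroup.lowerCentralSeries.eq_1.{0}
  have := @_root_.Group.IsVirtuallyNilpotent.eq_def.{0}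
  have := @_root_.AddGroup.IsNilpotent.mk.congr_simp.{0}
  have := @_root_.AddGroup.IsVirtuallyNilpotent.eq_def.{0}
  have := @_root_.lowerCentralSeries.eq_def.{0}
  have := @_root_.lowerCentralSeries.eq_1.{0}
  have := @_root_.upperCentralSeriesStep.congr_simp.{0}
  have := @_root_.upperCentralSeriesStep.eq_def.{0}
  have := @_root_.upperCentralSeriesStep.eq_1.{0}
  have := @_root_.Subgroup.lowerCentralSeries.eq_def.{0}
  have := @_root_.Subgroup.lowerCentralSeries.eq_1.{0}
  have := @_root_.Subgroup.upperCentralSeriesStep.eq_def.{0}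
  have := @_root_.Subgroup.IsDescendingCentralSeries.eq_def.{0}
  have := @_root_.AddGroup.nilpotencyClass.eq_def.{0}
  have := @_root_.upperCentralSeries.eq_def.{0}
  have := @_root_.upperCentralSeries.eq_1.{0}
  have := @_root_.AddSubgroup.IsAscendingCentralSeries.eq_def.{0}
  have := @_root_.IsDescendingCentralSeries.eq_def.{0}
  have := @_root_.IsDescendingCentralSeries.eq_1.{0}
  trivial

theorem m25_12 : True := by
  have := @_root_.IsAscendingCentralSeries.eq_def.{0}
  have := @_root_.IsAscendingCentralSeries.eq_1.{0}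
  have := @_root_.frattini.eq_def.{0}
  have := @_root_.FreeAddGroup.reduceCyclically.conjugator.eq_def.{0}
  have := @_root_.FreeGroup.reduceCyclically.conjugator.eq_def.{0}
  have := @_root_.FreeGroup.IsCyclicallyReduced.eq_def.{0}
  have := @_root_.FreeAddGroup.reduceCyclically.eq_def.{0}
  have := @_root_.FreeAddGroup.IsCyclicallyReduced.eq_def.{0}
  have := @_root_.FreeGroup.reduceCyclically.eq_def.{0}
  have := @_root_.Equiv.ofIsFreeGroupEquiv.eq_def.{0, 0}
  have := @_root_.Equiv.ofIsFreeGroupEquiv.eq_1.{0, 0}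
  have := @_root_.Equiv.ofFreeGroupEquiv.eq_def.{0, 0}
  have := @_root_.Equiv.ofFreeGroupEquiv.eq_1.{0, 0}
  have := @_root_.FreeAbelianGroup.basis.eq_def.{0}
  have := @_root_.FreeAbelianGroup.basis.eq_1.{0}
  have := @_root_.Equiv.ofFreeAbelianGroupLinearEquiv.eq_def.{0, 0}
  have := @_root_.Equiv.ofFreeAbelianGroupLinearEquiv.eq_1.{0, 0}
  have := @_root_.Equiv.ofFreeAbelianGroupEquiv.eq_def.{0, 0}
  have := @_root_.Equiv.ofFreeAbelianGroupEquiv.eq_1.{0, 0}
  have := @_root_.IsFreeGroupoid.SpanningTree.treeHom.eq_def.{0}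
  have := @_root_.IsFreeGroupoid.SpanningTree.loopOfHom.eq_def.{0}
  have := @_root_.IsFreeGroupoid.mk.congr_simp.{0, 0}
  have := @_root_.IsFreeGroupoid.SpanningTree.functorOfMonoidHom.eq_def.{0, 0}
  have := @_root_.IsFreeGroupoid.Generators.eq_def.{0, 0}
  have := @_root_.IsFreeGroupoid.Generators.eq_1.{0, 0}
  have := @_root_.FreeGroup.startsWith.eq_def.{0}
  have := @_root_.Group.Generators.mk.congr_simp.{0, 0}
  have := @_root_.Group.Generators.ofSet.congr_simp.{0}
  have := @_root_.Group.Generators.ofSet.eq_def.{0}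
  have := @_root_.Group.Generators.ofSet.eq_1.{0}
  trivial

theorem m25_13 : True := by
  have := @_root_.Group.Generators.reindex.eq_def.{0, 0, 0}
  have := @_root_.Group.Generators.reindex.eq_1.{0, 0, 0}
  have := @_root_.Group.Generators.map.congr_simp.{0, 0, 0}
  have := @_root_.Group.Generators.map.eq_def.{0, 0, 0}
  have := @_root_.Group.Generators.map.eq_1.{0, 0, 0}
  have := @_root_.Subgroup.goursatSnd.eq_def.{0, 0}
  have := @_root_.AddSubgroup.goursatFst.eq_def.{0, 0}
  have := @_root_.Subgroup.goursatFst.eq_def.{0, 0}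
  have := @_root_.AddSubgroup.goursatSnd.eq_def.{0, 0}
  have := @_root_.MulAction.IsBlock.eq_def.{0, 0}
  have := @_root_.AddAction.BlockMem.eq_def.{0, 0}
  have := @_root_.MulAction.IsInvariantBlock.eq_def.{0, 0}
  have := @_root_.AddAction.IsTrivialBlock.eq_def.{0}
  have := @_root_.MulAction.IsTrivialBlock.eq_def.{0}
  have := @_root_.AddAction.IsFixedBlock.eq_def.{0, 0}
  have := @_root_.MulAction.IsFixedBlock.eq_def.{0, 0}
  have := @_root_.AddAction.IsBlockSystem.eq_def.{0, 0}
  have := @_root_.AddAction.block_stabilizerOrderIso.congr_simp.{0, 0}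
  have := @_root_.AddAction.block_stabilizerOrderIso.eq_def.{0, 0}
  have := @_root_.MulAction.block_stabilizerOrderIso.congr_simp.{0, 0}
  have := @_root_.MulAction.block_stabilizerOrderIso.eq_def.{0, 0}
  have := @_root_.MulAction.IsBlockSystem.eq_def.{0, 0}
  have := @_root_.AddAction.IsInvariantBlock.eq_def.{0, 0}
  have := @_root_.MulAction.BlockMem.eq_def.{0, 0}
  have := @_root_.AddAction.IsBlock.eq_def.{0, 0}
  have := @_root_.MulAction.IsQuasiPreprimitive.mk.congr_simp.{0, 0}
  have := @_root_.MulAction.IsPreprimitive.mk.congr_simp.{0, 0}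
  have := @_root_.AddAction.IsQuasiPreprimitive.mk.congr_simp.{0, 0}
  have := @_root_.AddAction.IsPreprimitive.mk.congr_simp.{0, 0}
  have := @_root_.MulAction.IwasawaStructure.mk.congr_simp.{0, 0}
  trivial

theorem m25_14 : True := by
  have := @_root_.alternatingGroup.eq_def.{0}
  have := @_root_.alternatingGroup.ofSubtype.eq_def.{0}
  have := @_root_.alternatingGroup.ofSubtype.eq_1.{0}
  have := @_root_.Equiv.altCongrHom.eq_def.{0, 0}
  have := @_root_.Equiv.altCongrHom.eq_1.{0, 0}
  have := @_root_.SubAddAction.ofStabilizer.eq_def.{0, 0}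
  have := @_root_.SubMulAction.ofStabilizer.eq_def.{0, 0}
  have := @_root_.SubAddAction.ofStabilizer.snoc.eq_def.{0, 0}
  have := @_root_.SubMulAction.ofStabilizer.snoc.eq_def.{0, 0}
  have := @_root_.SubAddAction.ofStabilizer.conjMap.eq_def.{0, 0}
  have := @_root_.SubAddAction.ofStabilizer.conjMap.eq_1.{0, 0}
  have := @_root_.SubMulAction.ofStabilizer.conjMap.eq_def.{0, 0}
  have := @_root_.SubMulAction.ofStabilizer.conjMap.eq_1.{0, 0}
  have := @_root_.SubMulAction.map_ofFixingSubgroupUnion.eq_def.{0, 0}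
  have := @_root_.SubMulAction.ofFixingSubgroup_equivariantMap.eq_def.{0, 0}
  have := @_root_.SubAddAction.ofFixingAddSubgroup_of_eq.eq_def.{0, 0}
  have := @_root_.SubAddAction.fixingAddSubgroup_union_to_fixingAddSubgroup_of_fixingAddSubgroup.eq_def.{0, 0}
  have := @_root_.SubMulAction.ofFixingSubgroup_of_inclusion.eq_def.{0, 0}
  have := @_root_.SubMulAction.fixingSubgroup_union_to_fixingSubgroup_of_fixingSubgroup.eq_def.{0, 0}
  have := @_root_.SubMulAction.ofFixingSubgroup.eq_def.{0, 0}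
  have := @_root_.SubAddAction.ofFixingAddSubgroup_of_singleton.eq_def.{0, 0}
  have := @_root_.SubMulAction.conjMap_ofFixingSubgroup.eq_def.{0, 0}
  have := @_root_.SubAddAction.ofFixingAddSubgroup.append.congr_simp.{0, 0}
  have := @_root_.SubAddAction.ofFixingAddSubgroup.append.eq_def.{0, 0}
  have := @_root_.SubAddAction.addConjMap_ofFixingAddSubgroup.eq_def.{0, 0}
  have := @_root_.SubAddAction.ofFixingAddSubgroup_of_inclusion.eq_def.{0, 0}
  have := @_root_.SubAddAction.fixingAddSubgroupInsertEquiv.eq_def.{0, 0}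
  have := @_root_.SubAddAction.map_ofFixingAddSubgroupUnion.eq_def.{0, 0}
  have := @_root_.SubMulAction.ofFixingSubgroup_of_eq.eq_def.{0, 0}
  have := @_root_.SubAddAction.fixingAddSubgroupEquivFixingAddSubgroup.congr_simp.{0, 0}
  trivial

end Cfsg.Rz
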