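import Cfsg.Agent.Rz.M25

/-! Generated file: forces on-demand equation and congruence lemmas to be created once. -/

set_option linter.all false

namespace Cfsg.Rz

theorem m26_0 : True := by
  have := @_root_.SubAddAction.fixingAddSubgroupEquivFixingAddSubgroup.eq_def.{0, 0}
  have := @_root_.SubMulAction.fixingSubgroupEquivFixingSubgroup.eq_def.{0, 0}
  have := @_root_.SubMulAction.fixingSubgroupInsertEquiv.eq_def.{0, 0}
  have := @_root_.SubMulAction.ofFixingSubgroup_of_singleton.eq_def.{0, 0}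
  have := @_root_.SubMulAction.ofFixingSubgroup_insert_map.eq_def.{0, 0}
  have := @_root_.SubAddAction.ofFixingAddSubgroup_equivariantMap.eq_def.{0, 0}
  have := @_root_.SubAddAction.ofFixingAddSubgroup_insert_map.eq_def.{0, 0}
  have := @_root_.SubAddAction.ofFixingAddSubgroup.eq_def.{0, 0}
  have := @_root_.SubMulAction.ofFixingSubgroup.append.eq_def.{0, 0}
  have := @_root_.Function.Injective.mulActionHom_embedding.eq_def.{0, 0, 0, 0, 0}
  have := @_root_.AddActionHom.embMap.eq_def.{0, 0, 0, 0}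
  have := @_root_.Function.Injective.addActionHom_embedding.congr_simp.{0, 0, 0, 0, 0}
  have := @_root_.Function.Injective.addActionHom_embedding.eq_def.{0, 0, 0, 0, 0}
  have := @_root_.MulActionHom.embMap.eq_def.{0, 0, 0, 0}
  have := @_root_.MulAction.IsMultiplyPretransitive.eq_def.{0, 0}
  have := @_root_.AddActionHom.zeroEmbeddingMap.eq_def.{0, 0, 0}
  have := @_root_.AddAction.IsMultiplyPretransitive.eq_def.{0, 0}
  have := @_root_.MulActionHom.oneEmbeddingMap.eq_def.{0, 0, 0}
  have := @_root_.MulAction.IsMultiplyPreprimitive.mk.congr_simp.{0, 0}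
  have := @_root_.AddAction.IsMultiplyPreprimitive.mk.congr_simp.{0, 0}
  have := @_root_.Set.powersetCard.addActionHom_of_embedding.eq_def.{0, 0}
  have := @_root_.Set.powersetCard.mulActionHom_of_embedding.eq_def.{0, 0}
  have := @_root_.Set.powersetCard.mulActionHom_singleton.eq_def.{0, 0}
  have := @_root_.Set.powersetCard.mulActionHom_compl.eq_def.{0, 0}
  have := @_root_.Set.powersetCard.mulActionHom_compl.eq_1.{0, 0}
  have := @_root_.Set.powersetCard.subAddAction.eq_def.{0, 0}
  have := @_root_.Set.powersetCard.subMulAction.eq_def.{0, 0}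
  have := @_root_.Set.powersetCard.addActionHom_singleton.eq_def.{0, 0}
  have := @_root_.MulAction.Supports.eq_def.{0, 0, 0}
  have := @_root_.AddAction.Supports.eq_def.{0, 0, 0}
  trivial

theorem m26_1 : True := by
  have := @_root_.AddGroupExtension.Splitting.mk.congr_simp.{0, 0, 0}
  have := @_root_.SemidirectProduct.toGroupExtension.eq_def.{0, 0}
  have := @_root_.AddGroupExtension.Equiv.mk.congr_simp.{0, 0, 0, 0}
  have := @_root_.AddGroupExtension.Splitting.toSection.eq_def.{0, 0, 0}
  have := @_root_.AddGroupExtension.Splitting.toSection.eq_1.{0, 0, 0}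
  have := @_root_.SemidirectProduct.inr_splitting.eq_def.{0, 0}
  have := @_root_.SemidirectProduct.inr_splitting.eq_1.{0, 0}
  have := @_root_.GroupExtension.Splitting.toSection.eq_def.{0, 0, 0}
  have := @_root_.GroupExtension.Splitting.toSection.eq_1.{0, 0, 0}
  have := @_root_.GroupExtension.Equiv.symm.eq_def.{0, 0, 0, 0}
  have := @_root_.AddGroupExtension.Equiv.refl.eq_def.{0, 0, 0}
  have := @_root_.AddGroupExtension.mk.congr_simp.{0, 0, 0}
  have := @_root_.AddGroupExtension.IsAddConj.eq_def.{0, 0, 0}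
  have := @_root_.GroupExtension.Splitting.mk.congr_simp.{0, 0, 0}
  have := @_root_.GroupExtension.IsConj.eq_def.{0, 0, 0}
  have := @_root_.GroupExtension.Equiv.mk.congr_simp.{0, 0, 0, 0}
  have := @_root_.AddGroupExtension.Section.mk.congr_simp.{0, 0, 0}
  have := @_root_.GroupExtension.Equiv.trans.eq_def.{0, 0, 0, 0, 0}
  have := @_root_.AddGroupExtension.Equiv.trans.eq_def.{0, 0, 0, 0, 0}
  have := @_root_.AddGroupExtension.Equiv.symm.eq_def.{0, 0, 0, 0}
  have := @_root_.GroupExtension.Equiv.refl.eq_def.{0, 0, 0}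
  have := @_root_.GroupExtension.Section.mk.congr_simp.{0, 0, 0}
  have := @_root_.GroupExtension.conjAct.eq_def.{0, 0, 0}
  have := @_root_.GroupExtension.ConjClasses.eq_def.{0, 0, 0}
  have := @_root_.AddGroupExtension.IsAddConj.setoid.eq_def.{0, 0, 0}
  have := @_root_.GroupExtension.IsConj.setoid.eq_def.{0, 0, 0}
  have := @_root_.AddGroupExtension.quotientKerRightHomEquivRight.eq_def.{0, 0, 0}
  have := @_root_.AddGroupExtension.Section.equivComp.eq_def.{0, 0, 0, 0}
  have := @_root_.GroupExtension.quotientKerRightHomEquivRight.eq_def.{0, 0, 0}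
  have := @_root_.GroupExtension.Equiv.ofMonoidHom.congr_simp.{0, 0, 0, 0}
  trivial

theorem m26_2 : True := by
  have := @_root_.GroupExtension.Equiv.ofMonoidHom.eq_def.{0, 0, 0, 0}
  have := @_root_.AddGroupExtension.AddConjClasses.eq_def.{0, 0, 0}
  have := @_root_.AddGroupExtension.Equiv.ofAddMonoidHom.congr_simp.{0, 0, 0, 0}
  have := @_root_.AddGroupExtension.Equiv.ofAddMonoidHom.eq_def.{0, 0, 0, 0}
  have := @_root_.GroupExtension.Section.equivComp.eq_def.{0, 0, 0, 0}
  have := @_root_.AddGroupExtension.quotientRangeInlEquivRight.eq_def.{0, 0, 0}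
  have := @_root_.GroupExtension.Splitting.semidirectProductMulEquiv.eq_def.{0, 0, 0}
  have := @_root_.GroupExtension.Splitting.semidirectProductMulEquiv.eq_1.{0, 0, 0}
  have := @_root_.GroupExtension.surjInvRightHom.eq_def.{0, 0, 0}
  have := @_root_.AddGroupExtension.surjInvRightHom.eq_def.{0, 0, 0}
  have := @_root_.GroupExtension.quotientRangeInlEquivRight.eq_def.{0, 0, 0}
  have := @_root_.GroupExtension.Splitting.semidirectProductToGroupExtensionEquiv.eq_def.{0, 0, 0}
  have := @_root_.GroupExtension.Splitting.semidirectProductToGroupExtensionEquiv.eq_1.{0, 0, 0}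
  have := @_root_.GroupExtension.Splitting.conjAct.eq_def.{0, 0, 0}
  have := @_root_.HNNExtension.NormalWord.TransversalPair.mk.congr_simp.{0}
  have := @_root_.HNNExtension.NormalWord.unitsSMulWithCancel.eq_def.{0}
  have := @_root_.HNNExtension.eq_def.{0}
  have := @_root_.HNNExtension.eq_1.{0}
  have := @_root_.HNNExtension.NormalWord.empty.eq_def.{0}
  have := @_root_.HNNExtension.NormalWord.empty.eq_1.{0}
  have := @_root_.HNNExtension.NormalWord.consRecOn.eq_def.{0, 0}
  have := @_root_.HNNExtension.NormalWord.consRecOn.eq_1.{0, 0}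
  have := @_root_.HNNExtension.NormalWord.equiv.eq_def.{0}
  have := @_root_.HNNExtension.NormalWord.equiv.eq_1.{0}
  have := @_root_.HNNExtension.NormalWord.unitsSMulGroup.eq_def.{0}
  have := @_root_.HNNExtension.con.eq_def.{0}
  have := @_root_.HNNExtension.con.eq_1.{0}
  have := @_root_.HNNExtension.toSubgroup.eq_def.{0}
  have := @_root_.HNNExtension.lift.eq_def.{0, 0}
  have := @_root_.HNNExtension.t.eq_def.{0}
  trivial

theorem m26_3 : True := by
  have := @_root_.HNNExtension.NormalWord.Cancels.eq_def.{0}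
  have := @_root_.HNNExtension.NormalWord.ReducedWord.prod.eq_def.{0}
  have := @_root_.HNNExtension.toSubgroupEquiv.eq_def.{0}
  have := @_root_.HNNExtension.toSubgroupEquiv.eq_1.{0}
  have := @_root_.HNNExtension.NormalWord.ReducedWord.empty.eq_def.{0}
  have := @_root_.HNNExtension.NormalWord.ReducedWord.empty.eq_1.{0}
  have := @_root_.HNNExtension.of.eq_def.{0}
  have := @_root_.HNNExtension.NormalWord.unitsSMulEquiv.eq_def.{0}
  have := @_root_.HNNExtension.NormalWord.unitsSMulEquiv.eq_1.{0}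
  have := @_root_.HNNExtension.NormalWord.ofGroup.eq_def.{0}
  have := @_root_.HNNExtension.NormalWord.unitsSMul.eq_def.{0}
  have := @_root_.HNNExtension.NormalWord.cons.eq_def.{0}
  have := @_root_.Group.IsPerfect.mk.congr_simp.{0}
  have := @_root_.Subgroup.IsSubnormal.below.step.congr_simp.{0}
  have := @_root_.AddSubgroup.IsSubnormal.step.congr_simp.{0}
  have := @_root_.AddSubgroup.IsSubnormal.below.step.congr_simp.{0}
  have := @_root_.Subgroup.IsSubnormal.step.congr_simp.{0}
  have := @_root_.Submonoid.divPairs.eq_def.{0, 0}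
  have := @_root_.AddSubmonoid.subPairs.eq_def.{0, 0}
  have := @_root_.Localization.mkOrderEmbedding.eq_def.{0}
  have := @_root_.AddLocalization.mkOrderEmbedding.eq_def.{0}
  have := @_root_.MulHom.noncommCoprod.congr_simp.{0, 0, 0}
  have := @_root_.MulHom.noncommCoprod.eq_def.{0, 0, 0}
  have := @_root_.MonoidHom.noncommCoprod.eq_def.{0, 0, 0}
  have := @_root_.AddMonoidHom.noncommCoprod.congr_simp.{0, 0, 0}
  have := @_root_.AddMonoidHom.noncommCoprod.eq_def.{0, 0, 0}
  have := @_root_.AddHom.noncommCoprod.congr_simp.{0, 0, 0}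
  have := @_root_.AddHom.noncommCoprod.eq_def.{0, 0, 0}
  have := @_root_.DomMulAct.stabilizerMulEquiv.eq_def.{0, 0}
  have := @_root_.DomMulAct.stabilizerMulEquiv.eq_1.{0, 0}
  trivial

theorem m26_4 : True := by
  have := @_root_.DomMulAct.stabilizerEquiv_invFun.eq_def.{0, 0}
  have := @_root_.DomMulAct.stabilizerEquiv_invFun.eq_1.{0, 0}
  have := @_root_.DomMulAct.stabilizerEquiv_invFun_aux.eq_def.{0, 0}
  have := @_root_.DomMulAct.stabilizerEquiv_invFun_aux.eq_1.{0, 0}
  have := @_root_.Equiv.Perm.Basis.ofPermHom.eq_def.{0}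
  have := @_root_.Equiv.Perm.Basis.ofPermHom.eq_1.{0}
  have := @_root_.Equiv.Perm.Basis.toCentralizer.eq_def.{0}
  have := @_root_.Equiv.Perm.OnCycleFactors.kerParam.eq_def.{0}
  have := @_root_.Equiv.Perm.Basis.ofPermHomFun.eq_def.{0}
  have := @_root_.Equiv.Perm.OnCycleFactors.Subgroup.Centralizer.cycleFactorsFinset_mulAction.eq_def.{0}
  have := @_root_.Equiv.Perm.OnCycleFactors.Subgroup.Centralizer.cycleFactorsFinset_mulAction.eq_1.{0}
  have := @_root_.Equiv.Perm.Basis.mk.congr_simp.{0}
  have := @_root_.Equiv.Perm.OnCycleFactors.instMulActionSubtypeMemSubgroupCentralizerSingletonSetFinsetCycleFactorsFinset.eq_def.{0}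
  have := @_root_.Equiv.Perm.OnCycleFactors.instMulActionSubtypeMemSubgroupCentralizerSingletonSetFinsetCycleFactorsFinset.eq_1.{0}
  have := @_root_.Equiv.Perm.Basis.congr_simp.{0}
  have := @_root_.Equiv.Perm.OnCycleFactors.toPermHom.eq_def.{0}
  have := @_root_.Equiv.Perm.OnCycleFactors.range_toPermHom'.eq_def.{0}
  have := @_root_.Equiv.Perm.OnCycleFactors.range_toPermHom'.eq_1.{0}
  have := @_root_.Equiv.Perm.subgroupOfMulAction.congr_simp.{0, 0}
  have := @_root_.Equiv.Perm.subgroupOfMulAction.eq_def.{0, 0}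
  have := @_root_.Equiv.Perm.subgroupOfMulAction.eq_1.{0, 0}
  have := @_root_.Monoid.PushoutI.NormalWord.equiv.eq_def.{0, 0, 0}
  have := @_root_.Monoid.PushoutI.NormalWord.equiv.eq_1.{0, 0, 0}
  have := @_root_.Monoid.PushoutI.ofCoprodI.eq_def.{0, 0, 0}
  have := @_root_.Monoid.PushoutI.NormalWord.rcons.eq_def.{0, 0, 0}
  have := @_root_.Monoid.PushoutI.NormalWord.empty.eq_def.{0, 0, 0}
  have := @_root_.Monoid.PushoutI.base.eq_def.{0, 0, 0}
  have := @_root_.Monoid.PushoutI.base.eq_1.{0, 0, 0}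
  have := @_root_.Monoid.PushoutI.NormalWord.prod.eq_def.{0, 0, 0}
  have := @_root_.Monoid.PushoutI.NormalWord.cons.eq_def.{0, 0, 0}
  trivial

theorem m26_5 : True := by
  have := @_root_.Monoid.PushoutI.of.eq_def.{0, 0, 0}
  have := @_root_.Monoid.PushoutI.of.eq_1.{0, 0, 0}
  have := @_root_.Monoid.PushoutI.NormalWord.equivPair.eq_def.{0, 0, 0}
  have := @_root_.Monoid.PushoutI.Reduced.eq_def.{0, 0, 0}
  have := @_root_.Monoid.PushoutI.eq_def.{0, 0, 0}
  have := @_root_.Monoid.PushoutI.eq_1.{0, 0, 0}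
  have := @_root_.Monoid.PushoutI.NormalWord.Transversal.mk.congr_simp.{0, 0, 0}
  have := @_root_.Monoid.PushoutI.con.eq_def.{0, 0, 0}
  have := @_root_.Monoid.PushoutI.con.eq_1.{0, 0, 0}
  have := @_root_.Monoid.PushoutI.lift.eq_def.{0, 0, 0, 0}
  have := @_root_.Monoid.PushoutI.lift.eq_1.{0, 0, 0, 0}
  have := @_root_.Monoid.PushoutI.NormalWord.consRecOn.eq_def.{0, 0, 0, 0}
  have := @_root_.Monoid.PushoutI.NormalWord.consRecOn.eq_1.{0, 0, 0, 0}
  have := @_root_.Monoid.PushoutI.homEquiv.eq_def.{0, 0, 0, 0}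
  have := @_root_.Monoid.PushoutI.homEquiv.eq_1.{0, 0, 0, 0}
  have := @_root_.IteratedWreathProduct.eq_def.{0}
  have := @_root_.IteratedWreathProduct.eq_1.{0}
  have := @_root_.RegularWreathProduct.inl.eq_def.{0, 0}
  have := @_root_.RegularWreathProduct.inl.eq_1.{0, 0}
  have := @_root_.RegularWreathProduct.congr.eq_def.{0, 0, 0, 0}
  have := @_root_.RegularWreathProduct.congr.eq_1.{0, 0, 0, 0}
  have := @_root_.RegularWreathProduct.rightHom.eq_def.{0, 0}
  have := @_root_.RegularWreathProduct.rightHom.eq_1.{0, 0}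
  have := @_root_.Sylow.mulEquivIteratedWreathProduct.congr_simp.{0, 0}
  have := @_root_.Sylow.mulEquivIteratedWreathProduct.eq_def.{0, 0}
  have := @_root_.Sylow.mulEquivIteratedWreathProduct.eq_1.{0, 0}
  have := @_root_.iteratedWreathToPermHom.eq_def.{0}
  have := @_root_.iteratedWreathToPermHom.eq_1.{0}
  have := @_root_.RegularWreathProduct.equivProd.eq_def.{0, 0}
  have := @_root_.RegularWreathProduct.equivProd.eq_1.{0, 0}
  trivial

theorem m26_6 : True := by
  have := @_root_.RegularWreathProduct.toPerm.eq_def.{0, 0, 0}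
  have := @_root_.RegularWreathProduct.toPerm.eq_1.{0, 0, 0}
  have := @_root_.Group.ResiduallyFinite.mk.congr_simp.{0}
  have := @_root_.AddGroup.ResiduallyFinite.mk.congr_simp.{0}
  have := @_root_.Subgroup.QuotientDiff.congr_simp.{0}
  have := @_root_.Subgroup.QuotientDiff.eq_def.{0}
  have := @_root_.Subgroup.QuotientDiff.eq_1.{0}
  have := @_root_.alternatingGroup.kleinFour.eq_def.{0}
  have := @_root_.alternatingGroup.iwasawaStructure_three.eq_def.{0}
  have := @_root_.alternatingGroup.iwasawaStructure_three.eq_1.{0}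
  have := @_root_.alternatingGroup.iwasawaStructure_four.congr_simp.{0}
  have := @_root_.alternatingGroup.iwasawaStructure_four.eq_def.{0}
  have := @_root_.alternatingGroup.iwasawaStructure_four.eq_1.{0}
  have := @_root_.Equiv.Perm.iwasawaStructure_two.congr_simp.{0}
  have := @_root_.Equiv.Perm.iwasawaStructure_two.eq_def.{0}
  have := @_root_.Equiv.Perm.iwasawaStructure_two.eq_1.{0}
  have := @_root_.QuaternionGroup.quaternionGroupZeroEquivDihedralGroupZero.eq_def
  have := @_root_.QuaternionGroup.quaternionGroupZeroEquivDihedralGroupZero.eq_1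
  have := @_root_.instDecidableEqQuaternionGroup.decEq.eq_def
  have := @_root_.instDecidableEqQuaternionGroup.decEq.eq_1
  have := @_root_.IsZGroup.mk.congr_simp.{0}
  have := @_root_.Subgroup.Saturated.eq_def.{0}
  have := @_root_.Subgroup.Saturated.eq_1.{0}
  have := @_root_.Submonoid.PowSaturated.eq_def.{0}
  have := @_root_.AddSubmonoid.NSMulSaturated.eq_def.{0}
  have := @_root_.AddSubgroup.Saturated.eq_def.{0}
  have := @_root_.AddSubgroup.Saturated.eq_1.{0}
  have := @_root_.Module.Basis.flag.eq_def.{0, 0}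
  have := @_root_.Module.Basis.toFlag.eq_def.{0, 0}
  have := @_root_.Module.Basis.toFlag.eq_1.{0, 0}
  trivial

theorem m26_7 : True := by
  have := @_root_.Module.Dual.baseChange.eq_def.{0, 0, 0}
  have := @_root_.Module.Dual.baseChange.eq_1.{0, 0, 0}
  have := @_root_.Module.Dual.congr.eq_def.{0, 0, 0}
  have := @_root_.Module.Dual.congr.eq_1.{0, 0, 0}
  have := @_root_.IsBaseChange.toDual.eq_def.{0, 0, 0, 0}
  have := @_root_.IsBaseChange.toDualBaseChange.congr_simp.{0, 0, 0, 0}
  have := @_root_.IsBaseChange.toDualBaseChange.eq_def.{0, 0, 0, 0}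
  have := @_root_.Matrix.circulant.eq_def.{0, 0}
  have := @_root_.Matrix.circulant.eq_1.{0, 0}
  have := @_root_.Matrix.IsTotallyUnimodular.eq_def.{0, 0, 0}
  have := @_root_.Matrix.IsTotallyUnimodular.eq_1.{0, 0, 0}
  have := @_root_.Matrix.IsReducedRowEchelon.mk.congr_simp.{0, 0, 0}
  have := @_root_.Matrix.IsRowEchelon.eq_def.{0, 0, 0}
  have := @_root_.Matrix.IsRowEchelon.eq_1.{0, 0, 0}
  have := @_root_.Matrix.IsLeadingEntry.eq_def.{0, 0, 0}
  have := @_root_.Matrix.IsPivotedBy.mk.congr_simp.{0, 0, 0}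
  have := @_root_.Echelon.Decomposition.mk.congr_simp.{0, 0, 0}
  have := @_root_.FixedDetMatrices.reps.eq_def
  have := @_root_.FixedDetMatrices.reduceStep.eq_def
  have := @_root_.FixedDetMatrix.eq_def.{0, 0}
  have := @_root_.FixedDetMatrix.eq_1.{0, 0}
  have := @_root_.FixedDetMatrices.reduce_rec.eq_1.{0}
  have := @_root_.Matrix.equiv_GL_linearindependent.eq_def.{0}
  have := @_root_.Matrix.equiv_GL_linearindependent.eq_1.{0}
  have := @_root_.Matrix.IsHadamard.mk.congr_simp.{0, 0}
  have := @_root_.Matrix.num.eq_def.{0, 0}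
  have := @_root_.Matrix.den.eq_def.{0, 0}
  have := @_root_.Matrix.transposePath.eq_def.{0, 0}
  have := @_root_.Matrix.IsPrimitive.congr_simp.{0, 0}
  have := @_root_.Matrix.IsPrimitive.mk.congr_simp.{0, 0}
  trivial

theorem m26_8 : True := by
  have := @_root_.Matrix.toQuiver.eq_def.{0, 0}
  have := @_root_.Matrix.toQuiver.eq_1.{0, 0}
  have := @_root_.Matrix.IsIrreducible.mk.congr_simp.{0, 0}
  have := @_root_.Matrix.HasOrthogonalCols.eq_def.{0, 0, 0}
  have := @_root_.Matrix.HasOrthogonalCols.eq_1.{0, 0, 0}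
  have := @_root_.Matrix.HasOrthogonalRows.eq_def.{0, 0, 0}
  have := @_root_.Matrix.HasOrthogonalRows.eq_1.{0, 0, 0}
  have := @_root_.Matrix.IsDiag.eq_def.{0, 0}
  have := @_root_.Matrix.IsDiag.eq_1.{0, 0}
  have := @_root_.LinearMap.mapMatrixModule.eq_def.{0, 0, 0, 0}
  have := @_root_.LinearMap.mapMatrixModule.eq_1.{0, 0, 0, 0}
  have := @_root_.Matrix.Module.matrixModule.eq_def.{0, 0, 0}
  have := @_root_.Matrix.Module.matrixModule.eq_1.{0, 0, 0}
  have := @_root_.Matrix.permanent.eq_def.{0, 0}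
  have := @_root_.Matrix.swap.eq_def.{0, 0}
  have := @_root_.Matrix.GeneralLinearGroup.swap.eq_def.{0, 0}
  have := @_root_.Matrix.uniqueAddEquiv.eq_def.{0, 0, 0}
  have := @_root_.Matrix.uniqueAddEquiv.eq_1.{0, 0, 0}
  have := @_root_.Matrix.uniqueAlgEquiv.eq_def.{0, 0, 0}
  have := @_root_.Matrix.uniqueAlgEquiv.eq_1.{0, 0, 0}
  have := @_root_.Matrix.uniqueEquiv.eq_def.{0, 0, 0}
  have := @_root_.Matrix.uniqueEquiv.eq_1.{0, 0, 0}
  have := @_root_.Matrix.uniqueLinearEquiv.eq_def.{0, 0, 0, 0}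
  have := @_root_.Matrix.uniqueLinearEquiv.eq_1.{0, 0, 0, 0}
  have := @_root_.Matrix.uniqueRingEquiv.eq_def.{0, 0}
  have := @_root_.Matrix.uniqueRingEquiv.eq_1.{0, 0}
  have := @_root_.WithConv.matrixToLin'StarAlgEquiv.eq_def.{0, 0, 0}
  have := @_root_.WithConv.matrixToLin'StarAlgEquiv.eq_1.{0, 0, 0}
  have := @_root_.PiTensorProduct.ofDFinsuppEquiv.eq_def.{0, 0, 0, 0}
  have := @_root_.PiTensorProduct.ofFinsuppEquiv.eq_def.{0, 0, 0, 0}
  trivial

theorem m26_9 : True := by
  have := @_root_.PiTensorProduct.ofFinsuppEquiv'.eq_def.{0, 0, 0}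
  have := @_root_.Basis.piTensorProduct.eq_def.{0, 0, 0, 0}
  have := @_root_.PiTensorProduct.ofDirectSumEquiv.congr_simp.{0, 0, 0, 0}
  have := @_root_.PiTensorProduct.ofDirectSumEquiv.eq_def.{0, 0, 0, 0}
  have := @_root_.PiTensorProduct.dualDistrib.eq_def.{0, 0, 0}
  have := @_root_.PiTensorProduct.dualDistribInvOfBasis.eq_def.{0, 0, 0, 0}
  have := @_root_.PiTensorProduct.dualDistribEquiv.congr_simp.{0, 0, 0}
  have := @_root_.PiTensorProduct.dualDistribEquiv.eq_def.{0, 0, 0}
  have := @_root_.PiTensorProduct.dualDistribEquivOfBasis.congr_simp.{0, 0, 0, 0}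
  have := @_root_.PiTensorProduct.dualDistribEquivOfBasis.eq_def.{0, 0, 0, 0}
  have := @_root_.PiTensorProduct.dualDistribEquivOfBasis.eq_1.{0, 0, 0, 0}
  have := @_root_.PiTensorProduct.equivPiTensorComplSingletonTensor.eq_def.{0, 0, 0}
  have := @_root_.PiTensorProduct.equivPiTensorComplSingletonTensor.eq_1.{0, 0, 0}
  have := @_root_.LinearMap.liftQ₂.eq_def.{0, 0, 0, 0, 0, 0, 0}
  have := @_root_.LinearMap.liftQ₂.eq_1.{0, 0, 0, 0, 0, 0, 0}
  have := @_root_.LinearMap.IsRefl.liftQ₂.congr_simp.{0, 0, 0, 0}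
  have := @_root_.LinearMap.IsRefl.liftQ₂.eq_def.{0, 0, 0, 0}
  have := @_root_.LinearMap.IsRefl.liftQ₂.eq_1.{0, 0, 0, 0}
  have := @_root_.Equiv.arrayEquivList.eq_def.{0}
  have := @_root_.Equiv.arrayEquivList.eq_1.{0}
  have := @_root_.Equiv.boolNot.eq_def
  have := @_root_.Equiv.boolNot.eq_1
  have := @_root_.Nat.unbeta.eq_def
  have := @_root_.Nat.beta.eq_def
  have := @_root_.Relation.CutExpand.eq_def.{0}
  have := @_root_.modularCyclotomicCharacter'.congr_simp.{0}
  have := @_root_.modularCyclotomicCharacter'.eq_def.{0}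
  have := @_root_.cyclotomicCharacter.congr_simp.{0}
  have := @_root_.cyclotomicCharacter.eq_def.{0}
  have := @_root_.modularCyclotomicCharacter.toFun.eq_def.{0}
  trivial

theorem m26_10 : True := by
  have := @_root_.modularCyclotomicCharacter.aux.eq_def.{0}
  have := @_root_.modularCyclotomicCharacter.aux.eq_1.{0}
  have := @_root_.modularCyclotomicCharacter.eq_def.{0}
  have := @_root_.cyclotomicCharacter.toFun.eq_def.{0}
  have := @_root_.IsCyclotomicExtension.autEquivPow.eq_def.{0, 0}
  have := @_root_.IsCyclotomicExtension.autEquivPow.eq_1.{0, 0}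
  have := @_root_.galXPowEquivUnitsZMod.congr_simp.{0, 0}
  have := @_root_.galXPowEquivUnitsZMod.eq_def.{0, 0}
  have := @_root_.galXPowEquivUnitsZMod.eq_1.{0, 0}
  have := @_root_.IsCyclotomicExtension.fromZetaAut.eq_def.{0, 0}
  have := @_root_.galCyclotomicEquivUnitsZMod.congr_simp.{0, 0}
  have := @_root_.galCyclotomicEquivUnitsZMod.eq_def.{0, 0}
  have := @_root_.galCyclotomicEquivUnitsZMod.eq_1.{0, 0}
  have := @_root_.galRestrict.eq_def.{0, 0, 0, 0}
  have := @_root_.galRestrict.eq_1.{0, 0, 0, 0}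
  have := @_root_.galLiftEquiv.congr_simp.{0, 0, 0, 0, 0, 0}
  have := @_root_.galLiftEquiv.eq_def.{0, 0, 0, 0, 0, 0}
  have := @_root_.Algebra.intTrace.eq_def.{0, 0}
  have := @_root_.galLift.eq_def.{0, 0, 0, 0, 0, 0}
  have := @_root_.galRestrict'.eq_def.{0, 0, 0, 0, 0, 0}
  have := @_root_.Algebra.intNormAux.congr_simp.{0, 0, 0, 0}
  have := @_root_.Algebra.intNormAux.eq_def.{0, 0, 0, 0}
  have := @_root_.Algebra.intNormAux.eq_1.{0, 0, 0, 0}
  have := @_root_.Algebra.intTraceAux.congr_simp.{0, 0, 0, 0}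
  have := @_root_.Algebra.intTraceAux.eq_def.{0, 0, 0, 0}
  have := @_root_.Algebra.intTraceAux.eq_1.{0, 0, 0, 0}
  have := @_root_.galRestrictHom.congr_simp.{0, 0, 0, 0}
  have := @_root_.galRestrictHom.eq_def.{0, 0, 0, 0}
  have := @_root_.galRestrictHom.eq_1.{0, 0, 0, 0}
  have := @_root_.Algebra.intNorm.eq_def.{0, 0}
  trivial

theorem m26_11 : True := by
  have := @_root_.Ring.HasFiniteQuotients.mk.congr_simp.{0}
  have := @_root_.IsLocalRing.basisQuotient.eq_def.{0, 0, 0}
  have := @_root_.IsLocalRing.basisQuotient.eq_1.{0, 0, 0}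
  have := @_root_.Subrepresentation.submoduleSubrepresentationOrderIso.eq_def.{0, 0, 0}
  have := @_root_.Subrepresentation.submoduleSubrepresentationOrderIso.eq_1.{0, 0, 0}
  have := @_root_.Subrepresentation.ofSubmodule'.eq_def.{0, 0, 0}
  have := @_root_.Subrepresentation.ofSubmodule'.eq_1.{0, 0, 0}
  have := @_root_.Subrepresentation.ofSubmodule.eq_def.{0, 0, 0}
  have := @_root_.Subrepresentation.ofSubmodule.eq_1.{0, 0, 0}
  have := @_root_.Subrepresentation.asSubmodule'.eq_def.{0, 0, 0}
  have := @_root_.Subrepresentation.asSubmodule'.eq_1.{0, 0, 0}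
  have := @_root_.Subrepresentation.mk.congr_simp.{0, 0, 0}
  have := @_root_.Subrepresentation.toRepresentation.eq_def.{0, 0, 0}
  have := @_root_.Subrepresentation.toRepresentation.eq_1.{0, 0, 0}
  have := @_root_.Subrepresentation.asSubmodule.eq_def.{0, 0, 0}
  have := @_root_.Subrepresentation.asSubmodule.eq_1.{0, 0, 0}
  have := @_root_.Subrepresentation.subrepresentationSubmoduleOrderIso.eq_def.{0, 0, 0}
  have := @_root_.Subrepresentation.subrepresentationSubmoduleOrderIso.eq_1.{0, 0, 0}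
  have := @_root_.Representation.IsIntertwiningMap.mk.congr_simp.{0, 0, 0, 0}
  have := @_root_.Representation.IntertwiningMap.ker.eq_def.{0, 0, 0, 0}
  have := @_root_.Representation.IntertwiningMap.ker.eq_1.{0, 0, 0, 0}
  have := @_root_.Representation.Equiv.toLinearEquiv.eq_def.{0, 0, 0, 0}
  have := @_root_.Representation.Equiv.toLinearEquiv.eq_1.{0, 0, 0, 0}
  have := @_root_.Representation.IntertwiningMap.equivLinearMapAsModule.eq_def.{0, 0, 0, 0}
  have := @_root_.Representation.IntertwiningMap.equivLinearMapAsModule.eq_1.{0, 0, 0, 0}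
  have := @_root_.Representation.TensorProduct.lid.eq_def.{0, 0, 0}
  have := @_root_.Representation.TensorProduct.lid.eq_1.{0, 0, 0}
  have := @_root_.Representation.IntertwiningMap.centralAlgebraMulHom.eq_def.{0, 0, 0}
  have := @_root_.Representation.IntertwiningMap.centralAlgebraMulHom.eq_1.{0, 0, 0}
  have := @_root_.Representation.IntertwiningMap.tensor.eq_def.{0, 0, 0, 0, 0, 0}
  trivial

theorem m26_12 : True := by
  have := @_root_.Representation.IntertwiningMap.tensor.eq_1.{0, 0, 0, 0, 0, 0}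
  have := @_root_.Representation.IntertwiningMap.comp.eq_def.{0, 0, 0, 0, 0}
  have := @_root_.Representation.IntertwiningMap.comp.eq_1.{0, 0, 0, 0, 0}
  have := @_root_.Representation.IntertwiningMap.prod.eq_def.{0, 0, 0, 0, 0}
  have := @_root_.Representation.IntertwiningMap.prod.eq_1.{0, 0, 0, 0, 0}
  have := @_root_.Representation.TensorProduct.comm.eq_def.{0, 0, 0, 0}
  have := @_root_.Representation.TensorProduct.comm.eq_1.{0, 0, 0, 0}
  have := @_root_.Representation.IntertwiningMap.fst.eq_def.{0, 0, 0, 0}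
  have := @_root_.Representation.IntertwiningMap.fst.eq_1.{0, 0, 0, 0}
  have := @_root_.Representation.Equiv.symm.eq_def.{0, 0, 0, 0}
  have := @_root_.Representation.Equiv.symm.eq_1.{0, 0, 0, 0}
  have := @_root_.Representation.IntertwiningMap.id.eq_def.{0, 0, 0}
  have := @_root_.Representation.Equiv.trans.eq_def.{0, 0, 0, 0, 0}
  have := @_root_.Representation.Equiv.trans.eq_1.{0, 0, 0, 0, 0}
  have := @_root_.Representation.IntertwiningMap.llcomp.eq_def.{0, 0, 0, 0, 0}
  have := @_root_.Representation.IntertwiningMap.llcomp.eq_1.{0, 0, 0, 0, 0}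
  have := @_root_.Representation.IntertwiningMap.rTensor.eq_def.{0, 0, 0, 0, 0}
  have := @_root_.Representation.IntertwiningMap.rTensor.eq_1.{0, 0, 0, 0, 0}
  have := @_root_.Representation.Equiv.dualTensorHom.congr_simp.{0, 0, 0, 0}
  have := @_root_.Representation.Equiv.dualTensorHom.eq_def.{0, 0, 0, 0}
  have := @_root_.Representation.Equiv.dualTensorHom.eq_1.{0, 0, 0, 0}
  have := @_root_.Representation.TensorProduct.rid.eq_def.{0, 0, 0}
  have := @_root_.Representation.TensorProduct.rid.eq_1.{0, 0, 0}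
  have := @_root_.Representation.IntertwiningMap.snd.eq_def.{0, 0, 0, 0}
  have := @_root_.Representation.IntertwiningMap.snd.eq_1.{0, 0, 0, 0}
  have := @_root_.Representation.IntertwiningMap.centralAlgebraMul.eq_def.{0, 0, 0}
  have := @_root_.Representation.IntertwiningMap.centralAlgebraMul.eq_1.{0, 0, 0}
  have := @_root_.Representation.Equiv.mk.eq_def.{0, 0, 0, 0}
  have := @_root_.Representation.Equiv.mk.eq_1.{0, 0, 0, 0}
  have := @_root_.Representation.TensorProduct.assoc.eq_def.{0, 0, 0, 0, 0}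
  trivial

theorem m26_13 : True := by
  have := @_root_.Representation.TensorProduct.assoc.eq_1.{0, 0, 0, 0, 0}
  have := @_root_.Representation.IntertwiningMap.inl.eq_def.{0, 0, 0, 0}
  have := @_root_.Representation.IntertwiningMap.inl.eq_1.{0, 0, 0, 0}
  have := @_root_.Representation.IntertwiningMap.lTensor.eq_def.{0, 0, 0, 0, 0}
  have := @_root_.Representation.IntertwiningMap.lTensor.eq_1.{0, 0, 0, 0, 0}
  have := @_root_.Representation.IntertwiningMap.ofBijective.congr_simp.{0, 0, 0, 0}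
  have := @_root_.Representation.IntertwiningMap.ofBijective.eq_def.{0, 0, 0, 0}
  have := @_root_.Representation.IntertwiningMap.ofBijective.eq_1.{0, 0, 0, 0}
  have := @_root_.Representation.IntertwiningMap.equivAlgEnd.eq_def.{0, 0, 0}
  have := @_root_.Representation.IntertwiningMap.equivAlgEnd.eq_1.{0, 0, 0}
  have := @_root_.Representation.Equiv.refl.eq_def.{0, 0, 0}
  have := @_root_.Representation.Equiv.refl.eq_1.{0, 0, 0}
  have := @_root_.LinearMap.intertwiningMap_of_isIntertwiningMap.eq_def.{0, 0, 0, 0}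
  have := @_root_.LinearMap.intertwiningMap_of_isIntertwiningMap.eq_1.{0, 0, 0, 0}
  have := @_root_.Representation.IntertwiningMap.coeFnAddMonoidHom.eq_def.{0, 0, 0, 0}
  have := @_root_.Representation.IntertwiningMap.coeFnAddMonoidHom.eq_1.{0, 0, 0, 0}
  have := @_root_.Representation.IntertwiningMap.inr.eq_def.{0, 0, 0, 0}
  have := @_root_.Representation.IntertwiningMap.inr.eq_1.{0, 0, 0, 0}
  have := @_root_.Representation.IntertwiningMap.range.eq_def.{0, 0, 0, 0}
  have := @_root_.Representation.IntertwiningMap.range.eq_1.{0, 0, 0, 0}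
  have := @_root_.Representation.IntertwiningMap.centralMul.congr_simp.{0, 0, 0}
  have := @_root_.Representation.IntertwiningMap.centralMul.eq_def.{0, 0, 0}
  have := @_root_.Representation.IntertwiningMap.centralMul.eq_1.{0, 0, 0}
  have := @_root_.Representation.IntertwiningMap.toLinearMapl.eq_def.{0, 0, 0, 0}
  have := @_root_.Representation.IntertwiningMap.toLinearMapl.eq_1.{0, 0, 0, 0}
  have := @_root_.Representation.quotientToInvariants.eq_def.{0, 0, 0}
  have := @_root_.Representation.quotientToInvariants.eq_1.{0, 0, 0}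
  have := @_root_.GroupAlgebra.average.eq_def.{0, 0}
  have := @_root_.Rep.quotientToInvariants.eq_def.{0, 0, 0}
  have := @_root_.Rep.quotientToInvariants.eq_1.{0, 0, 0}
  trivial

theorem m26_14 : True := by
  have := @_root_.Representation.linHom.invariantsEquivRepHom.eq_def.{0, 0, 0}
  have := @_root_.Representation.linHom.invariantsEquivRepHom.eq_1.{0, 0, 0}
  have := @_root_.Rep.invariantsAdjunction.eq_def.{0, 0, 0}
  have := @_root_.Rep.invariantsAdjunction.eq_1.{0, 0, 0}
  have := @_root_.Representation.toInvariants.eq_def.{0, 0, 0}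
  have := @_root_.Representation.toInvariants.eq_1.{0, 0, 0}
  have := @_root_.Representation.averageMap.eq_def.{0, 0, 0}
  have := @_root_.Rep.quotientToInvariantsFunctor.eq_def.{0, 0, 0}
  have := @_root_.Rep.quotientToInvariantsFunctor.eq_1.{0, 0, 0}
  have := @_root_.Rep.toInvariants.congr_simp.{0, 0, 0}
  have := @_root_.Rep.toInvariants.eq_def.{0, 0, 0}
  have := @_root_.Rep.toInvariants.eq_1.{0, 0, 0}
  have := @_root_.Representation.invariants.eq_def.{0, 0, 0}
  have := @_root_.Representation.invariants.eq_1.{0, 0, 0}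
  have := @_root_.Representation.linHom.invariantsEquivFDRepHom.eq_def.{0, 0}
  have := @_root_.Representation.linHom.invariantsEquivFDRepHom.eq_1.{0, 0}
  have := @_root_.Representation.invariantsEquivIntertwiningMap.eq_def.{0, 0, 0, 0}
  have := @_root_.Representation.invariantsEquivIntertwiningMap.eq_1.{0, 0, 0, 0}
  have := @_root_.Rep.invariantsFunctor.eq_def.{0, 0, 0}
  have := @_root_.Rep.invariantsFunctor.eq_1.{0, 0, 0}
  have := @_root_.Representation.quotientToInvariants_lift.eq_def.{0, 0, 0}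
  have := @_root_.Representation.quotientToInvariants_lift.eq_1.{0, 0, 0}
  have := @_root_.Representation.IsIrreducible.eq_def.{0, 0, 0}
  have := @_root_.Representation.IsIrreducible.eq_1.{0, 0, 0}
  have := @_root_.FDRep.character.eq_def.{0, 0}
  have := @_root_.Representation.character.eq_def.{0, 0, 0}
  have := @_root_.Rep.coind.eq_def.{0, 0, 0, 0}
  have := @_root_.Rep.coind.eq_1.{0, 0, 0, 0}
  have := @_root_.Rep.coind'.eq_def.{0, 0, 0}
  have := @_root_.Rep.coind'.eq_1.{0, 0, 0}
  trivial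

end Cfsg.Rz
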