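import Cfsg.Agent.Rz.M26

/-! Generated file: forces on-demand equation and congruence lemmas to be created once. -/

set_option linter.all false

namespace Cfsg.Rz

theorem m27_0 : True := by
  have := @_root_.Representation.coind.eq_def.{0, 0, 0, 0}
  have := @_root_.Representation.coind.eq_1.{0, 0, 0, 0}
  have := @_root_.Representation.coind'.eq_def.{0, 0, 0}
  have := @_root_.Representation.coind'.eq_1.{0, 0, 0}
  have := @_root_.Rep.coindVEquiv.eq_def.{0, 0, 0}
  have := @_root_.Rep.coindVEquiv.eq_1.{0, 0, 0}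
  have := @_root_.Rep.resCoindAdjunction.eq_def.{0, 0, 0, 0}
  have := @_root_.Rep.resCoindAdjunction.eq_1.{0, 0, 0, 0}
  have := @_root_.Rep.coindFunctor'.eq_def.{0, 0, 0}
  have := @_root_.Rep.coindFunctor'.eq_1.{0, 0, 0}
  have := @_root_.Rep.coindFunctorIso.eq_def.{0, 0, 0}
  have := @_root_.Rep.coindFunctorIso.eq_1.{0, 0, 0}
  have := @_root_.Representation.coindV.eq_def.{0, 0, 0, 0}
  have := @_root_.Representation.coindV.eq_1.{0, 0, 0, 0}
  have := @_root_.Rep.coindMap.eq_def.{0, 0, 0, 0}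
  have := @_root_.Rep.coindMap.eq_1.{0, 0, 0, 0}
  have := @_root_.Rep.resCoindHomEquiv.eq_def.{0, 0, 0, 0}
  have := @_root_.Rep.coindFunctor.eq_def.{0, 0, 0, 0}
  have := @_root_.Rep.coindFunctor.eq_1.{0, 0, 0, 0}
  have := @_root_.Rep.coindMap'.eq_def.{0, 0, 0}
  have := @_root_.Representation.coindMap.eq_def.{0, 0, 0, 0, 0}
  have := @_root_.Representation.coindMap.eq_1.{0, 0, 0, 0, 0}
  have := @_root_.Rep.resCoindToHom.eq_def.{0, 0, 0, 0}
  have := @_root_.Rep.coindIso.eq_def.{0, 0, 0}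
  have := @_root_.Rep.toCoinvariants.eq_def.{0, 0, 0}
  have := @_root_.Rep.toCoinvariants.eq_1.{0, 0, 0}
  have := @_root_.Representation.Coinvariants.ker.eq_def.{0, 0, 0}
  have := @_root_.Representation.Coinvariants.ker.eq_1.{0, 0, 0}
  have := @_root_.Representation.quotientToCoinvariants.eq_def.{0, 0, 0}
  have := @_root_.Representation.quotientToCoinvariants.eq_1.{0, 0, 0}
  trivial

theorem m27_1 : True := by
  have := @_root_.Rep.coinvariantsAdjunction.eq_def.{0, 0, 0}
  have := @_root_.Representation.ofCoinvariantsTprodLeftRegular.eq_def.{0, 0, 0}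
  have := @_root_.Representation.toCoinvariantsMkQ.eq_def.{0, 0, 0}
  have := @_root_.Representation.toCoinvariantsMkQ.eq_1.{0, 0, 0}
  have := @_root_.Rep.desc.eq_def.{0, 0, 0}
  have := @_root_.Rep.desc.eq_1.{0, 0, 0}
  have := @_root_.Representation.Coinvariants.eq_def.{0, 0, 0}
  have := @_root_.Representation.Coinvariants.eq_1.{0, 0, 0}
  have := @_root_.Representation.toCoinvariants.eq_def.{0, 0, 0}
  have := @_root_.Representation.toCoinvariants.eq_1.{0, 0, 0}
  have := @_root_.Representation.coinvariantsFinsuppLEquiv.eq_def.{0, 0, 0, 0}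
  have := @_root_.Representation.coinvariantsFinsuppLEquiv.eq_1.{0, 0, 0, 0}
  have := @_root_.Rep.coinvariantsTensor.eq_def.{0, 0}
  have := @_root_.Rep.coinvariantsTensor.eq_1.{0, 0}
  have := @_root_.Representation.Coinvariants.mk.eq_def.{0, 0, 0}
  have := @_root_.Representation.Coinvariants.mk.eq_1.{0, 0, 0}
  have := @_root_.Representation.finsuppToCoinvariants.eq_def.{0, 0, 0, 0}
  have := @_root_.Representation.coinvariantsTprodLeftRegularLEquiv.eq_def.{0, 0, 0}
  have := @_root_.Representation.coinvariantsTprodLeftRegularLEquiv.eq_1.{0, 0, 0}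
  have := @_root_.Rep.coinvariantsFunctor.eq_def.{0, 0, 0}
  have := @_root_.Rep.coinvariantsFunctor.eq_1.{0, 0, 0}
  have := @_root_.Rep.coinvariantsTensorMk.eq_def.{0, 0}
  have := @_root_.Rep.coinvariantsTensorMk.eq_1.{0, 0}
  have := @_root_.Representation.Coinvariants.lift.eq_def.{0, 0, 0, 0}
  have := @_root_.Representation.Coinvariants.lift.eq_1.{0, 0, 0, 0}
  have := @_root_.Rep.finsuppToCoinvariantsTensorFree.eq_def.{0}
  have := @_root_.Rep.coinvariantsShortComplex.congr_simp.{0, 0, 0}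
  have := @_root_.Rep.coinvariantsShortComplex.eq_def.{0, 0, 0}
  have := @_root_.Rep.coinvariantsShortComplex.eq_1.{0, 0, 0}
  have := @_root_.Rep.coinvariantsMk.eq_def.{0, 0, 0}
  trivial

theorem m27_2 : True := by
  have := @_root_.Rep.coinvariantsMk.eq_1.{0, 0, 0}
  have := @_root_.Rep.coinvariantsTensorFreeToFinsupp.eq_def.{0}
  have := @_root_.Rep.toCoinvariantsKer.congr_simp.{0, 0, 0}
  have := @_root_.Rep.toCoinvariantsKer.eq_def.{0, 0, 0}
  have := @_root_.Rep.toCoinvariantsKer.eq_1.{0, 0, 0}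
  have := @_root_.Rep.quotientToCoinvariants.eq_def.{0, 0, 0}
  have := @_root_.Rep.quotientToCoinvariants.eq_1.{0, 0, 0}
  have := @_root_.Rep.coinvariantsTensorFreeLEquiv.eq_def.{0}
  have := @_root_.Rep.coinvariantsTensorFreeLEquiv.eq_1.{0}
  have := @_root_.Representation.toCoinvariantsKer.eq_def.{0, 0, 0}
  have := @_root_.Representation.toCoinvariantsKer.eq_1.{0, 0, 0}
  have := @_root_.Rep.quotientToCoinvariantsFunctor.eq_def.{0, 0, 0}
  have := @_root_.Rep.quotientToCoinvariantsFunctor.eq_1.{0, 0, 0}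
  have := @_root_.Rep.toCoinvariantsMkQ.eq_def.{0, 0, 0}
  have := @_root_.Rep.toCoinvariantsMkQ.eq_1.{0, 0, 0}
  have := @_root_.Representation.coinvariantsToFinsupp.eq_def.{0, 0, 0, 0}
  have := @_root_.Representation.Coinvariants.map.eq_def.{0, 0, 0, 0}
  have := @_root_.Representation.Coinvariants.map.eq_1.{0, 0, 0, 0}
  have := @_root_.LinearMap.equivariantProjection.congr_simp.{0, 0, 0, 0}
  have := @_root_.LinearMap.equivariantProjection.eq_def.{0, 0, 0, 0}
  have := @_root_.LinearMap.sumOfConjugates.eq_def.{0, 0, 0, 0}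
  have := @_root_.LinearMap.sumOfConjugates.eq_1.{0, 0, 0, 0}
  have := @_root_.LinearMap.conjugate.eq_def.{0, 0, 0, 0}
  have := @_root_.LinearMap.conjugate.eq_1.{0, 0, 0, 0}
  have := @_root_.LinearMap.sumOfConjugatesEquivariant.eq_def.{0, 0, 0, 0}
  have := @_root_.LinearMap.sumOfConjugatesEquivariant.eq_1.{0, 0, 0, 0}
  have := @_root_.Rep.indResHomEquiv.eq_def.{0, 0, 0, 0}
  have := @_root_.Representation.ind.eq_def.{0, 0, 0, 0}
  have := @_root_.Representation.ind.eq_1.{0, 0, 0, 0}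
  have := @_root_.Rep.coinvariantsTensorIndNatIso.eq_def.{0}
  trivial

theorem m27_3 : True := by
  have := @_root_.Rep.coinvariantsTensorIndNatIso.eq_1.{0}
  have := @_root_.Representation.IndV.mk.eq_def.{0, 0, 0, 0}
  have := @_root_.Representation.IndV.mk.eq_1.{0, 0, 0, 0}
  have := @_root_.Rep.coinvariantsTensorIndHom.eq_def.{0}
  have := @_root_.Rep.indResAdjunction.eq_def.{0, 0, 0, 0}
  have := @_root_.Rep.coinvariantsTensorIndIso.eq_def.{0}
  have := @_root_.Rep.coinvariantsTensorIndIso.eq_1.{0}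
  have := @_root_.Rep.indMap.eq_def.{0, 0, 0, 0}
  have := @_root_.Representation.IndV.eq_def.{0, 0, 0, 0}
  have := @_root_.Representation.IndV.eq_1.{0, 0, 0, 0}
  have := @_root_.Rep.coinvariantsTensorIndInv.eq_def.{0}
  have := @_root_.Rep.indFunctor.eq_def.{0, 0, 0, 0}
  have := @_root_.Rep.indFunctor.eq_1.{0, 0, 0, 0}
  have := @_root_.Rep.ind.eq_def.{0, 0, 0, 0}
  have := @_root_.Rep.ind.eq_1.{0, 0, 0, 0}
  have := @_root_.RingHom.pullbackFst.eq_def.{0, 0, 0}
  have := @_root_.RingHom.pullbackFst.eq_1.{0, 0, 0}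
  have := @_root_.RingHom.pullbackSnd.eq_def.{0, 0, 0}
  have := @_root_.RingHom.pullbackSnd.eq_1.{0, 0, 0}
  have := @_root_.AlgHom.pullback.eq_def.{0, 0, 0, 0}
  have := @_root_.AlgHom.pullback.eq_1.{0, 0, 0, 0}
  have := @_root_.RingHom.pullback.eq_def.{0, 0, 0}
  have := @_root_.RingHom.pullback.eq_1.{0, 0, 0}
  have := @_root_.AlgHom.pullbackFst.eq_def.{0, 0, 0, 0}
  have := @_root_.AlgHom.pullbackFst.eq_1.{0, 0, 0, 0}
  have := @_root_.AlgHom.pullbackSnd.eq_def.{0, 0, 0, 0}
  have := @_root_.AlgHom.pullbackSnd.eq_1.{0, 0, 0, 0}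
  have := @_root_.Algebra.IsGeometricallyReduced.mk.congr_simp.{0, 0}
  have := @_root_.iSupIndep.algEquiv.congr_simp.{0, 0, 0, 0}
  have := @_root_.iSupIndep.algEquiv.eq_def.{0, 0, 0, 0}
  trivial

theorem m27_4 : True := by
  have := @_root_.iSupIndep.algEquiv.eq_1.{0, 0, 0, 0}
  have := @_root_.IsSemisimpleModule.endRingEquiv.congr_simp.{0, 0}
  have := @_root_.IsSemisimpleModule.endRingEquiv.eq_def.{0, 0}
  have := @_root_.IsSemisimpleModule.endRingEquiv.eq_1.{0, 0}
  have := @_root_.GaloisCoinsertion.setIsotypicComponents.eq_def.{0, 0}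
  have := @_root_.GaloisCoinsertion.setIsotypicComponents.eq_1.{0, 0}
  have := @_root_.iSupIndep.ringEquiv.congr_simp.{0, 0, 0}
  have := @_root_.iSupIndep.ringEquiv.eq_def.{0, 0, 0}
  have := @_root_.iSupIndep.ringEquiv.eq_1.{0, 0, 0}
  have := @_root_.isotypicComponent.eq_def.{0, 0, 0}
  have := @_root_.OrderIso.setIsotypicComponents.congr_simp.{0, 0}
  have := @_root_.OrderIso.setIsotypicComponents.eq_def.{0, 0}
  have := @_root_.IsSemisimpleModule.endAlgEquiv.congr_simp.{0, 0, 0}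
  have := @_root_.IsSemisimpleModule.endAlgEquiv.eq_def.{0, 0, 0}
  have := @_root_.IsSemisimpleModule.endAlgEquiv.eq_1.{0, 0, 0}
  have := @_root_.IsIsotypic.eq_def.{0, 0}
  have := @_root_.Submodule.IsFullyInvariant.eq_def.{0, 0}
  have := @_root_.IsIsotypicOfType.eq_def.{0, 0, 0}
  have := @_root_.IsIsotypicOfType.eq_1.{0, 0, 0}
  have := @_root_.fullyInvariantSubmodule.eq_def.{0, 0}
  have := @_root_.fullyInvariantSubmodule.eq_1.{0, 0}
  have := @_root_.isotypicComponents.eq_def.{0, 0}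
  have := @_root_.isotypicComponents.eq_1.{0, 0}
  trivial

end Cfsg.Rz
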