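import Cfsg.Prelude.Def_Blocks
import Cfsg.Prelude.Def_BlockRank
import Cfsg.Prelude.Def_BrauerPairs
import Cfsg.Prelude.Def_BlockFusion
import Cfsg.Prelude.Def_BlockLocal
import Cfsg.Prelude.Def_CharExt
import Cfsg.Prelude.Def_Solvable
import Cfsg.Prelude.Def_CaseTheorems
import Cfsg.Prelude.Def_Local
import Cfsg.Prelude.Def_DegreeGraph
import Cfsg.Prelude.Def_Transfer
import Cfsg.Prelude.Def_Classical
import Cfsg.Prelude.Def_OddOrderLocal
import Cfsg.Prelude.Def_Perm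
import Cfsg.Prelude.Def_SolvableStructure
import Cfsg.Prelude.Def_Balance
import Cfsg.Agent.Rz.M27

/-! Generated file: forces on-demand equation and congruence lemmas to be created once. -/

set_option linter.all false

namespace Cfsg.Rz

theorem p00_0 : True := by
  have := @_root_.Cfsg.IsIrrCharacter.eq_def.{0}
  have := @_root_.Cfsg.IsIrrCharacter.eq_1.{0}
  have := @_root_.Cfsg.extendByZero.eq_def.{0}
  have := @_root_.Cfsg.extendByZero.eq_1.{0}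
  have := @_root_.Cfsg.IsCharacter.eq_def.{0}
  have := @_root_.Cfsg.IsCharacter.eq_1.{0}
  have := @_root_.Cfsg.IrrCharacter.eq_def.{0}
  have := @_root_.Cfsg.IrrCharacter.eq_1.{0}
  have := @_root_.Cfsg.IsElementary.eq_def.{0}
  have := @_root_.Cfsg.IsElementary.eq_1.{0}
  have := @_root_.Cfsg.indFun.eq_def.{0}
  have := @_root_.Cfsg.indFun.eq_1.{0}
  have := @_root_.Cfsg.IsGeneralizedCharacter.eq_def.{0}
  have := @_root_.Cfsg.IsGeneralizedCharacter.eq_1.{0}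
  have := @_root_.Cfsg.IsClassFunction.eq_def.{0}
  have := @_root_.Cfsg.IsClassFunction.eq_1.{0}
  have := @_root_.Cfsg.classInner.eq_def.{0}
  have := @_root_.Cfsg.classInner.eq_1.{0}
  have := @_root_.Cfsg.centralChar.eq_def.{0}
  have := @_root_.Cfsg.centralChar.eq_1.{0}
  have := @_root_.Cfsg.InducedBlockDefined.eq_def.{0}
  have := @_root_.Cfsg.InducedBlockDefined.eq_1.{0}
  have := @_root_.Cfsg.SameBlock.eq_def.{0}
  have := @_root_.Cfsg.SameBlock.eq_1.{0}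
  have := @_root_.Cfsg.IsPBlock.eq_def.{0}
  have := @_root_.Cfsg.IsPBlock.eq_1.{0}
  have := @_root_.Cfsg.MemLocalRing.eq_def
  have := @_root_.Cfsg.MemLocalRing.eq_1
  have := @_root_.Cfsg.IsDefectClass.eq_def.{0}
  have := @_root_.Cfsg.IsDefectClass.eq_1.{0}
  trivial

theorem p00_1 : True := by
  have := @_root_.Cfsg.IsDefectGroup.eq_def.{0}
  have := @_root_.Cfsg.IsDefectGroup.eq_1.{0}
  have := @_root_.Cfsg.IsPModular.eq_def
  have := @_root_.Cfsg.IsPModular.eq_1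
  have := @_root_.Cfsg.IsPPart.eq_def.{0}
  have := @_root_.Cfsg.IsPPart.eq_1.{0}
  have := @_root_.Cfsg.blockHeight.eq_def.{0}
  have := @_root_.Cfsg.blockHeight.eq_1.{0}
  have := @_root_.Cfsg.IsInducedBlock.eq_def.{0}
  have := @_root_.Cfsg.IsInducedBlock.eq_1.{0}
  have := @_root_.Cfsg.blockCoeff.eq_def.{0}
  have := @_root_.Cfsg.blockCoeff.eq_1.{0}
  have := @_root_.Cfsg.inducedCentralChar.eq_def.{0}
  have := @_root_.Cfsg.inducedCentralChar.eq_1.{0}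
  have := @_root_.Cfsg.blockKer.eq_def.{0}
  have := @_root_.Cfsg.blockKer.eq_1.{0}
  have := @_root_.Cfsg.blockDefect.eq_def.{0}
  have := @_root_.Cfsg.blockDefect.eq_1.{0}
  have := @_root_.Cfsg.MemLocalIdeal.eq_def
  have := @_root_.Cfsg.MemLocalIdeal.eq_1
  have := @_root_.Cfsg.IsPRegular.eq_def.{0}
  have := @_root_.Cfsg.IsPRegular.eq_1.{0}
  have := @_root_.Cfsg.principalBlock.eq_def.{0}
  have := @_root_.Cfsg.principalBlock.eq_1.{0}
  have := @_root_.Cfsg.AlgInt.eq_def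
  have := @_root_.Cfsg.AlgInt.eq_1
  have := @_root_.Cfsg.blockPart.congr_simp.{0}
  have := @_root_.Cfsg.blockPart.eq_def.{0}
  have := @_root_.Cfsg.blockPart.eq_1.{0}
  have := @_root_.Cfsg.brauerCentralChar.eq_def.{0}
  trivial

theorem p00_2 : True := by
  have := @_root_.Cfsg.brauerCentralChar.eq_1.{0}
  have := @_root_.Cfsg.blockOf.eq_def.{0}
  have := @_root_.Cfsg.blockOf.eq_1.{0}
  have := @_root_.Cfsg.charDegree.eq_def.{0}
  have := @_root_.Cfsg.charDegree.eq_1.{0}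
  have := @_root_.Cfsg.blockRank.eq_def.{0}
  have := @_root_.Cfsg.blockRank.eq_1.{0}
  have := @_root_.Cfsg.pRegularPart.eq_def.{0}
  have := @_root_.Cfsg.pRegularPart.eq_1.{0}
  have := @_root_.Cfsg.IsPerfectIsometry.eq_def.{0, 0}
  have := @_root_.Cfsg.IsPerfectIsometry.eq_1.{0, 0}
  have := @_root_.Cfsg.inducedCentralCharIn.eq_def.{0}
  have := @_root_.Cfsg.inducedCentralCharIn.eq_1.{0}
  have := @_root_.Cfsg.IsInducedBlockIn.eq_def.{0}
  have := @_root_.Cfsg.IsInducedBlockIn.eq_1.{0}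
  have := @_root_.Cfsg.IsPerfectFun.eq_def.{0, 0}
  have := @_root_.Cfsg.IsPerfectFun.eq_1.{0, 0}
  have := @_root_.Cfsg.StabilizesBlock.eq_def.{0}
  have := @_root_.Cfsg.StabilizesBlock.eq_1.{0}
  have := @_root_.Cfsg.IsConjCharOf.eq_def.{0}
  have := @_root_.Cfsg.IsConjCharOf.eq_1.{0}
  have := @_root_.Cfsg.signedBijectionKernel.eq_def.{0, 0}
  have := @_root_.Cfsg.signedBijectionKernel.eq_1.{0, 0}
  have := @_root_.Cfsg.subgroupBlockCoeff.eq_def.{0}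
  have := @_root_.Cfsg.subgroupBlockCoeff.eq_1.{0}
  have := @_root_.Cfsg.BrauerPairIdx.eq_def.{0}
  have := @_root_.Cfsg.BrauerPairIdx.eq_1.{0}
  have := @_root_.Cfsg.SubpairLE.eq_def.{0}
  have := @_root_.Cfsg.SubpairLE.eq_1.{0}
  have := @_root_.Cfsg.NormalSubpairRel.eq_def.{0}
  trivial

theorem p00_3 : True := by
  have := @_root_.Cfsg.NormalSubpairRel.eq_1.{0}
  have := @_root_.Cfsg.IsNilpotentBlock.eq_def.{0}
  have := @_root_.Cfsg.IsNilpotentBlock.eq_1.{0}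
  have := @_root_.Cfsg.IsMaximalBrauerPair.eq_def.{0}
  have := @_root_.Cfsg.IsMaximalBrauerPair.eq_1.{0}
  have := @_root_.Cfsg.IsNormalSubpair.eq_def.{0}
  have := @_root_.Cfsg.IsNormalSubpair.eq_1.{0}
  have := @_root_.Cfsg.conjBlock.eq_def.{0}
  have := @_root_.Cfsg.conjBlock.eq_1.{0}
  have := @_root_.Cfsg.IsBrauerPairOf.eq_def.{0}
  have := @_root_.Cfsg.IsBrauerPairOf.eq_1.{0}
  have := @_root_.Cfsg.brauerOmega.eq_def.{0}
  have := @_root_.Cfsg.brauerOmega.eq_1.{0}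
  have := @_root_.Cfsg.IsBrauerPair.eq_def.{0}
  have := @_root_.Cfsg.IsBrauerPair.eq_1.{0}
  have := @_root_.Cfsg.pPrimeCore.eq_def.{0}
  have := @_root_.Cfsg.pPrimeCore.eq_1.{0}
  have := @_root_.Cfsg.fittingSubgroup.eq_def.{0}
  have := @_root_.Cfsg.fittingSubgroup.eq_1.{0}
  have := @_root_.Cfsg.frobeniusKernel.eq_def.{0}
  have := @_root_.Cfsg.frobeniusKernel.eq_1.{0}
  have := @_root_.Cfsg.pCore.eq_def.{0}
  have := @_root_.Cfsg.pCore.eq_1.{0}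
  have := @_root_.Cfsg.IsFrobeniusComplement.eq_def.{0}
  have := @_root_.Cfsg.IsFrobeniusComplement.eq_1.{0}
  have := @_root_.Cfsg.isometryGroup.eq_def.{0}
  have := @_root_.Cfsg.isometryGroup.eq_1.{0}
  have := @_root_.Cfsg.preserving.eq_def.{0, 0}
  have := @_root_.Cfsg.preserving.eq_1.{0, 0}
  have := @_root_.Cfsg.PSp.eq_def.{0}
  trivial

theorem p00_4 : True := by
  have := @_root_.Cfsg.PSp.eq_1.{0}
  have := @_root_.Cfsg.IsPSL.eq_def.{0}
  have := @_root_.Cfsg.IsPSL.eq_1.{0}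
  have := @_root_.Cfsg.slToMat.eq_def.{0}
  have := @_root_.Cfsg.slToMat.eq_1.{0}
  have := @_root_.Cfsg.hermForm.eq_def.{0}
  have := @_root_.Cfsg.hermForm.eq_1.{0}
  have := @_root_.Cfsg.IsPOmegaMinus.eq_def.{0}
  have := @_root_.Cfsg.IsPOmegaMinus.eq_1.{0}
  have := @_root_.Cfsg.IsAlternating.eq_def.{0}
  have := @_root_.Cfsg.IsAlternating.eq_1.{0}
  have := @_root_.Cfsg.IsPSp.eq_def.{0}
  have := @_root_.Cfsg.IsPSp.eq_1.{0}
  have := @_root_.Cfsg.IsPrimeCyclic.eq_def.{0}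
  have := @_root_.Cfsg.IsPrimeCyclic.eq_1.{0}
  have := @_root_.Cfsg.quadFormMinus.eq_def.{0}
  have := @_root_.Cfsg.quadFormMinus.eq_1.{0}
  have := @_root_.Cfsg.IsPOmegaOdd.eq_def.{0}
  have := @_root_.Cfsg.IsPOmegaOdd.eq_1.{0}
  have := @_root_.Cfsg.POmega.congr_simp.{0}
  have := @_root_.Cfsg.POmega.eq_def.{0}
  have := @_root_.Cfsg.POmega.eq_1.{0}
  have := @_root_.Cfsg.quadFormOdd.eq_def.{0}
  have := @_root_.Cfsg.quadFormOdd.eq_1.{0}
  have := @_root_.Cfsg.Omega.eq_def.{0}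
  have := @_root_.Cfsg.Omega.eq_1.{0}
  have := @_root_.Cfsg.PSU.eq_def.{0}
  have := @_root_.Cfsg.PSU.eq_1.{0}
  have := @_root_.Cfsg.IsPOmegaPlus.eq_def.{0}
  have := @_root_.Cfsg.IsPOmegaPlus.eq_1.{0}
  trivial

theorem p00_5 : True := by
  have := @_root_.Cfsg.SU.eq_def.{0}
  have := @_root_.Cfsg.SU.eq_1.{0}
  have := @_root_.Cfsg.IsPSU.eq_def.{0}
  have := @_root_.Cfsg.IsPSU.eq_1.{0}
  have := @_root_.Cfsg.quadFormPlus.eq_def.{0}
  have := @_root_.Cfsg.quadFormPlus.eq_1.{0}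
  have := @_root_.Cfsg.IsF4.eq_def.{0}
  have := @_root_.Cfsg.IsF4.eq_1.{0}
  have := @_root_.Cfsg.Is2E6.eq_def.{0}
  have := @_root_.Cfsg.Is2E6.eq_1.{0}
  have := @_root_.Cfsg.IsDOrder.eq_def.{0}
  have := @_root_.Cfsg.IsDOrder.eq_1.{0}
  have := @_root_.Cfsg.IsE6.eq_def.{0}
  have := @_root_.Cfsg.IsE6.eq_1.{0}
  have := @_root_.Cfsg.IsE7.eq_def.{0}
  have := @_root_.Cfsg.IsE7.eq_1.{0}
  have := @_root_.Cfsg.IsTits.eq_def.{0}
  have := @_root_.Cfsg.IsTits.eq_1.{0}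
  have := @_root_.Cfsg.Is3D4.eq_def.{0}
  have := @_root_.Cfsg.Is3D4.eq_1.{0}
  have := @_root_.Cfsg.IsSuzuki.eq_def.{0}
  have := @_root_.Cfsg.IsSuzuki.eq_1.{0}
  have := @_root_.Cfsg.IsBOrder.eq_def.{0}
  have := @_root_.Cfsg.IsBOrder.eq_1.{0}
  have := @_root_.Cfsg.Is2DOrder.eq_def.{0}
  have := @_root_.Cfsg.Is2DOrder.eq_1.{0}
  have := @_root_.Cfsg.IsLargeRee.eq_def.{0}
  have := @_root_.Cfsg.IsLargeRee.eq_1.{0}
  have := @_root_.Cfsg.IsE8.eq_def.{0}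
  have := @_root_.Cfsg.IsE8.eq_1.{0}
  trivial

theorem p00_6 : True := by
  have := @_root_.Cfsg.IsG2.eq_def.{0}
  have := @_root_.Cfsg.IsG2.eq_1.{0}
  have := @_root_.Cfsg.IsRee.eq_def.{0}
  have := @_root_.Cfsg.IsRee.eq_1.{0}
  have := @_root_.Cfsg.IsQuasisimple.eq_def.{0}
  have := @_root_.Cfsg.IsQuasisimple.eq_1.{0}
  have := @_root_.Cfsg.IsComponentType.eq_def.{0}
  have := @_root_.Cfsg.IsComponentType.eq_1.{0}
  have := @_root_.Cfsg.IsQuasiDihedral.eq_def.{0}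
  have := @_root_.Cfsg.IsQuasiDihedral.eq_1.{0}
  have := @_root_.Cfsg.IsTwoLocal.eq_def.{0}
  have := @_root_.Cfsg.IsTwoLocal.eq_1.{0}
  have := @_root_.Cfsg.SectionalPRankLE.eq_def.{0}
  have := @_root_.Cfsg.SectionalPRankLE.eq_1.{0}
  have := @_root_.Cfsg.PRankLE.eq_def.{0}
  have := @_root_.Cfsg.PRankLE.eq_1.{0}
  have := @_root_.Cfsg.IsFourConnected.eq_def.{0}
  have := @_root_.Cfsg.IsFourConnected.eq_1.{0}
  have := @_root_.Cfsg.IsOfCharacteristicTwo.eq_def.{0}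
  have := @_root_.Cfsg.IsOfCharacteristicTwo.eq_1.{0}
  have := @_root_.Cfsg.HasComponent.eq_def.{0}
  have := @_root_.Cfsg.HasComponent.eq_1.{0}
  have := @_root_.Cfsg.IsWreathed.eq_def.{0}
  have := @_root_.Cfsg.IsWreathed.eq_1.{0}
  have := @_root_.Cfsg.IsCharacteristicTwoType.eq_def.{0}
  have := @_root_.Cfsg.IsCharacteristicTwoType.eq_1.{0}
  have := @_root_.Cfsg.IsMaximalTwoLocal.eq_def.{0}
  have := @_root_.Cfsg.IsMaximalTwoLocal.eq_1.{0}
  have := @_root_.Cfsg.IsLocalSubgroup.eq_def.{0}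
  have := @_root_.Cfsg.IsLocalSubgroup.eq_1.{0}
  trivial

theorem p00_7 : True := by
  have := @_root_.Cfsg.oddCore.eq_def.{0}
  have := @_root_.Cfsg.oddCore.eq_1.{0}
  have := @_root_.Cfsg.IsNGroup.eq_def.{0}
  have := @_root_.Cfsg.IsNGroup.eq_1.{0}
  have := @_root_.Cfsg.IsMinimalSimple.eq_def.{0}
  have := @_root_.Cfsg.IsMinimalSimple.eq_1.{0}
  have := @_root_.Cfsg.IsWeaklyClosed.eq_def.{0}
  have := @_root_.Cfsg.IsWeaklyClosed.eq_1.{0}
  have := @_root_.Cfsg.IsElementaryAbelian.eq_def.{0}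
  have := @_root_.Cfsg.IsElementaryAbelian.eq_1.{0}
  have := @_root_.Cfsg.centerThompsonOf.eq_def.{0}
  have := @_root_.Cfsg.centerThompsonOf.eq_1.{0}
  have := @_root_.Cfsg.pResidual.eq_def.{0}
  have := @_root_.Cfsg.pResidual.eq_1.{0}
  have := @_root_.Cfsg.thompsonSubgroupOf.eq_def.{0}
  have := @_root_.Cfsg.thompsonSubgroupOf.eq_1.{0}
  have := @_root_.Cfsg.IsSpecial.eq_def.{0}
  have := @_root_.Cfsg.IsSpecial.eq_1.{0}
  have := @_root_.Cfsg.thompsonSubgroup.eq_def.{0}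
  have := @_root_.Cfsg.thompsonSubgroup.eq_1.{0}
  have := @_root_.Cfsg.HasNormalPComplement.eq_def.{0}
  have := @_root_.Cfsg.HasNormalPComplement.eq_1.{0}
  have := @_root_.Cfsg.IsExtraspecial.eq_def.{0}
  have := @_root_.Cfsg.IsExtraspecial.eq_1.{0}
  have := @_root_.Cfsg.maxElementaryAbelianSubgroups.eq_def.{0}
  have := @_root_.Cfsg.maxElementaryAbelianSubgroups.eq_1.{0}
  have := @_root_.Cfsg.IsMinCounterexampleWith.eq_def.{0}
  have := @_root_.Cfsg.IsMinCounterexampleWith.eq_1.{0}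
  have := @_root_.Cfsg.PLengthLE.eq_def.{0}
  have := @_root_.Cfsg.PLengthLE.eq_1.{0}
  trivial

theorem p00_8 : True := by
  have := @_root_.Cfsg.pLayer.eq_def.{0}
  have := @_root_.Cfsg.pLayer.eq_1.{0}
  have := @_root_.Cfsg.IsKProperWith.eq_def.{0}
  have := @_root_.Cfsg.IsKProperWith.eq_1.{0}
  have := @_root_.Cfsg.upperPSeries.eq_def.{0}
  have := @_root_.Cfsg.upperPSeries.eq_1.{0}
  have := @_root_.Cfsg.IsTightlyEmbedded.eq_def.{0}
  have := @_root_.Cfsg.IsTightlyEmbedded.eq_1.{0}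
  have := @_root_.Cfsg.IsKGroupWith.eq_def.{0}
  have := @_root_.Cfsg.IsKGroupWith.eq_1.{0}
  have := @_root_.Cfsg.pPrimePCore.eq_def.{0}
  have := @_root_.Cfsg.pPrimePCore.eq_1.{0}
  have := @_root_.Cfsg.signalizerDelta.eq_def.{0}
  have := @_root_.Cfsg.signalizerDelta.eq_1.{0}
  have := @_root_.Cfsg.IsPConstrained.eq_def.{0}
  have := @_root_.Cfsg.IsPConstrained.eq_1.{0}
  have := @_root_.Cfsg.IsBalanced.eq_def.{0}
  have := @_root_.Cfsg.IsBalanced.eq_1.{0}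
  have := @_root_.Cfsg.IsComponent.eq_def.{0}
  have := @_root_.Cfsg.IsComponent.eq_1.{0}
  have := @_root_.Cfsg.centralizerPPrimeCore.eq_def.{0}
  have := @_root_.Cfsg.centralizerPPrimeCore.eq_1.{0}
  have := @_root_.Cfsg.generalizedFittingSubgroup.eq_def.{0}
  have := @_root_.Cfsg.generalizedFittingSubgroup.eq_1.{0}
  have := @_root_.Cfsg.IsPSolvable.eq_def.{0}
  have := @_root_.Cfsg.IsPSolvable.eq_1.{0}
  have := @_root_.Cfsg.TwoLocalPRankLE.eq_def.{0}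
  have := @_root_.Cfsg.TwoLocalPRankLE.eq_1.{0}
  have := @_root_.Cfsg.IsSolvableSignalizerFunctor.eq_def.{0}
  have := @_root_.Cfsg.IsSolvableSignalizerFunctor.eq_1.{0}
  trivial

theorem p00_9 : True := by
  have := @_root_.Cfsg.IsPComponent.eq_def.{0}
  have := @_root_.Cfsg.IsPComponent.eq_1.{0}
  have := @_root_.Cfsg.IsCompleteSignalizerFunctor.eq_def.{0}
  have := @_root_.Cfsg.IsCompleteSignalizerFunctor.eq_1.{0}
  have := @_root_.Cfsg.signalizerClosure.eq_def.{0}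
  have := @_root_.Cfsg.signalizerClosure.eq_1.{0}
  have := @_root_.Cfsg.IsKBalanced.eq_def.{0}
  have := @_root_.Cfsg.IsKBalanced.eq_1.{0}
  have := @_root_.Cfsg.IsPStable.eq_def.{0}
  have := @_root_.Cfsg.IsPStable.eq_1.{0}
  have := @_root_.Cfsg.layer.eq_def.{0}
  have := @_root_.Cfsg.layer.eq_1.{0}
  have := @_root_.Cfsg.IsStandardSubgroup.eq_def.{0}
  have := @_root_.Cfsg.IsStandardSubgroup.eq_1.{0}
  have := @_root_.Cfsg.OddTwoLocalRankLE.eq_def.{0}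
  have := @_root_.Cfsg.OddTwoLocalRankLE.eq_1.{0}
  have := @_root_.Cfsg.IsCompositionKGroupWith.eq_def.{0}
  have := @_root_.Cfsg.IsCompositionKGroupWith.eq_1.{0}
  have := @_root_.Cfsg.IsSignalizerFunctor.eq_def.{0}
  have := @_root_.Cfsg.IsSignalizerFunctor.eq_1.{0}
  have := @_root_.Cfsg.IsRankGraphVertex.eq_def.{0}
  have := @_root_.Cfsg.IsRankGraphVertex.eq_1.{0}
  have := @_root_.Cfsg.IsKConnected.eq_def.{0}
  have := @_root_.Cfsg.IsKConnected.eq_1.{0}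
  have := @_root_.Cfsg.signalizerFamily.eq_def.{0}
  have := @_root_.Cfsg.signalizerFamily.eq_1.{0}
  have := @_root_.Cfsg.IsLocallyBalanced.eq_def.{0}
  have := @_root_.Cfsg.IsLocallyBalanced.eq_1.{0}
  have := @_root_.Cfsg.IsLocallyKBalanced.eq_def.{0}
  have := @_root_.Cfsg.IsLocallyKBalanced.eq_1.{0}
  trivial

theorem p00_10 : True := by
  have := @_root_.Cfsg.IsClassicalInvolution.eq_def.{0}
  have := @_root_.Cfsg.IsClassicalInvolution.eq_1.{0}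
  have := @_root_.Cfsg.IsCoreSeparated.eq_def.{0}
  have := @_root_.Cfsg.IsCoreSeparated.eq_1.{0}
  have := @_root_.Cfsg.extendedTwoLayer.eq_def.{0}
  have := @_root_.Cfsg.extendedTwoLayer.eq_1.{0}
  have := @_root_.Cfsg.HasBProperty.eq_def.{0}
  have := @_root_.Cfsg.HasBProperty.eq_1.{0}
  have := @_root_.Cfsg.IsBalancedFor.eq_def.{0}
  have := @_root_.Cfsg.IsBalancedFor.eq_1.{0}
  have := @_root_.Cfsg.signalizerInf.eq_def.{0}
  have := @_root_.Cfsg.signalizerInf.eq_1.{0}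
  have := @_root_.Cfsg.IsRankGraphConnected.eq_def.{0}
  have := @_root_.Cfsg.IsRankGraphConnected.eq_1.{0}
  have := @_root_.Cfsg.Lie.Sp4.eq_def.{0}
  have := @_root_.Cfsg.Lie.Sp4.eq_1.{0}
  have := @_root_.Cfsg.Lie.formStab.eq_def.{0}
  have := @_root_.Cfsg.Lie.formStab.eq_1.{0}
  have := @_root_.Cfsg.Lie.star4.eq_def.{0}
  have := @_root_.Cfsg.Lie.star4.eq_1.{0}
  have := @_root_.Cfsg.Lie.IsoSuzuki.eq_def.{0}
  have := @_root_.Cfsg.Lie.IsoSuzuki.eq_1.{0}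
  have := @_root_.Cfsg.Lie.Sz.eq_def.{0}
  have := @_root_.Cfsg.Lie.Sz.eq_1.{0}
  have := @_root_.Cfsg.Lie.altForm4.eq_def.{0}
  have := @_root_.Cfsg.Lie.altForm4.eq_1.{0}
  have := @_root_.Cfsg.Lie.pairOf.eq_def
  have := @_root_.Cfsg.Lie.pairOf.eq_1
  have := @_root_.Cfsg.Spor.squareDodecad.eq_def
  have := @_root_.Cfsg.Spor.squareDodecad.eq_1
  trivial

theorem p00_11 : True := by
  have := @_root_.Cfsg.Spor.IsoM23.eq_def.{0}
  have := @_root_.Cfsg.Spor.IsoM23.eq_1.{0}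
  have := @_root_.Cfsg.Spor.IsoM22.eq_def.{0}
  have := @_root_.Cfsg.Spor.IsoM22.eq_1.{0}
  have := @_root_.Cfsg.Spor.IsoM12.eq_def.{0}
  have := @_root_.Cfsg.Spor.IsoM12.eq_1.{0}
  have := @_root_.Cfsg.Spor.IsoM11.eq_def.{0}
  have := @_root_.Cfsg.Spor.IsoM11.eq_1.{0}
  have := @_root_.Cfsg.Spor.M11.eq_def
  have := @_root_.Cfsg.Spor.M11.eq_1
  have := @_root_.Cfsg.Spor.IsoM24.eq_def.{0}
  have := @_root_.Cfsg.Spor.IsoM24.eq_1.{0}
  have := @_root_.Cfsg.Spor.M23.eq_def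
  have := @_root_.Cfsg.Spor.M23.eq_1
  have := @_root_.Cfsg.Spor.M22.eq_def
  have := @_root_.Cfsg.Spor.M22.eq_1
  have := @_root_.Cfsg.Spor.M12.eq_def
  have := @_root_.Cfsg.Spor.M12.eq_1
  have := @_root_.Cfsg.IsStronglyEmbedded.eq_def.{0}
  have := @_root_.Cfsg.IsStronglyEmbedded.eq_1.{0}
  have := @_root_.Cfsg.IsIsolatedInvolution.eq_def.{0}
  have := @_root_.Cfsg.IsIsolatedInvolution.eq_1.{0}
  have := @_root_.Cfsg.IsStronglyClosed.eq_def.{0}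
  have := @_root_.Cfsg.IsStronglyClosed.eq_1.{0}
  have := @_root_.Cfsg.IsInternalDirectProduct.eq_def.{0}
  have := @_root_.Cfsg.IsInternalDirectProduct.eq_1.{0}
  have := @_root_.Cfsg.IsPUniquenessSubgroup.eq_def.{0}
  have := @_root_.Cfsg.IsPUniquenessSubgroup.eq_1.{0}
  have := @_root_.Cfsg.IsFM9.eq_def
  have := @_root_.Cfsg.IsFM9.eq_1
  trivial

theorem p00_12 : True := by
  have := @_root_.Cfsg.IsChevSimple.eq_def.{0}
  have := @_root_.Cfsg.IsChevSimple.eq_1.{0}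
  have := @_root_.Cfsg.IsCFiveListed.eq_def.{0}
  have := @_root_.Cfsg.IsCFiveListed.eq_1.{0}
  have := @_root_.Cfsg.PRankAtLeast.eq_def.{0}
  have := @_root_.Cfsg.PRankAtLeast.eq_1.{0}
  have := @_root_.Cfsg.IsTerminalPair.eq_def.{0}
  have := @_root_.Cfsg.IsTerminalPair.eq_1.{0}
  have := @_root_.Cfsg.ControlsStrongFusionOf.eq_def.{0}
  have := @_root_.Cfsg.ControlsStrongFusionOf.eq_1.{0}
  have := @_root_.Cfsg.IsStandardWrt.eq_def.{0}
  have := @_root_.Cfsg.IsStandardWrt.eq_1.{0}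
  have := @_root_.Cfsg.IsTwoUniquenessSubgroup.eq_def.{0}
  have := @_root_.Cfsg.IsTwoUniquenessSubgroup.eq_1.{0}
  have := @_root_.Cfsg.InducesUnitaryTypeAut.eq_def.{0}
  have := @_root_.Cfsg.InducesUnitaryTypeAut.eq_1.{0}
  have := @_root_.Cfsg.IsStronglyZEmbedded.eq_def.{0}
  have := @_root_.Cfsg.IsStronglyZEmbedded.eq_1.{0}
  have := @_root_.Cfsg.IsCThreeListed.eq_def.{0}
  have := @_root_.Cfsg.IsCThreeListed.eq_1.{0}
  have := @_root_.Cfsg.IsStronglyPEmbedded.eq_def.{0}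
  have := @_root_.Cfsg.IsStronglyPEmbedded.eq_1.{0}
  have := @_root_.Cfsg.sigmaSet.eq_def.{0}
  have := @_root_.Cfsg.sigmaSet.eq_1.{0}
  have := @_root_.Cfsg.IsCpSimple.eq_def.{0}
  have := @_root_.Cfsg.IsCpSimple.eq_1.{0}
  have := @_root_.Cfsg.InChev.eq_def.{0}
  have := @_root_.Cfsg.InChev.eq_1.{0}
  have := @_root_.Cfsg.IsOfQuasithinType.eq_def.{0}
  have := @_root_.Cfsg.IsOfQuasithinType.eq_1.{0}
  trivial

theorem p00_13 : True := by
  have := @_root_.Cfsg.maxTwoLocalsNear.eq_def.{0}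
  have := @_root_.Cfsg.maxTwoLocalsNear.eq_1.{0}
  have := @_root_.Cfsg.IsComponentOf.eq_def.{0}
  have := @_root_.Cfsg.IsComponentOf.eq_1.{0}
  have := @_root_.Cfsg.ControlsFusion.eq_def.{0}
  have := @_root_.Cfsg.ControlsFusion.eq_1.{0}
  have := @_root_.Cfsg.IsCTwoListed.eq_def.{0}
  have := @_root_.Cfsg.IsCTwoListed.eq_1.{0}
  have := @_root_.Cfsg.LpoAll.eq_def.{0}
  have := @_root_.Cfsg.LpoAll.eq_1.{0}
  have := @_root_.Cfsg.InC.eq_def.{0}
  have := @_root_.Cfsg.InC.eq_1.{0}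
  have := @_root_.Cfsg.fixedSubgroup.eq_def.{0}
  have := @_root_.Cfsg.fixedSubgroup.eq_1.{0}
  have := @_root_.Cfsg.maxTwoLocalsOver.eq_def.{0}
  have := @_root_.Cfsg.maxTwoLocalsOver.eq_1.{0}
  have := @_root_.Cfsg.IsPreuniquenessSubgroup.eq_def.{0}
  have := @_root_.Cfsg.IsPreuniquenessSubgroup.eq_1.{0}
  have := @_root_.Cfsg.IsCpException.eq_def.{0}
  have := @_root_.Cfsg.IsCpException.eq_1.{0}
  have := @_root_.Cfsg.IsOfEvenType.eq_def.{0}
  have := @_root_.Cfsg.IsOfEvenType.eq_1.{0}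
  have := @_root_.Cfsg.gammaTwoCirc.eq_def.{0}
  have := @_root_.Cfsg.gammaTwoCirc.eq_1.{0}
  have := @_root_.Cfsg.LpAll.eq_def.{0}
  have := @_root_.Cfsg.LpAll.eq_1.{0}
  have := @_root_.Cfsg.IsOfRestrictedEvenType.eq_def.{0}
  have := @_root_.Cfsg.IsOfRestrictedEvenType.eq_1.{0}
  have := @_root_.Cfsg.HasCyclicSchurMultiplier.eq_def.{0}
  have := @_root_.Cfsg.HasCyclicSchurMultiplier.eq_1.{0}
  trivial

theorem p00_14 : True := by
  have := @_root_.Cfsg.Inn.eq_def.{0}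
  have := @_root_.Cfsg.Inn.eq_1.{0}
  have := @_root_.Cfsg.Out.eq_def.{0}
  have := @_root_.Cfsg.Out.eq_1.{0}
  have := @_root_.Cfsg.IsStemExtension.eq_def.{0, 0}
  have := @_root_.Cfsg.IsStemExtension.eq_1.{0, 0}
  have := @_root_.Cfsg.HasSchurMultiplier.eq_def.{0, 0}
  have := @_root_.Cfsg.HasSchurMultiplier.eq_1.{0, 0}
  have := @_root_.Cfsg.FusionSystem.IsNormal.eq_def.{0}
  have := @_root_.Cfsg.FusionSystem.IsNormal.eq_1.{0}
  have := @_root_.Cfsg.FusionSystem.IsEssential.eq_def.{0}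
  have := @_root_.Cfsg.FusionSystem.IsEssential.eq_1.{0}
  have := @_root_.Cfsg.FusionSystem.IsFullyNormalized.eq_def.{0}
  have := @_root_.Cfsg.FusionSystem.IsFullyNormalized.eq_1.{0}
  have := @_root_.Cfsg.FusionSystem.IsRealizable.eq_def.{0}
  have := @_root_.Cfsg.FusionSystem.IsRealizable.eq_1.{0}
  have := @_root_.Cfsg.FusionSystem.WeaklyClosed.eq_def.{0}
  have := @_root_.Cfsg.FusionSystem.WeaklyClosed.eq_1.{0}
  have := @_root_.Cfsg.fusionSystemOfSubgroup.congr_simp.{0}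
  have := @_root_.Cfsg.fusionSystemOfSubgroup.eq_def.{0}
  have := @_root_.Cfsg.fusionSystemOfSubgroup.eq_1.{0}
  have := @_root_.Cfsg.FusionSystem.IsSaturated.eq_def.{0}
  have := @_root_.Cfsg.FusionSystem.IsSaturated.eq_1.{0}
  have := @_root_.Cfsg.FusionSystem.IsNormalIn.eq_def.{0}
  have := @_root_.Cfsg.FusionSystem.IsNormalIn.eq_1.{0}
  have := @_root_.Cfsg.FusionSystem.focalSubgroup.eq_def.{0}
  have := @_root_.Cfsg.FusionSystem.focalSubgroup.eq_1.{0}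
  have := @_root_.Cfsg.FusionSystem.HasPrimeToPIndexIn.eq_def.{0}
  have := @_root_.Cfsg.FusionSystem.HasPrimeToPIndexIn.eq_1.{0}
  have := @_root_.Cfsg.FusionSystem.core.eq_def.{0}
  trivial

end Cfsg.Rz
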